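import Cfsg.Agent.UGT.I34.Red
import Cfsg.Agent.UGT.Iface
import Cfsg.Agent.OddHalf.D9.L34Mult.Mult
import Cfsg.Agent.LThreeFour.Exists

/-!
# The covers of `L₃(4)` with centre a 2-group, by the order of the centre

`IsCv n m K`: `K` is quasisimple, `K / Z(K) ≅ L₃(4)`, `|Z(K)| = n` and `Z(K)` has `m` elements of square one.
`cases`: if `Z(K)` is a nontrivial 2-group then `(n, m)` is one of `(2,2)`, `(4,2)`, `(4,4)`, `(8,4)`, `(16,4)`.
-/

set_option autoImplicit false

open Cfsg Subgroup
open Cfsg.Agent.SignalizersComponents Cfsg.Agent.Lib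
open Cfsg.Agent.UGT.Iface
open Cfsg.Agent.UGT.I34.Pair Cfsg.Agent.UGT.I34.Red
open Cfsg.Agent.OddHalf.D9.L34Mult (omega card_omega card_cyclic center_four)

namespace Cfsg.Agent.UGT.I34.Cov

universe u

/-- `K` is quasisimple, `K / Z(K) ≅ L₃(4)`, `|Z(K)| = n`, and `Z(K)` has `m` elements of square one. -/
structure IsCv (n m : ℕ) (K : Type*) [Group K] : Prop where
  qs : IsQuasisimple K
  l34 : IsL34 (K ⧸ center K)
  card : Nat.card ↥(center K) = n
  om : Nat.card {z : ↥(center K) // z * z = 1} = m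

/-! ### transport -/

section congr

variable {A : Type*} {B : Type*} [Group A] [Group B]

theorem map_center (e : A ≃* B) : (center A).map e.toMonoidHom = center B := by
  ext x
  constructor
  · rintro ⟨a, ha, rfl⟩
    rw [mem_center_iff]
    intro y
    obtain ⟨b, rfl⟩ := e.surjective y
    change e b * e a = e a * e b
    rw [← map_mul, ← map_mul, mem_center_iff.mp ha b]
  · intro hx
    obtain ⟨a, rfl⟩ := e.surjective x
    refine ⟨a, mem_center_iff.mpr fun b => e.injective ?_, rfl⟩
    rw [map_mul, map_mul]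
    exact mem_center_iff.mp hx (e b)

theorem isL34_congr (e : A ≃* B) (h : IsL34 A) : IsL34 B := by
  obtain ⟨F, i, j, hF, ⟨f⟩⟩ := h
  exact ⟨F, i, j, hF, ⟨e.symm.trans f⟩⟩

/-- the isomorphism of the centres -/
noncomputable def centerEquiv (e : A ≃* B) : ↥(center A) ≃* ↥(center B) :=
  ((center A).equivMapOfInjective e.toMonoidHom e.injective).trans
    (MulEquiv.subgroupCongr (map_center e))

theorem IsCv.congr {n m : ℕ} (h : IsCv n m A) (e : A ≃* B) : IsCv n m B where
  qs := QsBasic.isQuasisimple_of_mulEquiv e h.qs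
  l34 := isL34_congr (QuotientGroup.congr _ _ e (map_center e)) h.l34
  card := by rw [← h.card]; exact (Nat.card_congr (centerEquiv e).toEquiv).symm
  om := by
    rw [← h.om]
    refine (Nat.card_congr ?_).symm
    refine (centerEquiv e).toEquiv.subtypeEquiv fun a => ?_
    change a * a = 1 ↔ centerEquiv e a * centerEquiv e a = 1
    rw [← map_mul, map_eq_one_iff _ (centerEquiv e).injective]

end congr

theorem card_l34 {K : Type*} [Group K] (h : IsL34 K) : Nat.card K = 20160 := by
  obtain ⟨F, i, j, hF, ⟨e⟩⟩ := h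
  obtain ⟨A⟩ := LThreeFour.exists_dat hF e
  exact A.card

theorem IsCv.card_K {n m : ℕ} {K : Type*} [Group K] (h : IsCv n m K) : Nat.card K = 20160 * n := by
  rw [Subgroup.card_eq_card_quotient_mul_card_subgroup (center K), h.card, card_l34 h.l34]

/-! ### the list -/

/-- **The list.** -/
theorem cases {K : Type*} [Group K] [Finite K] (hq : IsQuasisimple K) (h2 : IsPGroup 2 ↥(center K))
    (hl : IsL34 (K ⧸ center K)) (hne : center K ≠ ⊥) :
    IsCv 2 2 K ∨ IsCv 4 2 K ∨ IsCv 4 4 K ∨ IsCv 8 4 K ∨ IsCv 16 4 K := by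
  have : Fact (Nat.Prime 2) := ⟨Nat.prime_two⟩
  have hperf := hq.1.commutator_eq_top
  obtain ⟨F, _, _, hF, ⟨e⟩⟩ := id hl
  have h4 := center_four hperf h2 hF e
  let icg : CommGroup (center K) :=
    { (inferInstance : Group (center K)) with
      mul_comm := fun a b => Subtype.ext (mem_center_iff.mp b.2 a) }
  have e1 : {z : ↥(center K) // z * z = 1} ≃ omega K :=
    { toFun := fun a => ⟨a.1.1, a.1.2, congrArg Subtype.val a.2⟩
      invFun := fun a => ⟨⟨a.1, a.2.1⟩, Subtype.ext a.2.2⟩
      left_inv := fun a => rfl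
      right_inv := fun a => rfl }
  by_cases hc : IsCyclic ↥(center K)
  · -- a cyclic centre
    have hd := card_cyclic hperf h2 hF e hc
    have hn1 : Nat.card ↥(center K) ≠ 1 := fun h => hne (Subgroup.card_eq_one.mp h)
    have hdd : Nat.card ↥(center K) ∈ Nat.divisors 4 := Nat.mem_divisors.mpr ⟨hd, by norm_num⟩
    have hom : Nat.card {z : ↥(center K) // z * z = 1} = 2 := by
      have h2c : 2 ∣ Nat.card ↥(center K) := by
        have : Nat.divisors 4 = {1, 2, 4} := by decide
        rw [this] at hdd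
        simp only [Finset.mem_insert, Finset.mem_singleton] at hdd
        omega
      have h5 : Nat.card {z : ↥(center K) // z * z = 1} = Nat.card (powMonoidHom 2 :
          ↥(center K) →* ↥(center K)).ker := by
        apply Nat.card_congr
        refine Equiv.subtypeEquivRight fun z => ?_
        rw [MonoidHom.mem_ker, powMonoidHom_apply, pow_two]
      rw [h5, IsCyclic.card_powMonoidHom_ker, Nat.gcd_eq_right h2c]
    have : Nat.divisors 4 = {1, 2, 4} := by decide
    rw [this] at hdd
    simp only [Finset.mem_insert, Finset.mem_singleton] at hdd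
    rcases hdd with h | h | h
    · exact absurd h hn1
    · exact Or.inl ⟨hq, hl, h, hom⟩
    · exact Or.inr (Or.inl ⟨hq, hl, h, hom⟩)
  · -- a noncyclic centre
    have hom := card_omega hperf h2 hF e hc
    let sq : ↥(center K) →* ↥(center K) := powMonoidHom 2
    have e2 : {z : ↥(center K) // z * z = 1} ≃ sq.ker :=
      Equiv.subtypeEquivRight fun z => by
        rw [MonoidHom.mem_ker]
        show z * z = 1 ↔ z ^ 2 = 1
        rw [pow_two]
    have hk : Nat.card sq.ker = 4 := by rw [← Nat.card_congr e2, Nat.card_congr e1, hom]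
    have hom' : Nat.card {z : ↥(center K) // z * z = 1} = 4 := by rw [Nat.card_congr e1, hom]
    have hr : sq.range ≤ sq.ker := by
      rintro _ ⟨z, rfl⟩
      rw [MonoidHom.mem_ker]
      show (z ^ 2) ^ 2 = 1
      rw [← pow_mul]
      exact Subtype.ext (h4 z z.2)
    have hrd : Nat.card sq.range ∣ 4 := hk ▸ Subgroup.card_dvd_of_le hr
    have hcard : Nat.card ↥(center K) = 4 * Nat.card sq.range := by
      have h1 := Subgroup.card_mul_index sq.ker
      rw [Subgroup.index_ker, hk] at h1
      exact h1.symm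
    have hle := Nat.le_of_dvd (by norm_num) hrd
    have hpos : 0 < Nat.card sq.range := Nat.card_pos
    obtain ⟨r, hrr⟩ : ∃ r, r = Nat.card sq.range := ⟨_, rfl⟩
    rw [← hrr] at hrd hcard hle hpos
    interval_cases r
    · exact Or.inr (Or.inr (Or.inl ⟨hq, hl, hcard, hom'⟩))
    · exact Or.inr (Or.inr (Or.inr (Or.inl ⟨hq, hl, hcard, hom'⟩)))
    · exact absurd hrd (by decide)
    · exact Or.inr (Or.inr (Or.inr (Or.inr ⟨hq, hl, hcard, hom'⟩)))

/-! ### quotients -/

section quot

variable {K : Type u} [Group K]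

/-- `Z(K / N) = Z(K) / N` for a perfect group `K` and `N ≤ Z(K)` -/
theorem center_quot (hp : Group.IsPerfect K) (N : Subgroup K) [N.Normal] (hN : N ≤ center K) :
    center (K ⧸ N) = (center K).map (QuotientGroup.mk' N) := by
  apply le_antisymm
  · intro y hy
    obtain ⟨x, rfl⟩ := QuotientGroup.mk'_surjective N y
    refine ⟨x, ?_, rfl⟩
    apply Cfsg.Agent.Intrinsic.Red.mem_center_of_commutators hp
    intro k
    apply hN
    rw [← QuotientGroup.eq_one_iff]
    have h2 := mem_center_iff.mp hy (QuotientGroup.mk' N k)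
    change (QuotientGroup.mk' N) (x * k * x⁻¹ * k⁻¹) = 1
    rw [map_mul, map_mul, map_mul, map_inv, map_inv, ← h2]
    group
  · rintro _ ⟨x, hx, rfl⟩
    rw [mem_center_iff]
    intro y
    obtain ⟨k, rfl⟩ := QuotientGroup.mk'_surjective N y
    rw [← map_mul, ← map_mul, mem_center_iff.mp hx k]

theorem isL34_quot (hp : Group.IsPerfect K) (N : Subgroup K) [N.Normal] (hN : N ≤ center K)
    (h : IsL34 (K ⧸ center K)) : IsL34 ((K ⧸ N) ⧸ center (K ⧸ N)) := by
  have e1 : (K ⧸ N) ⧸ (center K).map (QuotientGroup.mk' N) ≃* K ⧸ center K :=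
    QuotientGroup.quotientQuotientEquivQuotient N (center K) hN
  have e2 : (K ⧸ N) ⧸ center (K ⧸ N) ≃* (K ⧸ N) ⧸ (center K).map (QuotientGroup.mk' N) :=
    QuotientGroup.quotientMulEquivOfEq (center_quot hp N hN)
  exact isL34_congr (e2.trans e1).symm h

variable [Finite K]

theorem card_center_quot (hp : Group.IsPerfect K) (N : Subgroup K) [N.Normal] (hN : N ≤ center K) :
    Nat.card N * Nat.card ↥(center (K ⧸ N)) = Nat.card ↥(center K) := by
  rw [center_quot hp N hN]
  have h1 : (center K).comap (MonoidHom.id K) = center K := rfl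
  have h2 : ((center K).map (QuotientGroup.mk' N)).comap (QuotientGroup.mk' N) = center K := by
    rw [Subgroup.comap_map_eq, QuotientGroup.ker_mk', sup_eq_left.mpr hN]
  have h3 := Subgroup.index_comap_of_surjective ((center K).map (QuotientGroup.mk' N))
    (QuotientGroup.mk'_surjective N)
  rw [h2] at h3
  have h4 := Subgroup.card_mul_index ((center K).map (QuotientGroup.mk' N))
  have h5 := Subgroup.card_mul_index (center K)
  have h6 := Subgroup.card_eq_card_quotient_mul_card_subgroup N
  have h7 : 0 < (center K).index := Nat.pos_of_ne_zero Subgroup.index_ne_zero_of_finite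
  rw [← h4, ← h5, ← h3] at h6
  apply Nat.eq_of_mul_eq_mul_right h7
  rw [h6]
  ring

theorem isPGroup_of_card {G : Type*} [Group G] {k : ℕ} (h : Nat.card G = 2 ^ k) : IsPGroup 2 G :=
  IsPGroup.of_card h

/-- **The quotients.** -/
theorem IsCv.quot {n m : ℕ} (h : IsCv n m K) (N : Subgroup K) [N.Normal] (hN : N ≤ center K)
    (hN2 : Nat.card N = 2) (h2 : IsPGroup 2 ↥(center K)) (hn : 2 < n) :
    ∃ m' : ℕ, IsCv (n / 2) m' (K ⧸ N) ∧ (n / 2 = 2 → m' = 2) ∧ (n / 2 = 4 → m' = 2 ∨ m' = 4) ∧
      (n / 2 = 8 → m' = 4) := by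
  have hp2 : Fact (Nat.Prime 2) := ⟨Nat.prime_two⟩
  have hp := h.qs.1
  have hl := isL34_quot hp N hN h.l34
  have hc := card_center_quot hp N hN
  rw [hN2, h.card] at hc
  have hnt : Nontrivial (K ⧸ N) := by
    by_contra hcon
    rw [not_nontrivial_iff_subsingleton] at hcon
    have h3 := card_l34 hl
    have h4 : Nat.card ((K ⧸ N) ⧸ center (K ⧸ N)) ≤ Nat.card (K ⧸ N) :=
      Nat.card_le_card_of_surjective _ (QuotientGroup.mk'_surjective _)
    have h5 : Nat.card (K ⧸ N) ≤ 1 := Finite.card_le_one_iff_subsingleton.mpr hcon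
    omega
  have hqs : IsQuasisimple (K ⧸ N) :=
    ComponentImage.isQuasisimple_of_surjective h.qs _ (QuotientGroup.mk'_surjective N) hnt
  have hpg : IsPGroup 2 ↥(center (K ⧸ N)) := by
    obtain ⟨k, hk⟩ := IsPGroup.iff_card.mp h2
    have h3 : Nat.card ↥(center (K ⧸ N)) ∣ 2 ^ k := by
      rw [← hk, h.card, ← hc]
      exact dvd_mul_left _ _
    obtain ⟨j, -, hj⟩ := (Nat.dvd_prime_pow Nat.prime_two).mp h3
    exact IsPGroup.of_card hj
  have hne : center (K ⧸ N) ≠ ⊥ := by
    intro h3
    rw [h3, Subgroup.card_bot] at hc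
    omega
  have hn2 : n / 2 = Nat.card ↥(center (K ⧸ N)) := by omega
  rw [hn2]
  rcases cases hqs hpg hl hne with h3 | h3 | h3 | h3 | h3
  · refine ⟨2, ?_, fun _ => rfl, fun _ => Or.inl rfl, fun h4 => ?_⟩
    · rw [h3.card]; exact h3
    · rw [h3.card] at h4; omega
  · refine ⟨2, ?_, fun _ => rfl, fun _ => Or.inl rfl, fun h4 => ?_⟩
    · rw [h3.card]; exact h3
    · rw [h3.card] at h4; omega
  · refine ⟨4, ?_, fun h4 => ?_, fun _ => Or.inr rfl, fun _ => rfl⟩
    · rw [h3.card]; exact h3
    · rw [h3.card] at h4; omega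
  · refine ⟨4, ?_, fun h4 => ?_, fun _ => Or.inr rfl, fun _ => rfl⟩
    · rw [h3.card]; exact h3
    · rw [h3.card] at h4; omega
  · refine ⟨4, ?_, fun h4 => ?_, fun _ => Or.inr rfl, fun _ => rfl⟩
    · rw [h3.card]; exact h3
    · rw [h3.card] at h4; omega

end quot

/-! ### the kinds -/

/-- The kind of the covers with centre `(n, m)` and a further isomorphism invariant property `Q`. -/
def kind (n m : ℕ) (Q : (K : Type u) → [Group K] → Prop)
    (hQ : ∀ {A B : Type u} [Group A] [Group B], (A ≃* B) → Q A → Q B)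
    (T : (X : Type u) → [Group X] → X → Subgroup X → Prop) : Kind.{u} where
  P K _ := IsCv n m K ∧ Q K
  congr e h := ⟨h.1.congr e, hQ e h.2⟩
  card_eq h1 h2 := by rw [h1.1.card_K, h2.1.card_K]
  T := T

/-- no further property -/
def kind' (n m : ℕ) (T : (X : Type u) → [Group X] → X → Subgroup X → Prop) : Kind.{u} :=
  kind n m (fun _ _ => True) (fun _ _ => trivial) T

/-- no exceptional configuration -/
def noT : (X : Type u) → [Group X] → X → Subgroup X → Prop := fun _ _ _ _ => False

theorem isPGroup_center {n m k : ℕ} {K : Type u} [Group K] (h : IsCv n m K) (hn : n = 2 ^ k) :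
    IsPGroup 2 ↥(center K) := by
  have hp2 : Fact (Nat.Prime 2) := ⟨Nat.prime_two⟩
  exact IsPGroup.of_card (n := k) (by rw [h.card, hn])

theorem card_zpowers_of_two {K : Type u} [Group K] {c : K} (hc : orderOf c = 2) :
    Nat.card (zpowers c) = 2 := by rw [Nat.card_zpowers, hc]

/-- a centre with two elements of square one has a unique involution -/
theorem unique_of_om {n : ℕ} {K : Type u} [Group K] [Finite K] (h : IsCv n 2 K) {c d : K}
    (hc : c ∈ center K) (hd : d ∈ center K) (hc2 : orderOf c = 2) (hd2 : orderOf d = 2) : c = d := by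
  by_contra hne
  have hcc : c * c = 1 := by rw [← pow_two, ← hc2, pow_orderOf_eq_one]
  have hdd : d * d = 1 := by rw [← pow_two, ← hd2, pow_orderOf_eq_one]
  have hc1 : c ≠ 1 := by rintro rfl; simp at hc2
  have hd1 : d ≠ 1 := by rintro rfl; simp at hd2
  let f : Fin 3 → {z : ↥(center K) // z * z = 1} :=
    ![⟨1, one_mul 1⟩, ⟨⟨c, hc⟩, Subtype.ext hcc⟩, ⟨⟨d, hd⟩, Subtype.ext hdd⟩]
  have hf : Function.Injective f := by
    have key : ∀ i j : Fin 3, i < j → f i ≠ f j := by
      intro i j hij he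
      have he' := congrArg (fun x => ((x.1 : ↥(center K)) : K)) he
      fin_cases i <;> fin_cases j <;> simp [f] at hij he' <;>
        first
        | exact hc1 he'.symm
        | exact hd1 he'.symm
        | exact hne he'
    intro i j he
    rcases lt_trichotomy i j with h1 | h1 | h1
    · exact absurd he (key i j h1)
    · exact h1
    · exact absurd he.symm (key j i h1)
  have h1 := Nat.card_le_card_of_injective f hf
  rw [h.om, Nat.card_fin] at h1
  omega

/-- cyclic centre: no subkinds -/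
theorem subKinds_cyclic {n : ℕ} {Q : (K : Type u) → [Group K] → Prop}
    {hQ : ∀ {A B : Type u} [Group A] [Group B], (A ≃* B) → Q A → Q B}
    {T : (X : Type u) → [Group X] → X → Subgroup X → Prop} (N : ℕ) : SubKinds (kind n 2 Q hQ T) N :=
  subKinds_of_unique (κ := kind n 2 Q hQ T)
    (fun _ _ _ _ h _ _ hc hd h1 h2 => unique_of_om h.1 hc hd h1 h2) N

/-- every cover with centre of order `n` is of a kind which is settled for groups of order `< N` -/
def Settled (N n : ℕ) : Prop := ∀ (K : Type u) [Group K] [Finite K] (m : ℕ), IsCv n m K →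
  (n = 2 → m = 2) → (n = 4 → m = 2 ∨ m = 4) → ∃ κ : Kind.{u}, GoodN κ N ∧ κ.P K

theorem subKinds_of_settled {N n k m : ℕ} {Q : (K : Type u) → [Group K] → Prop}
    {hQ : ∀ {A B : Type u} [Group A] [Group B], (A ≃* B) → Q A → Q B}
    {T : (X : Type u) → [Group X] → X → Subgroup X → Prop} (hn : n = 2 ^ k) (h2 : 2 < n)
    (h : Settled.{u} N (n / 2)) : SubKinds (kind n m Q hQ T) N := by
  intro K _ _ _ hP c d hc _ hc2 _ _ M _ hM
  have hle : M ≤ center K := by rw [hM, zpowers_le]; exact hc
  obtain ⟨m', h1, h3, h4, h5⟩ := hP.1.quot M hle (by rw [hM, card_zpowers_of_two hc2])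
    (isPGroup_center hP.1 hn) h2
  exact h (K ⧸ M) m' h1 h3 h4

end Cfsg.Agent.UGT.I34.Cov
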