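import Cfsg.Agent.UGT.I34.Pair
import Cfsg.Agent.Intrinsic.RedMain
import Cfsg.Agent.KFacts.MulDef

/-!
# THEOREM I34: reduction to simple groups

* `CentralQuot`: the situation of a central involution `u` of a quasisimple group `X` with a pair `(z, L)`.
* `exists_quot`: the image of the pair in `X / ⟨u⟩`.
* `GoodN κ N`: the theorem is proved for `κ` and groups of order `< N`; targets have no double cover.
* `pqs_below`: the simple case and the subkinds imply `PQS κ N`.
* `pair_restrict`: a pair of `G` inside `F` is a pair of `F`.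
-/

set_option autoImplicit false

open Cfsg Subgroup
open Cfsg.Agent.SignalizersComponents Cfsg.Agent.Lib
open Cfsg.Agent.SignalizersComponents.IntrinsicBasic
open Cfsg.Agent.SignalizersComponents.PLayerAut
open Cfsg.Agent.Lib.PComponents (pElem)
open Cfsg.Agent.Intrinsic.Basic hiding IsPair PQS Target
open Cfsg.Agent.Intrinsic.Cen hiding pair_comm pair_mem_cen exists_pump pump_unique
open Cfsg.Agent.Intrinsic.Quot hiding Big isPair_quot small_or_big
open Cfsg.Agent.Intrinsic.Red (eq_of_card_two mem_center_of_commutators isSimple_of_center_eq_bot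
  pElem_map_le pElem_subgroupOf)
open Cfsg.Agent.KFacts.MulDef (NoDouble Dbl)
open Cfsg.Agent.UGT.I34.Pair
open scoped commutatorElement

namespace Cfsg.Agent.UGT.I34.Red

universe u

/-! ### quotients by a central involution -/

section central

variable {X : Type u} [Group X] {u : X}

theorem mem_zpowers_of_two (hu2 : orderOf u = 2) (x : X) : x ∈ zpowers u ↔ x = 1 ∨ x = u := by
  have hu1 : u ≠ 1 := by rintro rfl; simp at hu2
  constructor
  · intro hx
    by_cases h2 : (⟨x, hx⟩ : ↥(zpowers u)) = 1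
    · exact Or.inl (congrArg Subtype.val h2)
    · right
      have h3 := eq_of_card_two (by rw [Nat.card_zpowers, hu2]) h2
        (b := (⟨u, mem_zpowers u⟩ : ↥(zpowers u))) (fun h3 => hu1 (congrArg Subtype.val h3))
      exact congrArg Subtype.val h3
  · rintro (rfl | rfl)
    · exact one_mem _
    · exact mem_zpowers _

theorem normal_zpowers (hu : u ∈ center X) : (zpowers u).Normal := by
  constructor
  intro x hx g
  have h1 : x ∈ center X := zpowers_le.mpr hu hx
  rw [mem_center_iff.mp h1 g, mul_inv_cancel_right]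
  exact hx

variable [Finite X]

/-- `O(X / ⟨u⟩) = 1` -/
theorem oddCore_quot_central (hq : IsQuasisimple X) (hO : oddCore X = ⊥) (hu2 : orderOf u = 2)
    (U : Subgroup X) [U.Normal] (hU : U = zpowers u) {t : X}
    (ht : orderOf (QuotientGroup.mk t : X ⧸ U) = 2) : oddCore (X ⧸ U) = ⊥ := by
  have hp2 : Fact (Nat.Prime 2) := ⟨Nat.prime_two⟩
  have huu : u * u = 1 := by rw [← pow_two, ← hu2, pow_orderOf_eq_one]
  set q := QuotientGroup.mk' U with hqdef
  have hqs : Function.Surjective q := QuotientGroup.mk'_surjective U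
  have hq1 : ∀ x : X, q x = 1 ↔ x = 1 ∨ x = u := fun x => by
    rw [← mem_zpowers_of_two hu2 x, ← hU]; exact QuotientGroup.eq_one_iff x
  have hqz : orderOf (q t) = 2 := ht
  have hN : (oddCore (X ⧸ U)).Normal := Lib.Cores.pPrimeCore_normal 2
  have hNodd : Odd (Nat.card (oddCore (X ⧸ U))) :=
    Nat.coprime_two_right.mp (Lib.Cores.pPrimeCore_coprime 2)
  have hcen : (oddCore (X ⧸ U)).comap q ≤ center X := by
    by_cases h : (oddCore (X ⧸ U)).comap q = ⊤
    swap
    · have hNn : ((oddCore (X ⧸ U)).comap q).Normal := hN.comap q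
      exact SignalizersComponents.QsBasic.normal_le_center_of_ne_top hq _ h
    · exfalso
      have h1 : q t ∈ oddCore (X ⧸ U) := by
        have : t ∈ (oddCore (X ⧸ U)).comap q := h ▸ mem_top t
        exact this
      have h2 := IntrinsicBasic.eq_one_of_mem_odd hNodd h1 (n := 1) (by
        rw [pow_one, ← hqz, pow_orderOf_eq_one])
      rw [h2] at hqz
      simp at hqz
  rw [eq_bot_iff]
  intro y hy
  obtain ⟨x, rfl⟩ := hqs y
  have hxc : x ∈ center X := hcen hy
  set m := Nat.card (oddCore (X ⧸ U)) with hm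
  have h1 : q x ^ m = 1 := by
    have := pow_card_eq_one' (x := (⟨q x, hy⟩ : ↥(oddCore (X ⧸ U))))
    exact congrArg Subtype.val this
  have h2 : (x ^ 2) ^ m = 1 := by
    rw [← map_pow] at h1
    rcases (hq1 _).mp h1 with h3 | h3
    · rw [← pow_mul, mul_comm, pow_mul, h3, one_pow]
    · rw [← pow_mul, mul_comm, pow_mul, h3, pow_two, huu]
  have h3 : zpowers (x ^ 2) ≤ oddCore X := by
    apply Lib.Cores.le_pPrimeCore
    · exact normal_zpowers (pow_mem hxc 2)
    · rw [Nat.card_zpowers]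
      exact Nat.coprime_two_right.mpr (Odd.of_dvd_nat hNodd (orderOf_dvd_of_pow_eq_one h2))
  rw [hO, le_bot_iff, zpowers_eq_bot] at h3
  rw [mem_bot]
  exact IntrinsicBasic.eq_one_of_mem_odd hNodd hy (n := 1) (by rw [pow_one, ← map_pow, h3, map_one])

end central

/-- The image of a pair in `X / ⟨u⟩`. -/
theorem exists_quot {κ : Kind.{u}} {X : Type u} [Group X] [Finite X] {u : X} (hq : IsQuasisimple X)
    (hO : oddCore X = ⊥) (hu : u ∈ center X) (hu2 : orderOf u = 2) {z : X} {L : Subgroup X}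
    (hp : IsPair κ z L) (hz : z ∉ center X) (U : Subgroup X) [hUn : U.Normal] (hU : U = zpowers u) :
    IsQuasisimple (X ⧸ U) ∧ oddCore (X ⧸ U) = ⊥ ∧ Nat.card (X ⧸ U) < Nat.card X ∧
      (QuotientGroup.mk z : X ⧸ U) ∉ center (X ⧸ U) ∧ orderOf (QuotientGroup.mk z : X ⧸ U) = 2 ∧
      IsComp (centralizer ({(QuotientGroup.mk z : X ⧸ U)} : Set (X ⧸ U))) (L.map (QuotientGroup.mk' U)) ∧
      (QuotientGroup.mk z : X ⧸ U) ∈ L.map (QuotientGroup.mk' U) ∧
      (u ∉ L → Nonempty ((↥L ⧸ oddCore ↥L) ≃*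
        (↥(L.map (QuotientGroup.mk' U)) ⧸ oddCore ↥(L.map (QuotientGroup.mk' U))))) ∧
      (∀ huL : u ∈ L, ∀ (N : Subgroup (↥L ⧸ oddCore ↥L)) [N.Normal],
        N = zpowers (QuotientGroup.mk ⟨u, huL⟩) →
        Nonempty (((↥L ⧸ oddCore ↥L) ⧸ N) ≃*
        (↥(L.map (QuotientGroup.mk' U)) ⧸ oddCore ↥(L.map (QuotientGroup.mk' U))))) := by
  have hp2 : Fact (Nat.Prime 2) := ⟨Nat.prime_two⟩
  have hX : Group.IsPerfect X := hq.1
  have huc : ∀ x : X, u * x = x * u := fun x => (mem_center_iff.mp hu x).symm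
  have huu : u * u = 1 := by rw [← pow_two, ← hu2, pow_orderOf_eq_one]
  have hu1 : u ≠ 1 := by
    rintro rfl
    simp at hu2
  have hzz : z * z = 1 := hp.sq
  have hzi : z⁻¹ = z := inv_eq_of_mul_eq_one_left hzz
  have hzu : z ≠ u := fun h => hz (h ▸ hu)
  set q := QuotientGroup.mk' U with hqdef
  have hqs : Function.Surjective q := QuotientGroup.mk'_surjective U
  have hq1 : ∀ x : X, q x = 1 ↔ x = 1 ∨ x = u := fun x => by
    rw [← mem_zpowers_of_two hu2 x, ← hU]; exact QuotientGroup.eq_one_iff x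
  have hqe : ∀ x y : X, q x = q y ↔ y = x ∨ y = x * u := fun x y => by
    have h0 : q x = q y ↔ x⁻¹ * y ∈ U := QuotientGroup.eq
    rw [h0, hU, mem_zpowers_of_two hu2, inv_mul_eq_one, inv_mul_eq_iff_eq_mul, eq_comm]
  have hcardU : Nat.card U = 2 := by rw [hU, Nat.card_zpowers, hu2]
  have hcard : Nat.card (X ⧸ U) < Nat.card X := by
    rw [Subgroup.card_eq_card_quotient_mul_card_subgroup U, hcardU]
    have : 0 < Nat.card (X ⧸ U) := Nat.card_pos
    omega
  have hqz : orderOf (q z) = 2 := by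
    apply orderOf_eq_prime
    · rw [← map_pow, pow_two, hzz, map_one]
    · intro h
      rcases (hq1 z).mp h with h | h
      · exact hp.ne_one h
      · exact hzu h
  have hnt : Nontrivial (X ⧸ U) := ⟨q z, 1, fun h => by rw [h] at hqz; simp at hqz⟩
  have hqq : IsQuasisimple (X ⧸ U) := ComponentImage.isQuasisimple_of_surjective hq q hqs hnt
  have hqO : oddCore (X ⧸ U) = ⊥ := oddCore_quot_central hq hO hu2 U hU hqz
  -- `q z` is not central
  have hqc : q z ∉ center (X ⧸ U) := by
    intro h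
    apply hz
    apply mem_center_of_commutators hX
    intro k
    have h1 : q (z * k * z⁻¹ * k⁻¹) = 1 := by
      have h2 := mem_center_iff.mp h (q k)
      rw [map_mul, map_mul, map_mul, map_inv, map_inv, ← h2]
      group
    rcases (hq1 _).mp h1 with h3 | h3
    · rw [h3]; exact one_mem _
    · rw [h3]; exact hu
  -- the pair in the quotient
  set W := (centralizer ({q z} : Set (X ⧸ U))).comap q with hW
  have hWmem : ∀ w : X, w ∈ W ↔ w * z * w⁻¹ = z ∨ w * z * w⁻¹ = z * u := by
    intro w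
    rw [← hqe, hW, mem_comap, mem_centralizer_singleton_iff]
    rw [map_mul, map_mul, map_inv]
    constructor
    · intro h; rw [h]; group
    · intro h; conv_rhs => rw [h]
      group
  have hCW : centralizer ({z} : Set X) ≤ W := by
    intro c hc
    rw [hWmem]
    left
    rw [mem_centralizer_singleton_iff] at hc
    rw [hc]; group
  have hLW : L ≤ W := hp.comp.le.trans hCW
  have hCn : ((centralizer ({z} : Set X)).subgroupOf W).Normal := by
    constructor
    rintro ⟨c, hcW⟩ hc ⟨w, hw⟩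
    have hc' : c * z = z * c := mem_centralizer_singleton_iff.mp hc
    change w * c * w⁻¹ ∈ centralizer ({z} : Set X)
    rw [mem_centralizer_singleton_iff]
    have h1 : c * (w⁻¹ * z * w) = (w⁻¹ * z * w) * c := by
      have h2 := (hWmem w⁻¹).mp (W.inv_mem hw)
      rw [inv_inv] at h2
      rcases h2 with h2 | h2
      · rw [h2, hc']
      · rw [h2, ← mul_assoc, hc', mul_assoc, ← huc c, mul_assoc]
    calc w * c * w⁻¹ * z = w * (c * (w⁻¹ * z * w)) * w⁻¹ := by group
      _ = w * ((w⁻¹ * z * w) * c) * w⁻¹ := by rw [h1]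
      _ = z * (w * c * w⁻¹) := by group
  have hLn : (L.subgroupOf W).IsSubnormal := by
    apply Subgroup.IsSubnormal.trans (K := (centralizer ({z} : Set X)).subgroupOf W)
    · intro x hx
      exact hp.comp.le hx
    · have h1 := (isComp_iff.mp hp.comp).2.1
      let f : ↥((centralizer ({z} : Set X)).subgroupOf W) →* ↥(centralizer ({z} : Set X)) :=
        { toFun := fun x => ⟨x.1.1, x.2⟩
          map_one' := rfl
          map_mul' := fun _ _ => rfl }
      have h2 : (L.subgroupOf W).subgroupOf ((centralizer ({z} : Set X)).subgroupOf W) =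
          (L.subgroupOf (centralizer ({z} : Set X))).comap f := by
        ext x; rfl
      rw [h2]
      exact h1.comap f
    · exact hCn.isSubnormal
  set L' := L.map q with hL'
  have hL'le : L' ≤ centralizer ({q z} : Set (X ⧸ U)) := by
    rintro _ ⟨l, hl, rfl⟩
    exact hLW hl
  have hzL' : q z ∈ L' := ⟨z, hp.mem, rfl⟩
  -- `L' / O(L')` is quasisimple
  let π : ↥L →* ↥L' := q.subgroupMap L
  have hπ : Function.Surjective π := MonoidHom.subgroupMap_surjective q L
  have hO' : oddCore ↥L ≤ (oddCore ↥L').comap π := by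
    rw [← Subgroup.map_le_iff_le_comap]
    exact Lib.Cores.le_pPrimeCore (Lib.Cores.map_normal_of_surjective hπ (Lib.Cores.pPrimeCore_normal 2))
      ((Lib.Cores.pPrimeCore_coprime 2).coprime_dvd_left
        (card_dvd_of_surjective _ (π.subgroupMap_surjective _)))
  let πb : (↥L ⧸ oddCore ↥L) →* (↥L' ⧸ oddCore ↥L') :=
    QuotientGroup.map (oddCore ↥L) (oddCore ↥L') π hO'
  have hπb : Function.Surjective πb := by
    intro y
    obtain ⟨y, rfl⟩ := QuotientGroup.mk_surjective y
    obtain ⟨x, rfl⟩ := hπ y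
    exact ⟨QuotientGroup.mk x, rfl⟩
  have hz1 : (QuotientGroup.mk ⟨q z, hzL'⟩ : ↥L' ⧸ oddCore ↥L') ≠ 1 := by
    intro h
    have h1 : q z ∈ core L' := (mem_core_iff hzL').mpr ((QuotientGroup.eq_one_iff _).mp h)
    have h2 := eq_one_of_mem_core_sq h1 (by rw [← map_mul, hzz, map_one])
    rw [h2] at hqz
    simp at hqz
  have hnt' : Nontrivial (↥L' ⧸ oddCore ↥L') := ⟨_, 1, hz1⟩
  have hqL' : IsQuasisimple (↥L' ⧸ oddCore ↥L') :=
    ComponentImage.isQuasisimple_of_surjective (quasisimple_quot hp.comp) πb hπb hnt'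
  have hcomp : IsComp (centralizer ({q z} : Set (X ⧸ U))) L' := by
    rw [isComp_iff]
    obtain ⟨-, -, h3, h4⟩ := isComp_iff.mp hp.comp
    refine ⟨hL'le, ?_, hqL', ?_⟩
    · have h5 : L'.subgroupOf (centralizer ({q z} : Set (X ⧸ U))) =
          (L.subgroupOf W).map (q.subgroupComap (centralizer ({q z} : Set (X ⧸ U)))) := by
        ext x
        constructor
        · intro hx
          obtain ⟨l, hl, hlx⟩ := (hx : (x : X ⧸ U) ∈ L.map q)
          exact ⟨⟨l, hLW hl⟩, hl, Subtype.ext hlx⟩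
        · rintro ⟨⟨l, hlW⟩, hl, rfl⟩
          exact ⟨l, hl, rfl⟩
      rw [h5]
      apply hLn.map
      rintro ⟨x, hx⟩
      obtain ⟨y, rfl⟩ := hqs x
      exact ⟨⟨y, hx⟩, rfl⟩
    · exact pElem_map_le q h4
  refine ⟨hqq, hqO, hcard, hqc, hqz, hcomp, hzL', ?_, ?_⟩
  · intro huL
    have hinj : Function.Injective π := by
      rw [injective_iff_map_eq_one]
      rintro ⟨x, hx⟩ h
      have h1 : q x = 1 := congrArg Subtype.val h
      apply Subtype.ext
      rcases (hq1 x).mp h1 with h2 | h2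
      · exact h2
      · exact absurd (h2 ▸ hx) huL
    let e0 : ↥L ≃* ↥L' := MulEquiv.ofBijective π ⟨hinj, hπ⟩
    exact ⟨QuotientGroup.congr _ _ e0 (Lib.Cores.map_equiv_pPrimeCore e0 2)⟩
  · intro huL N hNn hN
    -- `Q = L~ / ⟨u⟩`
    obtain ⟨zb, hzb⟩ : ∃ zb, zb = (QuotientGroup.mk ⟨z, hp.mem⟩ : ↥L ⧸ oddCore ↥L) := ⟨_, rfl⟩
    obtain ⟨ub, hub⟩ : ∃ ub, ub = (QuotientGroup.mk ⟨u, huL⟩ : ↥L ⧸ oddCore ↥L) := ⟨_, rfl⟩
    rw [← hub] at hN
    have hub2 : orderOf ub = 2 := by
      apply orderOf_eq_prime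
      · rw [hub, pow_two]
        change (QuotientGroup.mk ⟨u * u, _⟩ : ↥L ⧸ oddCore ↥L) = 1
        rw [mk_eq_one_iff, huu]
        exact one_mem _
      · rw [hub, Ne, mk_eq_one_iff]
        exact fun h => hu1 (eq_one_of_mem_core_sq h huu)
    have hzb2 : zb ^ 2 = 1 := by
      rw [hzb, pow_two]
      change (QuotientGroup.mk ⟨z * z, _⟩ : ↥L ⧸ oddCore ↥L) = 1
      rw [mk_eq_one_iff, hzz]
      exact one_mem _
    have hub1 : ∀ x : ↥L ⧸ oddCore ↥L, (QuotientGroup.mk x : (↥L ⧸ oddCore ↥L) ⧸ N) = 1 ↔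
        x = 1 ∨ x = ub := fun x => by
      rw [← mem_zpowers_of_two hub2 x, ← hN]; exact QuotientGroup.eq_one_iff x
    have hzQ : orderOf (QuotientGroup.mk zb : (↥L ⧸ oddCore ↥L) ⧸ N) = 2 := by
      apply orderOf_eq_prime
      · rw [← QuotientGroup.mk_pow, hzb2, QuotientGroup.mk_one]
      · intro h
        rcases (hub1 zb).mp h with h1 | h1
        · rw [hzb, mk_eq_one_iff] at h1
          exact hp.ne_one (eq_one_of_mem_core_sq h1 hzz)
        · rw [hzb, hub, mk_eq_mk_iff'] at h1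
          have h2 := eq_one_of_mem_core_sq h1 (by
            calc z⁻¹ * u * (z⁻¹ * u) = z⁻¹ * (u * z⁻¹) * u := by group
              _ = z⁻¹ * (z⁻¹ * u) * u := by rw [huc z⁻¹]
              _ = (z * z)⁻¹ * (u * u) := by group
              _ = 1 := by rw [hzz, huu, inv_one, one_mul])
          exact hzu (inv_mul_eq_one.mp h2)
    have hQO := oddCore_quot_central (quasisimple_quot hp.comp) (oddCore_quot L) hub2 N hN hzQ
    -- `L' → Q`
    let r : ↥L →* ((↥L ⧸ oddCore ↥L) ⧸ N) :=
      (QuotientGroup.mk' N).comp (QuotientGroup.mk' (oddCore ↥L))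
    have hr : Function.Surjective r :=
      (QuotientGroup.mk'_surjective N).comp (QuotientGroup.mk'_surjective _)
    have hker : π.ker ≤ r.ker := by
      rintro ⟨x, hx⟩ h
      have h1 : q x = 1 := congrArg Subtype.val h
      rw [MonoidHom.mem_ker]
      rcases (hq1 x).mp h1 with h2 | h2
      · subst h2
        exact map_one r
      · subst h2
        exact (hub1 _).mpr (Or.inr hub.symm)
    let s : ↥L' →* ((↥L ⧸ oddCore ↥L) ⧸ N) := π.liftOfRightInverse (Function.surjInv hπ)
      (Function.rightInverse_surjInv hπ) ⟨r, hker⟩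
    have hs : ∀ x, s (π x) = r x := MonoidHom.liftOfRightInverse_comp_apply π _ _ ⟨r, hker⟩
    have hss : Function.Surjective s := fun y => by
      obtain ⟨x, rfl⟩ := hr y
      exact ⟨π x, hs x⟩
    have hsk : (Nat.card s.ker).Coprime 2 := by
      have h1 : s.ker ≤ (oddCore ↥L).map π := by
        intro y hy
        obtain ⟨x, rfl⟩ := hπ y
        rw [MonoidHom.mem_ker, hs] at hy
        rcases (hub1 _).mp hy with h2 | h2
        · exact ⟨x, (QuotientGroup.eq_one_iff _).mp h2, rfl⟩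
        · rw [hub] at h2
          have h3 : (⟨u, huL⟩ : ↥L)⁻¹ * x ∈ oddCore ↥L := QuotientGroup.eq.mp h2.symm
          refine ⟨_, h3, ?_⟩
          rw [map_mul, map_inv]
          have h4 : π ⟨u, huL⟩ = 1 := Subtype.ext ((hq1 u).mpr (Or.inr rfl))
          rw [h4, inv_one, one_mul]
      have h2 := card_dvd_of_le h1
      have h3 : Nat.card ((oddCore ↥L).map π) ∣ Nat.card (oddCore ↥L) :=
        card_dvd_of_surjective _ (π.subgroupMap_surjective _)
      exact (Lib.Cores.pPrimeCore_coprime 2).coprime_dvd_left (h2.trans h3)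
    obtain ⟨e, -⟩ := exists_equiv_of_surjective s hss hsk
    exact ⟨((e.trans (QuotientGroup.quotientMulEquivOfEq hQO)).trans
      QuotientGroup.quotientBot).symm⟩

/-! ### the induction -/

theorem pqs_mono {κ : Kind.{u}} {n N : ℕ} (h : PQS κ N) (hn : n ≤ N) : PQS κ n :=
  fun X _ _ hX => h X (hX.trans_le hn)

/-- The theorem is proved for the kind `κ` and groups of order `< N`, and the exceptional groups have no double
cover. -/
structure GoodN (κ : Kind.{u}) (N : ℕ) : Prop where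
  all : PQS κ N
  nodbl : ∀ (X : Type u) [Group X] (z : X) (L : Subgroup X), κ.T X z L → NoDouble X

theorem GoodN.mono {κ : Kind.{u}} {n N : ℕ} (h : GoodN κ N) (hn : n ≤ N) : GoodN κ n :=
  ⟨pqs_mono h.all hn, h.nodbl⟩

/-- The theorem is proved for the kind `κ`, and the exceptional groups have no double cover. -/
structure Good (κ : Kind.{u}) : Prop where
  all : ∀ N, PQS κ N
  nodbl : ∀ (X : Type u) [Group X] (z : X) (L : Subgroup X), κ.T X z L → NoDouble X

theorem Good.n {κ : Kind.{u}} (h : Good κ) (N : ℕ) : GoodN κ N := ⟨h.all N, h.nodbl⟩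

theorem Good.of_n {κ : Kind.{u}} (h : ∀ N, GoodN κ N) : Good κ := ⟨fun N => (h N).all, (h 0).nodbl⟩

/-- The main theorem for simple groups. -/
def SimpleCase (κ : Kind.{u}) : Prop :=
  ∀ (X : Type u) [Group X] [Finite X] [IsSimpleGroup X], PQS κ (Nat.card X) →
    ∀ (z : X) (L : Subgroup X), IsPair κ z L → κ.T X z L

/-- The main theorem for simple groups of order `< N`. -/
def SimpleBelow (κ : Kind.{u}) (N : ℕ) : Prop :=
  ∀ (X : Type u) [Group X] [Finite X] [IsSimpleGroup X], Nat.card X < N → PQS κ (Nat.card X) →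
    ∀ (z : X) (L : Subgroup X), IsPair κ z L → κ.T X z L

theorem SimpleCase.below {κ : Kind.{u}} (h : SimpleCase κ) (N : ℕ) : SimpleBelow κ N :=
  fun X _ _ _ _ hP z L hp => h X hP z L hp

/-- The kinds `K / ⟨c⟩`, `c` a central involution such that there is another one, are settled for groups of
order `< N`. -/
def SubKinds (κ : Kind.{u}) (N : ℕ) : Prop :=
  ∀ (K : Type u) [Group K] [Finite K], IsQuasisimple K → κ.P K → ∀ c d : K, c ∈ center K →
    d ∈ center K → orderOf c = 2 → orderOf d = 2 → c ≠ d → ∀ (M : Subgroup K) [M.Normal],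
    M = zpowers c → ∃ κ' : Kind.{u}, GoodN κ' N ∧ κ'.P (K ⧸ M)

theorem SubKinds.mono {κ : Kind.{u}} {n N : ℕ} (h : SubKinds κ N) (hn : n ≤ N) : SubKinds κ n := by
  intro K _ _ hq hP c d hc hd h1 h2 hne M _ hM
  obtain ⟨κ', h3, h4⟩ := h K hq hP c d hc hd h1 h2 hne M hM
  exact ⟨κ', h3.mono hn, h4⟩

theorem mk_mem_center {X : Type u} [Group X] {L : Subgroup X} {c : X} (hc : c ∈ L) (hcc : ∀ l ∈ L, l * c = c * l) :
    (QuotientGroup.mk ⟨c, hc⟩ : ↥L ⧸ oddCore ↥L) ∈ center (↥L ⧸ oddCore ↥L) := by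
  rw [mem_center_iff]
  intro y
  obtain ⟨⟨l, hl⟩, rfl⟩ := QuotientGroup.mk_surjective y
  change (QuotientGroup.mk ⟨l * c, _⟩ : ↥L ⧸ oddCore ↥L) = QuotientGroup.mk ⟨c * l, _⟩
  congr 1
  exact Subtype.ext (hcc l hl)

theorem orderOf_mk {G : Type*} [Group G] [Finite G] {L : Subgroup G} {c : G} (hc : c ∈ L)
    (hc2 : orderOf c = 2) : orderOf (QuotientGroup.mk ⟨c, hc⟩ : ↥L ⧸ oddCore ↥L) = 2 := by
  have hcc : c * c = 1 := by rw [← pow_two, ← hc2, pow_orderOf_eq_one]
  have hc1 : c ≠ 1 := by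
    rintro rfl
    simp at hc2
  apply orderOf_eq_prime
  · rw [pow_two]
    change (QuotientGroup.mk ⟨c * c, _⟩ : ↥L ⧸ oddCore ↥L) = 1
    rw [mk_eq_one_iff, hcc]
    exact one_mem _
  · rw [Ne, mk_eq_one_iff]
    exact fun h => hc1 (eq_one_of_mem_core_sq h hcc)

/-- Section 2: no pair outside a nontrivial centre. -/
theorem false_of_center {κ : Kind.{u}}
    (hT : ∀ (X : Type u) [Group X] (z : X) (L : Subgroup X), κ.T X z L → NoDouble X)
    {X : Type u} [Group X] [Finite X] (hS : SubKinds κ (Nat.card X)) (hq : IsQuasisimple X) (hO : oddCore X = ⊥)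
    (hPQS : PQS κ (Nat.card X)) {z : X} {L : Subgroup X} (hp : IsPair κ z L) (hz : z ∉ center X)
    (hc : center X ≠ ⊥) : False := by
  have hp2 : Fact (Nat.Prime 2) := ⟨Nat.prime_two⟩
  obtain ⟨u, hu, hu2⟩ : ∃ u ∈ center X, orderOf u = 2 := by
    have h2 : 2 ∣ Nat.card (center X) := by
      by_contra h
      apply hc
      rw [eq_bot_iff, ← hO]
      apply Lib.Cores.le_pPrimeCore inferInstance
      exact ((Nat.Prime.coprime_iff_not_dvd Nat.prime_two).mpr h).symm
    obtain ⟨t, ht⟩ := exists_prime_orderOf_dvd_card' 2 h2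
    exact ⟨t, t.2, by rw [Subgroup.orderOf_coe, ht]⟩
  have hUn := normal_zpowers hu
  obtain ⟨h1, h2, h3, h4, h5, h6, h7, h8, h9⟩ := exists_quot hq hO hu hu2 hp hz (zpowers u) rfl
  -- a target in `X / ⟨u⟩` has no double cover
  have hno : ¬ NoDouble (X ⧸ zpowers u) := by
    intro hn
    refine hn.false (π := QuotientGroup.mk' (zpowers u)) (c := u) ⟨⟨?_, ?_, ?_, ?_⟩, ?_, ?_⟩
    · rintro rfl
      simp at hu2
    · rw [← pow_two, ← hu2, pow_orderOf_eq_one]
    · exact fun x => (mem_center_iff.mp hu x).symm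
    · exact hq.1.commutator_eq_top
    · exact QuotientGroup.mk'_surjective _
    · intro x
      rw [← mem_zpowers_of_two hu2 x]
      exact QuotientGroup.eq_one_iff x
  by_cases huL : u ∈ L
  · have hzu : z ≠ u := fun h => hz (h ▸ hu)
    obtain ⟨ub, hub⟩ : ∃ ub, ub = (QuotientGroup.mk ⟨u, huL⟩ : ↥L ⧸ oddCore ↥L) := ⟨_, rfl⟩
    obtain ⟨zb, hzb⟩ : ∃ zb, zb = (QuotientGroup.mk ⟨z, hp.mem⟩ : ↥L ⧸ oddCore ↥L) := ⟨_, rfl⟩
    have huc : ub ∈ center (↥L ⧸ oddCore ↥L) := hub ▸ mk_mem_center huL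
      fun l _ => mem_center_iff.mp hu l
    have hzc : zb ∈ center (↥L ⧸ oddCore ↥L) := hzb ▸ mk_mem_center hp.mem
      fun l hl => pair_comm hp hl
    have hne : ub ≠ zb := by
      intro h
      rw [hub, hzb, mk_eq_mk_iff'] at h
      have huu : u * u = 1 := by rw [← pow_two, ← hu2, pow_orderOf_eq_one]
      have h10 := eq_one_of_mem_core_sq h (by
        calc u⁻¹ * z * (u⁻¹ * z) = u⁻¹ * (z * u⁻¹) * z := by group
          _ = u⁻¹ * (u⁻¹ * z) * z := by rw [mem_center_iff.mp (inv_mem hu) z]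
          _ = (u * u)⁻¹ * (z * z) := by group
          _ = 1 := by rw [hp.sq, huu, inv_one, one_mul])
      exact hzu (inv_mul_eq_one.mp h10).symm
    have hNn := normal_zpowers huc
    have hubm : zpowers ub = zpowers (QuotientGroup.mk ⟨u, huL⟩ : ↥L ⧸ oddCore ↥L) := by rw [hub]
    obtain ⟨κ', hκ', hP⟩ := hS _ (quasisimple_quot hp.comp) hp.kind ub zb huc hzc
      (hub ▸ orderOf_mk huL hu2) (hzb ▸ orderOf_mk hp.mem hp.inv) hne (zpowers ub) rfl
    obtain ⟨e⟩ := h9 huL (zpowers ub) hubm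
    rcases hκ'.all _ h3 h1 h2 _ _ ⟨h5, h7, h6, κ'.congr e hP⟩ with h | h
    · exact h4 h
    · exact hno (hκ'.nodbl _ _ _ h)
  · obtain ⟨e⟩ := h8 huL
    rcases hPQS _ h3 h1 h2 _ _ ⟨h5, h7, h6, κ.congr e hp.kind⟩ with h | h
    · exact h4 h
    · exact hno (hT _ _ _ h)

/-- **The induction.** -/
theorem pqs_below {κ : Kind.{u}} {N : ℕ} (h : SimpleBelow κ N) (hS : SubKinds κ N)
    (hT : ∀ (X : Type u) [Group X] (z : X) (L : Subgroup X), κ.T X z L → NoDouble X) :
    PQS κ N := by
  have key : ∀ n : ℕ, n ≤ N → PQS κ n := by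
    intro n
    induction n using Nat.strong_induction_on with
    | _ n ih =>
      intro hn X _ _ hcard hq hO z L hp
      by_cases hz : z ∈ center X
      · exact Or.inl hz
      right
      have hXN : Nat.card X ≤ N := hcard.le.trans hn
      have hP : PQS κ (Nat.card X) := ih _ hcard hXN
      by_cases hc : center X = ⊥
      · have := isSimple_of_center_eq_bot hq hc
        exact h X (hcard.trans_le hn) hP z L hp
      · exact (false_of_center hT (hS.mono hXN) hq hO hP hp hz hc).elim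
  exact key N le_rfl

theorem goodN_of {κ : Kind.{u}} {N : ℕ} (h : SimpleBelow κ N) (hS : SubKinds κ N)
    (hT : ∀ (X : Type u) [Group X] (z : X) (L : Subgroup X), κ.T X z L → NoDouble X) : GoodN κ N :=
  ⟨pqs_below h hS hT, hT⟩

theorem good_of {κ : Kind.{u}} (h : SimpleCase κ) (hS : ∀ N, SubKinds κ N)
    (hT : ∀ (X : Type u) [Group X] (z : X) (L : Subgroup X), κ.T X z L → NoDouble X) : Good κ :=
  Good.of_n fun N => goodN_of (h.below N) (hS N) hT

/-- kinds with a unique central involution have no subkinds -/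
theorem subKinds_of_unique {κ : Kind.{u}} (h : ∀ (K : Type u) [Group K] [Finite K], IsQuasisimple K →
    κ.P K → ∀ c d : K, c ∈ center K → d ∈ center K → orderOf c = 2 → orderOf d = 2 → c = d) (N : ℕ) :
    SubKinds κ N := fun K _ _ hq hP c d hc hd h1 h2 hne _ _ _ => absurd (h K hq hP c d hc hd h1 h2) hne

/-! ### restriction of pairs -/

/-- A pair of `G` contained in the subgroup `F` is a pair of `F`. -/
theorem pair_restrict {κ : Kind.{u}} {G : Type u} [Group G] [Finite G] {z : G} {L : Subgroup G}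
    (hp : IsPair κ z L) (F : Subgroup G) (hLF : L ≤ F) :
    IsPair κ (⟨z, hLF hp.mem⟩ : ↥F) (L.subgroupOf F) := by
  have hord : orderOf (⟨z, hLF hp.mem⟩ : ↥F) = 2 := by
    rw [← Subgroup.orderOf_coe]; exact hp.inv
  let e1 := (IntrinsicDiag.quotSubgroupOf hLF).symm
  refine ⟨hord, hp.mem, ?_, κ.congr e1 hp.kind⟩
  rw [isComp_iff]
  obtain ⟨-, h2, h3, h4⟩ := isComp_iff.mp hp.comp
  refine ⟨?_, ?_, PCompQuot.quasisimple_congr e1 h3, (pElem_subgroupOf hLF).mpr h4⟩
  · intro x hx
    have h5 := mem_centralizer_singleton_iff.mp (hp.comp.le hx)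
    exact mem_centralizer_singleton_iff.mpr (Subtype.ext h5)
  · let f : ↥(centralizer ({(⟨z, hLF hp.mem⟩ : ↥F)} : Set ↥F)) →*
        ↥(centralizer ({z} : Set G)) :=
      { toFun := fun x => ⟨x.1.1, mem_centralizer_singleton_iff.mpr
          (congrArg Subtype.val (mem_centralizer_singleton_iff.mp x.2))⟩
        map_one' := rfl
        map_mul' := fun _ _ => rfl }
    have h5 : (L.subgroupOf F).subgroupOf (centralizer ({(⟨z, hLF hp.mem⟩ : ↥F)} : Set ↥F)) =
        (L.subgroupOf (centralizer ({z} : Set G))).comap f := by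
      ext x; rfl
    rw [h5]
    exact h2.comap f

end Cfsg.Agent.UGT.I34.Red
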