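import Cfsg.Agent.UGT.I34.Main
import Cfsg.Agent.UGT.I34.Two.Defs

/-!
# THEOREM I34: change of the description of a kind

* `SimpleCase.congr`: the simple case only depends on `P` for finite quasisimple groups and on `T`.
* `isTwo_iff`, `simpleCase_two`: the kind `Two.two` is `kind' 2 2 noT`.
-/

set_option autoImplicit false

open Cfsg Subgroup
open Cfsg.Agent.SignalizersComponents Cfsg.Agent.Lib
open Cfsg.Agent.Intrinsic.Quot hiding Big isPair_quot small_or_big
open Cfsg.Agent.UGT.Iface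
open Cfsg.Agent.UGT.I34.Pair Cfsg.Agent.UGT.I34.Red Cfsg.Agent.UGT.I34.Cov

namespace Cfsg.Agent.UGT.I34.Bridge

universe u

variable {κ κ' : Kind.{u}}

theorem isPair_congr (hP : ∀ (K : Type u) [Group K] [Finite K], IsQuasisimple K → κ.P K → κ'.P K)
    {G : Type u} [Group G] [Finite G] {z : G} {L : Subgroup G} (h : IsPair κ z L) : IsPair κ' z L :=
  ⟨h.inv, h.mem, h.comp, hP _ (quasisimple_quot h.comp) h.kind⟩

theorem simpleCase_congr
    (hP : ∀ (K : Type u) [Group K] [Finite K], IsQuasisimple K → (κ.P K ↔ κ'.P K))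
    (hT : ∀ (X : Type u) [Group X] [Finite X] (z : X) (L : Subgroup X), κ.T X z L ↔ κ'.T X z L)
    (h : SimpleCase κ) : SimpleCase κ' := by
  intro X _ _ _ hPQS z L hp
  rw [← hT]
  refine h X ?_ z L (isPair_congr (fun K _ _ hq => (hP K hq).mpr) hp)
  intro Y _ _ hY hq hO w M hw
  rw [hT]
  exact hPQS Y hY hq hO w M (isPair_congr (fun K _ _ hq => (hP K hq).mp) hw)

theorem isTwo_iff {K : Type u} [Group K] [Finite K] (hq : IsQuasisimple K) :
    Two.IsTwo K ↔ (IsCv 2 2 K ∧ True) := by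
  constructor
  · rintro ⟨h1, h2, ⟨e⟩⟩
    have hl : IsL34 (K ⧸ center K) := ⟨_, inferInstance, inferInstance, by decide, ⟨e⟩⟩
    have hpg : IsPGroup 2 ↥(center K) := by
      have hp2 : Fact (Nat.Prime 2) := ⟨Nat.prime_two⟩
      exact IsPGroup.of_card (n := 1) (by rw [h2, pow_one])
    have hne : center K ≠ ⊥ := by
      intro h3
      rw [h3, Subgroup.card_bot] at h2
      omega
    refine ⟨?_, trivial⟩
    rcases Cov.cases hq hpg hl hne with h | h | h | h | h
    · exact h
    all_goals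
      have := h.card
      rw [h2] at this
      omega
  · rintro ⟨h, -⟩
    obtain ⟨F, _, _, hF, ⟨e⟩⟩ := h.l34
    obtain ⟨e'⟩ := SporadicA.FieldFour.nonempty_psl_equiv (n := Fin 3) F hF
    exact ⟨h.qs.1, h.card, ⟨e.trans e'.symm⟩⟩

/-- the kind `2` -/
theorem simpleCase_two (h : SimpleCase.{u} Two.two) : SimpleCase.{u} (kind' 2 2 noT) :=
  simpleCase_congr (κ := Two.two) (κ' := kind' 2 2 noT) (fun _ _ _ hq => isTwo_iff hq)
    (fun _ _ _ _ _ => Iff.rfl) h

end Cfsg.Agent.UGT.I34.Bridge
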