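import Cfsg.Agent.UGT.I34.NonEnd
import Cfsg.Agent.S1173

/-!
# Theorem I34 for the centres `4 × 2` and `4 × 4`, closed form
-/

set_option autoImplicit false

open Cfsg
open Cfsg.Agent.UGT.I34.Cov (kind' noT)
open Cfsg.Agent.UGT.I34.Red (SimpleCase)

universe u

namespace Cfsg.Agent.UGT.I34.Non

theorem p1173 : P1173.{u} := fun _ _ _ hO S T hT => Cfsg.Agent.S1173.result hO S T hT

theorem simpleCase_8' : SimpleCase.{u} (kind' 8 4 noT) := simpleCase_8 p1173

theorem simpleCase_16' : SimpleCase.{u} (kind' 16 4 noT) := simpleCase_16 p1173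

end Cfsg.Agent.UGT.I34.Non
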