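import Cfsg.Agent.UGT.I34.ONBal
import Cfsg.Agent.S1661
import Cfsg.Agent.KFacts.ON.Sheet
import Cfsg.Agent.KFacts.MulSpor.ON

/-!
# THEOREM I34, part [A]: the exceptional configuration O'N

* `isoON`: an `ONRec` group is the O'Nan group (S1661);
* `lb`: it is locally balanced;
* `goodT_TON`: `GoodT TON` (no double cover; excluded in a minimal counterexample).
-/

set_option autoImplicit false
set_option linter.dupNamespace false

open Cfsg Subgroup
open Cfsg.Agent.KFacts.MulDef (NoDouble)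
open Cfsg.Agent.UGT.End
open Cfsg.Agent.UGT.I34.KindA (TON)
open Cfsg.Agent.UGT.I34.Main (GoodT)
open scoped commutatorElement

namespace Cfsg.Agent.UGT.I34.ONGood

universe u

variable {X : Type u} [Group X] [Finite X] {z : X} {L : Subgroup X}

/-- an `ONRec` group is the O'Nan group -/
theorem isoON (R : ONRec.ONRec X z L) : Spor.IsoON X := by
  have := R.simple
  have := R.mrec.norm
  obtain ⟨F, _, _, hF, ⟨e⟩⟩ := R.mrec.psl
  exact S1661.result z R.ord _ R.mrec.idx R.mrec.cc R.mrec.cyc R.mrec.card R.mrec.perf F hF e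

/-- automorphisms trivial on `L` are inner -/
theorem aut_L (R : ONRec.ONRec X z L) (α : MulAut X) (hα : ∀ x ∈ L, α x = x) :
    ∃ k, α = MulAut.conj k := by
  obtain ⟨z₀, v, P, E, hS⟩ := KFacts.ON.Sheet.exists_sheet (isoON R)
  obtain ⟨g, hg⟩ := ONRec.one_class R hS.basic.zz hS.basic.z1
  have hP : P.map (MulAut.conj g⁻¹).toMonoidHom ≤ L := by
    rw [← ONBal.L_eq R, ← hS.basic.perf, Subgroup.map_commutator]
    have h1 : P.map (MulAut.conj g⁻¹).toMonoidHom ≤ centralizer ({z} : Set X) := by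
      rintro _ ⟨x, hx, rfl⟩
      have h2 := hS.basic.cen x hx
      rw [← hg] at h2
      rw [mem_centralizer_singleton_iff]
      change g⁻¹ * x * g⁻¹⁻¹ * z = z * (g⁻¹ * x * g⁻¹⁻¹)
      calc g⁻¹ * x * g⁻¹⁻¹ * z = g⁻¹ * (x * (g * z * g⁻¹)) * g := by group
        _ = g⁻¹ * (g * z * g⁻¹ * x) * g := by rw [h2]
        _ = _ := by group
    exact Subgroup.commutator_mono h1 h1
  obtain ⟨u, -, hu⟩ := hS.autP (MulAut.conj g * α * (MulAut.conj g)⁻¹) (by
    intro x hx
    have h1 := hα (g⁻¹ * x * g⁻¹⁻¹) (hP ⟨x, hx, rfl⟩)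
    change g * α (g⁻¹ * x * g) * g⁻¹ = x
    rw [inv_inv] at h1
    rw [h1]
    group)
  refine ⟨g⁻¹ * u * g, ?_⟩
  rw [map_mul, map_mul, ← hu, map_inv]
  group

theorem index_le (R : ONRec.ONRec X z L) : (MulAut.conj : X →* MulAut X).range.index ≤ 2 := by
  obtain ⟨e⟩ := isoON R
  rw [OddHalf.D8.SheetMap.index_range e.symm]
  exact KFacts.ON.Aut.index_le

/-- **O'N is locally balanced.** -/
theorem lb (R : ONRec.ONRec X z L) : LB X := by
  have : Finite (MulAut X) :=
    Finite.of_injective (fun f : MulAut X => (f : X → X)) (fun f g h => MulEquiv.ext (congrFun h))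
  exact ONBal.lb_of R (aut_L R) (index_le R) Subgroup.index_ne_zero_of_finite

theorem noDouble (R : ONRec.ONRec X z L) : NoDouble X := by
  obtain ⟨e⟩ := isoON R
  have := R.simple
  have hs : IsSimpleGroup Cfsg.Spor.ON := e.symm.isSimpleGroup
  exact (KFacts.MulSpor.ON.noDouble_of_simple hs).congr e.symm

/-- **`GoodT TON`** -/
theorem goodT_TON : GoodT.{u} TON where
  nodbl := by
    intro X _ z L h
    have := h.1
    exact noDouble h.2
  ex := by
    intro X _ _ _ z L h
    exact Or.inr (lb h.2)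

end Cfsg.Agent.UGT.I34.ONGood
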