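import Cfsg.Agent.UGT.I34.OneMain
import Cfsg.Agent.UGT.I34.ONGood
import Cfsg.Agent.S0205
import Cfsg.Agent.S0222
import Cfsg.Agent.S1173
import Cfsg.Agent.S1175

/-!
# THEOREM I34, part [A]: the covers with cyclic centre of order 4 are settled

-/

set_option autoImplicit false

open Cfsg Subgroup
open Cfsg.Agent.UGT.I34.Pair Cfsg.Agent.UGT.I34.Red Cfsg.Agent.UGT.I34.KindA

namespace Cfsg.Agent.UGT.I34.OneEnd

universe u

/-- S1173 for simple groups -/
theorem p1173 : P1173.{u} := by
  intro G _ _ _ S T h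
  have hn : (oddCore G).Normal := Cfsg.Agent.Lib.Cores.pPrimeCore_normal 2
  rcases hn.eq_bot_or_eq_top with h1 | h1
  · exact Cfsg.Agent.S1173.result h1 S T h
  · have hc : (Nat.card (oddCore G)).Coprime 2 := Cfsg.Agent.Lib.Cores.pPrimeCore_coprime 2
    rw [h1, Subgroup.card_top] at hc
    have hs := Cfsg.Agent.S0205.result (G := G) (Nat.coprime_two_right.mp hc)
    have hcomm := IsSimpleGroup.comm_iff_isSolvable.mpr hs
    refine ⟨fun n hn g => ?_⟩
    rw [hcomm g n, mul_assoc, mul_inv_cancel, mul_one]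
    exact hn

theorem bender : ONRec.BenderSimple.{u} := fun _ _ _ _ hna H hH => Cfsg.Agent.S0222.result hna H hH

theorem simpleCase : SimpleCase (kd.{u} true TON) :=
  OneMain.simpleCase_true p1173 bender (fun _ _ _ _ h => Cfsg.Agent.S0205.result h)
    fun _ _ _ _ M hM z hz hzM h1 h2 h3 => Cfsg.Agent.S1175.result M hM z hz hzM h1 h2 h3

/-- **The covers with cyclic centre of order 4.** -/
theorem settled (N : ℕ) : Main.Settled'.{u} N 4 2 :=
  Main.settled_of_simple_two simpleCase (simpleCase_false p1173) ONGood.goodT_TON Main.goodT_noT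
    fun _ _ _ h => or_QT h

end Cfsg.Agent.UGT.I34.OneEnd
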