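import Cfsg.Agent.UGT.I34.KAut

/-!
# Lifting the fixed points of `v` on `X / O(X)` to `C_X(v)`

`v` a 2-element normalizing `X`.

* `exists_lift`, `exists_lift_two` : elements;
* `exists_comp` : components of the group of fixed points of `act X v` on `X / O(X)` are the images of
  2-components of `X ⊓ C(v)`;
* `not_le_of_solvable`: if the fixed points are solvable then `X ⊓ C(v)` contains no 2-component of any group.
-/

set_option autoImplicit false

open Cfsg Subgroup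
open Cfsg.Agent.SignalizersComponents Cfsg.Agent.Lib
open Cfsg.Agent.SignalizersComponents.IntrinsicBasic
open Cfsg.Agent.Intrinsic Cfsg.Agent.Intrinsic.Basic
open Cfsg.Agent.McLLyComp.Act
open Cfsg.Agent.UGT.I34.KAut
open scoped commutatorElement

namespace Cfsg.Agent.UGT.I34.FixLift

variable {G : Type*} [Group G] {v : G} {X : Subgroup G}

/-- `C_X(v)` maps to the fixed points of `v` on `X / O(X)` -/
noncomputable def fmap (hv : v ∈ normalizer (X : Set G)) :
    ↥(X ⊓ centralizer ({v} : Set G)) →* ↥(fixed (act X ⟨v, hv⟩)) where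
  toFun m := ⟨QuotientGroup.mk ⟨m, m.2.1⟩, by
    rw [mem_fixed, act_mk hv m.2.1]
    congr 1
    apply Subtype.ext
    change v * (m : G) * v⁻¹ = m
    rw [← mem_centralizer_singleton_iff.mp m.2.2, mul_inv_cancel_right]⟩
  map_one' := rfl
  map_mul' _ _ := rfl

theorem mk_mem_fixed (hv : v ∈ normalizer (X : Set G)) {a : G} (ha : a ∈ X) (hav : a * v = v * a) :
    (QuotientGroup.mk ⟨a, ha⟩ : ↥X ⧸ oddCore ↥X) ∈ fixed (act X ⟨v, hv⟩) :=
  (fmap hv ⟨a, ha, mem_centralizer_singleton_iff.mpr hav⟩).2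

variable [Finite G]

/-- fixed points lift to elements commuting with `v` -/
theorem exists_lift (hv : v ∈ normalizer (X : Set G)) {n : ℕ} (hvn : v ^ 2 ^ n = 1)
    {x : ↥X ⧸ oddCore ↥X} (hx : x ∈ fixed (act X ⟨v, hv⟩)) :
    ∃ a, ∃ ha : a ∈ X, a * v = v * a ∧ QuotientGroup.mk ⟨a, ha⟩ = x := by
  obtain ⟨⟨a, ha⟩, rfl⟩ := QuotientGroup.mk_surjective x
  rw [mem_fixed, act_mk hv ha] at hx
  have h1 := (mk_eq_iff ha (conj_mem hv ha)).mp hx.symm
  obtain ⟨o, ho, hc⟩ := Lifting.exists_commute (odd_card_core X) hvn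
    (normalizer_le_normalizer_core X hv) h1
  refine ⟨a * o, mul_mem ha (core_le X ho), hc.symm, ?_⟩
  rw [mk_eq_iff]
  have : (a * o)⁻¹ * a = o⁻¹ := by group
  rw [this]
  exact inv_mem ho

/-- fixed 2-elements lift to 2-elements commuting with `v` -/
theorem exists_lift_two (hv : v ∈ normalizer (X : Set G)) {n : ℕ} (hvn : v ^ 2 ^ n = 1)
    {x : ↥X ⧸ oddCore ↥X} (hx : x ∈ fixed (act X ⟨v, hv⟩)) {m : ℕ} (hxm : x ^ 2 ^ m = 1) :
    ∃ a, ∃ ha : a ∈ X, a * v = v * a ∧ a ^ 2 ^ m = 1 ∧ QuotientGroup.mk ⟨a, ha⟩ = x := by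
  obtain ⟨⟨a, ha⟩, rfl⟩ := QuotientGroup.mk_surjective x
  rw [mem_fixed, act_mk hv ha] at hx
  have h1 := (mk_eq_iff ha (conj_mem hv ha)).mp hx.symm
  have h2 : a ^ 2 ^ m ∈ core X := by
    rw [← mk_eq_one_iff (pow_mem ha _)]
    exact hxm
  obtain ⟨o, ho, h3, h4⟩ := Lifting.exists_two_element (odd_card_core X) hvn
    (normalizer_le_normalizer_core X hv) (le_normalizer_core X ha) h2 h1
  refine ⟨a * o, mul_mem ha (core_le X ho), h4.symm, h3, ?_⟩
  rw [mk_eq_iff]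
  have : (a * o)⁻¹ * a = o⁻¹ := by group
  rw [this]
  exact inv_mem ho

theorem fmap_surjective (hv : v ∈ normalizer (X : Set G)) {n : ℕ} (hvn : v ^ 2 ^ n = 1) :
    Function.Surjective (fmap hv) := by
  rintro ⟨x, hx⟩
  obtain ⟨a, ha, h1, h2⟩ := exists_lift hv hvn hx
  exact ⟨⟨a, ha, mem_centralizer_singleton_iff.mpr h1⟩, Subtype.ext h2⟩

omit [Finite G] in
theorem mem_ker_fmap (hv : v ∈ normalizer (X : Set G)) (m : ↥(X ⊓ centralizer ({v} : Set G))) :
    m ∈ (fmap hv).ker ↔ (m : G) ∈ core X := by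
  rw [MonoidHom.mem_ker, Subtype.ext_iff]
  exact mk_eq_one_iff m.2.1

theorem odd_ker_fmap (hv : v ∈ normalizer (X : Set G)) : Odd (Nat.card (fmap hv).ker) := by
  have h1 : (fmap hv).ker.map (X ⊓ centralizer ({v} : Set G)).subtype ≤ core X := by
    rintro _ ⟨m, hm, rfl⟩
    exact (mem_ker_fmap hv m).mp hm
  have h2 := Subgroup.card_dvd_of_le h1
  rw [Subgroup.card_map_of_injective (subtype_injective _)] at h2
  exact Odd.of_dvd_nat (odd_card_core X) h2

/-- **components of the fixed points** -/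
theorem exists_comp (hv : v ∈ normalizer (X : Set G)) {n : ℕ} (hvn : v ^ 2 ^ n = 1)
    {J : Subgroup (↥X ⧸ oddCore ↥X)} (hJ : J ≤ fixed (act X ⟨v, hv⟩))
    (hc : IsComponent (J.subgroupOf (fixed (act X ⟨v, hv⟩)))) (h2 : 2 ∣ Nat.card J) :
    ∃ C : Subgroup G, IsComp (X ⊓ centralizer ({v} : Set G)) C ∧
      (∀ a ∈ C, ∃ hX : a ∈ X, (QuotientGroup.mk ⟨a, hX⟩ : ↥X ⧸ oddCore ↥X) ∈ J) ∧
      (∀ x ∈ J, ∃ a ∈ C, ∃ hX : a ∈ X, (QuotientGroup.mk ⟨a, hX⟩ : ↥X ⧸ oddCore ↥X) = x) ∧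
      (∀ a (hX : a ∈ X), a * v = v * a → (QuotientGroup.mk ⟨a, hX⟩ : ↥X ⧸ oddCore ↥X) ∈ J →
        ∀ k : ℕ, a ^ 2 ^ k = 1 → a ∈ C) ∧
      Nat.card (↥C ⧸ oddCore ↥C) ≤ Nat.card J ∧ (oddCore ↥J = ⊥ → core C ≤ core X) := by
  have hf := fmap_surjective hv hvn
  have hker := odd_ker_fmap (X := X) hv
  have h2' : 2 ∣ Nat.card (J.subgroupOf (fixed (act X ⟨v, hv⟩))) := by
    rwa [Nat.card_congr (subgroupOfEquivOfLe hJ).toEquiv]
  obtain ⟨h3, h4⟩ := IntrinsicLift.lift_component (fmap hv) hf hker hc h2'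
  set P := PComponents.pElem 2 ((J.subgroupOf (fixed (act X ⟨v, hv⟩))).comap (fmap hv)) with hP
  have hle : ∀ m ∈ P, (QuotientGroup.mk ⟨(m : G), m.2.1⟩ : ↥X ⧸ oddCore ↥X) ∈ J := by
    intro m hm
    have h5 : fmap hv m ∈ J.subgroupOf (fixed (act X ⟨v, hv⟩)) := by
      rw [← h4]; exact ⟨m, hm, rfl⟩
    exact h5
  have hsur : ∀ x ∈ J, ∃ m ∈ P, (QuotientGroup.mk ⟨(m : G), m.2.1⟩ : ↥X ⧸ oddCore ↥X) = x := by
    intro x hx
    have h5 : (⟨x, hJ hx⟩ : ↥(fixed (act X ⟨v, hv⟩))) ∈ P.map (fmap hv) := by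
      rw [h4]; exact hx
    obtain ⟨m, hm, h6⟩ := h5
    exact ⟨m, hm, congrArg Subtype.val h6⟩
  refine ⟨P.map (X ⊓ centralizer ({v} : Set G)).subtype, isComp_of_subtype h3, ?_, ?_, ?_, ?_⟩
  · rintro _ ⟨m, hm, rfl⟩
    exact ⟨m.2.1, hle m hm⟩
  · intro x hx
    obtain ⟨m, hm, h6⟩ := hsur x hx
    exact ⟨m, ⟨m, hm, rfl⟩, m.2.1, h6⟩
  · intro a hX hav hJa k hk
    refine ⟨⟨a, hX, mem_centralizer_singleton_iff.mpr hav⟩, ?_, rfl⟩
    exact PComponents.mem_pElem (n := k) hJa (Subtype.ext hk)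
  · let g : ↥(P.map (X ⊓ centralizer ({v} : Set G)).subtype) →* ↥J :=
      { toFun := fun a => ⟨QuotientGroup.mk ⟨(a : G), by
          obtain ⟨m, -, hm⟩ := a.2
          rw [← hm]; exact m.2.1⟩, by
          obtain ⟨_, m, hm, rfl⟩ := a
          exact hle m hm⟩
        map_one' := rfl
        map_mul' := fun _ _ => rfl }
    have hg : Function.Surjective g := by
      rintro ⟨x, hx⟩
      obtain ⟨m, hm, h6⟩ := hsur x hx
      exact ⟨⟨m, m, hm, rfl⟩, Subtype.ext h6⟩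
    have hgk : (Nat.card g.ker).Coprime 2 := by
      have h7 : g.ker.map (P.map (X ⊓ centralizer ({v} : Set G)).subtype).subtype ≤ core X := by
        rintro _ ⟨⟨a, m, hm, rfl⟩, ha, rfl⟩
        have h8 := congrArg Subtype.val (MonoidHom.mem_ker.mp ha)
        exact (mk_eq_one_iff m.2.1).mp h8
      have h8 := Subgroup.card_dvd_of_le h7
      rw [Subgroup.card_map_of_injective (subtype_injective _)] at h8
      exact (coprime_card_core X).coprime_dvd_left h8
    obtain ⟨e, he⟩ := Quot.exists_equiv_of_surjective g hg hgk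
    refine ⟨?_, ?_⟩
    · rw [Nat.card_congr e.toEquiv]
      exact Nat.card_le_card_of_surjective _ (QuotientGroup.mk'_surjective (oddCore ↥J))
    · rintro hJ1 _ ⟨c, hc, rfl⟩
      have h8 := he c
      rw [(QuotientGroup.eq_one_iff c).mpr hc, map_one] at h8
      have h9 : g c ∈ oddCore ↥J := (QuotientGroup.eq_one_iff _).mp h8.symm
      rw [hJ1, mem_bot] at h9
      have h10 := congrArg Subtype.val h9
      exact (mk_eq_one_iff _).mp h10

/-- solvable fixed points: `X ⊓ C(v)` contains no 2-component -/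
theorem not_le_of_solvable (hv : v ∈ normalizer (X : Set G))
    (hs : Group.IsSolvable ↥(fixed (act X ⟨v, hv⟩))) {H E : Subgroup G} (hE : IsComp H E) :
    ¬ E ≤ X ⊓ centralizer ({v} : Set G) := by
  intro hle
  let f : ↥E →* ↥(fixed (act X ⟨v, hv⟩)) := (fmap hv).comp (inclusion hle)
  have hperf : Group.IsPerfect ↥E := isPerfect_iff.mpr hE.perfect
  have h1 : Group.IsSolvable f.range := inferInstance
  have h2 : Group.IsPerfect f.range := by
    have h3 : ⁅(⊤ : Subgroup ↥E), (⊤ : Subgroup ↥E)⁆ = ⊤ := by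
      rw [← commutator_def]; exact Group.isPerfect_def.mp hperf
    refine isPerfect_iff.mpr ?_
    rw [MonoidHom.range_eq_map, ← map_commutator, h3]
  have h4 : f.range = ⊥ := by
    have h5 : Subsingleton ↥f.range := by
      by_contra hns
      rw [not_subsingleton_iff_nontrivial] at hns
      have h6 := Group.IsSolvable.commutator_lt_top_of_nontrivial ↥f.range
      rw [Group.isPerfect_def.mp h2] at h6
      exact lt_irrefl _ h6
    exact eq_bot_of_subsingleton _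
  apply hE.not_odd (odd_card_core X)
  intro e he
  have h5 : f ⟨e, he⟩ ∈ f.range := ⟨_, rfl⟩
  rw [h4, mem_bot] at h5
  exact (mem_ker_fmap hv _).mp h5

end Cfsg.Agent.UGT.I34.FixLift
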