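import Cfsg.Agent.UGT.I34.FourWOneA
import Cfsg.Agent.UGT.I34.OneEnd
import Cfsg.Agent.UGT.I34.NonFin
import Cfsg.Agent.UGT.I34.Bridge
import Cfsg.Agent.UGT.I34.Two.End
import Cfsg.Agent.FixBN.KnownAll
import Cfsg.Agent.UGT.U2.Cut

/-!
# THEOREM I34: no triple `(x, c, M)`, `c ∈ M`, with `M / Z*(M) = PSL₃(4)`
-/

set_option autoImplicit false

open Cfsg
open Cfsg.Agent.UGT.I34.Red Cfsg.Agent.UGT.I34.Cov

namespace Cfsg.Agent.UGT.I34.Final

universe u

/-- the kind `2` -/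
theorem two : SimpleCase.{u} (kind' 2 2 noT) :=
  Bridge.simpleCase_two (Two.simpleCase fun _ _ _ hO S T hT => Cfsg.Agent.S1173.result hO S T hT)

/-- **THEOREM I34** -/
theorem p34T : Main.P34T.{u} :=
  FourBelow.p34_of_B FixBN.KnownAll.known two OneEnd.settled (FourWOneA.simpleCaseB two) FourWOneA.w1a
    Non.simpleCase_8' Non.simpleCase_16'

theorem p34 : U2.Cut.P34.{u} := p34T

end Cfsg.Agent.UGT.I34.Final
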