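import Cfsg.Agent.UGT.I34.Cov
import Cfsg.Agent.UGT.End
import Cfsg.Agent.UGT.NodeHeG
import Cfsg.Agent.UGT.U2.ToIntr
import Cfsg.Agent.UGT.U2.TypeOf
import Cfsg.Agent.UGT.U2.Cut
import Cfsg.Agent.OddHalf.D0

/-!
# THEOREM I34 and the node `NodeCov` of S1311

* `le_fs`: a perfect subgroup generated by 2-elements lies in `F*(G)`.
* `Last κ`: the last step of a kind; `BalCase`, `ExtCase`, `XCase`: the three statements for a kind which uses the
  induction of S1311.
* `p34_of_simple`: `P34T` from the statements of the kinds.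
* `nodeCov_of`: `NodeCov` from `P34T`.
-/

set_option autoImplicit false

open Cfsg Subgroup
open Cfsg.Agent.SignalizersComponents Cfsg.Agent.Lib
open Cfsg.Agent.SignalizersComponents.IntrinsicBasic
open Cfsg.Agent.SignalizersComponents.PLayerAut
open Cfsg.Agent.Lib.PComponents (pElem)
open Cfsg.Agent.Intrinsic.Basic hiding IsPair PQS Target
open Cfsg.Agent.Intrinsic.Quot hiding Big isPair_quot small_or_big
open Cfsg.Agent.UGT.Triple Cfsg.Agent.UGT.Iface Cfsg.Agent.UGT.Trich
open Cfsg.Agent.UGT.I34.Pair Cfsg.Agent.UGT.I34.Red Cfsg.Agent.UGT.I34.Cov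
open Cfsg.Agent.KFacts.MulDef (NoDouble)
open scoped commutatorElement

namespace Cfsg.Agent.UGT.I34.Main

universe u

local notation "Fs" => generalizedFittingSubgroup

section le

variable {G : Type u} [Group G] [Finite G]

/-- A perfect subgroup generated by 2-elements lies in `F*(G)`. -/
theorem le_fs (h : MinCex G) {L : Subgroup G} (hperf : ⁅L, L⁆ = L) (h2 : pElem 2 L = L) :
    L ≤ Fs G := by
  obtain ⟨x, hx, hcore⟩ := h.unbal
  have hO : core (centralizer ({x} : Set G)) ≠ ⊥ := by
    intro h3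
    apply hcore
    rw [centralizerPPrimeCore]
    exact h3
  have htop := sup_eq_top h hx hO
  have hFn : (Fs G).Normal := normal_fs
  obtain ⟨q, hq⟩ : ∃ q, q = QuotientGroup.mk' (Fs G) := ⟨_, rfl⟩
  have hqs : Function.Surjective q := hq ▸ QuotientGroup.mk'_surjective _
  obtain ⟨O, hOd⟩ : ∃ O, O = (core (centralizer ({x} : Set G))).map q := ⟨_, rfl⟩
  have hOodd : Odd (Nat.card O) := by
    rw [hOd]
    exact Odd.of_dvd_nat (odd_card_core _) (Subgroup.card_map_dvd _ _)
  -- `Q = ⟨x⟩ O`
  have hgen : zpowers (q x) ⊔ O = ⊤ := by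
    have h3 : (Fs G ⊔ zpowers x ⊔ core (centralizer ({x} : Set G))).map q = ⊤ := by
      rw [htop, ← MonoidHom.range_eq_map, MonoidHom.range_eq_top.mpr hqs]
    rw [Subgroup.map_sup, Subgroup.map_sup, MonoidHom.map_zpowers, ← hOd] at h3
    have h4 : (Fs G).map q = ⊥ := by
      rw [Subgroup.map_eq_bot_iff, hq, QuotientGroup.ker_mk']
    rwa [h4, bot_sup_eq] at h3
  have hcomm : ∀ o ∈ O, q x * o = o * q x := by
    rintro o ho
    rw [hOd] at ho
    obtain ⟨y, hy, rfl⟩ := ho
    have h3 : y * x = x * y := mem_centralizer_singleton_iff.mp (core_le _ hy)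
    rw [← map_mul, ← map_mul, h3]
  have hOn : O.Normal := by
    rw [← Subgroup.normalizer_eq_top_iff, eq_top_iff, ← hgen, sup_le_iff]
    refine ⟨?_, le_normalizer⟩
    rw [zpowers_le, mem_normalizer_iff]
    intro o
    constructor
    · intro ho
      rw [hcomm o ho, mul_inv_cancel_right]
      exact ho
    · intro ho
      have h3 := hcomm _ ho
      have h4 : o = q x * o * (q x)⁻¹ := by
        have h5 : q x * (q x * o * (q x)⁻¹) = q x * o := by rw [h3]; group
        exact (mul_left_cancel h5).symm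
      rw [h4]; exact ho
  -- the image of `L` lies in `O`
  have hLO : L.map q ≤ O := by
    have h3 : commutator (G ⧸ Fs G) ≤ O := by
      rw [commutator_def, Subgroup.commutator_le]
      have key : ∀ g : G ⧸ Fs G, ∃ i : ℤ, ∃ o ∈ O, g = q x ^ i * o := by
        intro g
        have hg : g ∈ zpowers (q x) ⊔ O := by rw [hgen]; exact mem_top g
        obtain ⟨y, ⟨i, rfl⟩, o, ho, rfl⟩ := mem_sup_of_normal_right.mp hg
        exact ⟨i, o, ho, rfl⟩
      intro a _ b _
      obtain ⟨i, o, ho, rfl⟩ := key a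
      obtain ⟨j, o', ho', rfl⟩ := key b
      rw [← QuotientGroup.eq_one_iff]
      change (QuotientGroup.mk' O) ⁅q x ^ i * o, q x ^ j * o'⁆ = 1
      have e1 : (QuotientGroup.mk' O) o = 1 := (QuotientGroup.eq_one_iff _).mpr ho
      have e2 : (QuotientGroup.mk' O) o' = 1 := (QuotientGroup.eq_one_iff _).mpr ho'
      rw [map_commutatorElement, map_mul, map_mul, e1, e2, mul_one, mul_one, map_zpow, map_zpow,
        commutatorElement_eq_one_iff_mul_comm]
      exact (Commute.refl _).zpow_zpow i j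
    have h4 : L.map q = ⁅L.map q, L.map q⁆ := by rw [← map_commutator, hperf]
    rw [h4]
    refine le_trans ?_ h3
    rw [commutator_def]
    exact Subgroup.commutator_mono le_top le_top
  rw [← h2]
  refine (Subgroup.closure_le _).mpr ?_
  rintro y ⟨hy, n, hn⟩
  have h3 : q y = 1 := by
    apply IntrinsicBasic.eq_one_of_mem_odd hOodd (hLO ⟨y, hy, rfl⟩) (n := n)
    rw [← map_pow, hn, map_one]
  rw [hq] at h3
  exact (QuotientGroup.eq_one_iff _).mp h3

end le

/-- A pair of a settled kind inside a nonabelian simple subgroup `F` is exceptional. -/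
theorem target_of_good {κ : Kind.{u}} (hκ : Good κ) {G : Type u} [Group G] [Finite G] {F : Subgroup G}
    (hs : IsSimpleGroup ↥F) (hna : ¬ IsMulCommutative ↥F) {c : G} {M : Subgroup G}
    (hp : IsPair κ c M) (hMF : M ≤ F) : κ.T ↥F ⟨c, hMF hp.mem⟩ (M.subgroupOf F) := by
  have hp' := pair_restrict hp F hMF
  have hcen : center ↥F = ⊥ := by
    rcases hs.eq_bot_or_eq_top_of_normal (center ↥F) inferInstance with h1 | h1
    · exact h1
    · exfalso
      apply hna
      refine ⟨⟨fun a b => ?_⟩⟩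
      have h2 : b ∈ center ↥F := by rw [h1]; exact mem_top b
      exact mem_center_iff.mp h2 a
  have hq : IsQuasisimple ↥F := by
    refine ⟨⟨?_⟩, ?_⟩
    · rcases hs.eq_bot_or_eq_top_of_normal (commutator ↥F) inferInstance with h1 | h1
      · exfalso
        apply hna
        refine ⟨⟨fun a b => ?_⟩⟩
        have h2 : ⁅a, b⁆ ∈ commutator ↥F := commutator_mem_commutator (mem_top a) (mem_top b)
        rw [h1, mem_bot, commutatorElement_eq_one_iff_mul_comm] at h2
        exact h2
      · exact h1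
    · have e : ↥F ≃* ↥F ⧸ center ↥F :=
        (QuotientGroup.quotientBot.symm).trans (QuotientGroup.quotientMulEquivOfEq hcen.symm)
      have : Nontrivial (↥F ⧸ center ↥F) := e.toEquiv.symm.nontrivial
      exact IsSimpleGroup.isSimpleGroup_of_surjective e.toMonoidHom e.surjective
  have hO : oddCore ↥F = ⊥ := by
    have hn : (oddCore ↥F).Normal := Lib.Cores.pPrimeCore_normal 2
    rcases hs.eq_bot_or_eq_top_of_normal _ hn with h1 | h1
    · exact h1
    · exfalso
      have h2 : (⟨c, hMF hp.mem⟩ : ↥F) ∈ oddCore ↥F := by rw [h1]; exact mem_top _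
      have h3 := IntrinsicBasic.eq_one_of_mem_odd
        (Nat.coprime_two_right.mp (Lib.Cores.pPrimeCore_coprime 2)) h2 (n := 1) (by
          rw [pow_one, ← hp'.inv, pow_orderOf_eq_one])
      exact hp'.ne_one h3
  rcases hκ.all _ _ (Nat.lt_succ_self _) hq hO _ _ hp' with h1 | h1
  · rw [hcen, mem_bot] at h1
    exact absurd h1 hp'.ne_one
  · exact h1

/-- The exceptional configurations are excluded in a nonabelian simple subgroup. -/
theorem false_of_good {κ : Kind.{u}} (hκ : Good κ) (hT : ∀ (X : Type u) [Group X] (z : X)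
    (L : Subgroup X), ¬ κ.T X z L) {G : Type u} [Group G] [Finite G] {F : Subgroup G}
    (hs : IsSimpleGroup ↥F) (hna : ¬ IsMulCommutative ↥F) {c : G} {M : Subgroup G}
    (hp : IsPair κ c M) (hMF : M ≤ F) : False :=
  hT _ _ _ (target_of_good hκ hs hna hp hMF)

/-- The last step of the kind `κ` in a minimal counterexample `G`. -/
def Last (κ : Kind.{u}) : Prop := ∀ (G : Type u) [Group G] [Finite G], MinCex G →
  PQS κ (Nat.card ↥(Fs G)) → ∀ (x c : G) (M : Subgroup G), IsTriple x c M → IsPair κ c M → False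

/-- the exceptional groups have no double cover and are excluded in a minimal counterexample -/
structure GoodT (T : (X : Type u) → [Group X] → X → Subgroup X → Prop) : Prop where
  nodbl : ∀ (X : Type u) [Group X] (z : X) (L : Subgroup X), T X z L → NoDouble X
  ex : ∀ (X : Type u) [Group X] [Finite X] [IsSimpleGroup X] (z : X) (L : Subgroup X), T X z L →
    FixBN.BRelative.InU X ∨ End.LB X

theorem goodT_noT : GoodT.{u} noT := ⟨fun _ _ _ _ h => h.elim, fun _ _ _ _ _ _ h => h.elim⟩

/-- an exceptional configuration in `F*(G)` -/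
theorem false_of_target {κ : Kind.{u}} (hT : GoodT κ.T) {G : Type u} [Group G] [Finite G]
    (hG : MinCex G) {z : ↥(Fs G)} {L : Subgroup ↥(Fs G)} (h : κ.T ↥(Fs G) z L) : False := by
  have hs := hG.simple
  rcases hT.ex _ _ _ h with h2 | h2
  · exact hG.notU h2
  · obtain ⟨x, hx, hcore⟩ := hG.unbal
    exact hcore (h2 G (Fs G) normal_fs ⟨MulEquiv.refl _⟩ (centralizer_fs hG) x hx)

theorem pair_le {κ : Kind.{u}} {G : Type u} [Group G] [Finite G] (hG : MinCex G) {c : G}
    {M : Subgroup G} (hp : IsPair κ c M) : M ≤ Fs G := le_fs hG hp.comp.perfect hp.comp.pElem_eq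

/-- the main theorem for simple groups gives the last step -/
theorem last_of_simple {κ : Kind.{u}} (h : SimpleCase κ) (hT : GoodT κ.T) : Last κ := by
  intro G _ _ hG hP x c M _ hp
  have hs := hG.simple
  exact false_of_target hT hG (h ↥(Fs G) hP _ _ (pair_restrict hp (Fs G) (pair_le hG hp)))

/-! ### kinds which use the induction of S1311 -/

/-- the main theorem for simple groups with `O(C(t)) = 1` for all involutions `t` -/
def BalCase (κ : Kind.{u}) : Prop :=
  ∀ (X : Type u) [Group X] [Finite X] [IsSimpleGroup X],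
    (∀ t : X, orderOf t = 2 → centralizerPPrimeCore 2 t = ⊥) → PQS κ (Nat.card X) →
    ∀ (z : X) (L : Subgroup X), IsPair κ z L → κ.T X z L

/-- no pairs in the unbalanced groups of S1311 -/
def ExtCase (κ : Kind.{u}) : Prop :=
  ∀ (X : Type u) [Group X] [Finite X] [IsSimpleGroup X], FixBN.BRelative.InU X →
    (∃ t : X, orderOf t = 2 ∧ centralizerPPrimeCore 2 t ≠ ⊥) →
    ∀ (z : X) (L : Subgroup X), ¬ IsPair κ z L

/-- the main theorem for a simple minimal counterexample -/
def XCase (κ : Kind.{u}) : Prop := ∀ (G : Type u) [Group G] [Finite G] [IsSimpleGroup G], MinCex G →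
  PQS κ (Nat.card G) → ∀ (x c : G) (M : Subgroup G), IsTriple x c M → IsPair κ c M → False

/-- a simple group with a pair is not abelian -/
theorem not_comm_of_pair {κ : Kind.{u}} {X : Type u} [Group X] [Finite X] {z : X} {L : Subgroup X}
    (hp : IsPair κ z L) : ¬ IsMulCommutative X := by
  intro h
  have h1 : ⁅L, L⁆ = ⊥ := by
    rw [Subgroup.commutator_eq_bot_iff_le_centralizer]
    intro a _
    rw [mem_centralizer_iff]
    exact fun b _ => h.is_comm.comm b a
  rw [hp.comp.perfect] at h1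
  exact hp.comp.ne_bot h1

theorem below_of_bal {κ : Kind.{u}} {N : ℕ} (hB : BalCase κ) (hE : ExtCase κ)
    (hU : FixBN.BRelative.UgtBelow.{u} N) : SimpleBelow κ N := by
  intro X _ _ _ hX hP z L hp
  have hna := not_comm_of_pair hp
  by_cases hbal : ∀ t : X, orderOf t = 2 → centralizerPPrimeCore 2 t = ⊥
  · exact hB X hbal hP z L hp
  · exfalso
    push Not at hbal
    obtain ⟨t, ht, htc⟩ := hbal
    have e := OddHalf.D0.starEquiv X hna
    have hcard : Nat.card ↥(Fs X) = Nat.card X := Nat.card_congr e.toEquiv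
    have h1 := hU X (by rw [hcard]; exact hX) (OddHalf.D0.star_simple X hna)
      (OddHalf.D0.star_na X hna) t ht htc
    exact hE X (FixBN.BRelative.InU.congr e h1) ⟨t, ht, htc⟩ z L hp

theorem last_of_bal {κ : Kind.{u}} (hB : BalCase κ) (hX : XCase κ) (hT : GoodT κ.T) : Last κ := by
  intro G _ _ hG hP x c M T hp
  have hs := hG.simple
  by_cases htop : Fs G = ⊤
  · have e : ↥(Fs G) ≃* G := (MulEquiv.subgroupCongr htop).trans Subgroup.topEquiv
    have hGs : IsSimpleGroup G := by
      have := e.toEquiv.symm.nontrivial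
      exact IsSimpleGroup.isSimpleGroup_of_surjective e.toMonoidHom e.surjective
    rw [Nat.card_congr e.toEquiv] at hP
    exact hX G hG hP x c M T hp
  · refine false_of_target hT hG (hB ↥(Fs G) ?_ hP _ _ (pair_restrict hp (Fs G) (pair_le hG hp)))
    rintro ⟨t, ht⟩ ht2
    have h1 := core_eq_bot_of_ne_top hG le_rfl htop ht (by rwa [Subgroup.orderOf_mk] at ht2)
    rw [← map_centralizerPPrimeCore ht] at h1
    exact (Subgroup.map_eq_bot_iff_of_injective _ (Fs G).subtype_injective).mp h1

/-! ### the list of kinds -/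

/-- every cover with centre of type `(n, m)` is of a settled kind -/
def Settled' (N n m : ℕ) : Prop := ∀ (K : Type u) [Group K] [Finite K], IsCv n m K →
  ∃ κ : Kind.{u}, GoodN κ N ∧ κ.P K ∧ Last κ

theorem Settled'.of_kind {N n m : ℕ} {T : (X : Type u) → [Group X] → X → Subgroup X → Prop}
    (h : GoodN (kind' n m T) N) (hT : Last (kind' n m T)) : Settled'.{u} N n m :=
  fun _ _ _ hK => ⟨_, h, ⟨hK, trivial⟩, hT⟩

/-- two kinds for the same centre -/
theorem Settled'.of_two {N n m : ℕ} {Q Q' : (K : Type u) → [Group K] → Prop}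
    {hQ : ∀ {A B : Type u} [Group A] [Group B], (A ≃* B) → Q A → Q B}
    {hQ' : ∀ {A B : Type u} [Group A] [Group B], (A ≃* B) → Q' A → Q' B}
    {T T' : (X : Type u) → [Group X] → X → Subgroup X → Prop}
    (h : GoodN (kind n m Q hQ T) N) (h' : GoodN (kind n m Q' hQ' T') N) (hT : Last (kind n m Q hQ T))
    (hT' : Last (kind n m Q' hQ' T'))
    (hor : ∀ (K : Type u) [Group K] [Finite K], IsCv n m K → Q K ∨ Q' K) : Settled'.{u} N n m := by
  intro K _ _ hK
  rcases hor K hK with h1 | h1
  · exact ⟨_, h, ⟨hK, h1⟩, hT⟩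
  · exact ⟨_, h', ⟨hK, h1⟩, hT'⟩

/-- one kind with cyclic centre from its simple case -/
theorem settled_of_simple {N n : ℕ} {T : (X : Type u) → [Group X] → X → Subgroup X → Prop}
    (h : SimpleCase.{u} (kind' n 2 T)) (hT : GoodT.{u} T) : Settled'.{u} N n 2 :=
  Settled'.of_kind (goodN_of (h.below N) (subKinds_cyclic N) hT.nodbl) (last_of_simple h hT)

/-- two kinds with cyclic centre from their simple cases -/
theorem settled_of_simple_two {N n : ℕ} {Q Q' : (K : Type u) → [Group K] → Prop}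
    {hQ : ∀ {A B : Type u} [Group A] [Group B], (A ≃* B) → Q A → Q B}
    {hQ' : ∀ {A B : Type u} [Group A] [Group B], (A ≃* B) → Q' A → Q' B}
    {T T' : (X : Type u) → [Group X] → X → Subgroup X → Prop}
    (h : SimpleCase.{u} (kind n 2 Q hQ T)) (h' : SimpleCase.{u} (kind n 2 Q' hQ' T'))
    (hT : GoodT.{u} T) (hT' : GoodT.{u} T')
    (hor : ∀ (K : Type u) [Group K] [Finite K], IsCv n 2 K → Q K ∨ Q' K) : Settled'.{u} N n 2 :=
  Settled'.of_two (goodN_of (h.below N) (subKinds_cyclic N) hT.nodbl)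
    (goodN_of (h'.below N) (subKinds_cyclic N) hT'.nodbl) (last_of_simple h hT) (last_of_simple h' hT') hor

theorem settled_two {N : ℕ} (h : Settled'.{u} N 2 2) : Settled.{u} N 2 := by
  intro K _ _ m hK hm _
  obtain rfl := hm rfl
  obtain ⟨κ, h1, h2, -⟩ := h K hK
  exact ⟨κ, h1, h2⟩

theorem settled_four {N : ℕ} (h : Settled'.{u} N 4 2) (h' : Settled'.{u} N 4 4) :
    Settled.{u} N 4 := by
  intro K _ _ m hK _ hm
  rcases hm rfl with rfl | rfl
  · obtain ⟨κ, h1, h2, -⟩ := h K hK
    exact ⟨κ, h1, h2⟩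
  · obtain ⟨κ, h1, h2, -⟩ := h' K hK
    exact ⟨κ, h1, h2⟩

/-- a cover with centre of order 8 -/
theorem om_eight {m : ℕ} {K : Type u} [Group K] [Finite K] (h : IsCv 8 m K) : m = 4 := by
  have hpg := isPGroup_center h (show 8 = 2 ^ 3 by norm_num)
  have hne : center K ≠ ⊥ := by
    intro h3
    have := h.card
    rw [h3, Subgroup.card_bot] at this
    omega
  rcases Cov.cases h.qs hpg h.l34 hne with h3 | h3 | h3 | h3 | h3
  · have := h.card; rw [h3.card] at this; omega
  · have := h.card; rw [h3.card] at this; omega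
  · have := h.card; rw [h3.card] at this; omega
  · rw [← h.om, h3.om]
  · have := h.card; rw [h3.card] at this; omega

/-- In a minimal counterexample no triple `(x, c, M)`, `c ∈ M`, has a cover of `L₃(4)` as type. -/
def P34T : Prop := ∀ (G : Type u) [Group G] [Finite G], MinCex G → ∀ (x c : G) (M : Subgroup G),
  IsTriple x c M → c ∈ M → ¬ IsL34 (Bar M ⧸ center (Bar M))

/-- **Assembly.** The theorem for the kinds `2`, `4`, `2²`, `4 × 2`, `4 × 4` gives `P34T`. -/
theorem p34_of {T22 : (X : Type u) → [Group X] → X → Subgroup X → Prop}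
    (h2 : ∀ N, Settled'.{u} N 2 2) (h4 : ∀ N, Settled'.{u} N 4 2)
    (h22 : ∀ N, FixBN.BRelative.UgtBelow.{u} N → SimpleBelow.{u} (kind' 4 4 T22) N)
    (hT22 : ∀ (X : Type u) [Group X] (z : X) (L : Subgroup X), T22 X z L → NoDouble X)
    (h22l : Last.{u} (kind' 4 4 T22))
    (h8 : SimpleCase.{u} (kind' 8 4 noT)) (h16 : SimpleCase.{u} (kind' 16 4 noT)) : P34T.{u} := by
  intro G _ _ hG x c M TM hcM hl
  obtain ⟨N, hN⟩ : ∃ N, N = Nat.card ↥(Fs G) := ⟨_, rfl⟩
  have hU : FixBN.BRelative.UgtBelow.{u} N := hN ▸ hG.small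
  have hM := TM.comp
  have hc := TM.inva
  have hqs : IsQuasisimple (Bar M) := quasisimple_quot hM
  have hc' := U2.ToIntr.center_ne_bot hc hM hcM
  have hpg : IsPGroup 2 ↥(center (Bar M)) := U2.TypeOf.center_two M
  have hne : center (Bar M) ≠ ⊥ := fun hb => by
    rw [hb] at hc'
    exact hc'.2 (mem_bot.mp hc'.1)
  have g22 : Settled'.{u} N 4 4 := Settled'.of_kind (goodN_of (h22 N hU)
    (subKinds_of_settled (k := 2) (by norm_num) (by norm_num) (settled_two (h2 N))) hT22) h22l
  have g8 : Settled'.{u} N 8 4 := Settled'.of_kind (goodN_of (h8.below N)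
    (subKinds_of_settled (k := 3) (by norm_num) (by norm_num) (settled_four (h4 N) g22))
      fun _ _ _ _ h => h.elim) (last_of_simple h8 goodT_noT)
  have g8' : Settled.{u} N 8 := by
    intro K _ _ m hK _ _
    obtain rfl := om_eight hK
    obtain ⟨κ, h1, h2, -⟩ := g8 K hK
    exact ⟨κ, h1, h2⟩
  have g16 : Settled'.{u} N 16 4 := Settled'.of_kind (goodN_of (h16.below N)
    (subKinds_of_settled (k := 4) (by norm_num) (by norm_num) g8')
      fun _ _ _ _ h => h.elim) (last_of_simple h16 goodT_noT)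
  have key : ∃ κ : Kind.{u}, GoodN κ N ∧ κ.P (Bar M) ∧ Last κ := by
    rcases Cov.cases hqs hpg hl hne with h | h | h | h | h
    · exact h2 N (Bar M) h
    · exact h4 N (Bar M) h
    · exact g22 (Bar M) h
    · exact g8 (Bar M) h
    · exact g16 (Bar M) h
  obtain ⟨κ, a, b, d⟩ := key
  exact d G hG (hN ▸ a.all) x c M TM ⟨hc, hcM, hM, b⟩

/-- **Assembly**, with the three statements for the kind `2²`. -/
theorem p34_of_simple {T22 : (X : Type u) → [Group X] → X → Subgroup X → Prop}
    (h2 : SimpleCase.{u} (kind' 2 2 noT)) (h4 : ∀ N, Settled'.{u} N 4 2)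
    (h22 : BalCase.{u} (kind' 4 4 T22)) (h22e : ExtCase.{u} (kind' 4 4 T22))
    (h22x : XCase.{u} (kind' 4 4 T22)) (hT22 : GoodT.{u} T22)
    (h8 : SimpleCase.{u} (kind' 8 4 noT)) (h16 : SimpleCase.{u} (kind' 16 4 noT)) : P34T.{u} :=
  p34_of (fun _ => settled_of_simple h2 goodT_noT) h4
    (fun _ hU => below_of_bal h22 h22e hU) hT22.nodbl (last_of_bal h22 h22x hT22) h8 h16

/-! ### the node -/

/-- a type with nontrivial centre -/
theorem okType_center {G : Type u} [Group G] [Finite G] {N : Subgroup G} (h : OKType (Bar N))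
    (hZ : center (Bar N) ≠ ⊥) : IsL34 (Bar N ⧸ center (Bar N)) := by
  rcases h with h | ⟨n, hn, h7, ⟨e⟩⟩ | h | h
  · exact absurd (RedR.center_of_L2 h) hZ
  · obtain ⟨Mo⟩ := UAlt.Mod.nonempty_of_equiv (K := N) (S := (Finset.univ : Finset (Fin n)))
      (by rw [Finset.card_univ, Fintype.card_fin]; omega) (Ω := Fin n) (by rw [Finset.card_univ]) e
    exact absurd (RedR.center_bar Mo) hZ
  · exact h
  · exact absurd (RedR.center_of_He h) hZ

/-- **`NodeCov` from `P34T`.** -/
theorem nodeCov_of (h : P34T.{u}) : Nodes.NodeCov.{u} := by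
  intro G _ _ hG hT x a L T hc
  obtain ⟨c, b, M, J, O, -⟩ := U2.ToIntr.exists_intrinsic T hc.2
  have h1 := U2.ToIntr.center_ne_bot O.top.inva O.top.comp O.c_mem
  refine h G hG x c M O.top O.c_mem (okType_center (hT x c M O.top) fun hb => ?_)
  rw [hb] at h1
  exact h1.2 (mem_bot.mp h1.1)

end Cfsg.Agent.UGT.I34.Main
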