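import Cfsg.Agent.Intrinsic.Cen

/-!
# THEOREM I34, part [A]: the facts on `K = 4₁.L₃(4)`, `4₂.L₃(4)` used in section 5 (record)

`NInv t`: `t` is a noncentral involution; `Y t`: the elements of `C(t)` which commute with `C(t)` modulo `Z(K)` (in
coordinates with `t = x₀₂(1)`: `⟨i⟩ Y = Φ(C(t))`, of order 16); `fx φ`: the fixed points of an automorphism.
`Facts K τ` (`τ = true`: `4₁`, `τ = false`: `4₂`).
-/

set_option autoImplicit false

open Cfsg Subgroup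
open Cfsg.Agent.SignalizersComponents Cfsg.Agent.Lib
open Cfsg.Agent.SignalizersComponents.IntrinsicBasic
open Cfsg.Agent.SignalizersComponents.PLayerAut
open Cfsg.Agent.Intrinsic.Basic Cfsg.Agent.Intrinsic.Cen
open scoped commutatorElement

namespace Cfsg.Agent.UGT.I34.KF

variable {K : Type*} [Group K]

/-- noncentral involution -/
def NInv (t : K) : Prop := t * t = 1 ∧ t ∉ center K

/-- the elements of `C(t)` commuting with `C(t)` modulo `Z(K)` -/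
def Y (t : K) : Subgroup K where
  carrier := {y | y * t = t * y ∧ ∀ b, b * t = t * b → ⁅y, b⁆ ∈ center K}
  mul_mem' := by
    rintro x y ⟨hx, hx'⟩ ⟨hy, hy'⟩
    refine ⟨by rw [mul_assoc, hy, ← mul_assoc, hx, mul_assoc], fun b hb => ?_⟩
    have h1 := mem_center_iff.mp (hy' b hb)
    have e : ⁅x * y, b⁆ = ⁅x, b⁆ * ⁅y, b⁆ := by
      have e1 : ⁅x * y, b⁆ = x * ⁅y, b⁆ * x⁻¹ * ⁅x, b⁆ := by
        rw [commutatorElement_def, commutatorElement_def, commutatorElement_def]; group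
      rw [e1, h1 x, mul_assoc, mul_assoc, ← mul_assoc x, mul_inv_cancel, one_mul, ← h1]
    rw [e]
    exact mul_mem (hx' b hb) (hy' b hb)
  one_mem' := ⟨by rw [one_mul, mul_one], fun b _ => by
    rw [commutatorElement_def, one_mul, inv_one, mul_one, mul_inv_cancel]; exact one_mem _⟩
  inv_mem' := by
    rintro x ⟨hx, hx'⟩
    have h0 : x⁻¹ * t = t * x⁻¹ := by
      rw [inv_mul_eq_iff_eq_mul, ← mul_assoc, hx, mul_inv_cancel_right]
    refine ⟨h0, fun b hb => ?_⟩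
    have h1 := mem_center_iff.mp (hx' b hb)
    have e : ⁅x⁻¹, b⁆ = ⁅x, b⁆⁻¹ := by
      have e1 : ⁅x⁻¹, b⁆ = x⁻¹ * ⁅x, b⁆⁻¹ * x := by
        rw [commutatorElement_def, commutatorElement_def]; group
      have h2 := mem_center_iff.mp (inv_mem (hx' b hb))
      rw [e1, h2 x⁻¹, mul_assoc, inv_mul_cancel, mul_one]
    rw [e]
    exact inv_mem (hx' b hb)

theorem mem_Y {t y : K} : y ∈ Y t ↔ y * t = t * y ∧ ∀ b, b * t = t * b → ⁅y, b⁆ ∈ center K := Iff.rfl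

/-- fixed points -/
def fx (φ : MulAut K) : Subgroup K where
  carrier := {k | φ k = k}
  mul_mem' := by
    intro a b ha hb
    show φ (a * b) = a * b
    rw [map_mul, show φ a = a from ha, show φ b = b from hb]
  one_mem' := map_one φ
  inv_mem' := by
    intro a ha
    show φ a⁻¹ = a⁻¹
    rw [map_inv, show φ a = a from ha]

theorem mem_fx {φ : MulAut K} {k : K} : k ∈ fx φ ↔ φ k = k := Iff.rfl

/-- The facts on `K = 4₁.L₃(4)` (`τ = true`), `4₂.L₃(4)` (`τ = false`). -/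
structure Facts (K : Type*) [Group K] (τ : Bool) : Prop where
  exists_i : ∃ i : K, orderOf i = 4 ∧ center K = zpowers i
  exists_t : ∃ t : K, NInv t
  conj : ∀ {s t : K}, NInv s → NInv t → ∃ g, g * s * g⁻¹ = t
  card_C : ∀ {t : K}, NInv t → Nat.card (centralizer ({t} : Set K)) = 128
  /-- `[x_a(1), x_g(w)] = u` -/
  moved : ∀ {t : K}, NInv t → ∃ s w, s * t = t * s ∧ w ∈ Y t ∧ w * w = 1 ∧ s * w ≠ w * s
  /-- `|Y t : Z(K)| = 4` -/
  Y_cases : ∀ {t w y : K}, NInv t → w ∈ Y t → (∀ c ∈ center K, w ≠ c ∧ w ≠ t * c) → y ∈ Y t →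
    ∃ c ∈ center K, y = c ∨ y = t * c ∨ y = w * c ∨ y = t * w * c
  /-- `Y t ≤ Φ(C(t))` -/
  Y_sq : ∀ {t y : K}, NInv t → y ∈ Y t → y ∈ closure {s : K | ∃ x, x * t = t * x ∧ s = x * x}
  /-- `C(t)' ≤ Y t` -/
  comm_Y : ∀ {t a b : K}, NInv t → a * t = t * a → b * t = t * b → ⁅a, b⁆ ∈ Y t
  sq_Y : ∀ {t a : K}, NInv t → a * t = t * a → a * a ∈ Y t
  /-- (k2) -/
  norm : ∀ {t : K}, NInv t → ∀ N : Subgroup K, t ∈ N → (∀ n ∈ N, n * t = t * n) →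
    (∀ n ∈ N, ∀ b, b * t = t * b → b * n * b⁻¹ ∈ N) → (∀ n ∈ N, n ∈ center K → n = 1) →
    Nat.card N ≤ 4 ∧ (τ = false → Nat.card N ≤ 2) ∧ ∀ n ∈ N, n ∈ Y t → n = 1 ∨ n = t
  /-- `w̄` an involution of `C(t) / Z(K)` with `⟨t̄, w̄⟩` normal in `C(t) / Z(K)`: `w̄ ∈ Ȳ` -/
  four : ∀ {t w : K}, NInv t → w * t = t * w → w * w ∈ center K →
    (∀ c ∈ center K, w ≠ c ∧ w ≠ t * c) →
    (∀ b, b * t = t * b → ∃ c ∈ center K, ⁅w, b⁆ = c ∨ ⁅w, b⁆ = t * c ∨ ⁅w, b⁆ = w * c ∨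
      ⁅w, b⁆ = t * w * c) → w ∈ Y t
  /-- (5.2), inner case: `b̄` an involution of `C(t) / Z(K)` commuting with `j̄`, `j̄ ^ 2 = t̄` -/
  inner : ∀ {t b j : K}, NInv t → b * t = t * b → b * b ∈ center K → j * t = t * j →
    (∃ c ∈ center K, j * j = t * c) → ⁅b, j⁆ ∈ center K → b ∈ Y t
  /-- (5.4): `κ` trivial on `Y t / Z(K)`, `κ ^ 4 = t̄` -/
  eight : ∀ {t : K}, NInv t → ∀ κ : MulAut K, κ t = t → (∀ y ∈ Y t, ∃ c ∈ center K, κ y = y * c) →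
    κ * κ * (κ * κ) = MulAut.conj t → Nat.card {α : MulAut K // α t = t ∧ α * κ = κ * α} ≤ 32
  /-- (5.4): no such `s` -/
  noSq : ∀ {t s i : K}, NInv t → orderOf i = 4 → i ∈ center K → s * t = t * s →
    (∀ x, x * t = t * x → ⁅s, x⁆ = 1 ∨ ⁅s, x⁆ = t) → s * s ≠ i ∧ s * s ≠ i * t
  /-- squares of automorphisms of 2-power order are inner -/
  sq_inner : ∀ (α : MulAut K) (n : ℕ), α ^ 2 ^ n = 1 → ∃ k, α * α = MulAut.conj k
  /-- (5.2), outer case: `φ` an outer involution, `φ t = t`, trivial on `Y t / Z(K)` (type `g`): `C_K(φ)` has a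
  nonabelian simple normal subgroup `E` (`= A₅`) not centralised by `t` -/
  gtype : ∀ {t : K}, NInv t → ∀ φ : MulAut K, φ * φ = 1 → φ t = t →
    (∀ y ∈ Y t, ∃ c ∈ center K, φ y = y * c) → (∀ k, φ ≠ MulAut.conj k) →
    ∃ E : Subgroup K, E ≤ fx φ ∧ (∀ g ∈ fx φ, ∀ k ∈ E, g * k * g⁻¹ ∈ E) ∧ IsSimpleGroup ↥E ∧
      2 ∣ Nat.card E ∧ (∃ a ∈ E, ∃ b ∈ E, a * b ≠ b * a) ∧ ∃ k ∈ E, t * k ≠ k * t

end Cfsg.Agent.UGT.I34.KF
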