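import Cfsg.Agent.UGT.I34.Pair
import Cfsg.Agent.McLLyComp.Act

/-!
# THEOREM I34, part [A]: the facts on the groups `K = X / O(X)` and their involutory automorphisms (section 3)

* `fixed φ` : the fixed points of the automorphism `φ`; `Inn K` : the inner automorphisms;
* `Out φ` : `φ` is an outer automorphism with `φ² = 1` (types `c`, `f`, `g` of the blueprint);
* `SolvData φ` : type `c` (the fixed points are solvable); `CompData φ J` : types `f`, `g` (`J` = the component of
  the group of fixed points);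
* `KF κ` : the record of all facts used for (TI), (3F), (EPS).
-/

set_option autoImplicit false

open Cfsg Subgroup
open Cfsg.Agent.SignalizersComponents Cfsg.Agent.Lib
open Cfsg.Agent.SignalizersComponents.IntrinsicBasic
open Cfsg.Agent.Intrinsic.Basic hiding IsPair PQS Target
open Cfsg.Agent.McLLyComp.Act
open Cfsg.Agent.UGT.I34.Pair
open scoped commutatorElement

namespace Cfsg.Agent.UGT.I34.KAut

universe u

section defs

variable {K : Type*} [Group K]

/-- the fixed points of an automorphism -/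
def fixed (φ : MulAut K) : Subgroup K where
  carrier := {x | φ x = x}
  mul_mem' := fun {a b} ha hb => by
    change φ (a * b) = a * b
    rw [map_mul, show φ a = a from ha, show φ b = b from hb]
  one_mem' := map_one φ
  inv_mem' := fun {a} ha => by
    change φ a⁻¹ = a⁻¹
    rw [map_inv, show φ a = a from ha]

@[simp] theorem mem_fixed {φ : MulAut K} {x : K} : x ∈ fixed φ ↔ φ x = x := Iff.rfl

variable (K) in
/-- the inner automorphisms -/
abbrev Inn : Subgroup (MulAut K) := (MulAut.conj : K →* MulAut K).range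

/-- an outer automorphism of order two -/
structure Out (φ : MulAut K) : Prop where
  sq : φ * φ = 1
  out : φ ∉ Inn K

/-- type `c` -/
structure SolvData (φ : MulAut K) : Prop where
  solv : Group.IsSolvable ↥(fixed φ)
  elt : ∃ q p : K, φ q = q ∧ q * q ≠ 1 ∧ q * q * (q * q) = 1 ∧ p * (q * q) = q * q * p ∧
    4 ∣ orderOf (φ p * p⁻¹)
  cent : ∀ A : Subgroup (MulAut K), A ≤ Inn K → ⁅A, A⁆ = A → (∀ a ∈ A, a * φ = φ * a) → A = ⊥

/-- types `f` and `g` -/
structure CompData (φ : MulAut K) (J : Subgroup K) : Prop where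
  le : J ≤ fixed φ
  comp : IsComponent (J.subgroupOf (fixed φ))
  even : 2 ∣ Nat.card J
  core : oddCore ↥J = ⊥
  card : Nat.card ↥(center K) * Nat.card J < Nat.card K
  elt : ∃ s ∈ J, ∃ p : K, s ≠ 1 ∧ s * s = 1 ∧ p * s = s * p ∧ 4 ∣ orderOf (φ p * p⁻¹)
  cent : ∀ A : Subgroup (MulAut K), A ≤ Inn K → ⁅A, A⁆ = A → (∀ a ∈ A, a * φ = φ * a) →
    (∀ a ∈ A, ∀ j ∈ J, a j = j) → A = ⊥

end defs

/-- The facts on the groups of kind `κ`. -/
structure KF (κ : Kind.{u}) : Prop where
  /-- the involution of the centre is a square in the centre -/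
  four : ∀ {K : Type u} [Group K] [Finite K], κ.P K → ∀ z ∈ center K, z * z = 1 → z ≠ 1 →
    ∃ i ∈ center K, i * i = z
  /-- type I: `C_K(φ)` is solvable (a 2-group) and contains the central involution in its commutator group -/
  inn : ∀ {K : Type u} [Group K] [Finite K], κ.P K → ∀ φ : MulAut K, φ ∈ Inn K → φ * φ = 1 → φ ≠ 1 →
    Group.IsSolvable ↥(fixed φ) ∧ ∀ z ∈ center K, z * z = 1 → z ∈ ⁅fixed φ, fixed φ⁆
  /-- outer involutions are not in the commutator group of `Aut K` -/
  ncomm : ∀ {K : Type u} [Group K] [Finite K], κ.P K → ∀ φ : MulAut K, Out φ → φ ∉ commutator (MulAut K)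
  /-- outer involutions are not squares -/
  nsq : ∀ {K : Type u} [Group K] [Finite K], κ.P K → ∀ φ : MulAut K, Out φ → ∀ β : MulAut K, β * β ≠ φ
  out : ∀ {K : Type u} [Group K] [Finite K], κ.P K → ∀ φ : MulAut K, Out φ →
    SolvData φ ∨ ∃ J, CompData φ J
  /-- type `eps`: `φ` centralises the centre -/
  eps : ∀ {K : Type u} [Group K] [Finite K], κ.P K → ∀ φ : MulAut K, Out φ → (∀ i ∈ center K, φ i = i) →
    ∃ J, CompData φ J

/-- the exceptional configurations have only one 2-component of `C(z)` -/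
def OneComp (κ : Kind.{u}) : Prop :=
  ∀ (X : Type u) [Group X] [Finite X] (z : X) (L L' : Subgroup X), κ.T X z L →
    IsComp (centralizer ({z} : Set X)) L' → L' = L

section types

variable {G : Type u} [Group G]

/-- `a` normalizes `X` and acts on `X / O(X)` as an inner automorphism -/
def IsInn (a : G) (X : Subgroup G) : Prop :=
  ∃ h : a ∈ normalizer (X : Set G), act X ⟨a, h⟩ ∈ Inn (↥X ⧸ oddCore ↥X)

/-- `a` normalizes `X` and acts on `X / O(X)` as an outer automorphism -/
def IsOut (a : G) (X : Subgroup G) : Prop :=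
  ∃ h : a ∈ normalizer (X : Set G), act X ⟨a, h⟩ ∉ Inn (↥X ⧸ oddCore ↥X)

/-- `a` normalizes `X` and has a solvable group of fixed points on `X / O(X)` -/
def IsSol (a : G) (X : Subgroup G) : Prop :=
  ∃ h : a ∈ normalizer (X : Set G), Group.IsSolvable ↥(fixed (act X ⟨a, h⟩))

theorem isInn_or_isOut {a : G} {X : Subgroup G} (h : a ∈ normalizer (X : Set G)) :
    IsInn a X ∨ IsOut a X := by
  by_cases h1 : act X ⟨a, h⟩ ∈ Inn (↥X ⧸ oddCore ↥X)
  · exact Or.inl ⟨h, h1⟩
  · exact Or.inr ⟨h, h1⟩

theorem IsOut.not_inn {a : G} {X : Subgroup G} (h : IsOut a X) : ¬ IsInn a X :=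
  fun h' => h.2 h'.2

theorem IsOut.not_fixes {a : G} {X : Subgroup G} (h : IsOut a X) : ¬ Fixes a X := by
  intro hf
  apply h.2
  rw [(act_eq_one_iff h.1).mpr hf]
  exact one_mem _

theorem IsOut.out {a : G} {X : Subgroup G} (h : IsOut a X) (ha : a * a = 1) : Out (act X ⟨a, h.1⟩) := by
  refine ⟨?_, h.2⟩
  rw [← map_mul]
  have : (⟨a, h.1⟩ : ↥(normalizer (X : Set G))) * ⟨a, h.1⟩ = 1 := Subtype.ext ha
  rw [this, map_one]

/-- `a` acts as the element `x` of `X` -/
theorem isInn_iff {a : G} {X : Subgroup G} : IsInn a X ↔ ∃ x ∈ X, Fixes (x⁻¹ * a) X := by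
  constructor
  · rintro ⟨h, y, hy⟩
    obtain ⟨⟨x, hx⟩, rfl⟩ := QuotientGroup.mk_surjective y
    refine ⟨x, hx, ?_⟩
    have h1 : act X ⟨x, le_normalizer hx⟩ = act X ⟨a, h⟩ := by rw [act_of_mem hx]; exact hy
    rw [← act_eq_one_iff (mul_mem (inv_mem (le_normalizer hx)) h),
      act_mul (inv_mem (le_normalizer hx)) h, act_inv (le_normalizer hx), h1, inv_mul_cancel]
  · rintro ⟨x, hx, hf⟩
    have ha : a ∈ normalizer (X : Set G) := by
      have := mul_mem (le_normalizer hx) hf.1
      rwa [mul_inv_cancel_left] at this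
    refine ⟨ha, QuotientGroup.mk ⟨x, hx⟩, ?_⟩
    have h1 := (act_eq_one_iff hf.1).mpr hf
    rw [act_mul (inv_mem (le_normalizer hx)) ha, act_inv (le_normalizer hx), inv_mul_eq_one,
      act_of_mem hx] at h1
    exact h1

end types

end Cfsg.Agent.UGT.I34.KAut
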