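import Cfsg.Agent.Intrinsic.TypeF
import Cfsg.Agent.Intrinsic.OddQuot

/-!
# 2-components of type `Λ` modulo the centre

`Lam Λ X` : `X / O(X)` modulo its centre is isomorphic to `Λ`. The property passes to diagonals (`lam_diag`), to
subgroups covering `X / O(X)` (`lam_of_sup`), and a 2-component of type `Λ` contained in a 2-component of type `Λ`
covers it modulo the core (`sup_of_lam`).
-/

set_option autoImplicit false

open Cfsg Subgroup
open Cfsg.Agent.SignalizersComponents
open Cfsg.Agent.SignalizersComponents.IntrinsicBasic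
open Cfsg.Agent.Intrinsic.Basic Cfsg.Agent.Intrinsic.Cen Cfsg.Agent.Intrinsic.Quot
open Cfsg.Agent.Intrinsic.Diag
open scoped commutatorElement

namespace Cfsg.Agent.UGT.I34

/-- `X / O(X)` -/
abbrev Bar {G : Type*} [Group G] (X : Subgroup G) := ↥X ⧸ oddCore ↥X

/-- `X / O(X)` modulo its centre is isomorphic to `Λ`. -/
def Lam (Λ : Type*) [Group Λ] {G : Type*} [Group G] (X : Subgroup G) : Prop :=
  Nonempty (Bar X ⧸ center (Bar X) ≃* Λ)

section algebra

/-- isomorphic groups have isomorphic central quotients -/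
theorem exists_quot_center_equiv {A B : Type*} [Group A] [Group B] (e : A ≃* B) :
    Nonempty (A ⧸ center A ≃* B ⧸ center B) := by
  refine ⟨QuotientGroup.congr _ _ e ?_⟩
  ext x
  rw [mem_center_iff]
  constructor
  · rintro ⟨z, hz, rfl⟩ g
    obtain ⟨y, rfl⟩ := e.surjective g
    have h2 : e y * e z = e z * e y := by
      rw [← map_mul, ← map_mul, mem_center_iff.mp hz y]
    exact h2
  · intro h
    obtain ⟨y, rfl⟩ := e.surjective x
    refine ⟨y, ?_, rfl⟩
    rw [SetLike.mem_coe, mem_center_iff]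
    intro g
    apply e.injective
    rw [map_mul, map_mul]
    exact h (e g)

/-- a surjection of quasisimple groups induces an isomorphism of the central quotients -/
theorem exists_quot_center_of_surjective {A B : Type*} [Group A] [Group B] [Finite A]
    (hA : IsQuasisimple A) (hB : IsQuasisimple B) (f : A →* B) (hf : Function.Surjective f) :
    Nonempty (A ⧸ center A ≃* B ⧸ center B) := by
  obtain ⟨g, hg⟩ : ∃ g : A →* B ⧸ center B, g = (QuotientGroup.mk' (center B)).comp f := ⟨_, rfl⟩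
  have hgs : Function.Surjective g := by
    rw [hg]; exact (QuotientGroup.mk'_surjective _).comp hf
  have hsB := hB.2
  have hsA := hA.2
  have hZ : center A ≤ g.ker := by
    intro z hz
    rw [MonoidHom.mem_ker, hg, MonoidHom.comp_apply, QuotientGroup.mk'_apply,
      QuotientGroup.eq_one_iff, mem_center_iff]
    intro b
    obtain ⟨a, rfl⟩ := hf b
    rw [← map_mul, ← map_mul, mem_center_iff.mp hz a]
  have hker : g.ker = center A := by
    apply le_antisymm _ hZ
    have hn : (g.ker.map (QuotientGroup.mk' (center A))).Normal :=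
      Subgroup.Normal.map inferInstance _ (QuotientGroup.mk'_surjective _)
    rcases hn.eq_bot_or_eq_top with h | h
    · rw [Subgroup.map_eq_bot_iff, QuotientGroup.ker_mk'] at h
      exact h
    · exfalso
      have h1 : g.ker = ⊤ := by
        have h2 := congrArg (Subgroup.comap (QuotientGroup.mk' (center A))) h
        rw [Subgroup.comap_map_eq, QuotientGroup.ker_mk', Subgroup.comap_top] at h2
        rwa [sup_eq_left.mpr hZ] at h2
      obtain ⟨x, hx⟩ := exists_ne (1 : B ⧸ center B)
      obtain ⟨a, rfl⟩ := hgs x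
      apply hx
      have : a ∈ g.ker := by rw [h1]; exact mem_top a
      exact this
  exact ⟨(QuotientGroup.quotientMulEquivOfEq hker.symm).trans
    (QuotientGroup.quotientKerEquivOfSurjective g hgs)⟩

end algebra

variable {Λ : Type*} [Group Λ] {G : Type*} [Group G]

theorem Lam.congr {X : Subgroup G} {H : Type*} [Group H] {Y : Subgroup H} (e : Bar X ≃* Bar Y)
    (h : Lam Λ X) : Lam Λ Y := by
  obtain ⟨i⟩ := h
  obtain ⟨j⟩ := exists_quot_center_equiv e
  exact ⟨j.symm.trans i⟩

theorem Lam.cj {X : Subgroup G} (h : Lam Λ X) (g : G) : Lam Λ (cj g X) := h.congr (cjQuot g X)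

variable [Finite G]

theorem lam_of_sup {J X : Subgroup G} (hs : J ⊔ core X = X) : Lam Λ J ↔ Lam Λ X := by
  obtain ⟨e, -⟩ := exists_quotEquiv hs
  exact ⟨fun h => h.congr e, fun h => h.congr e.symm⟩

theorem lam_cen {H X : Subgroup G} {v : G} (hX : IsComp H X) (hv : v ∈ H) (hvv : v * v = 1)
    (hf : Fixes v X) : Lam Λ (cen X v) ↔ Lam Λ X :=
  lam_of_sup (isComp_cen hX hv hvv hf).2

theorem lam_diag {H K : Subgroup G} {v : G} (hK : IsComp H K) (hvH : v ∈ H) (hv : v * v = 1)
    (hne : IntrinsicBasic.cj v K ≠ K) (h : Lam Λ K) : Lam Λ (diag H K v) := by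
  obtain ⟨hD, -, -, -, f, hf, -, -⟩ := exists_diag hK hvH hv hne
  obtain ⟨i⟩ := h
  obtain ⟨j⟩ := exists_quot_center_of_surjective (quasisimple_quot hK) (quasisimple_quot hD) f hf
  exact ⟨j.symm.trans i⟩

omit [Finite G] in
/-- the map to `Y / O(Y)` modulo the centre kills `a` iff `a` fixes `Y` -/
theorem mk_mem_center_iff {Y : Subgroup G} {a : G} (ha : a ∈ Y) :
    (QuotientGroup.mk ⟨a, ha⟩ : Bar Y) ∈ center (Bar Y) ↔ Fixes a Y := by
  rw [mem_center_iff, fixes_iff_conj]
  constructor
  · intro h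
    refine ⟨le_normalizer ha, fun y hy => ?_⟩
    have h1 := h (QuotientGroup.mk ⟨y, hy⟩)
    exact (mk_comm_iff hy ha).mp h1
  · rintro ⟨-, h⟩ x
    obtain ⟨⟨x, hx⟩, rfl⟩ := QuotientGroup.mk_surjective x
    exact (mk_comm_iff hx ha).mpr (h x hx)

/-- A 2-component `E ≤ Y` of type `Λ` covers the 2-component `Y` of type `Λ` modulo the core. -/
theorem sup_of_lam {H H' E Y : Subgroup G} (hE : IsComp H E) (hY : IsComp H' Y) (hEL : Lam Λ E)
    (hYL : Lam Λ Y) (hle : E ≤ Y) : E ⊔ core Y = Y := by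
  have hp2 : Fact (Nat.Prime 2) := ⟨Nat.prime_two⟩
  obtain ⟨eE⟩ := hEL
  obtain ⟨eY⟩ := hYL
  let f : ↥E →* Bar Y := (QuotientGroup.mk' (oddCore ↥Y)).comp (inclusion hle)
  let f' : ↥E →* (Bar Y ⧸ center (Bar Y)) := (QuotientGroup.mk' (center (Bar Y))).comp f
  let g : ↥E →* (Bar E ⧸ center (Bar E)) :=
    (QuotientGroup.mk' (center (Bar E))).comp (QuotientGroup.mk' (oddCore ↥E))
  have hg : Function.Surjective g :=
    (QuotientGroup.mk'_surjective _).comp (QuotientGroup.mk'_surjective _)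
  have hqE := quasisimple_quot hE
  have hqY := quasisimple_quot hY
  have hsE := hqE.2
  have hEperf : ⁅(⊤ : Subgroup ↥E), (⊤ : Subgroup ↥E)⁆ = ⊤ := by
    apply Subgroup.map_injective E.subtype_injective
    rw [Subgroup.map_commutator, ← MonoidHom.range_eq_map, Subgroup.range_subtype]
    exact hE.perfect
  have hn : (f'.ker.map g).Normal := Subgroup.Normal.map inferInstance _ hg
  have hf's : Function.Surjective f' := by
    rcases hn.eq_bot_or_eq_top with h | h
    · -- `ker f' ≤ ker g`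
      rw [Subgroup.map_eq_bot_iff] at h
      have h1 : Nat.card (Bar E ⧸ center (Bar E)) = g.ker.index := by
        rw [Subgroup.index_ker, MonoidHom.range_eq_top.mpr hg]
        exact (Nat.card_congr Subgroup.topEquiv.toEquiv).symm
      have h2 : g.ker.index ∣ f'.ker.index := Subgroup.index_dvd_of_le h
      rw [Subgroup.index_ker f'] at h2
      have h3 : Nat.card (Bar Y ⧸ center (Bar Y)) ≤ Nat.card f'.range := by
        rw [Nat.card_congr eY.toEquiv, ← Nat.card_congr eE.toEquiv, h1]
        exact Nat.le_of_dvd Nat.card_pos h2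
      exact MonoidHom.range_eq_top.mp (Subgroup.eq_top_of_le_card _ h3)
    · -- `ker f'` is everything
      exfalso
      have h1 : f'.ker ⊔ g.ker = ⊤ := by
        have h2 := congrArg (Subgroup.comap g) h
        rwa [Subgroup.comap_map_eq, Subgroup.comap_top] at h2
      have hgk : ∀ x ∈ g.ker, (QuotientGroup.mk' (oddCore ↥E)) x ∈ center (Bar E) := by
        intro x hx
        exact (QuotientGroup.eq_one_iff _).mp hx
      have h2 : ⁅(⊤ : Subgroup ↥E), (⊤ : Subgroup ↥E)⁆ ≤ f'.ker ⊔ oddCore ↥E := by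
        have hM : (f'.ker ⊔ oddCore ↥E).Normal := inferInstance
        rw [commutator_le]
        intro a _ b _
        have ha : a ∈ ((f'.ker ⊔ g.ker : Subgroup ↥E) : Set ↥E) := by rw [h1]; trivial
        have hb : b ∈ ((f'.ker ⊔ g.ker : Subgroup ↥E) : Set ↥E) := by rw [h1]; trivial
        rw [Subgroup.normal_mul] at ha hb
        obtain ⟨a1, ha1, a2, ha2, rfl⟩ := ha
        obtain ⟨b1, hb1, b2, hb2, rfl⟩ := hb
        -- work in the quotient by `M`
        rw [← QuotientGroup.eq_one_iff (N := f'.ker ⊔ oddCore ↥E)]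
        have e1 : (QuotientGroup.mk' (f'.ker ⊔ oddCore ↥E)) a1 = 1 :=
          (QuotientGroup.eq_one_iff _).mpr (mem_sup_left ha1)
        have e2 : (QuotientGroup.mk' (f'.ker ⊔ oddCore ↥E)) b1 = 1 :=
          (QuotientGroup.eq_one_iff _).mpr (mem_sup_left hb1)
        have e3 : (QuotientGroup.mk' (f'.ker ⊔ oddCore ↥E)) ⁅a2, b2⁆ = 1 := by
          apply (QuotientGroup.eq_one_iff _).mpr
          apply mem_sup_right
          rw [← QuotientGroup.eq_one_iff]
          change (QuotientGroup.mk' (oddCore ↥E)) ⁅a2, b2⁆ = 1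
          rw [map_commutatorElement, commutatorElement_eq_one_iff_mul_comm]
          exact (mem_center_iff.mp (hgk a2 ha2) _).symm
        change (QuotientGroup.mk' (f'.ker ⊔ oddCore ↥E)) ⁅a1 * a2, b1 * b2⁆ = 1
        rw [map_commutatorElement] at e3 ⊢
        rw [map_mul, map_mul, e1, e2, one_mul, one_mul, e3]
      rw [hEperf, top_le_iff] at h2
      -- 2-elements of `E` lie in `ker f'`
      have h3 : ∀ k ∈ E, ∀ n : ℕ, k ^ 2 ^ n = 1 → k ∈ f'.ker.map E.subtype := by
        intro k hk n hkn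
        refine ⟨⟨k, hk⟩, ?_, rfl⟩
        have h4 : (⟨k, hk⟩ : ↥E) ∈ ((f'.ker ⊔ oddCore ↥E : Subgroup ↥E) : Set ↥E) := by
          rw [h2]; trivial
        rw [Subgroup.normal_mul] at h4
        obtain ⟨a, ha, o, ho, hao⟩ := h4
        have h5 : (QuotientGroup.mk' f'.ker) ⟨k, hk⟩ = (QuotientGroup.mk' f'.ker) o := by
          rw [← hao]
          change (QuotientGroup.mk' f'.ker) (a * o) = _
          have h6 : (QuotientGroup.mk' f'.ker) a = 1 := (QuotientGroup.eq_one_iff a).mpr ha
          rw [map_mul, h6, one_mul]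
        have h6 : ((QuotientGroup.mk' f'.ker) ⟨k, hk⟩) ^ 2 ^ n = 1 := by
          rw [← map_pow, ← map_one (QuotientGroup.mk' f'.ker)]
          congr 1
          exact Subtype.ext hkn
        have h7 : Odd (orderOf ((QuotientGroup.mk' f'.ker) o)) := by
          refine Odd.of_dvd_nat ?_ (orderOf_map_dvd _ o)
          have h8 : Odd (Nat.card (oddCore ↥E)) := by
            have := odd_card_core E
            rwa [core, card_map_of_injective E.subtype_injective] at this
          exact Odd.of_dvd_nat h8 (Subgroup.orderOf_dvd_natCard _ ho)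
        rw [← h5] at h7
        have h8 : orderOf ((QuotientGroup.mk' f'.ker) ⟨k, hk⟩) = 1 := by
          have h9 := orderOf_dvd_of_pow_eq_one h6
          exact Nat.eq_one_of_dvd_coprimes (Nat.Coprime.pow_left n h7.coprime_two_left) h9 dvd_rfl
        exact (QuotientGroup.eq_one_iff _).mp (orderOf_eq_one_iff.mp h8)
      have h4 := hE.le_of_two h3
      -- so `E` acts trivially on `Y`
      have h5 : ∀ k ∈ E, Fixes k Y := by
        intro k hk
        obtain ⟨⟨y, hy⟩, hy1, hy2⟩ := h4 hk
        have : y = k := hy2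
        subst this
        rw [← mk_mem_center_iff (hle hk)]
        exact (QuotientGroup.eq_one_iff _).mp hy1
      have h6 : ⁅E, E⁆ ≤ core Y := by
        rw [commutator_le]
        intro a ha b hb
        exact (h5 a ha).2 b (hle hb)
      rw [hE.perfect] at h6
      exact hE.not_odd (odd_card_core Y) h6
  -- `f` is surjective
  have hfs : f.range = ⊤ := by
    have hperf : ⁅(⊤ : Subgroup (Bar Y)), (⊤ : Subgroup (Bar Y))⁆ = ⊤ := by
      have := hqY.1.1
      rwa [_root_.commutator_def] at this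
    have h1 : ∀ y : Bar Y, ∃ a : ↥E, ∃ z ∈ center (Bar Y), y = f a * z := by
      intro y
      obtain ⟨a, ha⟩ := hf's (QuotientGroup.mk y)
      have h2 : (QuotientGroup.mk (f a) : Bar Y ⧸ center (Bar Y)) = QuotientGroup.mk y := ha
      exact ⟨a, (f a)⁻¹ * y, QuotientGroup.eq.mp h2, by group⟩
    rw [eq_top_iff, ← hperf, commutator_le]
    intro x _ y _
    obtain ⟨a, z, hz, rfl⟩ := h1 x
    obtain ⟨b, w, hw, rfl⟩ := h1 y
    refine ⟨⁅a, b⁆, ?_⟩
    rw [map_commutatorElement]
    have c1 := mem_center_iff.mp hz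
    have c2 := mem_center_iff.mp hw
    rw [commutatorElement_def, commutatorElement_def, mul_inv_rev, mul_inv_rev]
    calc f a * f b * (f a)⁻¹ * (f b)⁻¹ = f a * (f b * (f a)⁻¹) * (f b)⁻¹ * (z * z⁻¹) * (w * w⁻¹) := by
          group
      _ = f a * z * (f b * w) * (z⁻¹ * (f a)⁻¹) * (w⁻¹ * (f b)⁻¹) := by
          have d1 : f b * z = z * f b := c1 (f b)
          have d2 : (f a)⁻¹ * z = z * (f a)⁻¹ := c1 _
          have d3 : (f a)⁻¹ * w = w * (f a)⁻¹ := c2 _
          have d4 : (f b)⁻¹ * w = w * (f b)⁻¹ := c2 _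
          have d5 : z⁻¹ * w = w * z⁻¹ := c2 _
          have d6 : (f b)⁻¹ * z = z * (f b)⁻¹ := c1 _
          have d7 : (f a)⁻¹ * z⁻¹ = z⁻¹ * (f a)⁻¹ := by
            have : z⁻¹ ∈ center (Bar Y) := inv_mem hz
            exact mem_center_iff.mp this _
          have d8 : (f b)⁻¹ * w⁻¹ = w⁻¹ * (f b)⁻¹ := by
            have : w⁻¹ ∈ center (Bar Y) := inv_mem hw
            exact mem_center_iff.mp this _
          rw [← d7, ← d8]
          have e1 : f a * z * (f b * w) * ((f a)⁻¹ * z⁻¹) * ((f b)⁻¹ * w⁻¹) =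
              f a * (z * f b) * w * (f a)⁻¹ * z⁻¹ * ((f b)⁻¹ * w⁻¹) := by group
          rw [e1, ← d1]
          have e2 : f a * (f b * z) * w * (f a)⁻¹ * z⁻¹ * ((f b)⁻¹ * w⁻¹) =
              f a * f b * z * (w * (f a)⁻¹) * z⁻¹ * ((f b)⁻¹ * w⁻¹) := by group
          rw [e2, ← d3]
          have e3 : f a * f b * z * ((f a)⁻¹ * w) * z⁻¹ * ((f b)⁻¹ * w⁻¹) =
              f a * f b * (z * (f a)⁻¹) * (w * z⁻¹) * ((f b)⁻¹ * w⁻¹) := by group
          rw [e3, ← d2, ← d5]
          have e4 : f a * f b * ((f a)⁻¹ * z) * (z⁻¹ * w) * ((f b)⁻¹ * w⁻¹) =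
              f a * f b * (f a)⁻¹ * (w * (f b)⁻¹) * w⁻¹ := by group
          rw [e4, ← d4]
          group
  exact sup_of_exists hle fun y hy => by
    have h1 : (QuotientGroup.mk ⟨y, hy⟩ : Bar Y) ∈ f.range := by rw [hfs]; exact mem_top _
    obtain ⟨j, hj⟩ := h1
    exact ⟨j, j.2, mk_eq_mk_iff.mp hj⟩

end Cfsg.Agent.UGT.I34
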