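import Cfsg.Agent.UGT.I34.Pair
import Cfsg.Agent.UGT.I34.KF
import Cfsg.Agent.UGT.I34.KAut
import Cfsg.Agent.UGT.I34.Lam

/-!
# THEOREM I34, part [C]: `X / O(X)` of type `2².L₃(4)`; the common definitions

* `Can t`: `t` is a canonical noncentral involution of `K` (a noncentral involution which is not a square);
* `TypeC`, `TypeF`, `TypeG`: types of outer involutory automorphisms of `K`;
* `HeT κ`: the facts on the exceptional configurations (`He`, `z` of class 2A, `C(z)^∞`);
* `Klein κ`: the centre of `X / O(X)` is a four-group, facts on canonical involutions; `KTypes κ`: the outer types;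
* `Sett κ G`: the induction setting;
* `Sett.vess`: if `(v, Y)` is a pair and `w ∈ Y` is an involution central modulo `O(Y)` then `(w, M)` is a pair, `M`
  the pump-up of `cen Y w`.
-/

set_option autoImplicit false

open Cfsg Subgroup
open Cfsg.Agent.SignalizersComponents Cfsg.Agent.Lib
open Cfsg.Agent.SignalizersComponents.IntrinsicBasic
open Cfsg.Agent.SignalizersComponents.PLayerAut
open Cfsg.Agent.Intrinsic.Basic hiding IsPair PQS Target IsPair.sq IsPair.ne_one IsPair.cj
open Cfsg.Agent.Intrinsic.Cen hiding pair_comm pair_mem_cen exists_pump pump_unique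
open Cfsg.Agent.Intrinsic.Quot hiding Big isPair_quot small_or_big
open Cfsg.Agent.McLLyComp.Act hiding mk_eq_one_iff
open Cfsg.Agent.UGT.I34.Pair Cfsg.Agent.UGT.I34.KAut
open Cfsg.Agent.UGT.I34.KF (NInv)
open scoped commutatorElement

namespace Cfsg.Agent.UGT.I34.Four

universe u

section defs

variable {K : Type*} [Group K]

/-- canonical noncentral involutions: those which are not squares -/
def Can (t : K) : Prop := NInv t ∧ ∀ y : K, y * y ≠ t

/-- type `c` -/
structure TypeC (φ : MulAut K) : Prop where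
  sq : φ * φ = 1
  out : φ ∉ Inn K
  center : ∀ z ∈ center K, φ z = z
  shift : ∀ z ∈ Subgroup.center K, ∃ h, φ h = h * z
  inv : ∃ w, NInv w ∧ φ w = w ∧ ∃ h, φ h = h * w

/-- type `f` -/
structure TypeF (φ : MulAut K) (J : Subgroup K) : Prop where
  sq : φ * φ = 1
  out : φ ∉ Inn K
  center : ∃ z ∈ center K, φ z ≠ z
  shift : ∀ z ∈ Subgroup.center K, φ z = z → ∃ h, φ h = h * z
  le : J ≤ fixed φ
  comp : IsComponent (J.subgroupOf (fixed φ))
  even : 2 ∣ Nat.card J
  core : oddCore ↥J = ⊥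
  noncan : ∀ w ∈ J, w * w = 1 → w ≠ 1 → NInv w ∧ ¬ Can w
  inv : ∃ w ∈ J, w * w = 1 ∧ w ≠ 1 ∧ ∃ h, φ h = h * w
  cent : ∀ A : Subgroup (MulAut K), A ≤ Inn K → ⁅A, A⁆ = A → (∀ a ∈ A, a * φ = φ * a) →
    (∀ a ∈ A, ∀ j ∈ J, a j = j) → A = ⊥

/-- type `g` -/
structure TypeG (φ : MulAut K) (J : Subgroup K) : Prop where
  sq : φ * φ = 1
  out : φ ∉ Inn K
  center : ∃ z ∈ center K, φ z ≠ z
  shift : ∀ z ∈ Subgroup.center K, φ z = z → ∃ h, φ h = h * z
  le : J ≤ fixed φ
  comp : IsComponent (J.subgroupOf (fixed φ))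
  even : 2 ∣ Nat.card J
  core : oddCore ↥J = ⊥
  can : ∀ w ∈ J, w * w = 1 → w ≠ 1 → Can w
  inv : ∃ w ∈ J, w * w = 1 ∧ w ≠ 1 ∧ ∃ h, φ h = h * w
  cent : ∀ A : Subgroup (MulAut K), A ≤ Inn K → ⁅A, A⁆ = A → (∀ a ∈ A, a * φ = φ * a) →
    (∀ a ∈ A, ∀ j ∈ J, a j = j) → A = ⊥

theorem NInv.map {L : Type*} [Group L] (e : K ≃* L) {t : K} (h : NInv t) : NInv (e t) := by
  refine ⟨by rw [← map_mul, h.1, map_one], fun hc => h.2 ?_⟩
  rw [mem_center_iff] at hc ⊢
  intro g
  apply e.injective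
  rw [map_mul, map_mul]
  exact hc (e g)

theorem Can.map {L : Type*} [Group L] (e : K ≃* L) {t : K} (h : Can t) : Can (e t) := by
  refine ⟨NInv.map e h.1, fun y hy => h.2 (e.symm y) ?_⟩
  rw [← map_mul, hy, e.symm_apply_apply]

/-- automorphisms preserve the canonical involutions -/
theorem Can.aut {t : K} (h : Can t) (φ : MulAut K) : Can (φ t) := h.map φ

theorem Can.map_iff {L : Type*} [Group L] (e : K ≃* L) {t : K} : Can (e t) ↔ Can t := by
  refine ⟨fun h => ?_, Can.map e⟩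
  have := h.map e.symm
  rwa [e.symm_apply_apply] at this

end defs

/-- `u` is the involution of a pair of kind `κ` -/
def D (κ : Kind.{u}) {G : Type u} [Group G] (u : G) : Prop := ∃ X, IsPair κ u X

/-- The facts on the exceptional configurations `(He, z, C(z)^∞)`. -/
structure HeT (κ : Kind.{u}) : Prop where
  center : ∀ {Y : Type u} [Group Y] [Finite Y] {z : Y} {L : Subgroup Y}, κ.T Y z L → IsPair κ z L →
    center Y = ⊥
  core : ∀ {Y : Type u} [Group Y] [Finite Y] {z : Y} {L : Subgroup Y}, κ.T Y z L → IsPair κ z L →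
    oddCore ↥L = ⊥
  cent : ∀ {Y : Type u} [Group Y] [Finite Y] {z : Y} {L : Subgroup Y}, κ.T Y z L → IsPair κ z L →
    centralizer (L : Set Y) ≤ L
  one : ∀ {Y : Type u} [Group Y] [Finite Y] {z : Y} {L L' : Subgroup Y}, κ.T Y z L → IsPair κ z L →
    IsComp (centralizer ({z} : Set Y)) L' → L' = L
  can : ∀ {Y : Type u} [Group Y] [Finite Y] {z : Y} {L : Subgroup Y}, κ.T Y z L → IsPair κ z L →
    ∀ (t : Y) (ht : t ∈ L), Can (QuotientGroup.mk ⟨t, ht⟩ : ↥L ⧸ oddCore ↥L) →
      ∃ g, g * z * g⁻¹ = t ∧ z ∈ cj g L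

/-- The first facts on `K = 2².L₃(4)`. -/
structure Klein (κ : Kind.{u}) : Prop where
  card : ∀ {K : Type u} [Group K] [Finite K], κ.P K → Nat.card (center K) = 4
  sq : ∀ {K : Type u} [Group K] [Finite K], κ.P K → ∀ c ∈ center K, c * c = 1
  exCan : ∀ {K : Type u} [Group K] [Finite K], κ.P K → ∃ t : K, Can t
  canU : ∀ {K : Type u} [Group K] [Finite K], κ.P K → ∀ t c : K, Can t → c ∈ center K → Can (t * c) → c = 1
  exC : ∀ {K : Type u} [Group K] [Finite K], κ.P K → ∀ t : K, NInv t → ∃ c ∈ center K, Can (t * c)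

/-- The types of the outer involutory automorphisms. -/
structure KTypes (κ : Kind.{u}) : Prop where
  out : ∀ {K : Type u} [Group K] [Finite K], κ.P K → ∀ φ : MulAut K, φ * φ = 1 → φ ∉ Inn K →
    TypeC φ ∨ (∃ J, TypeF φ J) ∨ ∃ J, TypeG φ J

/-- The setting. -/
structure Sett (κ : Kind.{u}) (G : Type u) [Group G] : Prop where
  ih : PQS κ (Nat.card G)
  cent : ∀ x : G, orderOf x = 2 → centralizer ({x} : Set G) ≠ ⊤
  he : HeT κ
  kl : Klein κ

section basic

variable {κ : Kind.{u}} {G : Type u} [Group G] {v w : G} {X Y : Subgroup G}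

theorem order_two {x : G} (hx2 : x * x = 1) (hx1 : x ≠ 1) : orderOf x = 2 :=
  orderOf_eq_prime (by rw [pow_two]; exact hx2) hx1

theorem pair_fixes (h : IsPair κ v Y) : Fixes v Y := by
  rw [fixes_iff_conj]
  refine ⟨le_normalizer h.mem, fun y hy => ?_⟩
  rw [← pair_comm h hy, mul_inv_cancel_right, inv_mul_cancel]
  exact one_mem _

theorem fixes_of_comm_all {x : G} (hY : ∀ y ∈ Y, x * y = y * x) : Fixes x Y := by
  have hx : x ∈ normalizer (Y : Set G) := by
    rw [mem_normalizer_iff]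
    intro y
    constructor
    · intro hy
      rwa [hY y hy, mul_inv_cancel_right]
    · intro hy
      have h1 := hY _ hy
      have h2 : x * y * x⁻¹ = y := by
        have : x * (x * y * x⁻¹) = x * y := by rw [h1]; group
        exact mul_left_cancel this
      rwa [h2] at hy
  rw [fixes_iff_conj]
  refine ⟨hx, fun y hy => ?_⟩
  rw [hY y hy, mul_inv_cancel_right, inv_mul_cancel]
  exact one_mem _

/-- the elements of a subgroup `Y ≤ C(x)` are fixed by `x` -/
theorem fixes_of_le_cent {x : G} (hY : Y ≤ centralizer ({x} : Set G)) : Fixes x Y :=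
  fixes_of_comm_all fun _ hy => (mem_centralizer_singleton_iff.mp (hY hy)).symm

variable [Finite G]

theorem card_lt_of_le_cent {x : G} (hx : centralizer ({x} : Set G) ≠ ⊤) {R : Subgroup G}
    (hR : R ≤ centralizer ({x} : Set G)) : Nat.card R < Nat.card G := by
  have h1 : R ≠ ⊤ := by
    intro h
    apply hx
    rw [eq_top_iff, ← h]
    exact hR
  rcases (Subgroup.card_le_card_group R).lt_or_eq with h | h
  · exact h
  · exact absurd (Subgroup.eq_top_of_card_eq R h) h1

/-- an element fixing `M` and normalizing `J ≤ M` fixes `J` -/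
theorem fixes_of_le {J M : Subgroup G} (hJM : J ≤ M) {a : G} (ha : a ∈ normalizer (J : Set G))
    (haf : Fixes a M) : Fixes a J := by
  rw [fixes_iff_conj] at haf ⊢
  have h0 : J ⊓ core M ≤ core J := by
    refine le_core inf_le_left ?_ (Odd.of_dvd_nat (odd_card_core M) (card_dvd_of_le inf_le_right))
    intro j hj
    rw [mem_normalizer_iff_cj, cj_inf, cj_eq_self_of_mem hj,
      mem_normalizer_iff_cj.mp (le_normalizer_core M (hJM hj))]
  refine ⟨ha, fun y hy => h0 ⟨?_, haf.2 y (hJM hy)⟩⟩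
  exact J.mul_mem (J.inv_mem hy) ((mem_normalizer_iff.mp ha y).mp hy)

end basic

namespace Sett

variable {κ : Kind.{u}} {G : Type u} [Group G] [Finite G] (S : Sett κ G) {u v w : G}
  {X Y J M : Subgroup G}

include S

/-- small or big for a 2-component of `C(x)` -/
theorem small_or_big {x : G} (hx : x * x = 1) (hx1 : x ≠ 1) (hu : orderOf u = 2) (huJ : u ∈ J)
    (hJ : IsComp (centralizer ({x} : Set G) ⊓ centralizer ({u} : Set G)) J)
    (hk : κ.P (↥J ⧸ oddCore ↥J)) (hM : IsComp (centralizer ({x} : Set G)) M) (hJM : J ≤ M) :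
    Small J M ∨ Big κ u J M :=
  Pair.small_or_big S.ih hu huJ hJ hk hM hJM
    (card_lt_of_le_cent (S.cent x (Four.order_two hx hx1)) hM.le)

omit S in
/-- the configuration of `Big` is a pair -/
theorem big_pair {H : Subgroup G} (hb : Big κ u J M) (hu : orderOf u = 2) (huJ : u ∈ J)
    (hJ : IsComp (H ⊓ centralizer ({u} : Set G)) J) (hk : κ.P (↥J ⧸ oddCore ↥J)) (hM : IsComp H M)
    (hJM : J ≤ M) : ∃ huM : u ∈ M, κ.T (↥M ⧸ oddCore ↥M) (QuotientGroup.mk ⟨u, huM⟩) (qs M J) ∧
      IsPair κ (QuotientGroup.mk ⟨u, huM⟩ : ↥M ⧸ oddCore ↥M) (qs M J) := by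
  obtain ⟨huM, hT⟩ := hb
  refine ⟨huM, hT, isPair_quot ?_ ?_ huJ huM (isComp_inf hJ hM hJM) hk⟩
  · rw [← pow_two, ← hu, pow_orderOf_eq_one]
  · rintro rfl; simp at hu

/-- a big 2-component has no central involution modulo its core -/
theorem big_not_fixes {H : Subgroup G} (hb : Big κ u J M) (hu : orderOf u = 2) (huJ : u ∈ J)
    (hJ : IsComp (H ⊓ centralizer ({u} : Set G)) J) (hk : κ.P (↥J ⧸ oddCore ↥J)) (hM : IsComp H M)
    (hJM : J ≤ M) {a : G} (ha : a ∈ M) (haa : a * a = 1) (ha1 : a ≠ 1) : ¬ Fixes a M := by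
  intro hf
  obtain ⟨huM, hT, hp⟩ := big_pair hb hu huJ hJ hk hM hJM
  have h1 : (QuotientGroup.mk ⟨a, ha⟩ : ↥M ⧸ oddCore ↥M) ∈ center (↥M ⧸ oddCore ↥M) :=
    (mk_mem_center_iff ha).mpr hf
  rw [S.he.center hT hp, mem_bot, Cfsg.Agent.Intrinsic.Quot.mk_eq_one_iff] at h1
  exact ha1 (eq_one_of_mem_core_sq h1 haa)

/-- The pump-up of a pair at an involution `w ∈ Y` central modulo `O(Y)`. -/
theorem vess (h : IsPair κ v Y) (hw : w ∈ Y) (hww : w * w = 1) (hw1 : w ≠ 1) (hf : Fixes w Y) :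
    ∃ M, IsPair κ w M ∧ v ∈ M ∧ cen Y w ≤ M ∧ cen Y w ⊔ core M = M ∧ cen Y w ⊔ core Y = Y ∧
      ∀ a : G, a * w = w * a → a ∈ normalizer (Y : Set G) → (Fixes a M ↔ Fixes a Y) := by
  have hwv : w * v = v * w := pair_comm h hw
  have hwC : w ∈ centralizer ({v} : Set G) := mem_centralizer_singleton_iff.mpr hwv
  obtain ⟨M, hM, hle, hvM⟩ := exists_pump h hww hwv hf
  obtain ⟨hJ, hs⟩ := isComp_cen h.comp hwC hww hf
  have hJ' : IsComp (centralizer ({w} : Set G) ⊓ centralizer ({v} : Set G)) (cen Y w) := by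
    rw [inf_comm]; exact hJ
  have hk := (kind_cen (κ := κ) h.comp hwC hww hf).mpr h.kind
  have hwJ : w ∈ cen Y w := mem_cen_of_sq hw rfl hww
  have hwM : w ∈ M := hle hwJ
  have hsmall : Small (cen Y w) M := by
    rcases S.small_or_big hww hw1 h.inv (pair_mem_cen h hwv) hJ' hk hM hle with h1 | h1
    · exact h1
    · exact absurd (fixes_of_le_cent hM.le)
        (S.big_not_fixes h1 h.inv (pair_mem_cen h hwv) hJ' hk hM hle hwM hww hw1)
  refine ⟨M, IsPair.of_small (Four.order_two hww hw1) hsmall hk hM hwM, hvM, hle, hsmall, hs,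
    fun a haw haY => ?_⟩
  have haJ : a ∈ normalizer (cen Y w : Set G) := mem_normalizer_cen haY haw
  have haM : a ∈ normalizer (M : Set G) := by
    rw [mem_normalizer_iff_cj] at haJ ⊢
    have haC : a ∈ centralizer ({w} : Set G) := mem_centralizer_singleton_iff.mpr haw
    have h2 : IsComp (centralizer ({w} : Set G)) (cj a M) := by
      have := hM.cj a
      rwa [cj_eq_self_of_mem haC] at this
    refine hJ.unique h2 hM ?_ hle
    rw [← haJ]
    exact cj_mono hle
  rw [← fixes_iff_of_sup hsmall haJ haM, fixes_iff_of_sup hs haJ haY]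

end Sett

end Cfsg.Agent.UGT.I34.Four
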