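import Cfsg.Agent.Intrinsic.WZero
import Cfsg.Agent.Intrinsic.RedBasic
import Cfsg.Agent.TwoFusion.CentResidualBasic

/-!
# World `W0` of Theorem I34 (all commuting pairs of type (0)), arbitrary centre

`P u X` : `(u, X)` is a pair of the given kind (`u` an involution, `X` a 2-component of `C(u)`, `u ∈ X`).
`World P`: for commuting `u`, `v` with `P u X`, `P v Y`, the element `v` fixes `X`, and the pump-ups of pairs are
small. `World.strongly`: the subgroup generated by the `u ∈ T` with `∃ X, P u X` is strongly closed in the Sylow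
group `T`. `World.false_of`: impossible in a simple group (by S1173).
-/

set_option autoImplicit false

open Cfsg Subgroup
open Cfsg.Agent.SignalizersComponents
open Cfsg.Agent.SignalizersComponents.IntrinsicBasic
open Cfsg.Agent.TwoFusion
open Cfsg.Agent.Intrinsic Cfsg.Agent.Intrinsic.Basic Cfsg.Agent.Intrinsic.Cen
open Cfsg.Agent.Intrinsic.WZero (fixes_mul fixes_of_comm fixes_one fixes_inv fixSub mem_cent inv_eq
  le_centralizer_singleton Good)
open scoped commutatorElement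

namespace Cfsg.Agent.UGT.I34.Zero

variable {G : Type*} [Group G]

/-- `u` is the involution of a pair -/
def InD (P : G → Subgroup G → Prop) (u : G) : Prop := ∃ X, P u X

/-- World `W0`. -/
structure World (P : G → Subgroup G → Prop) : Prop where
  ex : ∃ u, InD P u
  inv : ∀ u X, P u X → u * u = 1
  ne : ∀ u X, P u X → u ≠ 1
  mem : ∀ u X, P u X → u ∈ X
  comp : ∀ u X, P u X → IsComp (centralizer ({u} : Set G)) X
  conj : ∀ u X g, P u X → P (g * u * g⁻¹) (cj g X)
  type0 : ∀ u X v Y, P u X → P v Y → v * u = u * v → Fixes v X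
  pump : ∀ u X x, P u X → x * x = 1 → x ≠ 1 → x * u = u * x → Fixes x X →
    ∃ M, IsComp (centralizer ({x} : Set G)) M ∧ cen X x ≤ M ∧ u ∈ M ∧ Fixes u M ∧
      (x ∈ M → P x M) ∧ ∀ a ∈ M, a * a = 1 → a ≠ 1 → Fixes a M → InD P a

namespace World

variable {P : G → Subgroup G → Prop} (W : World P)
include W

theorem sq {u : G} (h : InD P u) : u * u = 1 := by
  obtain ⟨X, hX⟩ := h
  exact W.inv u X hX

theorem ne_one {u : G} (h : InD P u) : u ≠ 1 := by
  obtain ⟨X, hX⟩ := h
  exact W.ne u X hX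

theorem conjD {u : G} (h : InD P u) (x : G) : InD P (x * u * x⁻¹) := by
  obtain ⟨X, hX⟩ := h
  exact ⟨_, W.conj u X x hX⟩

theorem fixes_self {u : G} {X : Subgroup G} (h : P u X) : Fixes u X :=
  fixes_of_comm fun _ hy => (mem_centralizer_singleton_iff.mp ((W.comp u X h).le hy)).symm

theorem type0' {u v : G} {X : Subgroup G} (h : P u X) (hv : InD P v) (hc : v * u = u * v) :
    Fixes v X := by
  obtain ⟨Y, hY⟩ := hv
  exact W.type0 u X v Y h hY hc

variable [Finite G]

/-- the pump-up fixes every 2-component -/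
theorem exists_good {u x : G} {X : Subgroup G} (hX : P u X) (hx : x * x = 1) (hx1 : x ≠ 1)
    (hxu : x * u = u * x) (hf : Fixes x X) :
    ∃ M, IsComp (centralizer ({x} : Set G)) M ∧ cen X x ≤ M ∧ u ∈ M ∧ Fixes u M ∧
      (∀ E, IsComp (centralizer ({x} : Set G)) E → Fixes u E) ∧
      (x ∈ M → P x M) ∧ ∀ a ∈ M, a * a = 1 → a ≠ 1 → Fixes a M → InD P a := by
  obtain ⟨M, hM, hcM, huM, hfM, h1, h2⟩ := W.pump u X x hX hx hx1 hxu hf
  refine ⟨M, hM, hcM, huM, hfM, fun E hE => ?_, h1, h2⟩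
  by_cases h : E = M
  · rw [h]; exact hfM
  · exact hE.fixes_of_mem hM h huM

theorem comm_four {u v : G} (hu : InD P u) (hv : InD P v) (h4 : (u * v) ^ 4 = 1) :
    u * v = v * u := by
  have huu := W.sq hu
  have hvv := W.sq hv
  have hui := inv_eq huu
  have hvi := inv_eq hvv
  by_contra hne
  obtain ⟨b, hb⟩ : ∃ b, b = u * (v * u * v⁻¹) := ⟨_, rfl⟩
  have hb' : b = u * v * (u * v) := by rw [hb, hvi]; group
  have hb2 : b * b = 1 := by
    rw [hb', ← h4]; simp only [pow_succ, pow_zero, one_mul, mul_assoc]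
  have hb1 : b ≠ 1 := by
    intro h
    apply hne
    have h1 : u * v * (u * v) = 1 := by rw [← hb', h]
    have h2 : u * v = (u * v)⁻¹ := eq_inv_of_mul_eq_one_left h1
    rw [h2, mul_inv_rev, hui, hvi]
  have hbi := inv_eq hb2
  have hcomm : u * (v * u * v⁻¹) = (v * u * v⁻¹) * u := by
    rw [← hb]
    have : (v * u * v⁻¹) * u = b⁻¹ := by
      rw [hb, mul_inv_rev, mul_inv_rev, mul_inv_rev, inv_inv, hui]; group
    rw [this, hbi]
  have hbu : b * u = u * b := by
    rw [hb, mul_assoc, ← hcomm]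
  have hbv : b * v = v * b := by
    have h1 : v * b * v⁻¹ = b := by
      have : v * b * v⁻¹ = b⁻¹ := by
        rw [hb', mul_inv_rev, mul_inv_rev, hui, hvi]
        calc v * (u * v * (u * v)) * v = v * u * (v * u) * (v * v) := by group
          _ = _ := by rw [hvv, mul_one]
      rw [this, hbi]
    calc b * v = (v * b * v⁻¹) * v := by rw [h1]
      _ = v * b := by group
  have hcD : InD P (v * u * v⁻¹) := W.conjD hu v
  obtain ⟨X, hX⟩ := id hu
  obtain ⟨Y, hY⟩ := id hv
  have hfX : Fixes b X := by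
    rw [hb]
    exact fixes_mul (W.fixes_self hX) (W.type0' hX hcD hcomm.symm)
  have hfY : Fixes b Y := by
    have h1 : b = (u * v * u⁻¹) * v := by rw [hb', hui]; group
    rw [h1]
    refine fixes_mul (W.type0' hY (W.conjD hv u) ?_) (W.fixes_self hY)
    rw [← h1]
    have h2 : v * (u * v * u⁻¹) = v * b * v⁻¹ := by rw [h1]; group
    rw [h2, ← hbv]; group
  obtain ⟨M, hM, -, huM, hfM, -, hxM, -⟩ := W.exists_good hX hb2 hb1 hbu hfX
  obtain ⟨N, hN, -, hvN, -, -, -⟩ := W.exists_good hY hb2 hb1 hbv hfY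
  have hvM : v ∈ normalizer (M : Set G) := hM.L2_le_normalizer (hN.le_L2 hvN)
  have hu'M : v * u * v⁻¹ ∈ M := (mem_normalizer_iff.mp hvM u).mp huM
  have hbM : b ∈ M := hb ▸ mul_mem huM hu'M
  have hfv : Fixes v M := W.type0' (hxM hbM) hv hbv.symm
  have h5 := hfv.2 u huM
  have h6 : ⁅v, u⁆ = b := by
    rw [commutatorElement_def, hui, hb]
    exact hcomm.symm
  rw [h6] at h5
  exact hb1 (eq_one_of_mem_core_sq h5 hb2)

/-- (4.1): conjugates of `z` generating a 2-group commute. -/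
theorem comm_of_pow {k : ℕ} : ∀ {u v : G}, InD P u → InD P v → (u * v) ^ 2 ^ k = 1 →
    u * v = v * u := by
  induction k with
  | zero =>
    intro u v hu hv h
    exact W.comm_four hu hv (by
      rw [pow_zero, pow_one] at h; rw [h, one_pow])
  | succ k ih =>
    intro u v hu hv h
    have hvi := inv_eq (W.sq hv)
    have h1 : u * (v * u * v⁻¹) = (u * v) ^ 2 := by rw [hvi, pow_two]; group
    have h2 := ih hu (W.conjD hu v) (by rw [h1, ← pow_mul, ← pow_succ', h])
    apply W.comm_four hu hv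
    have h3 : (u * (v * u * v⁻¹)) * (u * (v * u * v⁻¹)) = 1 := by
      have e1 := W.sq hu
      have e2 := W.sq (W.conjD hu v)
      calc (u * (v * u * v⁻¹)) * (u * (v * u * v⁻¹))
          = u * ((v * u * v⁻¹) * u) * (v * u * v⁻¹) := by group
        _ = (u * u) * ((v * u * v⁻¹) * (v * u * v⁻¹)) := by rw [← h2]; group
        _ = 1 := by rw [e1, e2, one_mul]
    rw [h1, ← pow_add] at h3
    exact h3

theorem comm_of_isPGroup {Q : Subgroup G} (hP : IsPGroup 2 Q) {u v : G} (hu : InD P u)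
    (hv : InD P v) (huP : u ∈ Q) (hvP : v ∈ Q) : u * v = v * u := by
  obtain ⟨k, hk⟩ := hP ⟨u * v, mul_mem huP hvP⟩
  exact W.comm_of_pow hu hv (congrArg Subtype.val hk)

end World

/-! ### the group generated by the involutions of pairs in a 2-group -/

/-- the subgroup generated by the involutions of pairs lying in `Q` -/
def AA (P : G → Subgroup G → Prop) (Q : Subgroup G) : Subgroup G := closure {v | InD P v ∧ v ∈ Q}

theorem mem_AA {P : G → Subgroup G → Prop} {v : G} {Q : Subgroup G} (h : InD P v) (hv : v ∈ Q) :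
    v ∈ AA P Q := subset_closure ⟨h, hv⟩

theorem AA_le (P : G → Subgroup G → Prop) (Q : Subgroup G) : AA P Q ≤ Q :=
  (closure_le _).mpr fun _ h => h.2

theorem AA_le_of {P : G → Subgroup G → Prop} {Q H : Subgroup G} (h : ∀ v, InD P v → v ∈ Q → v ∈ H) :
    AA P Q ≤ H :=
  (closure_le _).mpr fun _ hv => h _ hv.1 hv.2

namespace World

variable {P : G → Subgroup G → Prop} (W : World P) [Finite G]
include W

theorem AA_comm_of {Q : Subgroup G} (hP : IsPGroup 2 Q) {v : G} (hv : InD P v) (hvP : v ∈ Q) :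
    ∀ a ∈ AA P Q, a * v = v * a := by
  have h1 : AA P Q ≤ centralizer ({v} : Set G) := AA_le_of fun w hw hwP =>
    mem_cent.mpr (W.comm_of_isPGroup hP hw hv hwP hvP)
  exact fun a ha => mem_cent.mp (h1 ha)

theorem AA_comm {Q : Subgroup G} (hP : IsPGroup 2 Q) : ∀ a ∈ AA P Q, ∀ b ∈ AA P Q,
    a * b = b * a := by
  intro a ha
  have h1 : AA P Q ≤ centralizer ({a} : Set G) := AA_le_of fun w hw hwP =>
    mem_cent.mpr (W.AA_comm_of hP hw hwP a ha).symm
  exact fun b hb => (mem_cent.mp (h1 hb)).symm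

theorem AA_sq {Q : Subgroup G} (hP : IsPGroup 2 Q) : ∀ a ∈ AA P Q, a * a = 1 := by
  intro a ha
  have h1 : a ∈ AA P Q ∧ a * a = 1 := by
    refine closure_induction (p := fun a _ => a ∈ AA P Q ∧ a * a = 1) ?_ ?_ ?_ ?_ ha
    · intro x hx
      exact ⟨mem_AA hx.1 hx.2, W.sq hx.1⟩
    · exact ⟨one_mem _, by simp⟩
    · intro x y _ _ hx hy
      refine ⟨mul_mem hx.1 hy.1, ?_⟩
      have := W.AA_comm hP x hx.1 y hy.1
      calc x * y * (x * y) = x * (y * x) * y := by group
        _ = (x * x) * (y * y) := by rw [← this]; group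
        _ = 1 := by rw [hx.2, hy.2, one_mul]
    · intro x _ hx
      refine ⟨inv_mem hx.1, ?_⟩
      rw [← mul_inv_rev, hx.2, inv_one]
  exact h1.2

theorem AA_fixes {Q : Subgroup G} (hP : IsPGroup 2 Q) {v : G} (hv : InD P v) (hvP : v ∈ Q)
    {X : Subgroup G} (hX : P v X) : ∀ a ∈ AA P Q, Fixes a X := by
  have h1 : AA P Q ≤ fixSub X := AA_le_of fun w hw hwP =>
    W.type0' hX hw (W.comm_of_isPGroup hP hw hv hwP hvP)
  exact fun a ha => h1 ha

theorem good_of_mem {Q : Subgroup G} (hP : IsPGroup 2 Q) {c : G} (hc : c ∈ AA P Q) (hc1 : c ≠ 1) :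
    Good (AA P Q) c := by
  have hcc := W.AA_sq hP c hc
  have key : ∀ v, InD P v → v ∈ Q → v ∈ L2 (centralizer ({c} : Set G)) ∧
      ∀ E, IsComp (centralizer ({c} : Set G)) E → Fixes v E := by
    intro v hv hvP
    obtain ⟨X, hX⟩ := id hv
    obtain ⟨M, hM, -, hvM, -, hE, -⟩ := W.exists_good hX hcc hc1 (W.AA_comm_of hP hv hvP c hc)
      (W.AA_fixes hP hv hvP hX c hc)
    exact ⟨hM.le_L2 hvM, hE⟩
  refine ⟨hcc, hc1, fun a ha => W.AA_comm hP a ha c hc, AA_le_of fun v hv hvP => (key v hv hvP).1,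
    fun a ha E hE => ?_⟩
  have h1 : AA P Q ≤ fixSub E := AA_le_of fun v hv hvP => (key v hv hvP).2 E hE
  exact h1 ha

/-- two conjugates of `z` in `C(v)`, `v` a conjugate of `z`, commute modulo the core -/
theorem comm_mod {v q w : G} (hv : InD P v) (hq : InD P q) (hw : InD P w) (hqv : q * v = v * q)
    (hwv : w * v = v * w) : ⁅q, w⁆ ∈ core (centralizer ({v} : Set G)) := by
  obtain ⟨X, hX⟩ := id hq
  obtain ⟨Y, hY⟩ := id hw
  obtain ⟨M, hM, -, hqM, -, -, -⟩ := W.exists_good hX (W.sq hv) (W.ne_one hv) hqv.symm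
    (W.type0' hX hv hqv.symm)
  obtain ⟨N, hN, -, -, -, hE, -⟩ := W.exists_good hY (W.sq hv) (W.ne_one hv) hwv.symm
    (W.type0' hY hv hwv.symm)
  have h1 := hM.core_le_core ((hE M hM).2 q hqM)
  rw [← commutatorElement_inv]
  exact inv_mem h1

theorem inter_eq {T T' : Sylow 2 G} (h : ∀ w, InD P w → w ∈ (T : Subgroup G) →
    w ∈ (T' : Subgroup G)) : ∀ w, InD P w → w ∈ (T' : Subgroup G) → w ∈ (T : Subgroup G) := by
  have : Fact (Nat.Prime 2) := ⟨Nat.prime_two⟩
  obtain ⟨g, hg⟩ := MulAction.exists_smul_eq G T T'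
  have hmem : ∀ x, x ∈ (T' : Subgroup G) ↔ g⁻¹ * x * g ∈ (T : Subgroup G) := by
    intro x
    rw [← hg, Sylow.coe_subgroup_smul, mem_smul_pointwise_iff_exists]
    constructor
    · rintro ⟨s, hs, rfl⟩
      have : g⁻¹ * (MulAut.conj g • s) * g = s := by
        change g⁻¹ * (g * s * g⁻¹) * g = s
        group
      rw [this]; exact hs
    · intro hx
      refine ⟨g⁻¹ * x * g, hx, ?_⟩
      change g * (g⁻¹ * x * g) * g⁻¹ = x
      group
  obtain ⟨S, hS⟩ : ∃ S : Set G, S = {v | InD P v ∧ v ∈ (T : Subgroup G)} := ⟨_, rfl⟩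
  obtain ⟨S', hS'⟩ : ∃ S : Set G, S = {v | InD P v ∧ v ∈ (T' : Subgroup G)} := ⟨_, rfl⟩
  have h1 : S ⊆ S' := by
    rw [hS, hS']
    exact fun w hw => ⟨hw.1, h w hw.1 hw.2⟩
  have h2 : S' = (fun x => g * x * g⁻¹) '' S := by
    rw [hS, hS']
    ext x
    constructor
    · rintro ⟨hx1, hx2⟩
      refine ⟨g⁻¹ * x * g, ⟨?_, (hmem x).mp hx2⟩, ?_⟩
      · have := W.conjD hx1 g⁻¹
        rwa [inv_inv] at this
      · simp only; group
    · rintro ⟨y, ⟨hy1, hy2⟩, rfl⟩
      refine ⟨W.conjD hy1 g, (hmem _).mpr ?_⟩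
      simp only
      have : g⁻¹ * (g * y * g⁻¹) * g = y := by group
      rw [this]; exact hy2
  have hinj : Function.Injective (fun x => g * x * g⁻¹) := by
    intro x y hxy
    exact mul_left_cancel (mul_right_cancel hxy)
  have h3 : S'.ncard = S.ncard := by rw [h2]; exact Set.ncard_image_of_injective S hinj
  have h4 : S = S' := Set.eq_of_subset_of_ncard_le h1 h3.le (Set.toFinite _)
  intro w hw hwT'
  have h5 : w ∈ S' := by rw [hS']; exact ⟨hw, hwT'⟩
  rw [← h4, hS] at h5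
  exact h5.2

/-- Step (I) of 4.2. -/
theorem stepI {T T' : Sylow 2 G} {b : G} (hbT : b ∈ (T : Subgroup G))
    (hC : ∀ x ∈ (T : Subgroup G), x * b = b * x → x ∈ (T' : Subgroup G))
    (hb : b ∈ AA P (T' : Subgroup G)) {v : G} (hv : InD P v) (hvT : v ∈ (T : Subgroup G))
    (hvb : v * b = b * v) : b ∈ AA P (T : Subgroup G) := by
  have hvT' := hC v hvT hvb
  have hcomm : ∀ w, InD P w → w ∈ (T : Subgroup G) → w * b = b * w := by
    intro w hw hwT
    have hwv : w * v = v * w := W.comm_of_isPGroup T.isPGroup' hw hv hwT hvT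
    have h1 : b ∈ centralizer ({v} : Set G) ∧ ⁅b, w⁆ ∈ core (centralizer ({v} : Set G)) := by
      refine closure_induction (p := fun b _ => b ∈ centralizer ({v} : Set G) ∧
        ⁅b, w⁆ ∈ core (centralizer ({v} : Set G))) ?_ ?_ ?_ ?_ hb
      · intro q hq
        have hqv := W.comm_of_isPGroup T'.isPGroup' hq.1 hv hq.2 hvT'
        exact ⟨mem_cent.mpr hqv, W.comm_mod hv hq.1 hw hqv hwv⟩
      · exact ⟨one_mem _, by simp⟩
      · intro x y _ _ hx hy
        refine ⟨mul_mem hx.1 hy.1, ?_⟩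
        have h1 : ⁅x * y, w⁆ = (x * ⁅y, w⁆ * x⁻¹) * ⁅x, w⁆ := by
          simp only [commutatorElement_def]; group
        rw [h1]
        exact mul_mem (conj_mem_core (le_normalizer hx.1) hy.2) hx.2
      · intro x _ hx
        refine ⟨inv_mem hx.1, ?_⟩
        have h1 : ⁅x⁻¹, w⁆ = x⁻¹ * ⁅x, w⁆⁻¹ * x⁻¹⁻¹ := by
          simp only [commutatorElement_def]; group
        rw [h1]
        exact conj_mem_core (inv_mem (le_normalizer hx.1)) (inv_mem hx.2)
    have hw' : InD P (b * w * b⁻¹) := W.conjD hw b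
    have hw'T : b * w * b⁻¹ ∈ (T : Subgroup G) := mul_mem (mul_mem hbT hwT) (inv_mem hbT)
    have hc := W.comm_of_isPGroup T.isPGroup' hw hw' hwT hw'T
    have hwi := inv_eq (W.sq hw)
    have h2 : ⁅b, w⁆ ^ 2 ^ 1 = 1 := by
      have e1 := W.sq hw
      have e2 := W.sq hw'
      rw [pow_one, pow_two, commutatorElement_def, hwi]
      calc b * w * b⁻¹ * w * (b * w * b⁻¹ * w) = b * w * b⁻¹ * (w * (b * w * b⁻¹)) * w := by group
        _ = (b * w * b⁻¹ * (b * w * b⁻¹)) * (w * w) := by rw [hc]; group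
        _ = 1 := by rw [e1, e2, one_mul]
    have h3 := eq_one_of_mem_core h1.2 h2
    exact (commutatorElement_eq_one_iff_mul_comm.mp h3).symm
  have h1 : ∀ w, InD P w → w ∈ (T : Subgroup G) → w ∈ (T' : Subgroup G) :=
    fun w hw hwT => hC w hwT (hcomm w hw hwT)
  have h2 := W.inter_eq h1
  have h3 : AA P (T' : Subgroup G) ≤ AA P (T : Subgroup G) := AA_le_of fun w hw hwT' =>
    mem_AA hw (h2 w hw hwT')
  exact h3 hb

/-- choice of the Sylow group containing `C_T(b)` -/
theorem exists_choice {T T' : Sylow 2 G} {b : G} (hb : b ∈ AA P (T' : Subgroup G)) :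
    ∃ T₁ : Sylow 2 G, (∀ x ∈ (T : Subgroup G), x * b = b * x → x ∈ (T₁ : Subgroup G)) ∧
      b ∈ AA P (T₁ : Subgroup G) := by
  have : Fact (Nat.Prime 2) := ⟨Nat.prime_two⟩
  have hAC : AA P (T' : Subgroup G) ≤ centralizer ({b} : Set G) :=
    le_centralizer_singleton fun a ha => W.AA_comm T'.isPGroup' a ha b hb
  have h1 : IsPGroup 2 ↥((T : Subgroup G).subgroupOf (centralizer ({b} : Set G))) :=
    T.isPGroup'.comap_subtype
  have h2 : IsPGroup 2 ↥((AA P (T' : Subgroup G)).subgroupOf (centralizer ({b} : Set G))) :=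
    (T'.isPGroup'.to_le (AA_le _ _)).comap_subtype
  obtain ⟨Q, hQ⟩ := h1.exists_le_sylow
  obtain ⟨Q', hQ'⟩ := h2.exists_le_sylow
  obtain ⟨c, hc⟩ := MulAction.exists_smul_eq (↥(centralizer ({b} : Set G))) Q' Q
  have hQG : IsPGroup 2 ↥((Q : Subgroup ↥(centralizer ({b} : Set G))).map
      (centralizer ({b} : Set G)).subtype) := Q.isPGroup'.map _
  obtain ⟨T₁, hT₁⟩ := hQG.exists_le_sylow
  refine ⟨T₁, ?_, ?_⟩
  · intro x hx hxb
    exact hT₁ ⟨⟨x, mem_cent.mpr hxb⟩, hQ hx, rfl⟩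
  · have h3 : AA P (T' : Subgroup G) ≤ cj (c : G)⁻¹ (AA P (T₁ : Subgroup G)) := by
      refine AA_le_of fun v hv hvT' => ?_
      rw [mem_cj, inv_inv]
      refine mem_AA (W.conjD hv _) (hT₁ ?_)
      have hvC : v ∈ centralizer ({b} : Set G) := hAC (mem_AA hv hvT')
      refine ⟨c * ⟨v, hvC⟩ * c⁻¹, ?_, rfl⟩
      have h4 : (⟨v, hvC⟩ : ↥(centralizer ({b} : Set G))) ∈ (Q' : Subgroup _) :=
        hQ' (mem_AA hv hvT')
      have h5 : c * ⟨v, hvC⟩ * c⁻¹ ∈ ((c • Q' : Sylow 2 _) : Subgroup _) := by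
        rw [Sylow.coe_subgroup_smul]
        exact smul_mem_pointwise_smul _ (MulAut.conj c) _ h4
      rw [hc] at h5
      exact h5
    have h4 := h3 hb
    rw [mem_cj, inv_inv] at h4
    have h5 : (c : G) * b * (c : G)⁻¹ = b := by
      rw [mem_cent.mp c.2, mul_inv_cancel_right]
    rwa [h5] at h4

theorem exists_inD (T : Sylow 2 G) : ∃ v, InD P v ∧ v ∈ (T : Subgroup G) := by
  have : Fact (Nat.Prime 2) := ⟨Nat.prime_two⟩
  obtain ⟨z, hz⟩ := W.ex
  have hzz := W.sq hz
  have h1 : IsPGroup 2 ↥(zpowers z) := by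
    rintro ⟨_, n, rfl⟩
    refine ⟨1, ?_⟩
    apply Subtype.ext
    have h2 : z ^ 2 = 1 := by rw [pow_two, hzz]
    change (z ^ n) ^ (2 ^ 1) = 1
    rw [pow_one, ← zpow_natCast, ← zpow_mul, mul_comm, zpow_mul, zpow_natCast, h2, one_zpow]
  obtain ⟨T', hT'⟩ := h1.exists_le_sylow
  obtain ⟨g, hg⟩ := MulAction.exists_smul_eq G T' T
  refine ⟨g * z * g⁻¹, W.conjD hz g, ?_⟩
  rw [← hg, Sylow.coe_subgroup_smul]
  exact smul_mem_pointwise_smul _ (MulAut.conj g) _ (hT' (mem_zpowers z))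

/-- (4.2): `AA P T` is strongly closed. -/
theorem strongly' {T T' : Sylow 2 G} {b : G} (hbT : b ∈ (T : Subgroup G))
    (hb : b ∈ AA P (T' : Subgroup G)) : b ∈ AA P (T : Subgroup G) := by
  by_cases hb1 : b = 1
  · rw [hb1]; exact one_mem _
  obtain ⟨T₁, hT₁, hbT₁⟩ := W.exists_choice (T := T) hb
  have hbb := W.AA_sq T₁.isPGroup' b hbT₁
  have hbi := inv_eq hbb
  by_cases hex : ∃ v, InD P v ∧ v ∈ (T : Subgroup G) ∧ v * b = b * v
  · obtain ⟨v, hv, hvT, hvb⟩ := hex
    exact W.stepI hbT hT₁ hbT₁ hv hvT hvb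
  exfalso
  push Not at hex
  obtain ⟨w, hw, hwT⟩ := W.exists_inD T
  have hw' : InD P (b * w * b⁻¹) := W.conjD hw b
  have hw'T : b * w * b⁻¹ ∈ (T : Subgroup G) := mul_mem (mul_mem hbT hwT) (inv_mem hbT)
  have hcw := W.comm_of_isPGroup T.isPGroup' hw hw' hwT hw'T
  have hne : w ≠ b * w * b⁻¹ := by
    intro h
    apply hex w hw hwT
    calc w * b = b * w * b⁻¹ * b := by rw [← h]
      _ = b * w := by group
  obtain ⟨c, hc⟩ : ∃ c, c = w * (b * w * b⁻¹) := ⟨_, rfl⟩
  have hcA : c ∈ AA P (T : Subgroup G) := hc ▸ mul_mem (mem_AA hw hwT) (mem_AA hw' hw'T)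
  have hcc := W.AA_sq T.isPGroup' c hcA
  have hc1 : c ≠ 1 := by
    intro h
    apply hne
    have h1 := inv_eq (W.sq hw)
    rw [hc] at h
    exact h1.symm.trans (inv_eq_of_mul_eq_one_right h)
  have hcT : c ∈ (T : Subgroup G) := AA_le _ _ hcA
  have hbc : b * c = c * b := by
    have h1 : b * c * b⁻¹ = c := by
      calc b * c * b⁻¹ = (b * w * b⁻¹) * (b * b * w * (b * b)⁻¹) := by rw [hc]; group
        _ = (b * w * b⁻¹) * w := by rw [hbb]; group
        _ = c := by rw [hc, hcw]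
    calc b * c = b * c * b⁻¹ * b := by group
      _ = c * b := by rw [h1]
  have hcT₁ : c ∈ (T₁ : Subgroup G) := hT₁ c hcT hbc.symm
  -- `c` is not the involution of a pair
  have hcnD : ¬ InD P c := fun h => hex c h hcT hbc.symm
  obtain ⟨X, hX⟩ := id hw
  have hcw' : c * w = w * c := W.AA_comm_of T.isPGroup' hw hwT c hcA
  obtain ⟨M, hM, -, hwM, hfM, -, hxM, -⟩ := W.exists_good hX hcc hc1 hcw'
    (W.AA_fixes T.isPGroup' hw hwT hX c hcA)
  have hMne : cj b M ≠ M := by
    intro h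
    have h1 : b * w * b⁻¹ ∈ M := by rw [← h]; exact conj_mem_cj hwM
    exact hcnD ⟨M, hxM (hc ▸ mul_mem hwM h1)⟩
  -- `c ∉ AA P T₁`
  have hcn : c ∉ AA P (T₁ : Subgroup G) := by
    intro h
    have h1 := (W.good_of_mem T₁.isPGroup' h hc1).le hbT₁
    exact hMne (mem_normalizer_iff_cj.mp (hM.L2_le_normalizer h1))
  -- `c` commutes with no involution of a pair in `T₁`
  obtain ⟨T₂, hT₂, hcT₂⟩ := W.exists_choice (T := T₁) hcA
  have hno : ∀ v, InD P v → v ∈ (T₁ : Subgroup G) → v * c ≠ c * v := fun v hv hvT₁ h =>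
    hcn (W.stepI hcT₁ hT₂ hcT₂ hv hvT₁ h)
  obtain ⟨v, hv, hvT₁⟩ := W.exists_inD T₁
  have hvc : v * c ≠ c * v := hno v hv hvT₁
  obtain ⟨Y, hY⟩ := id hv
  obtain ⟨N, hN, -, hvN, hfN, -, -, h3⟩ := W.exists_good hY hbb hb1
    (W.AA_comm_of T₁.isPGroup' hv hvT₁ b hbT₁) (W.AA_fixes T₁.isPGroup' hv hvT₁ hY b hbT₁)
  have hv' : InD P (c * v * c⁻¹) := W.conjD hv c
  have hv'T₁ : c * v * c⁻¹ ∈ (T₁ : Subgroup G) := mul_mem (mul_mem hcT₁ hvT₁) (inv_mem hcT₁)
  have hcv := W.comm_of_isPGroup T₁.isPGroup' hv hv' hvT₁ hv'T₁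
  have hNne : cj c N ≠ N := by
    intro h
    have h1 : c * v * c⁻¹ ∈ N := by rw [← h]; exact conj_mem_cj hvN
    have h4 : Fixes (c * v * c⁻¹) N := by
      have := hfN.cj c
      rwa [h] at this
    obtain ⟨d, hd⟩ : ∃ d, d = v * (c * v * c⁻¹) := ⟨_, rfl⟩
    have hdd : d * d = 1 := by
      rw [hd]
      calc v * (c * v * c⁻¹) * (v * (c * v * c⁻¹)) = v * ((c * v * c⁻¹) * v) * (c * v * c⁻¹) := by group
        _ = (v * v) * ((c * v * c⁻¹) * (c * v * c⁻¹)) := by rw [← hcv]; group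
        _ = 1 := by rw [W.sq hv, W.sq hv', one_mul]
    have hd1 : d ≠ 1 := by
      intro h5
      apply hvc
      rw [hd] at h5
      have h6 : c * v * c⁻¹ = v := (inv_eq_of_mul_eq_one_right h5).symm.trans (inv_eq (W.sq hv))
      calc v * c = c * v * c⁻¹ * c := by rw [h6]
        _ = c * v := by group
    have hdc : d * c = c * d := by
      have h5 : c * d * c⁻¹ = d := by
        calc c * d * c⁻¹ = (c * v * c⁻¹) * (c * c * v * (c * c)⁻¹) := by rw [hd]; group
          _ = (c * v * c⁻¹) * v := by rw [hcc]; group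
          _ = d := by rw [hd, hcv]
      calc d * c = c * d * c⁻¹ * c := by rw [h5]
        _ = c * d := by group
    exact hno d (h3 d (hd ▸ mul_mem hvN h1) hdd hd1 (hd ▸ fixes_mul hfN h4))
      (hd ▸ mul_mem hvT₁ hv'T₁) hdc
  -- the diagonal component
  have hbC : b ∈ centralizer ({c} : Set G) := mem_cent.mpr hbc
  obtain ⟨hE, -⟩ := Diag.exists_diag hM hbC hbb hMne
  have hcE : c ∈ Diag.diag (centralizer ({c} : Set G)) M b := by
    refine Diag.mem_diag (k := w) (n := 1) (mem_cent.mpr rfl) hbc.symm hwM ?_ ?_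
    · rw [← hc, inv_mul_cancel]; exact one_mem _
    · rw [pow_one, pow_two, hcc]
  have h4 := isComp_le_L2 (H := centralizer ({b} : Set G)) (u := c) (mem_cent.mpr hbc.symm) hcc
    (by rw [inf_comm]; exact hE)
  exact hNne (mem_normalizer_iff_cj.mp (hN.L2_le_normalizer (h4 hcE)))

omit [Finite G] in
theorem cj_AA (g : G) (Q : Subgroup G) : cj g (AA P Q) = AA P (cj g Q) := by
  have key : ∀ (g : G) (Q : Subgroup G), AA P Q ≤ cj g⁻¹ (AA P (cj g Q)) := by
    intro g Q
    refine AA_le_of fun v hv hvP => ?_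
    rw [mem_cj, inv_inv]
    exact mem_AA (W.conjD hv g) (conj_mem_cj hvP)
  apply le_antisymm
  · have := cj_mono (g := g) (key g Q)
    rwa [cj_cj_inv] at this
  · have := key g⁻¹ (cj g Q)
    rwa [inv_inv, cj_inv_cj] at this

/-- (4.2) in the usual form -/
theorem strongly (T : Sylow 2 G) {a g : G} (ha : a ∈ AA P (T : Subgroup G))
    (hg : g * a * g⁻¹ ∈ (T : Subgroup G)) : g * a * g⁻¹ ∈ AA P (T : Subgroup G) := by
  have : Fact (Nat.Prime 2) := ⟨Nat.prime_two⟩
  refine W.strongly' (T' := g • T) hg ?_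
  have h1 : (((g • T : Sylow 2 G) : Subgroup G)) = cj g (T : Subgroup G) := by
    rw [Sylow.coe_subgroup_smul]; rfl
  rw [h1, ← W.cj_AA]
  exact conj_mem_cj ha

theorem isStronglyClosed (T : Sylow 2 G) :
    IsStronglyClosed (AA P (T : Subgroup G)) (T : Subgroup G) :=
  ⟨AA_le _ _, fun _ hx _ hg => W.strongly T hx hg⟩

/-- **World `W0` does not exist** (`h1173` = statement S1173 for `G`). -/
theorem false_of [IsSimpleGroup G]
    (h1173 : ∀ (S : Sylow 2 G) (T : Subgroup G), IsStronglyClosed T (S : Subgroup G) →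
      ((⨅ n : ℕ, derivedSeries ↥(centralizer (T : Set G)) n).map
        (centralizer (T : Set G)).subtype).Normal) : False := by
  have hp2 : Fact (Nat.Prime 2) := ⟨Nat.prime_two⟩
  obtain ⟨T⟩ : Nonempty (Sylow 2 G) := inferInstance
  obtain ⟨A, hA⟩ : ∃ A, A = AA P (T : Subgroup G) := ⟨_, rfl⟩
  have hn := h1173 T A (hA ▸ W.isStronglyClosed T)
  rw [CentResidual.map_iInf_derivedSeries] at hn
  obtain ⟨u, hu, huT⟩ := W.exists_inD T
  have huA : u ∈ A := hA ▸ mem_AA hu huT
  obtain ⟨X, hX⟩ := id hu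
  have hXC := W.comp u X hX
  have hfix : ∀ a ∈ A, Fixes a X := fun a ha =>
    W.AA_fixes T.isPGroup' hu huT hX a (hA ▸ ha)
  have hA2 : IsPGroup 2 A := hA ▸ T.isPGroup'.to_le (AA_le _ _)
  have hodd := odd_card_core X
  have hAn : A ≤ normalizer (core X : Set G) := fun a ha =>
    normalizer_le_normalizer_core X (hfix a ha).1
  rcases hn.eq_bot_or_eq_top with hb | ht
  · -- `C_G(A)` is solvable
    set C : Subgroup G := X ⊓ centralizer (A : Set G) with hC
    have hcov : C ⊔ core X = X := by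
      refine sup_of_exists inf_le_left fun x hx => ?_
      obtain ⟨o, ho, hc⟩ := Lifting.exists_commute_group hodd hA2 hAn (m := x) fun a ha =>
        (fixes_iff_conj.mp (hfix a ha)).2 x hx
      refine ⟨x * o, ⟨mul_mem hx (core_le X ho), ?_⟩, ?_⟩
      · exact mem_centralizer_iff.mpr hc
      · rw [mul_inv_rev, mul_assoc, inv_mul_cancel, mul_one]
        exact inv_mem ho
    have hPC : CentResidual.PR C = ⊥ := by
      rw [eq_bot_iff, ← hb]
      exact CentResidual.PR_mono inf_le_right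
    -- image of `C` in `X / O(X)`
    obtain ⟨π, hπ⟩ : ∃ π, π = QuotientGroup.mk' (oddCore ↥X) := ⟨_, rfl⟩
    have h1 : ((C.subgroupOf X).map π) = ⊤ := by
      rw [eq_top_iff]
      rintro q -
      obtain ⟨⟨x, hx⟩, rfl⟩ : ∃ x, π x = q := by rw [hπ]; exact QuotientGroup.mk'_surjective _ q
      obtain ⟨j, hj, hjx⟩ := exists_mul_of_sup hcov hx
      refine ⟨⟨j, hj.1⟩, hj, ?_⟩
      rw [hπ]
      exact QuotientGroup.eq.mpr ((mem_core_iff (mul_mem (inv_mem hj.1) hx)).mp hjx)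
    have h2 : CentResidual.PR (C.subgroupOf X) = ⊥ := by
      have h3 := CentResidual.map_subtype_PR X (C.subgroupOf X)
      rw [subgroupOf_map_subtype, inf_of_le_left (inf_le_left : C ≤ X), hPC] at h3
      exact (map_eq_bot_iff_of_injective _ X.subtype_injective).mp h3
    have h3 := CentResidual.map_PR π (C.subgroupOf X)
    rw [h1, h2, Subgroup.map_bot] at h3
    have hq : IsQuasisimple (↥X ⧸ oddCore ↥X) := (Red.tc_iff.mp hXC.tc).2.2.2
    have h4 : (⊤ : Subgroup (↥X ⧸ oddCore ↥X)) ≤ ⁅(⊤ : Subgroup (↥X ⧸ oddCore ↥X)), ⊤⁆ := by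
      have := hq.1.1
      rw [← _root_.commutator_def, this]
    rw [CentResidual.PR_eq_self h4] at h3
    have h5 : core X = X := by
      apply le_antisymm (core_le X)
      intro x hx
      rw [mem_core_iff hx, ← QuotientGroup.eq_one_iff, ← mem_bot, h3]
      exact mem_top _
    exact hXC.not_odd hodd h5.ge
  · have hCtop : centralizer (A : Set G) = ⊤ := by
      rw [eq_top_iff, ← ht]
      exact CentResidual.PR_le _
    have huZ : u ∈ center G := by
      rw [mem_center_iff]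
      intro g
      have hg : g ∈ centralizer (A : Set G) := by rw [hCtop]; trivial
      exact ((mem_centralizer_iff.1 hg) u huA).symm
    have hZn : (center G).Normal := inferInstance
    rcases hZn.eq_bot_or_eq_top with h1 | h1
    · rw [h1, mem_bot] at huZ
      exact W.ne_one hu huZ
    · apply hXC.ne_bot
      rw [← hXC.perfect, eq_bot_iff, commutator_le]
      intro a _ b _
      rw [mem_bot, commutatorElement_eq_one_iff_mul_comm]
      have hb : b ∈ center G := by rw [h1]; trivial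
      exact mem_center_iff.mp hb a

end World

end Cfsg.Agent.UGT.I34.Zero
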