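import Cfsg.Agent.UGT.I34.NonD
import Cfsg.Agent.UGT.I34.Zero
import Cfsg.Agent.UGT.I34.Cov
import Cfsg.Agent.UGT.Cov.Cen

/-!
# Theorem I34 for the centres `4 × 2` and `4 × 4`

* `om_of`, `k3_of`, `k1_of`: the facts on the covers.
* `setting`: the setting.
* `world`: `World W0`.
* `simpleCase_8`, `simpleCase_16`: the theorem for simple groups, from S1173.
-/

set_option autoImplicit false
set_option linter.unusedSectionVars false

open Cfsg Subgroup
open Cfsg.Agent.SignalizersComponents Cfsg.Agent.Lib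
open Cfsg.Agent.SignalizersComponents.IntrinsicBasic
open Cfsg.Agent.SignalizersComponents.PLayerAut
open Cfsg.Agent.Intrinsic.Basic hiding IsPair PQS Target
open Cfsg.Agent.Intrinsic.Cen hiding pair_comm pair_mem_cen exists_pump pump_unique
open Cfsg.Agent.Intrinsic.Quot hiding Big small_or_big isPair_quot mk_eq_one_iff
open Cfsg.Agent.Intrinsic Cfsg.Agent.UGT.I34.Pair
open Cfsg.Agent.McLLyComp.Act
open Cfsg.Agent.UGT.I34.Cov (IsCv kind' kind noT isPGroup_center)
open Cfsg.Agent.UGT.I34.Red (SimpleCase)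
open Cfsg.Agent.OddHalf.D9.L34Mult (omega card_cyclic)
open scoped commutatorElement

universe u

namespace Cfsg.Agent.UGT.I34.Non

/-! ### the covers -/

theorem om_of {n : ℕ} {K : Type*} [Group K] (h : IsCv n 4 K) : Om K := by
  intro u hu huu hu1
  obtain ⟨S, hS⟩ : ∃ S : Set K, S = {z | z ∈ center K ∧ z * z = 1} := ⟨_, rfl⟩
  have hc : S.ncard = 4 := by
    rw [← h.om, ← Nat.card_coe_set_eq, hS]
    apply Nat.card_congr
    exact
      { toFun := fun a => ⟨⟨a.1, a.2.1⟩, Subtype.ext a.2.2⟩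
        invFun := fun a => ⟨a.1.1, a.1.2, congrArg Subtype.val a.2⟩
        left_inv := fun _ => rfl
        right_inv := fun _ => rfl }
  have hfin : S.Finite := Set.finite_of_ncard_ne_zero (by omega)
  have h2 : ({1, u} : Set K).ncard = 2 := Set.ncard_pair hu1.symm
  obtain ⟨a, ha, hau⟩ := Set.exists_mem_notMem_of_ncard_lt_ncard (s := ({1, u} : Set K)) (t := S)
    (by omega)
  simp only [Set.mem_insert_iff, Set.mem_singleton_iff, not_or] at hau
  obtain ⟨ha1, hau⟩ := hau
  rw [hS] at ha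
  obtain ⟨hac, haa⟩ := ha
  have hcomm : ∀ b, b * a = a * b := fun b => mem_center_iff.mp hac b
  refine ⟨a, hac, haa, ha1, hau, fun b hb hbb => ?_⟩
  have hsub : ({1, u, a, a * u} : Set K) ⊆ S := by
    intro w hw
    rw [hS]
    simp only [Set.mem_insert_iff, Set.mem_singleton_iff] at hw
    rcases hw with rfl | rfl | rfl | rfl
    · exact ⟨one_mem _, one_mul 1⟩
    · exact ⟨hu, huu⟩
    · exact ⟨hac, haa⟩
    · refine ⟨mul_mem hac hu, ?_⟩
      calc a * u * (a * u) = a * (u * a) * u := by group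
        _ = (a * a) * (u * u) := by rw [hcomm]; group
        _ = 1 := by rw [haa, huu, one_mul]
  have h4 : ({1, u, a, a * u} : Set K).ncard = 4 := by
    rw [Set.ncard_insert_of_notMem, Set.ncard_insert_of_notMem, Set.ncard_insert_of_notMem,
      Set.ncard_singleton]
    · intro h
      have h3 : a = a * u := by simpa using h
      exact hu1 (left_eq_mul.mp h3)
    · intro h
      simp only [Set.mem_insert_iff, Set.mem_singleton_iff] at h
      rcases h with h | h
      · exact hau h.symm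
      · exact ha1 (right_eq_mul.mp h)
    · intro h
      simp only [Set.mem_insert_iff, Set.mem_singleton_iff] at h
      rcases h with h | h | h
      · exact hu1 h.symm
      · exact ha1 h.symm
      · apply hau
        have h3 := eq_inv_of_mul_eq_one_left h.symm
        rw [h3]
        exact inv_eq_of_mul_eq_one_left huu
  have heq := Set.eq_of_subset_of_ncard_le hsub (by omega) hfin
  have hbS : b ∈ ({1, u, a, a * u} : Set K) := by
    rw [heq, hS]; exact ⟨hb, hbb⟩
  simpa only [Set.mem_insert_iff, Set.mem_singleton_iff] using hbS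

/-- the centre is neither cyclic nor elementary abelian -/
theorem noncyclic {n k : ℕ} {K : Type u} [Group K] [Finite K] (h : IsCv n 4 K) (hn : n = 2 ^ k)
    (h4 : 4 < n) : ¬ IsCyclic (center K) ∧ ∃ z ∈ center K, z * z ≠ 1 := by
  have h2 := isPGroup_center h hn
  obtain ⟨F, _, _, hF, ⟨e⟩⟩ := h.l34
  constructor
  · intro hc
    have h1 := card_cyclic h.qs.1.commutator_eq_top h2 hF e hc
    have h3 := Nat.le_of_dvd (by norm_num) h1
    rw [h.card] at h3
    omega
  · by_contra hcon
    push Not at hcon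
    have h1 : Nat.card {z : ↥(center K) // z * z = 1} = Nat.card ↥(center K) := by
      apply Nat.card_congr
      exact Equiv.subtypeUnivEquiv fun z => Subtype.ext (hcon z z.2)
    rw [h.om, h.card] at h1
    omega

theorem finite_of {n k : ℕ} {K : Type u} [Group K] (h : IsCv n 4 K) (hn : n = 2 ^ k) : Finite K := by
  apply Nat.finite_of_card_ne_zero
  rw [h.card_K, hn]
  positivity

theorem k3_of {n k : ℕ} {K : Type u} [Group K] (h : IsCv n 4 K) (hn : n = 2 ^ k)
    (h8 : n = 8 ∨ n = 16) : K3 K := by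
  have hfin := finite_of h hn
  obtain ⟨hnc, hne⟩ := noncyclic h hn (by omega)
  have h2 := isPGroup_center h hn
  have hperf := h.qs.1.commutator_eq_top
  obtain ⟨F, _, _, hF, ⟨e⟩⟩ := h.l34
  intro α hα u hu huu hu1 hαu ⟨z, hz, hzz, hmv⟩
  rcases h8 with h8 | h8
  · exact absurd (Cfsg.Agent.UGT.Cov.fix_omega hperf h2 hF e hnc hne (by rw [h.card]; omega) α z
      ⟨hz, hzz⟩) hmv
  · exact Cfsg.Agent.UGT.Cov.exists_root hperf h2 hF e (by rw [h.card]; omega) hα ⟨hu, huu⟩ hu1 hαu
      ⟨z, ⟨hz, hzz⟩, hmv⟩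

theorem k1_of {n k : ℕ} {K : Type u} [Group K] [Finite K] (h : IsCv n 4 K) (hn : n = 2 ^ k)
    (h4 : 4 < n) : K1 K := by
  obtain ⟨hnc, hne⟩ := noncyclic h hn h4
  have h2 := isPGroup_center h hn
  obtain ⟨F, _, _, hF, ⟨e⟩⟩ := h.l34
  intro W hW2 hW4 H
  exact Cfsg.Agent.UGT.Cov.gamma2 h.qs.1.commutator_eq_top h2 hF e hnc hne W hW2 hW4 H

/-! ### the setting -/

section

variable {κ : Kind.{u}} {G : Type u} [Group G] [Finite G] [IsSimpleGroup G]

theorem centralizer_ne_top {z : G} {L : Subgroup G} (hp : IsPair κ z L) {x : G}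
    (hx : orderOf x = 2) : centralizer ({x} : Set G) ≠ ⊤ := by
  intro h
  have hxZ : x ∈ center G := by
    rw [mem_center_iff]
    intro g
    have hg : g ∈ centralizer ({x} : Set G) := by rw [h]; trivial
    exact mem_centralizer_singleton_iff.mp hg
  have hZn : (center G).Normal := inferInstance
  rcases hZn.eq_bot_or_eq_top with h1 | h1
  · rw [h1, mem_bot] at hxZ
    rw [hxZ, orderOf_one] at hx
    omega
  · apply hp.comp.ne_bot
    rw [← hp.comp.perfect, eq_bot_iff, commutator_le]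
    intro a _ b _
    rw [mem_bot, commutatorElement_eq_one_iff_mul_comm]
    have hb : b ∈ center G := by rw [h1]; trivial
    exact mem_center_iff.mp hb a

end

theorem setting {n k : ℕ} (hn : n = 2 ^ k) (h8 : n = 8 ∨ n = 16) {G : Type u} [Group G] [Finite G]
    [IsSimpleGroup G] (hP : PQS (kind'.{u} n 4 noT) (Nat.card G)) {z : G} {L : Subgroup G}
    (hp : IsPair (kind'.{u} n 4 noT) z L) :
    Setting (kind'.{u} n 4 noT) Cfsg.Agent.ONType.Psl.PSL3 G where
  noT _ _ _ _ h := h
  ih := hP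
  cent x hx := centralizer_ne_top hp hx
  lam K _ h := by
    obtain ⟨F, _, _, hF, ⟨e⟩⟩ := h.1.l34
    obtain ⟨e'⟩ := Cfsg.Agent.SporadicA.FieldFour.nonempty_psl_equiv (n := Fin 3) F hF
    exact ⟨e.trans e'.symm⟩
  om K _ h := om_of h.1
  k3 K _ h := k3_of h.1 hn h8
  k1 K _ _ h := k1_of h.1 hn (by omega)

/-! ### World `W0` -/

section

variable {κ : Kind.{u}} {Λ : Type*} [Group Λ] {G : Type u} [Group G] [Finite G]

theorem Setting.world (S : Setting κ Λ G) {z : G} {L : Subgroup G} (hp : IsPair κ z L) :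
    Zero.World (fun (u : G) (X : Subgroup G) => IsPair κ u X) where
  ex := ⟨z, L, hp⟩
  inv _ _ h := h.sq
  ne _ _ h := h.ne_one
  mem _ _ h := h.mem
  comp _ _ h := h.comp
  conj _ _ g h := h.cj g
  type0 _ _ _ _ h h' hc := S.typeZero h h' hc.symm
  pump u X x h hxx hx1 hxu hf := by
    obtain ⟨M, P⟩ := S.exists_pump h hxx hx1 hxu hf
    refine ⟨M, P.comp, P.le, P.mem, P.fixes_self h hxx hxu hf, P.pair h hxx hx1 hxu hf,
      fun a ha haa ha1 hfa => ?_⟩
    obtain ⟨j, hj, hja⟩ := exists_mul_of_sup P.small ha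
    have hjM : j ∈ M := P.le hj
    have hjj : j ^ 2 ^ 1 ∈ core M := by
      rw [← mk_eq_iff hjM ha] at hja
      have h1 : (QuotientGroup.mk ⟨j, hjM⟩ : ↥M ⧸ oddCore ↥M) * QuotientGroup.mk ⟨j, hjM⟩ = 1 := by
        rw [hja, ← QuotientGroup.mk_mul]
        have : (⟨a, ha⟩ : ↥M) * ⟨a, ha⟩ = 1 := Subtype.ext haa
        rw [this]; rfl
      rw [pow_one, pow_two]
      exact (mk_eq_one_iff (mul_mem hjM hjM)).mp h1
    obtain ⟨m, hm1, hm2⟩ := Lifting.exists_two_part (odd_card_core M) hjj
    have hmJ : j ^ m ∈ cen X x := pow_mem hj m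
    have hma : a⁻¹ * j ^ m ∈ core M := by
      have : a⁻¹ * j ^ m = (j⁻¹ * a)⁻¹ * (j⁻¹ * j ^ m) := by group
      rw [this]
      exact mul_mem (inv_mem hja) hm2
    obtain ⟨o, ho, hoa⟩ := Lifting.exists_conj_eq (odd_card_core M) (v := a) (v' := j ^ m) (n := 1)
      (m := 1) (by rw [pow_one, pow_two, haa]) hm1 (normalizer_le_normalizer_core M hfa.1) hma
    have hoM : o ∈ M := core_le M ho
    rw [← hoa] at hmJ
    have hcM : cj o M = M := mem_normalizer_iff_cj.mp (le_normalizer hoM)
    have hf' : Fixes (o * a * o⁻¹) M := by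
      have := hfa.cj o
      rwa [hcM] at this
    have hX : o * a * o⁻¹ ∈ X := cen_le X x hmJ
    have hcx : (o * a * o⁻¹) * x = x * (o * a * o⁻¹) :=
      mem_centralizer_singleton_iff.mp ((isComp_cen h.comp (mem_c hxu) hxx hf).1.le hmJ).2
    have hfX : Fixes (o * a * o⁻¹) X := (P.fixes_iff h hxx hxu hf hcx (le_normalizer hX)).mpr hf'
    have key : Zero.InD (fun (u : G) (X : Subgroup G) => IsPair κ u X) (o * a * o⁻¹) := by
      by_cases hu : o * a * o⁻¹ = u
      · rw [hu]; exact ⟨X, h⟩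
      · have V : Vess u X (o * a * o⁻¹) := by
          refine ⟨hX, ?_, ?_, hu, hfX⟩
          · calc o * a * o⁻¹ * (o * a * o⁻¹) = o * (a * a) * o⁻¹ := by group
              _ = 1 := by rw [haa]; group
          · intro h1
            apply ha1
            exact conj_eq_one_iff.mp h1
        obtain ⟨M', -, hM'⟩ := S.exists_vess_pair h V
        exact ⟨M', hM'⟩
    obtain ⟨Y, hY⟩ := key
    refine ⟨cj o⁻¹ Y, ?_⟩
    have := hY.cj o⁻¹
    have e : o⁻¹ * (o * a * o⁻¹) * o⁻¹⁻¹ = a := by group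
    rwa [e] at this

end

/-- statement S1173 -/
def P1173 : Prop := ∀ (G : Type u) [Group G] [Finite G], oddCore G = ⊥ → ∀ (S : Sylow 2 G) (T : Subgroup G),
  IsStronglyClosed T (S : Subgroup G) → ((⨅ n : ℕ, derivedSeries ↥(centralizer (T : Set G)) n).map
    (centralizer (T : Set G)).subtype).Normal

/-- **The theorem for simple groups.** -/
theorem simpleCase_of (h1173 : P1173.{u}) {n k : ℕ} (hn : n = 2 ^ k) (h8 : n = 8 ∨ n = 16) :
    SimpleCase.{u} (kind' n 4 noT) := by
  intro G _ _ _ hP z L hp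
  have S := setting hn h8 hP hp
  have W := S.world hp
  change False
  have hO : oddCore G = ⊥ := by
    have hn : (oddCore G).Normal := Lib.Cores.pPrimeCore_normal 2
    rcases hn.eq_bot_or_eq_top with h1 | h1
    · exact h1
    · exfalso
      have h2 : z ∈ oddCore G := by rw [h1]; exact mem_top _
      have h3 := IntrinsicBasic.eq_one_of_mem_odd
        (Nat.coprime_two_right.mp (Lib.Cores.pPrimeCore_coprime 2)) h2 (n := 1) (by
          rw [pow_one, ← hp.inv, pow_orderOf_eq_one])
      exact hp.ne_one h3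
  exact W.false_of (h1173 G hO)

theorem simpleCase_8 (h1173 : P1173.{u}) : SimpleCase.{u} (kind' 8 4 noT) :=
  simpleCase_of h1173 (k := 3) (by norm_num) (Or.inl rfl)

theorem simpleCase_16 (h1173 : P1173.{u}) : SimpleCase.{u} (kind' 16 4 noT) :=
  simpleCase_of h1173 (k := 4) (by norm_num) (Or.inr rfl)

end Cfsg.Agent.UGT.I34.Non
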