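import Cfsg.Agent.UGT.I34.OneEnd
import Cfsg.Agent.UGT.I34.NonEnd
import Cfsg.Agent.UGT.I34.Bridge
import Cfsg.Agent.UGT.I34.Two.End

/-!
# THEOREM I34: the kinds `2`, `4`, `4 × 2`, `4 × 4`, without hypotheses
-/

set_option autoImplicit false

open Cfsg Subgroup
open Cfsg.Agent.UGT.I34.Pair Cfsg.Agent.UGT.I34.Red Cfsg.Agent.UGT.I34.Cov

namespace Cfsg.Agent.UGT.I34.Closed

universe u

theorem h2 : SimpleCase.{u} (kind' 2 2 noT) :=
  Bridge.simpleCase_two (Two.simpleCase fun _ _ _ hO S T hT => Cfsg.Agent.S1173.result hO S T hT)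

theorem h4 (N : ℕ) : Main.Settled'.{u} N 4 2 := OneEnd.settled N

theorem h8 : SimpleCase.{u} (kind' 8 4 noT) :=
  Non.simpleCase_8 fun _ _ _ hO S T hT => Cfsg.Agent.S1173.result hO S T hT

theorem h16 : SimpleCase.{u} (kind' 16 4 noT) :=
  Non.simpleCase_16 fun _ _ _ hO S T hT => Cfsg.Agent.S1173.result hO S T hT

end Cfsg.Agent.UGT.I34.Closed
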