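import Cfsg.Agent.UGT.I34.FixLift

/-!
# Section 3 of I34: the common argument of (3F) and (EPS)

`(w, Y₁)`, `(w, Y₂)` different pairs over the same involution `w`, `s` an involution commuting with `w` and fixing
`Y₁` and `Y₂`. Then the pump-ups of `cen Y₁ s`, `cen Y₂ s` in `C(s)` are different (`pump_ne`), so `w` fixes every
2-component of `C(s)` (`fixes_all`) and `[w, p]² ∈ O(C(s))` for all `p ∈ C(s)` (`coll`).
-/

set_option autoImplicit false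

open Cfsg Subgroup
open Cfsg.Agent.SignalizersComponents Cfsg.Agent.Lib
open Cfsg.Agent.SignalizersComponents.IntrinsicBasic
open Cfsg.Agent.Intrinsic
open Cfsg.Agent.Intrinsic.Basic hiding IsPair PQS Target
open Cfsg.Agent.Intrinsic.Cen hiding pair_comm pair_mem_cen exists_pump pump_unique
open Cfsg.Agent.Intrinsic.Quot hiding Big small_or_big isPair_quot mk_eq_one_iff
open Cfsg.Agent.McLLyComp.Act
open Cfsg.Agent.UGT.I34.Pair Cfsg.Agent.UGT.I34.KAut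
open scoped commutatorElement

namespace Cfsg.Agent.UGT.I34.Coll

universe u

variable {κ : Kind.{u}} {G : Type u} [Group G] [Finite G] {w s : G} {Y₁ Y₂ : Subgroup G}

theorem card_lt {M : Subgroup G} {s : G} (hC : centralizer ({s} : Set G) ≠ ⊤)
    (hM : M ≤ centralizer ({s} : Set G)) : Nat.card M < Nat.card G :=
  (Subgroup.card_le_of_le hM).trans_lt (lt_of_le_of_ne (Subgroup.card_le_card_group _)
    (fun h => hC (Subgroup.eq_top_of_card_eq _ h)))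

/-- the pump-ups are different -/
theorem pump_ne (hN : PQS κ (Nat.card G)) (hT : OneComp κ) {M : Subgroup G}
    (h₁ : IsPair κ w Y₁) (h₂ : IsPair κ w Y₂) (hne : Y₁ ≠ Y₂) (hs : s * s = 1) (hsw : s * w = w * s)
    (f₁ : Fixes s Y₁) (f₂ : Fixes s Y₂) (hC : centralizer ({s} : Set G) ≠ ⊤)
    (hM : IsComp (centralizer ({s} : Set G)) M) (hl₁ : cen Y₁ s ≤ M) (hl₂ : cen Y₂ s ≤ M) : False := by
  have hsC : s ∈ centralizer ({w} : Set G) := mem_centralizer_singleton_iff.mpr hsw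
  have c1 := (isComp_cen h₁.comp hsC hs f₁).1
  have c2 := (isComp_cen h₂.comp hsC hs f₂).1
  have hne' : cen Y₁ s ≠ cen Y₂ s := fun h =>
    hne (c1.unique h₁.comp h₂.comp (cen_le _ _) (h ▸ cen_le _ _))
  have c1' := c1
  have c2' := c2
  rw [inf_comm] at c1' c2'
  have hw₁ := pair_mem_cen h₁ hsw
  rcases small_or_big hN h₁.inv hw₁ c1' ((kind_cen h₁.comp hsC hs f₁).mpr h₁.kind) hM hl₁
    (card_lt hC hM.le) with hsm | ⟨hwM, hb⟩
  · have h3 : ∀ a ∈ cen Y₂ s, Fixes a M := by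
      intro a ha
      have h4 := c1.fixes_of_mem c2 hne' ha
      exact (fixes_iff_of_sup hsm h4.1 (le_normalizer (hl₂ ha))).mp h4
    apply c2.not_odd (odd_card_core M)
    rw [← c2.perfect, commutator_le]
    intro a ha b hb
    exact (h3 a ha).2 b (hl₂ hb)
  · have d1 := isComp_inf c1' hM hl₁
    have d2 := isComp_inf c2' hM hl₂
    have h3 := hT _ _ _ _ hb (IsComp.of_tc (PumpUp.tc_image hwM h₁.sq d2.tc))
    have h4 : qs M (cen Y₂ s) = qs M (cen Y₁ s) := h3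
    have hco : core M ⊓ centralizer ({w} : Set G) ≤ core (M ⊓ centralizer ({w} : Set G)) := by
      refine le_core (inf_le_inf_right _ (core_le M)) ?_
        (Odd.of_dvd_nat (odd_card_core M) (card_dvd_of_le inf_le_left))
      intro x hx
      rw [mem_normalizer_iff_cj, cj_inf, cj_eq_self_of_mem hx.2,
        mem_normalizer_iff_cj.mp (le_normalizer_core M hx.1)]
    have hle : cen Y₁ s ≤ cen Y₂ s := by
      refine d1.le_of_two fun k hk n hn => ?_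
      have h5 : (QuotientGroup.mk ⟨k, hl₁ hk⟩ : ↥M ⧸ oddCore ↥M) ∈ qs M (cen Y₂ s) := by
        rw [h4]
        exact (mem_qs (hl₁ hk)).mpr ⟨k, ⟨hk, hl₁ hk⟩, by simp⟩
      obtain ⟨j, hj, hjk⟩ := (mem_qs (hl₁ hk)).mp h5
      refine d2.mem_of_two hj.1 (hco ⟨hjk, ?_⟩) hn
      exact (centralizer ({w} : Set G)).mul_mem ((centralizer ({w} : Set G)).inv_mem (d2.le hj.1).2)
        (d1.le hk).2
    exact hne' (d1.eq_of_le d2 hle)

/-- `w` fixes all 2-components of `C(s)` -/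
theorem fixes_all (hN : PQS κ (Nat.card G)) (hT : OneComp κ)
    (h₁ : IsPair κ w Y₁) (h₂ : IsPair κ w Y₂) (hne : Y₁ ≠ Y₂) (hs : s * s = 1) (hsw : s * w = w * s)
    (f₁ : Fixes s Y₁) (f₂ : Fixes s Y₂) (hC : centralizer ({s} : Set G) ≠ ⊤) {E : Subgroup G}
    (hE : IsComp (centralizer ({s} : Set G)) E) : Fixes w E := by
  obtain ⟨M₁, hM₁, hl₁, hw₁⟩ := exists_pump h₁ hs hsw f₁
  obtain ⟨M₂, hM₂, hl₂, hw₂⟩ := exists_pump h₂ hs hsw f₂
  by_cases h : E = M₁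
  · refine hE.fixes_of_mem hM₂ ?_ hw₂
    rintro rfl
    exact pump_ne hN hT h₁ h₂ hne hs hsw f₁ f₂ hC hE (h ▸ hl₁) hl₂
  · exact hE.fixes_of_mem hM₁ h hw₁

/-- `[w, p]² ∈ O(C(s))` -/
theorem coll (hN : PQS κ (Nat.card G)) (hT : OneComp κ)
    (h₁ : IsPair κ w Y₁) (h₂ : IsPair κ w Y₂) (hne : Y₁ ≠ Y₂) (hs : s * s = 1) (hsw : s * w = w * s)
    (f₁ : Fixes s Y₁) (f₂ : Fixes s Y₂) (hC : centralizer ({s} : Set G) ≠ ⊤) {p : G}
    (hp : p * s = s * p) : ⁅w, p⁆ * ⁅w, p⁆ ∈ core (centralizer ({s} : Set G)) := by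
  obtain ⟨M₁, hM₁, hl₁, hw₁⟩ := exists_pump h₁ hs hsw f₁
  have hE := Diag.isComp_cj_of_mem hM₁ (mem_centralizer_singleton_iff.mpr hp)
  have h3 := (fixes_all hN hT h₁ h₂ hne hs hsw f₁ f₂ hC hE).2 _ (conj_mem_cj (g := p) hw₁)
  have hwi : w⁻¹ = w := inv_eq_of_mul_eq_one_left h₁.sq
  have h4 : ⁅w, p⁆ * ⁅w, p⁆ = ⁅w, p * w * p⁻¹⁆ := by
    rw [commutatorElement_def, commutatorElement_def, mul_inv_rev, mul_inv_rev, hwi, inv_inv]
    simp only [mul_assoc]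
  rw [h4]
  exact hE.core_le_core h3

omit [Finite G] in
/-- order four in the quotient -/
theorem not_four {H X : Subgroup G} [Finite H] (hH : Odd (Nat.card H)) {w p : G}
    (hw : w ∈ normalizer (X : Set G)) (hp : p ∈ X) (h : ⁅w, p⁆ * ⁅w, p⁆ ∈ H) :
    ¬ 4 ∣ orderOf (act X ⟨w, hw⟩ (QuotientGroup.mk ⟨p, hp⟩) *
      (QuotientGroup.mk ⟨p, hp⟩ : ↥X ⧸ oddCore ↥X)⁻¹) := by
  intro h4
  have hd : ⁅w, p⁆ ∈ X := by
    rw [commutatorElement_def]
    exact mul_mem (conj_mem hw hp) (inv_mem hp)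
  have h1 : act X ⟨w, hw⟩ (QuotientGroup.mk ⟨p, hp⟩) *
      (QuotientGroup.mk ⟨p, hp⟩ : ↥X ⧸ oddCore ↥X)⁻¹ = QuotientGroup.mk ⟨⁅w, p⁆, hd⟩ := rfl
  rw [h1] at h4
  have h2 : (⁅w, p⁆ * ⁅w, p⁆) ^ Nat.card H = 1 := by
    have := pow_card_eq_one' (x := (⟨⁅w, p⁆ * ⁅w, p⁆, h⟩ : H))
    exact congrArg Subtype.val this
  rw [← pow_two, ← pow_mul] at h2
  have h3 : (QuotientGroup.mk ⟨⁅w, p⁆, hd⟩ : ↥X ⧸ oddCore ↥X) ^ (2 * Nat.card H) = 1 := by
    have h6 : ((⟨⁅w, p⁆, hd⟩ : ↥X) ^ (2 * Nat.card H)) = 1 := Subtype.ext h2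
    rw [← QuotientGroup.mk_pow, h6]
    rfl
  have h5 := h4.trans (orderOf_dvd_of_pow_eq_one h3)
  obtain ⟨m, hm⟩ := hH
  rw [hm] at h5
  omega

end Cfsg.Agent.UGT.I34.Coll
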