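import Cfsg.Agent.UGT.I34.TypeEps

/-!
# Section 3 of I34: the elements of (L1)

`KG κ` : further facts on `K = X / O(X)`.

For commuting `u`, `v ∈ D`, `X ∈ Ω_u`, `v ∈ N(X)` not fixing `X`:
* `swap` (P): `g v g⁻¹ = v u` for some `g ∈ X`;
* `exists_w`: an involution `w ∈ X`, `w v = v w`, not fixing `X`, such that `v w` and `v w u` are conjugates of `v` under
  `X`; if `v` is of type I then `w`, `w u` are products of squares of elements of `C_X(v)`.
-/

set_option autoImplicit false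

open Cfsg Subgroup
open Cfsg.Agent.SignalizersComponents Cfsg.Agent.Lib
open Cfsg.Agent.SignalizersComponents.IntrinsicBasic
open Cfsg.Agent.Intrinsic
open Cfsg.Agent.Intrinsic.Basic hiding IsPair PQS Target
open Cfsg.Agent.Intrinsic.Cen hiding pair_comm pair_mem_cen exists_pump pump_unique
open Cfsg.Agent.Intrinsic.TypesDef (Om exists_om sup_of_card)
open Cfsg.Agent.McLLyComp.Act
open Cfsg.Agent.UGT.I34.Pair Cfsg.Agent.UGT.I34.KAut Cfsg.Agent.UGT.I34.FixLift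
open scoped commutatorElement

namespace Cfsg.Agent.UGT.I34.Elem

universe u

/-- Further facts on the groups of kind `κ`. `NEps φ` : `φ` is inner or does not centralise the centre. -/
structure KG (κ : Kind.{u}) : Prop where
  /-- the centre has a unique involution -/
  uniq : ∀ {K : Type u} [Group K] [Finite K], κ.P K → ∀ a ∈ center K, ∀ b ∈ center K, a * a = 1 → b * b = 1 →
    a ≠ 1 → b ≠ 1 → a = b
  exp : ∀ {K : Type u} [Group K] [Finite K], κ.P K → ∀ a ∈ center K, a * a * (a * a) = 1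
  perf : ∀ {K : Type u} [Group K] [Finite K], κ.P K → ⁅(⊤ : Subgroup K), (⊤ : Subgroup K)⁆ = ⊤
  /-- a noncentral involution -/
  inv : ∀ {K : Type u} [Group K] [Finite K], κ.P K → ∃ t : K, t * t = 1 ∧ t ∉ center K
  /-- (P) -/
  swap : ∀ {K : Type u} [Group K] [Finite K], κ.P K → ∀ φ : MulAut K, φ * φ = 1 → φ ≠ 1 →
    (φ ∈ Inn K ∨ ¬ ∀ i ∈ center K, φ i = i) → ∀ z ∈ center K, z * z = 1 → z ≠ 1 → ∃ x, φ x * x⁻¹ = z
  elt : ∀ {K : Type u} [Group K] [Finite K], κ.P K → ∀ φ : MulAut K, φ * φ = 1 → φ ≠ 1 →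
    (φ ∈ Inn K ∨ ¬ ∀ i ∈ center K, φ i = i) → ∀ z ∈ center K, z * z = 1 → z ≠ 1 →
    ∃ w, w ∉ center K ∧ w * w = 1 ∧ φ w = w ∧ (∃ x, φ x * x⁻¹ = w) ∧ (∃ y, φ y * y⁻¹ = w * z) ∧
      (φ ∈ Inn K → w ∈ closure {s | ∃ r ∈ fixed φ, r * r = s} ∧ w * z ∈ closure {s | ∃ r ∈ fixed φ, r * r = s})

section lift

variable {G : Type*} [Group G] [Finite G] {v : G} {X : Subgroup G}

/-- conjugates of `v` under `X` -/
theorem exists_conj (hv : v ∈ normalizer (X : Set G)) (hvv : v * v = 1) {w : G} (hw : w ∈ X)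
    (hvw : v * w * (v * w) = 1)
    {x : ↥X ⧸ oddCore ↥X} (hx : act X ⟨v, hv⟩ x * x⁻¹ = QuotientGroup.mk ⟨w, hw⟩) :
    ∃ g ∈ X, g * v * g⁻¹ = v * w := by
  obtain ⟨⟨g, hg⟩, rfl⟩ := QuotientGroup.mk_surjective x
  have h1 : (QuotientGroup.mk ⟨v * g * v⁻¹ * g⁻¹, mul_mem (conj_mem hv hg) (inv_mem hg)⟩ : ↥X ⧸ oddCore ↥X) =
      QuotientGroup.mk ⟨w, hw⟩ := hx
  rw [mk_eq_iff] at h1
  have hvi : v⁻¹ = v := inv_eq_of_mul_eq_one_left hvv
  -- `(g v g⁻¹)⁻¹ (v w)` lies in the core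
  have h2 : (g * v * g⁻¹)⁻¹ * (v * w) ∈ core X := by
    have h3 : (g * v * g⁻¹)⁻¹ * (v * w) = (v * g * v⁻¹ * g⁻¹)⁻¹ * w := by
      calc (g * v * g⁻¹)⁻¹ * (v * w) = g * v⁻¹ * g⁻¹ * v * w := by group
        _ = g * v * g⁻¹ * v⁻¹ * w := by rw [hvi]
        _ = (v * g * v⁻¹ * g⁻¹)⁻¹ * w := by group
    rw [h3]
    exact h1
  obtain ⟨o, ho, hob⟩ := Lifting.exists_conj_eq (odd_card_core X) (v := g * v * g⁻¹) (v' := v * w)
    (n := 1) (m := 1)
    (by rw [pow_one, pow_two, show g * v * g⁻¹ * (g * v * g⁻¹) = g * (v * v) * g⁻¹ by group,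
      hvv, mul_one, mul_inv_cancel]) (by rw [pow_one, pow_two, hvw])
    (mul_mem (mul_mem (le_normalizer_core X hg) (normalizer_le_normalizer_core X hv))
      (inv_mem (le_normalizer_core X hg))) h2
  refine ⟨o * g, mul_mem (core_le X ho) hg, ?_⟩
  rw [← hob]
  group

omit [Finite G] in
/-- an element of odd order is the square of one of its powers -/
theorem odd_mem_closure {S : Subgroup G} {o : G} (ho : o ∈ S) (hodd : Odd (orderOf o)) :
    o ∈ closure {s | ∃ r ∈ S, r * r = s} := by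
  obtain ⟨m, hm⟩ := hodd
  apply Subgroup.subset_closure
  refine ⟨o ^ (m + 1), pow_mem ho _, ?_⟩
  rw [← pow_add, show m + 1 + (m + 1) = orderOf o + 1 by omega, pow_succ, pow_orderOf_eq_one, one_mul]

/-- lifting products of squares -/
theorem mem_closure_sq (hv : v ∈ normalizer (X : Set G)) (hvv : v * v = 1) {w : G} (hw : w ∈ X)
    (hwv : w * v = v * w)
    (h : (QuotientGroup.mk ⟨w, hw⟩ : ↥X ⧸ oddCore ↥X) ∈
      closure {s | ∃ r ∈ fixed (act X ⟨v, hv⟩), r * r = s}) :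
    w ∈ closure {s | ∃ r ∈ X ⊓ centralizer ({v} : Set G), r * r = s} := by
  have hv2 : v ^ 2 ^ 1 = 1 := by rw [pow_one, pow_two, hvv]
  obtain ⟨P, hP⟩ : ∃ P, P = closure {s | ∃ r ∈ X ⊓ centralizer ({v} : Set G), r * r = s} := ⟨_, rfl⟩
  have hPle : P ≤ X ⊓ centralizer ({v} : Set G) := by
    rw [hP, closure_le]
    rintro _ ⟨r, hr, rfl⟩
    exact mul_mem hr hr
  have key : ∀ y ∈ closure {s | ∃ r ∈ fixed (act X ⟨v, hv⟩), r * r = s}, ∃ a ∈ P, ∃ ha : a ∈ X,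
      (QuotientGroup.mk ⟨a, ha⟩ : ↥X ⧸ oddCore ↥X) = y := by
    intro y hy
    induction hy using closure_induction with
    | mem y hy =>
      obtain ⟨r, hr, rfl⟩ := hy
      obtain ⟨a, ha, hav, rfl⟩ := exists_lift hv hv2 hr
      refine ⟨a * a, ?_, mul_mem ha ha, rfl⟩
      rw [hP]
      exact Subgroup.subset_closure ⟨a, ⟨ha, mem_centralizer_singleton_iff.mpr hav⟩, rfl⟩
    | one => exact ⟨1, one_mem _, one_mem _, rfl⟩
    | mul y y' _ _ h1 h2 =>
      obtain ⟨a, haP, ha, rfl⟩ := h1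
      obtain ⟨b, hbP, hb, rfl⟩ := h2
      exact ⟨a * b, mul_mem haP hbP, mul_mem ha hb, rfl⟩
    | inv y _ h1 =>
      obtain ⟨a, haP, ha, rfl⟩ := h1
      exact ⟨a⁻¹, inv_mem haP, inv_mem ha, rfl⟩
  obtain ⟨a, haP, ha, haw⟩ := key _ h
  rw [mk_eq_iff] at haw
  have h3 : a⁻¹ * w ∈ P := by
    rw [hP]
    refine odd_mem_closure ⟨X.mul_mem (X.inv_mem ha) hw, ?_⟩
      (Odd.of_dvd_nat (odd_card_core X) (Subgroup.orderOf_dvd_natCard _ haw))
    exact (centralizer ({v} : Set G)).mul_mem ((centralizer ({v} : Set G)).inv_mem (hPle haP).2)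
      (mem_centralizer_singleton_iff.mpr hwv)
  have h4 := mul_mem haP h3
  rw [mul_inv_cancel_left, hP] at h4
  exact h4

end lift

variable {κ : Kind.{u}} {G : Type u} [Group G] [Finite G] {z u v : G} {L X X' : Subgroup G}

/-- the hypothesis on the type: inner or not centralising the centre -/
theorem inn_or (F : KF κ) (hN : PQS κ (Nat.card G)) (hT : OneComp κ)
    (hC : ∀ x : G, orderOf x = 2 → centralizer ({x} : Set G) ≠ ⊤) (hp : IsPair κ z L)
    (hX : Om z L u X) (hX' : Om z L v X') (huv : u * v = v * u) (hn : v ∈ normalizer (X : Set G)) :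
    act X ⟨v, hn⟩ ∈ Inn (↥X ⧸ oddCore ↥X) ∨
      ¬ ∀ i ∈ center (↥X ⧸ oddCore ↥X), act X ⟨v, hn⟩ i = i := by
  rcases isInn_or_isOut hn with h | h
  · exact Or.inl h.2
  · exact Or.inr (TypeEps.typeEps F hN hT hC hp hX hX' huv h)

omit [Finite G] in
theorem act_sq (hvv : v * v = 1) (hn : v ∈ normalizer (X : Set G)) :
    act X ⟨v, hn⟩ * act X ⟨v, hn⟩ = 1 := by
  rw [← map_mul]
  have : (⟨v, hn⟩ : ↥(normalizer (X : Set G))) * ⟨v, hn⟩ = 1 := Subtype.ext hvv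
  rw [this, map_one]

/-- **(P)** -/
theorem swap (F : KF κ) (E : KG κ) (hN : PQS κ (Nat.card G)) (hT : OneComp κ)
    (hC : ∀ x : G, orderOf x = 2 → centralizer ({x} : Set G) ≠ ⊤) (hp : IsPair κ z L)
    (hX : Om z L u X) (hX' : Om z L v X') (huv : u * v = v * u) (hn : v ∈ normalizer (X : Set G))
    (hnf : ¬ Fixes v X) : ∃ g ∈ X, g * v * g⁻¹ = v * u := by
  have hu := Om.pair' hX hp
  have hv' := Om.pair' hX' hp
  obtain ⟨x, hx⟩ := E.swap hu.kind _ (act_sq hv'.sq hn) (fun h => hnf ((act_eq_one_iff hn).mp h))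
    (inn_or F hN hT hC hp hX hX' huv hn) _ (TypeEps.mk_mem_center hu) (TypeEps.mk_sq hu)
    (TypeEps.mk_ne_one hu)
  refine exists_conj hn hv'.sq hu.mem ?_ hx
  calc v * u * (v * u) = v * (u * v) * u := by group
    _ = (v * v) * (u * u) := by rw [huv]; group
    _ = 1 := by rw [hv'.sq, hu.sq, one_mul]

/-- **the element `w`** -/
theorem exists_w (F : KF κ) (E : KG κ) (hN : PQS κ (Nat.card G)) (hT : OneComp κ)
    (hC : ∀ x : G, orderOf x = 2 → centralizer ({x} : Set G) ≠ ⊤) (hp : IsPair κ z L)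
    (hX : Om z L u X) (hX' : Om z L v X') (huv : u * v = v * u) (hn : v ∈ normalizer (X : Set G))
    (hnf : ¬ Fixes v X) :
    ∃ w ∈ X, w * w = 1 ∧ w * v = v * w ∧ ¬ Fixes w X ∧ (∃ g ∈ X, g * v * g⁻¹ = v * w) ∧
      (∃ g ∈ X, g * v * g⁻¹ = v * (w * u)) ∧
      (IsInn v X → w ∈ closure {s | ∃ r ∈ X ⊓ centralizer ({v} : Set G), r * r = s} ∧
        w * u ∈ closure {s | ∃ r ∈ X ⊓ centralizer ({v} : Set G), r * r = s}) := by
  have hu := Om.pair' hX hp
  have hv' := Om.pair' hX' hp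
  obtain ⟨w, hwc, hww, hwf, ⟨x, hx⟩, ⟨y, hy⟩, hphi⟩ := E.elt hu.kind _ (act_sq hv'.sq hn)
    (fun h => hnf ((act_eq_one_iff hn).mp h))
    (inn_or F hN hT hC hp hX hX' huv hn) _ (TypeEps.mk_mem_center hu) (TypeEps.mk_sq hu)
    (TypeEps.mk_ne_one hu)
  obtain ⟨w, hwX, hwv, hw2, rfl⟩ := exists_lift_two hn (n := 1) (by rw [pow_one, pow_two, hv'.sq]) hwf
    (m := 1) (by rw [pow_one, pow_two, hww])
  rw [pow_one, pow_two] at hw2
  have hwu := pair_comm hu hwX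
  refine ⟨w, hwX, hw2, hwv, ?_, ?_, ?_, ?_⟩
  · intro hf
    apply hwc
    rw [mem_center_iff]
    intro a
    obtain ⟨⟨a, ha⟩, rfl⟩ := QuotientGroup.mk_surjective a
    have h1 := (act_eq_one_iff (le_normalizer hwX)).mpr hf
    rw [act_of_mem hwX] at h1
    have h2 := DFunLike.congr_fun h1 (QuotientGroup.mk ⟨a, ha⟩)
    rw [MulAut.conj_apply, MulAut.one_apply, mul_inv_eq_iff_eq_mul] at h2
    exact h2.symm
  · refine exists_conj hn hv'.sq hwX ?_ hx
    calc v * w * (v * w) = v * (w * v) * w := by group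
      _ = (v * v) * (w * w) := by rw [hwv]; group
      _ = 1 := by rw [hv'.sq, hw2, one_mul]
  · refine exists_conj hn hv'.sq (mul_mem hwX hu.mem) ?_ hy
    calc v * (w * u) * (v * (w * u)) = v * w * (u * v) * (w * u) := by group
      _ = v * (w * v) * (u * w) * u := by rw [huv]; group
      _ = v * (v * w) * (w * u) * u := by rw [hwv, hwu]
      _ = (v * v) * (w * w) * (u * u) := by group
      _ = 1 := by rw [hv'.sq, hw2, hu.sq, one_mul, one_mul]
  · intro hi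
    obtain ⟨h1, h2⟩ := hphi hi.2
    refine ⟨mem_closure_sq hn hv'.sq hwX hwv h1, mem_closure_sq hn hv'.sq (mul_mem hwX hu.mem) ?_ h2⟩
    calc w * u * v = w * (u * v) := by group
      _ = w * v * u := by rw [huv]; group
      _ = v * (w * u) := by rw [hwv]; group

end Cfsg.Agent.UGT.I34.Elem
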