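import Cfsg.Agent.UGT.I34.FourG
import Cfsg.Agent.UGT.I34.FixLift

/-!
# THEOREM I34, part [C] (`Z = 2²`), (3.G)(ii): the count

`(a, A)`, `(a, A')` pairs, `A ≠ A'`, `b` commutes with `a` and is of type I on `A` and `A'`; `(b, B)` a pair such that at
most one further pair `(b, B')` exists; `a` normalizes `B` and acts nontrivially on `B / O(B)`. Impossible (`no_two`).
-/

set_option autoImplicit false

open Cfsg Subgroup
open Cfsg.Agent.SignalizersComponents Cfsg.Agent.Lib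
open Cfsg.Agent.SignalizersComponents.IntrinsicBasic
open Cfsg.Agent.Intrinsic.Basic hiding IsPair PQS Target IsPair.sq IsPair.ne_one IsPair.cj
open Cfsg.Agent.Intrinsic.Cen hiding pair_comm pair_mem_cen exists_pump pump_unique
open Cfsg.Agent.Intrinsic.Quot hiding Big small_or_big isPair_quot
open Cfsg.Agent.Intrinsic.Diag
open Cfsg.Agent.McLLyComp.Act (act act_mk act_mul act_inv act_eq_one_iff act_of_mem fixes_mul fixes_inv conj_mem)
open Cfsg.Agent.UGT.I34.Pair Cfsg.Agent.UGT.I34.KAut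
open scoped commutatorElement

namespace Cfsg.Agent.UGT.I34.FourG

universe u

/-- Facts on the exceptional configurations used for (3.G)(ii). -/
structure TCent (κ : Kind.{u}) : Prop where
  core : ∀ (Y : Type u) [Group Y] [Finite Y] (z : Y) (L : Subgroup Y), κ.T Y z L → IsPair κ z L →
    oddCore ↥L = ⊥
  cent : ∀ (Y : Type u) [Group Y] [Finite Y] (z : Y) (L : Subgroup Y), κ.T Y z L → IsPair κ z L →
    centralizer (L : Set Y) ≤ L

/-- Facts on the groups of kind `κ` used for (3.G)(ii). -/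
structure KCount (κ : Kind.{u}) : Prop where
  /-- there are noncentral involutions -/
  inv : ∀ {K : Type u} [Group K] [Finite K], κ.P K → ∃ t : K, t * t = 1 ∧ t ∉ center K
  sq : ∀ {K : Type u} [Group K] [Finite K], κ.P K → ∀ t : K, t * t ∈ center K → t * t = 1
  cent : ∀ {K : Type u} [Group K] [Finite K], κ.P K → ∀ t : K, t * t = 1 → t ∉ center K →
    256 ∣ Nat.card (centralizer ({t} : Set K))
  sub : ∀ {K : Type u} [Group K] [Finite K], κ.P K → ∀ N : Subgroup K, IsPGroup 2 N →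
    128 ≤ Nat.card N → Nat.card (center ↥N) < 64
  aut : ∀ {K : Type u} [Group K] [Finite K], κ.P K → ∀ Q : Subgroup (MulAut K), IsPGroup 2 Q →
    Nat.card Q ≤ 256

/-! ### small facts -/

section small

variable {G : Type u} [Group G]

theorem IsInn.cj {a : G} {X : Subgroup G} (h : IsInn a X) (g : G) :
    IsInn (g * a * g⁻¹) (IntrinsicBasic.cj g X) := by
  obtain ⟨x, hx, hf⟩ := isInn_iff.mp h
  refine isInn_iff.mpr ⟨g * x * g⁻¹, conj_mem_cj hx, ?_⟩
  have := hf.cj g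
  convert this using 1
  group

variable [Finite G]

theorem fixes_of_le {J M : Subgroup G} (hJM : J ≤ M) {a : G} (haJ : a ∈ normalizer (J : Set G))
    (h : Fixes a M) : Fixes a J := by
  refine ⟨haJ, fun y hy => ?_⟩
  have h1 : J ⊓ core M ≤ core J := by
    refine le_core inf_le_left ?_ (Odd.of_dvd_nat (odd_card_core M) (card_dvd_of_le inf_le_right))
    intro j hj
    rw [mem_normalizer_iff_cj, cj_inf, cj_eq_self_of_mem hj,
      mem_normalizer_iff_cj.mp (le_normalizer_core M (hJM hj))]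
  refine h1 ⟨?_, h.2 y (hJM hy)⟩
  rw [commutatorElement_def]
  exact J.mul_mem (conj_mem haJ hy) (J.inv_mem hy)

/-- `core J ≤ core M` as soon as the image of `J` has trivial core -/
theorem core_le_of_qs {J M : Subgroup G} (hJM : J ≤ M) (h : oddCore ↥(qs M J) = ⊥) :
    core J ≤ core M := by
  obtain ⟨e, he⟩ := exists_qs_equiv hJM
  intro j hj
  have hjJ := Intrinsic.Basic.core_le J hj
  have h1 := he j hjJ
  rw [(mk_eq_one_iff hjJ).mpr hj, map_one] at h1
  have h2 := (QuotientGroup.eq_one_iff _).mp h1.symm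
  rw [h, mem_bot] at h2
  exact (mk_eq_one_iff (hJM hjJ)).mp (congrArg Subtype.val h2)

end small

section

variable {κ κ₂ : Kind.{u}} {G : Type u} [Group G] [Finite G]

/-- no involution of `C(a, b)` centralizes `A / O(A)` and `B / O(B)` -/
theorem no_fix (H : GHyp κ κ₂ G) (T : TCent κ) {a b s : G} {A A' B : Subgroup G}
    (hA : IsPair κ a A) (hA' : IsPair κ a A') (hAA' : A ≠ A') (hB : IsPair κ b B)
    (hab : a * b = b * a) (hinn : IsInn b A) (hnf : ¬ Fixes b A') (haB : a ∈ normalizer (B : Set G))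
    (hnf' : ¬ Fixes a B) (hs : s * s = 1) (hs1 : s ≠ 1) (hsa : s * a = a * s) (hsb : s * b = b * s)
    (hfA : Fixes s A) (hfB : Fixes s B) : False := by
  have hsCa : s ∈ centralizer ({a} : Set G) := mem_centralizer_singleton_iff.mpr hsa
  have hsCb : s ∈ centralizer ({b} : Set G) := mem_centralizer_singleton_iff.mpr hsb
  have hbCa : b ∈ centralizer ({a} : Set G) := mem_centralizer_singleton_iff.mpr hab.symm
  obtain ⟨M, hM, hle, haM⟩ := exists_pump hA hs hsa hfA
  obtain ⟨M', hM', hle', hbM'⟩ := exists_pump hB hs hsb hfB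
  have hna : ¬ Fixes a M' := by
    intro h
    apply hnf'
    have h1 := mem_normalizer_cen haB hsa.symm
    exact (fixes_iff_of_sup (isComp_cen hB.comp hsCb hs hfB).2 h1 haB).mp (fixes_of_le hle' h1 h)
  have hMM : M' = M := by
    by_contra hne
    exact hna (hM'.fixes_of_mem hM hne haM)
  subst hMM
  obtain ⟨hJ, hJs⟩ := isComp_cen hA.comp hsCa hs hfA
  have hJ2 : IsComp (centralizer ({s} : Set G) ⊓ centralizer ({a} : Set G)) (cen A s) := by
    rw [inf_comm]; exact hJ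
  have haJ : a ∈ cen A s := pair_mem_cen hA hsa
  have hk := (kind_cen (κ := κ) hA.comp hsCa hs hfA).mpr hA.kind
  have hso := order_two hs hs1
  rcases small_or_big H.ih hA.inv haJ hJ2 hk hM hle (card_lt_of_comp (H.cent s hso) hM.le) with
    h | ⟨haM', hT⟩
  · exact hna (Small.fixes h haJ (hJ2.le.trans inf_le_right))
  · -- `b` acts on `A` as an element `y` of `cen A s`
    obtain ⟨x, hx, hfx⟩ := isInn_iff.mp hinn
    obtain ⟨y, hy, hyx⟩ := exists_mul_of_sup hJs hx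
    have hyA : y ∈ A := cen_le A s hy
    have hfy : Fixes (y⁻¹ * b) A := by
      have h1 : y⁻¹ * b = (y⁻¹ * x) * (x⁻¹ * b) := by group
      rw [h1]
      refine fixes_mul ?_ hfx
      refine hA.comp.fixes_of_core ?_
      exact hA.comp.core_le_core hyx
    have hbA : b ∈ normalizer (A : Set G) := by
      have := mul_mem (le_normalizer hyA) hfy.1
      rwa [mul_inv_cancel_left] at this
    have hbJ : b ∈ normalizer (cen A s : Set G) := mem_normalizer_cen hbA hsb.symm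
    have hybJ : y⁻¹ * b ∈ normalizer (cen A s : Set G) := mul_mem (inv_mem (le_normalizer hy)) hbJ
    have hfJ : Fixes (y⁻¹ * b) (cen A s) := fixes_of_le (cen_le A s) hybJ hfy
    have hpq := isPair_quot hA.sq hA.ne_one haJ haM' (isComp_inf hJ2 hM hle) hk
    have hcore := core_le_of_qs hle (T.core _ _ _ hT hpq)
    have hyM : y ∈ M' := hle hy
    have hybM : y⁻¹ * b ∈ M' := mul_mem (inv_mem hyM) hbM'
    -- its image centralizes the image of `cen A s`
    have h1 : (QuotientGroup.mk ⟨y⁻¹ * b, hybM⟩ : ↥M' ⧸ oddCore ↥M') ∈ qs M' (cen A s) := by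
      apply T.cent _ _ _ hT hpq
      rw [mem_centralizer_iff]
      intro q hq
      obtain ⟨⟨q, hqM⟩, rfl⟩ := QuotientGroup.mk_surjective q
      obtain ⟨j, hj, hjq⟩ := (mem_qs hqM).mp hq
      have h2 : (QuotientGroup.mk ⟨q, hqM⟩ : ↥M' ⧸ oddCore ↥M') = QuotientGroup.mk ⟨j, hj.2⟩ :=
        ((mk_eq_mk_iff' hj.2 hqM).mpr hjq).symm
      rw [h2]
      have h3 := hcore (hfJ.2 j hj.1)
      have h4 : (QuotientGroup.mk (⁅(⟨y⁻¹ * b, hybM⟩ : ↥M'), ⟨j, hj.2⟩⁆) : ↥M' ⧸ oddCore ↥M') = 1 := by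
        refine (mk_eq_one_iff (M := M') (x := ⁅y⁻¹ * b, j⁆) ?_).mpr h3
      exact (commutatorElement_eq_one_iff_mul_comm.mp h4).symm
    have h2 : ∃ j ∈ cen A s, j⁻¹ * b ∈ core M' := by
      obtain ⟨j, hj, hjc⟩ := (mem_qs hybM).mp h1
      refine ⟨y * j, mul_mem hy hj.1, ?_⟩
      have : (y * j)⁻¹ * b = j⁻¹ * (y⁻¹ * b) := by group
      rw [this]; exact hjc
    obtain ⟨j, hj, hjc⟩ := h2
    have hb2 : b ^ 2 ^ 1 = 1 := by rw [pow_one, pow_two, hB.sq]
    have h3 := mem_of_comm_two' (isComp_inf hJ2 hM hle) hj hjc hab.symm hb2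
    exact hnf (hA'.comp.fixes_of_mem hA.comp hAA'.symm (cen_le A s h3))

end

/-! ### the count -/

section count

variable {G : Type u} [Group G] [Finite G]

theorem card_dvd_fixed {A : Subgroup G} {b : G} (hb : b ∈ normalizer (A : Set G)) (hbb : b * b = 1) :
    Nat.card ↥(fixed (act A ⟨b, hb⟩)) ∣ Nat.card ↥(A ⊓ centralizer ({b} : Set G)) :=
  Subgroup.card_dvd_of_surjective _ (FixLift.fmap_surjective hb (n := 1) (by rw [pow_one, pow_two, hbb]))

theorem dvd_card_cen {κ : Kind.{u}} (K : KCount κ) {a b : G} {A : Subgroup G} (hA : IsPair κ a A)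
    (hbb : b * b = 1) (hinn : IsInn b A) (hnf : ¬ Fixes b A) :
    256 ∣ Nat.card ↥(A ⊓ centralizer ({b} : Set G)) := by
  obtain ⟨hb, t, ht⟩ := hinn
  refine dvd_trans ?_ (card_dvd_fixed hb hbb)
  have h1 : fixed (act A ⟨b, hb⟩) = centralizer ({t} : Set (↥A ⧸ oddCore ↥A)) := by
    ext y
    rw [mem_fixed, ← ht, MulAut.conj_apply, mem_centralizer_singleton_iff, mul_inv_eq_iff_eq_mul]
    exact eq_comm
  rw [h1]
  have h2 : t ∉ center (↥A ⧸ oddCore ↥A) := by
    intro h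
    apply hnf
    rw [← act_eq_one_iff hb, ← ht]
    ext y
    rw [MulAut.conj_apply, MulAut.one_apply, mul_inv_eq_iff_eq_mul]
    exact (mem_center_iff.mp h y).symm
  have h3 : t * t ∈ center (↥A ⧸ oddCore ↥A) := by
    rw [mem_center_iff]
    intro y
    have h4 : MulAut.conj (t * t) = 1 := by
      rw [map_mul, ht, ← act_mul hb hb]
      rw [act_eq_one_iff]
      rw [hbb]
      exact Cfsg.Agent.McLLyComp.Act.fixes_one A
    have h5 := DFunLike.congr_fun h4 y
    rw [MulAut.conj_apply, MulAut.one_apply, mul_inv_eq_iff_eq_mul] at h5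
    exact h5.symm
  exact K.cent hA.kind t (K.sq hA.kind t h3) h2

omit [Finite G] in
theorem dvd_of_half {W S : Subgroup G} (hSW : S ≤ W) (h : ∀ g ∈ W, ∀ k ∈ W, g ∉ S → k ∉ S → g⁻¹ * k ∈ S)
    (hW : 256 ∣ Nat.card W) : 128 ∣ Nat.card S := by
  by_cases hWS : W ≤ S
  · rw [le_antisymm hSW hWS]
    exact dvd_trans (by norm_num) hW
  · obtain ⟨g, hg, hgS⟩ := SetLike.not_le_iff_exists.mp hWS
    have h1 : (S.subgroupOf W).index = 2 := by
      rw [index_eq_two_iff]
      refine ⟨⟨g, hg⟩⁻¹, fun b => ?_⟩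
      rw [mem_subgroupOf, mem_subgroupOf]
      by_cases hb : (b : G) ∈ S
      · right
        refine ⟨hb, fun h2 => hgS ?_⟩
        have h3 : ((b : G) * g⁻¹) ∈ S := h2
        have h4 := S.mul_mem (S.inv_mem h3) hb
        rwa [mul_inv_rev, inv_inv, inv_mul_cancel_right] at h4
      · left
        refine ⟨?_, hb⟩
        have h3 := h _ (W.inv_mem b.2) _ (W.inv_mem hg) (fun h4 => hb (by simpa using S.inv_mem h4))
          (fun h4 => hgS (by simpa using S.inv_mem h4))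
        rwa [inv_inv] at h3
    have h2 := Subgroup.card_mul_index (S.subgroupOf W)
    rw [h1, Nat.card_congr (subgroupOfEquivOfLe hSW).toEquiv] at h2
    rw [← h2] at hW
    obtain ⟨m, hm⟩ := hW
    exact ⟨m, by omega⟩

theorem card_sylow_inf {S A T : Subgroup G} (hT2 : IsPGroup 2 T) (hTS : T ≤ S) (hTA : T ≤ A)
    (hSA : S ≤ normalizer (A : Set G)) (R : Sylow 2 ↥S) :
    Nat.card T ≤ Nat.card ↥(((R : Subgroup ↥S).map S.subtype) ⊓ A) := by
  have hp2 : Fact (Nat.Prime 2) := ⟨Nat.prime_two⟩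
  obtain ⟨Q, hQ⟩ := (hT2.comap_subtype (K := S)).exists_le_sylow
  obtain ⟨g, hg⟩ := MulAction.exists_smul_eq ↥S Q R
  have h1 : cj (g : G) T ≤ ((R : Subgroup ↥S).map S.subtype) ⊓ A := by
    intro x hx
    have hx' := mem_cj.mp hx
    refine ⟨?_, ?_⟩
    · have h2 : (⟨(g : G)⁻¹ * x * g, hTS hx'⟩ : ↥S) ∈ Q := hQ hx'
      refine ⟨g * ⟨(g : G)⁻¹ * x * g, hTS hx'⟩ * g⁻¹, ?_, ?_⟩
      · rw [← hg]
        exact ⟨_, h2, rfl⟩
      · change (g : G) * ((g : G)⁻¹ * x * g) * (g : G)⁻¹ = x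
        group
    · have h2 := (mem_normalizer_iff.mp (hSA g.2) _).mp (hTA hx')
      have h3 : (g : G) * ((g : G)⁻¹ * x * g) * (g : G)⁻¹ = x := by group
      rwa [h3] at h2
  have h2 : Nat.card ↥(cj (g : G) T) = Nat.card T := by
    rw [cj_def, card_map_of_injective (MulAut.conj (g : G)).injective]
  rw [← h2]
  exact Nat.le_of_dvd Nat.card_pos (Subgroup.card_dvd_of_le h1)

/-- two commuting subgroups of order at least 128 of a group of order at most 256 -/
theorem card_center_ge {Q : Type*} [Group Q] [Finite Q] (hQ : Nat.card Q ≤ 256) {N₁ N₂ : Subgroup Q}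
    (h₁ : 128 ≤ Nat.card N₁) (h₂ : 128 ≤ Nat.card N₂) (hc : ∀ x ∈ N₁, ∀ y ∈ N₂, x * y = y * x) :
    64 ≤ Nat.card (center ↥N₁) := by
  have h3 : N₂.relIndex N₁ ≤ 2 := by
    have h4 : N₂.relIndex N₁ ≤ N₂.relIndex ⊤ :=
      Subgroup.relIndex_le_of_le_right le_top (by
        rw [Subgroup.relIndex_top_right]; exact Subgroup.index_ne_zero_of_finite)
    rw [Subgroup.relIndex_top_right] at h4
    have h5 := Subgroup.card_mul_index N₂
    by_contra h6
    have h7 : 3 ≤ N₂.index := by omega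
    have h8 : 128 * 3 ≤ Nat.card N₂ * N₂.index := Nat.mul_le_mul h₂ h7
    omega
  have h4 : Nat.card ↥(N₂ ⊓ N₁) * N₂.relIndex N₁ = Nat.card N₁ := by
    have h5 := Subgroup.card_mul_index (N₂.subgroupOf N₁)
    rw [← Subgroup.inf_subgroupOf_right, Nat.card_congr (subgroupOfEquivOfLe inf_le_right).toEquiv,
      Subgroup.inf_subgroupOf_right] at h5
    exact h5
  have h5 : 64 ≤ Nat.card ↥(N₂ ⊓ N₁) := by
    by_contra h6
    have h7 : Nat.card ↥(N₂ ⊓ N₁) ≤ 63 := by omega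
    have h8 : Nat.card ↥(N₂ ⊓ N₁) * N₂.relIndex N₁ ≤ 63 * 2 := Nat.mul_le_mul h7 h3
    omega
  refine h5.trans ?_
  have h6 : (N₂ ⊓ N₁).subgroupOf N₁ ≤ center ↥N₁ := by
    intro x hx
    rw [mem_center_iff]
    intro y
    exact Subtype.ext (hc y y.2 x hx.1)
  have h7 := Nat.card_congr (subgroupOfEquivOfLe (inf_le_right : N₂ ⊓ N₁ ≤ N₁)).toEquiv
  rw [← h7]
  exact Nat.le_of_dvd Nat.card_pos (Subgroup.card_dvd_of_le h6)

variable {κ κ₂ : Kind.{u}}

/-- **(3.G)(ii)**, the count -/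
theorem no_two (H : GHyp κ κ₂ G) (T : TCent κ) (K : KCount κ) {a b : G} {A A' B B' : Subgroup G}
    (hA : IsPair κ a A) (hA' : IsPair κ a A') (hAA' : A ≠ A') (hB : IsPair κ b B)
    (hall : ∀ Y, IsPair κ b Y → Y = B ∨ Y = B') (hab : a * b = b * a)
    (hinn : IsInn b A) (hnf : ¬ Fixes b A) (hinn' : IsInn b A') (hnf' : ¬ Fixes b A')
    (haB : a ∈ normalizer (B : Set G)) (haf : ¬ Fixes a B) : False := by
  have hp2 : Fact (Nat.Prime 2) := ⟨Nat.prime_two⟩
  have hbb := hB.sq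
  obtain ⟨S, hS⟩ : ∃ S : Subgroup G, S = centralizer ({a} : Set G) ⊓ centralizer ({b} : Set G) ⊓
      normalizer (A : Set G) ⊓ normalizer (A' : Set G) ⊓ normalizer (B : Set G) := ⟨_, rfl⟩
  have memS : ∀ x, x ∈ S ↔ x * a = a * x ∧ x * b = b * x ∧ x ∈ normalizer (A : Set G) ∧
      x ∈ normalizer (A' : Set G) ∧ x ∈ normalizer (B : Set G) := by
    intro x
    rw [hS]
    simp only [mem_inf, mem_centralizer_singleton_iff]
    tauto
  -- each of `A`, `A'` contributes a 2-group of order 128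
  have key : ∀ C, IsPair κ a C → (∀ x ∈ C, x ∈ normalizer (A : Set G)) →
      (∀ x ∈ C, x ∈ normalizer (A' : Set G)) → IsInn b C → ¬ Fixes b C →
      ∃ T : Subgroup G, IsPGroup 2 T ∧ T ≤ S ∧ T ≤ C ∧ 128 ≤ Nat.card T := by
    intro C hC hCA hCA' hiC hnC
    have h1 := dvd_card_cen K hC hbb hiC hnC
    have h2 : C ⊓ S ≤ C ⊓ centralizer ({b} : Set G) := by
      intro x hx
      exact ⟨hx.1, mem_centralizer_singleton_iff.mpr ((memS x).mp hx.2).2.1⟩
    have hmem : ∀ x ∈ C ⊓ centralizer ({b} : Set G), x ∈ normalizer (B : Set G) → x ∈ C ⊓ S := by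
      intro x hx hxB
      exact ⟨hx.1, (memS x).mpr ⟨pair_comm hC hx.1, mem_centralizer_singleton_iff.mp hx.2,
        hCA x hx.1, hCA' x hx.1, hxB⟩⟩
    have hcj : ∀ x ∈ C ⊓ centralizer ({b} : Set G), x ∉ C ⊓ S → cj x B = B' := by
      intro x hx hxS
      have hxb := mem_centralizer_singleton_iff.mp hx.2
      have h3 : IsPair κ b (cj x B) := by
        have := hB.cj x
        rwa [hxb, mul_inv_cancel_right] at this
      rcases hall _ h3 with h4 | h4
      · exact absurd (hmem x hx (mem_normalizer_iff_cj.mpr h4)) hxS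
      · exact h4
    have h3 := dvd_of_half h2 (fun g hg k hk hgS hkS => by
      refine hmem _ (mul_mem (inv_mem hg) hk) ?_
      rw [mem_normalizer_iff_cj, cj_mul, hcj k hk hkS, ← hcj g hg hgS, ← cj_mul, inv_mul_cancel,
        cj_one]) h1
    have h4 : 2 ^ 7 ∣ Nat.card ↥(C ⊓ S) := by
      rw [show (2 : ℕ) ^ 7 = 128 by norm_num]; exact h3
    obtain ⟨U, hU⟩ := Sylow.exists_subgroup_card_pow_prime 2 h4
    refine ⟨U.map (C ⊓ S).subtype, ?_, ?_, ?_, ?_⟩
    · exact (IsPGroup.of_card hU).map _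
    · exact (Subgroup.map_subtype_le U).trans inf_le_right
    · exact (Subgroup.map_subtype_le U).trans inf_le_left
    · rw [card_map_of_injective (C ⊓ S).subtype_injective, hU]
      norm_num
  have hAn : ∀ x ∈ A, x ∈ normalizer (A : Set G) := fun x hx => le_normalizer hx
  have hAn' : ∀ x ∈ A, x ∈ normalizer (A' : Set G) := fun x hx =>
    (hA'.comp.fixes_of_mem hA.comp hAA'.symm hx).1
  have hA'n : ∀ x ∈ A', x ∈ normalizer (A : Set G) := fun x hx =>
    (hA.comp.fixes_of_mem hA'.comp hAA' hx).1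
  have hA'n' : ∀ x ∈ A', x ∈ normalizer (A' : Set G) := fun x hx => le_normalizer hx
  obtain ⟨T₁, hT₁2, hT₁S, hT₁A, hT₁c⟩ := key A hA hAn hAn' hinn hnf
  obtain ⟨T₂, hT₂2, hT₂S, hT₂A, hT₂c⟩ := key A' hA' hA'n hA'n' hinn' hnf'
  obtain ⟨R₀⟩ : Nonempty (Sylow 2 ↥S) := inferInstance
  have hSA : S ≤ normalizer (A : Set G) := fun x hx => ((memS x).mp hx).2.2.1
  have hSA' : S ≤ normalizer (A' : Set G) := fun x hx => ((memS x).mp hx).2.2.2.1
  have hSB : S ≤ normalizer (B : Set G) := fun x hx => ((memS x).mp hx).2.2.2.2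
  have c1 := hT₁c.trans (card_sylow_inf hT₁2 hT₁S hT₁A hSA R₀)
  have c2 := hT₂c.trans (card_sylow_inf hT₂2 hT₂S hT₂A hSA' R₀)
  obtain ⟨R, hR⟩ : ∃ R, R = (R₀ : Subgroup ↥S).map S.subtype := ⟨_, rfl⟩
  rw [← hR] at c1 c2
  have hRS : R ≤ S := hR ▸ Subgroup.map_subtype_le _
  have hR2 : IsPGroup 2 R := hR ▸ R₀.isPGroup'.map _
  have hpow : ∀ x ∈ R, ∃ n : ℕ, x ^ 2 ^ n = 1 := by
    intro x hx
    obtain ⟨n, hn⟩ := hR2 ⟨x, hx⟩
    exact ⟨n, congrArg Subtype.val hn⟩
  -- the two subgroups commute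
  have hcomm : ∀ x ∈ R ⊓ A, ∀ y ∈ R ⊓ A', x * y = y * x := by
    intro x hx y hy
    have h1 := (hA.comp.comm_le_core hA'.comp hAA' (commutator_mem_commutator hx.2 hy.2)).1
    have h2 : ⁅x, y⁆ ∈ R := by
      rw [commutatorElement_def]
      exact R.mul_mem (R.mul_mem (R.mul_mem hx.1 hy.1) (R.inv_mem hx.1)) (R.inv_mem hy.1)
    obtain ⟨n, hn⟩ := hpow _ h2
    exact commutatorElement_eq_one_iff_mul_comm.mp (eq_one_of_mem_core h1 hn)
  -- the action on `B / O(B)`
  let α : ↥R →* MulAut (↥B ⧸ oddCore ↥B) := (act B).comp (inclusion (hRS.trans hSB))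
  have hα : ∀ x : ↥R, α x = 1 → Fixes (x : G) B := by
    intro x hx
    exact (act_eq_one_iff (hSB (hRS x.2))).mp hx
  have hker : ∀ (C : Subgroup G), IsPair κ a C → (∀ s ∈ R ⊓ C, s * s = 1 → s ≠ 1 → ¬ Fixes s B) →
      ∀ x : ↥R, (x : G) ∈ C → α x = 1 → x = 1 := by
    intro C hC hno x hxC hx
    by_contra hx1
    obtain ⟨n, hn⟩ := hpow x x.2
    have hx1' : (x : G) ≠ 1 := fun h => hx1 (Subtype.ext h)
    -- an involution in `⟨x⟩`
    obtain ⟨m, hm1, hm2⟩ : ∃ m : ℕ, (x : G) ^ 2 ^ m ≠ 1 ∧ (x : G) ^ 2 ^ (m + 1) = 1 := by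
      classical
      have hex : ∃ k : ℕ, (x : G) ^ 2 ^ k = 1 := ⟨n, hn⟩
      have h0 : Nat.find hex ≠ 0 := by
        intro h0
        have := Nat.find_spec hex
        rw [h0, pow_zero, pow_one] at this
        exact hx1' this
      obtain ⟨m, hm⟩ := Nat.exists_eq_succ_of_ne_zero h0
      refine ⟨m, Nat.find_min hex (by omega), ?_⟩
      have := Nat.find_spec hex
      rwa [hm] at this
    refine hno ((x : G) ^ 2 ^ m) ⟨R.pow_mem x.2 _, C.pow_mem hxC _⟩ ?_ hm1 ?_
    · rw [← pow_two, ← pow_mul, ← pow_succ]; exact hm2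
    · have h1 : α (x ^ 2 ^ m) = 1 := by rw [map_pow, hx, one_pow]
      exact hα _ h1
  have hno1 : ∀ s ∈ R ⊓ A, s * s = 1 → s ≠ 1 → ¬ Fixes s B := by
    intro s hs hss hs1 hf
    have hsS := (memS s).mp (hRS hs.1)
    exact no_fix H T hA' hA hAA'.symm hB hab hinn' hnf haB haf hss hs1 hsS.1 hsS.2.1
      (hA'.comp.fixes_of_mem hA.comp hAA'.symm hs.2) hf
  have hno2 : ∀ s ∈ R ⊓ A', s * s = 1 → s ≠ 1 → ¬ Fixes s B := by
    intro s hs hss hs1 hf
    have hsS := (memS s).mp (hRS hs.1)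
    exact no_fix H T hA hA' hAA' hB hab hinn hnf' haB haf hss hs1 hsS.1 hsS.2.1
      (hA.comp.fixes_of_mem hA'.comp hAA' hs.2) hf
  have hk1 := hker A hA hno1
  have hk2 := hker A' hA' hno2
  -- the images
  obtain ⟨N₁, hN₁⟩ : ∃ N₁ : Subgroup ↥R, N₁ = (R ⊓ A).subgroupOf R := ⟨_, rfl⟩
  obtain ⟨N₂, hN₂⟩ : ∃ N₂ : Subgroup ↥R, N₂ = (R ⊓ A').subgroupOf R := ⟨_, rfl⟩
  have card_N₁ : Nat.card N₁ = Nat.card ↥(R ⊓ A) := by
    rw [hN₁]; exact Nat.card_congr (subgroupOfEquivOfLe inf_le_left).toEquiv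
  have card_N₂ : Nat.card N₂ = Nat.card ↥(R ⊓ A') := by
    rw [hN₂]; exact Nat.card_congr (subgroupOfEquivOfLe inf_le_left).toEquiv
  have hinj : ∀ (N : Subgroup ↥R) (C : Subgroup G), (∀ x ∈ N, (x : G) ∈ C) →
      (∀ x : ↥R, (x : G) ∈ C → α x = 1 → x = 1) → Nat.card ↥(N.map α.rangeRestrict) = Nat.card N := by
    intro N C hNC hkC
    let g : ↥N →* ↥(N.map α.rangeRestrict) := α.rangeRestrict.subgroupMap N
    have hg : Function.Bijective g := by
      refine ⟨?_, MonoidHom.subgroupMap_surjective _ _⟩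
      rw [injective_iff_map_eq_one]
      intro x hx
      have h1 : α (x : ↥R) = 1 := congrArg (fun y => ((y : ↥α.range) : MulAut (↥B ⧸ oddCore ↥B)))
        (congrArg Subtype.val hx)
      exact Subtype.ext (hkC x (hNC x x.2) h1)
    exact (Nat.card_congr (Equiv.ofBijective g hg)).symm
  have hm1 : ∀ x ∈ N₁, (x : G) ∈ A := by
    intro x hx
    rw [hN₁] at hx
    exact hx.2
  have hm2 : ∀ x ∈ N₂, (x : G) ∈ A' := by
    intro x hx
    rw [hN₂] at hx
    exact hx.2
  have e1 := hinj N₁ A hm1 hk1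
  have e2 := hinj N₂ A' hm2 hk2
  have hQ : Nat.card ↥α.range ≤ 256 := by
    refine K.aut hB.kind α.range ?_
    exact hR2.of_surjective α.rangeRestrict α.rangeRestrict_surjective
  have h64 := card_center_ge hQ (N₁ := N₁.map α.rangeRestrict) (N₂ := N₂.map α.rangeRestrict)
    (by rw [e1, card_N₁]; exact c1) (by rw [e2, card_N₂]; exact c2) (by
      rintro _ ⟨x, hx, rfl⟩ _ ⟨y, hy, rfl⟩
      rw [← map_mul, ← map_mul]
      congr 1
      exact Subtype.ext (hcomm x ⟨x.2, hm1 x hx⟩ y ⟨y.2, hm2 y hy⟩))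
  -- the centre of `R ⊓ A`
  have heq1 : ↥N₁ ≃* ↥(N₁.map α.rangeRestrict) := by
    refine MulEquiv.ofBijective (α.rangeRestrict.subgroupMap N₁) ⟨?_, MonoidHom.subgroupMap_surjective _ _⟩
    rw [injective_iff_map_eq_one]
    intro x hx
    have h1 : α (x : ↥R) = 1 := congrArg (fun y => ((y : ↥α.range) : MulAut (↥B ⧸ oddCore ↥B)))
      (congrArg Subtype.val hx)
    exact Subtype.ext (hk1 x (hm1 x x.2) h1)
  -- the image of `N₁` in `A / O(A)`
  let β : ↥N₁ →* (↥A ⧸ oddCore ↥A) := (QuotientGroup.mk' (oddCore ↥A)).comp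
    { toFun := fun x => ⟨((x : ↥R) : G), hm1 x x.2⟩
      map_one' := rfl
      map_mul' := fun _ _ => rfl }
  have hβ : Function.Injective β := by
    rw [injective_iff_map_eq_one]
    intro x hx
    have h1 : ((x : ↥R) : G) ∈ core A := (mk_eq_one_iff (hm1 x x.2)).mp hx
    obtain ⟨n, hn⟩ := hpow _ (x : ↥R).2
    exact Subtype.ext (Subtype.ext (eq_one_of_mem_core h1 hn))
  have heq2 : ↥N₁ ≃* ↥β.range := MonoidHom.ofInjective hβ
  have h5 : Nat.card (center ↥β.range) = Nat.card (center ↥(N₁.map α.rangeRestrict)) :=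
    Nat.card_congr (Subgroup.centerCongr (heq2.symm.trans heq1)).toEquiv
  have h6 := K.sub hA.kind β.range (by
    refine IsPGroup.of_surjective ?_ β.rangeRestrict β.rangeRestrict_surjective
    exact hR2.to_subgroup N₁) (by
    rw [← Nat.card_congr heq2.toEquiv, card_N₁]; exact c1)
  omega

end count

end Cfsg.Agent.UGT.I34.FourG
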