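import Cfsg.Agent.UGT.I34.FourDefs
import Cfsg.Agent.UGT.I34.FixLift

/-!
# THEOREM I34, part [C] (`Z = 2²`): type `c` does not occur

`World κ G`: the setting, no type (2) (`no2`), the result on type I pairs (`ti`), the facts on automorphisms.

* `exists_conj_mul`: `act X v h = h c̄` gives `g ∈ X` with `v^g = v c`;
* `World.not_vess`: `v` outer on `X ∈ Ω_u`, `X' ∈ Ω_v`, `l ∈ X` a central involution modulo `O(X)`: `l ∉ X'`, `l` does
  not centralize `X' / O(X')`;
* `World.no_typeC`.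
-/

set_option autoImplicit false

open Cfsg Subgroup
open Cfsg.Agent.SignalizersComponents Cfsg.Agent.Lib
open Cfsg.Agent.SignalizersComponents.IntrinsicBasic
open Cfsg.Agent.Intrinsic
open Cfsg.Agent.Intrinsic.Basic hiding IsPair PQS Target IsPair.sq IsPair.ne_one IsPair.cj
open Cfsg.Agent.Intrinsic.Cen hiding pair_comm pair_mem_cen exists_pump pump_unique
open Cfsg.Agent.McLLyComp.Act
open Cfsg.Agent.UGT.I34.Pair Cfsg.Agent.UGT.I34.KAut Cfsg.Agent.UGT.I34.FixLift
open Cfsg.Agent.UGT.I34.KF (NInv)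
open scoped commutatorElement

namespace Cfsg.Agent.UGT.I34.Four

universe u

/-! ### conjugation and lifting -/

section lift

variable {G : Type*} [Group G]

/-- commuting involutions generate a 2-group -/
theorem isPGroup_closure {s : Set G} (h2 : ∀ x ∈ s, x * x = 1) (hc : ∀ x ∈ s, ∀ y ∈ s, x * y = y * x) :
    IsPGroup 2 (closure s) := by
  have h1 : ∀ x ∈ closure s, ∀ y ∈ s, x * y = y * x := by
    intro x hx
    refine closure_induction (p := fun x _ => ∀ y ∈ s, x * y = y * x) (fun x hx y hy => hc x hx y hy)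
      (fun y _ => by rw [one_mul, mul_one]) (fun a b _ _ ha hb y hy => ?_) (fun a _ ha y hy => ?_) hx
    · rw [mul_assoc, hb y hy, ← mul_assoc, ha y hy, mul_assoc]
    · rw [inv_mul_eq_iff_eq_mul, ← mul_assoc, ha y hy, mul_inv_cancel_right]
  have h3 : ∀ x ∈ closure s, ∀ y ∈ closure s, x * y = y * x := by
    intro x hx y hy
    refine closure_induction (p := fun y _ => x * y = y * x) (fun y hy => h1 x hx y hy)
      (by rw [one_mul, mul_one]) (fun a b _ _ ha hb => ?_) (fun a _ ha => ?_) hy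
    · rw [← mul_assoc, ha, mul_assoc, hb, mul_assoc]
    · rw [eq_inv_mul_iff_mul_eq, ← mul_assoc, ← ha, mul_inv_cancel_right]
  have h4 : ∀ x ∈ closure s, x * x = 1 := by
    intro x hx
    refine closure_induction (p := fun x _ => x * x = 1) (fun x hx => h2 x hx)
      (by rw [one_mul]) (fun a b ha' hb' ha hb => ?_) (fun a _ ha => ?_) hx
    · calc a * b * (a * b) = a * (b * a) * b := by group
        _ = (a * a) * (b * b) := by rw [h3 b hb' a ha']; group
        _ = 1 := by rw [ha, hb, one_mul]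
    · rw [← mul_inv_rev, ha, inv_one]
  rintro ⟨x, hx⟩
  exact ⟨1, Subtype.ext (by
    change x ^ 2 ^ 1 = 1
    rw [pow_one, pow_two, h4 x hx])⟩

variable [Finite G] {X : Subgroup G} {v : G}

/-- lifting involutions fixed by a 2-group -/
theorem exists_lift_group {P : Subgroup G} (hP : IsPGroup 2 P) (hPX : P ≤ normalizer (X : Set G))
    {x : ↥X ⧸ oddCore ↥X} (hx : ∀ p (hp : p ∈ P), act X ⟨p, hPX hp⟩ x = x) (hxx : x * x = 1) :
    ∃ a, ∃ ha : a ∈ X, a * a = 1 ∧ (∀ p ∈ P, p * a = a * p) ∧ QuotientGroup.mk ⟨a, ha⟩ = x := by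
  obtain ⟨⟨c, hc⟩, rfl⟩ := QuotientGroup.mk_surjective x
  obtain ⟨o, ho, h1⟩ := Lifting.exists_commute_group (odd_card_core X) hP
    (hPX.trans (normalizer_le_normalizer_core X)) (m := c) (fun p hp => by
      have := hx p hp
      rw [act_mk (hPX hp) hc] at this
      exact (mk_eq_iff hc (conj_mem (hPX hp) hc)).mp this.symm)
  have hco : c * o ∈ X := mul_mem hc (core_le X ho)
  have hmk : (QuotientGroup.mk ⟨c * o, hco⟩ : ↥X ⧸ oddCore ↥X) = QuotientGroup.mk ⟨c, hc⟩ := by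
    rw [mk_eq_iff]
    have : (c * o)⁻¹ * c = o⁻¹ := by group
    rw [this]
    exact inv_mem ho
  have h2 : (c * o) ^ 2 ^ 1 ∈ core X := by
    rw [← mk_eq_one_iff (pow_mem hco _)]
    have : (QuotientGroup.mk ⟨(c * o) ^ 2 ^ 1, pow_mem hco _⟩ : ↥X ⧸ oddCore ↥X) =
        QuotientGroup.mk ⟨c * o, hco⟩ * QuotientGroup.mk ⟨c * o, hco⟩ := by
      rw [← QuotientGroup.mk_mul]
      congr 1
      exact Subtype.ext (by
        change (c * o) ^ 2 ^ 1 = c * o * (c * o)
        rw [pow_one, pow_two])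
    rw [this, hmk, hxx]
  obtain ⟨k, hk1, hk2⟩ := Lifting.exists_two_part (odd_card_core X) h2
  refine ⟨(c * o) ^ k, pow_mem hco _, ?_, fun p hp => ?_, ?_⟩
  · rw [← pow_two, ← hk1, pow_one]
  · exact (show Commute p (c * o) from h1 p hp).pow_right k
  · rw [← hmk, mk_eq_iff]
    have : ((c * o) ^ k)⁻¹ * (c * o) = ((c * o)⁻¹ * (c * o) ^ k)⁻¹ := by group
    rw [this]
    exact inv_mem hk2

/-- `v^h ≡ v c` modulo `O(X)` gives exact conjugacy under `X` -/
theorem exists_conj_mul (hn : v ∈ normalizer (X : Set G)) (hvv : v * v = 1) {c : G} (hc : c ∈ X)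
    (hcc : c * c = 1) (hcv : c * v = v * c) {h : ↥X ⧸ oddCore ↥X}
    (hh : act X ⟨v, hn⟩ h = h * QuotientGroup.mk ⟨c, hc⟩) : ∃ g ∈ X, g * v * g⁻¹ = v * c := by
  obtain ⟨⟨k, hk⟩, rfl⟩ := QuotientGroup.mk_surjective h
  have hvi : v⁻¹ = v := inv_eq_of_mul_eq_one_left hvv
  rw [act_mk hn hk] at hh
  have h1 : (v * k * v⁻¹)⁻¹ * (k * c) ∈ core X := (mk_eq_iff (conj_mem hn hk) (mul_mem hk hc)).mp hh
  have h2 := conj_mem_core (inv_mem hn) h1
  have h3 : v⁻¹ * ((v * k * v⁻¹)⁻¹ * (k * c)) * v⁻¹⁻¹ = (k⁻¹ * v * k⁻¹⁻¹)⁻¹ * (v * c) := by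
    calc v⁻¹ * ((v * k * v⁻¹)⁻¹ * (k * c)) * v⁻¹⁻¹ = k⁻¹ * v⁻¹ * k * (c * v) := by group
      _ = k⁻¹ * v⁻¹ * k * (v * c) := by rw [hcv]
      _ = _ := by group
  rw [h3] at h2
  have e1 : (k⁻¹ * v * k⁻¹⁻¹) ^ 2 ^ 1 = 1 := by
    rw [pow_one, pow_two]
    calc k⁻¹ * v * k⁻¹⁻¹ * (k⁻¹ * v * k⁻¹⁻¹) = k⁻¹ * (v * v) * k := by group
      _ = 1 := by rw [hvv]; group
  have e2 : (v * c) ^ 2 ^ 1 = 1 := by
    rw [pow_one, pow_two]
    calc v * c * (v * c) = v * (c * v) * c := by group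
      _ = (v * v) * (c * c) := by rw [hcv]; group
      _ = 1 := by rw [hvv, hcc, one_mul]
  obtain ⟨o, ho, h4⟩ := Lifting.exists_conj_eq (odd_card_core X) e1 e2
    (normalizer_le_normalizer_core X (mul_mem (mul_mem (inv_mem (le_normalizer hk)) hn)
      (inv_mem (inv_mem (le_normalizer hk))))) h2
  refine ⟨o * k⁻¹, mul_mem (core_le X ho) (inv_mem hk), ?_⟩
  rw [← h4]; group

end lift

/-! ### the world -/

/-- The world after (3.F), (3.G) and the analysis of type I. -/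
structure World (κ : Kind.{u}) (G : Type u) [Group G] : Prop where
  sett : Sett κ G
  types : KTypes κ
  /-- no type (2) -/
  no2 : ∀ (u v : G) (X X' : Subgroup G), IsPair κ u X → IsPair κ v X' → u * v = v * u → cj v X = X
  /-- (TYPE I) -/
  ti : ∀ (u v : G) (X X' : Subgroup G), IsPair κ u X → IsPair κ v X' → u * v = v * u → IsInn v X →
    ¬ Fixes v X → (∃ h : v ∈ X, Can (QuotientGroup.mk ⟨v, h⟩ : ↥X ⧸ oddCore ↥X)) ∧ IsInn u X' ∧
      ∀ Y, IsPair κ u Y → Y = X

namespace World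

variable {κ : Kind.{u}} {G : Type u} [Group G]

theorem exCan' (W : World κ G) {K : Type u} [Group K] [Finite K] (hK : κ.P K) (t : K) (ht : NInv t) :
    ∃ c ∈ center K, Can (t * c) := W.sett.kl.exC hK t ht

theorem canU (W : World κ G) {K : Type u} [Group K] [Finite K] (hK : κ.P K) (t c : K) (ht : Can t)
    (hc : c ∈ center K) (htc : Can (t * c)) : c = 1 := W.sett.kl.canU hK t c ht hc htc

theorem out (W : World κ G) {K : Type u} [Group K] [Finite K] (hK : κ.P K) (φ : MulAut K)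
    (h : φ * φ = 1) (ho : φ ∉ Inn K) : TypeC φ ∨ (∃ J, TypeF φ J) ∨ ∃ J, TypeG φ J :=
  W.types.out hK φ h ho

end World

section

variable {κ : Kind.{u}} {G : Type u} [Group G] {u v l a : G} {X X' M J : Subgroup G}

theorem fixes_of_mem_core {o : G} (ho : o ∈ core M) : Fixes o M := by
  have hoM := core_le M ho
  refine ⟨le_normalizer hoM, fun y hy => ?_⟩
  have h1 := conj_mem_core (x := y) (le_normalizer hy) (inv_mem ho)
  have h2 : ⁅o, y⁆ = o * (y * o⁻¹ * y⁻¹) := by
    rw [commutatorElement_def]; group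
  rw [h2]
  exact mul_mem ho h1

theorem pair_mk_center (hu : IsPair κ u X) :
    (QuotientGroup.mk ⟨u, hu.mem⟩ : ↥X ⧸ oddCore ↥X) ∈ center (↥X ⧸ oddCore ↥X) :=
  (mk_mem_center_iff hu.mem).mpr (pair_fixes hu)

theorem mk_sq_one {a : G} (ha : a ∈ X) (haa : a * a = 1) :
    (QuotientGroup.mk ⟨a, ha⟩ : ↥X ⧸ oddCore ↥X) * QuotientGroup.mk ⟨a, ha⟩ = 1 := by
  rw [← QuotientGroup.mk_mul]
  have : (⟨a, ha⟩ : ↥X) * ⟨a, ha⟩ = 1 := Subtype.ext haa
  rw [this]
  rfl

/-- conjugate pairs -/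
theorem pair_conj {g y : G} {Y : Subgroup G} (h : IsPair κ v Y) (hg : g * v * g⁻¹ = y) :
    IsPair κ y (cj g Y) := hg ▸ h.cj g

variable [Finite G]

theorem mk_ne_one' {a : G} (ha : a ∈ X) (haa : a * a = 1) (ha1 : a ≠ 1) :
    (QuotientGroup.mk ⟨a, ha⟩ : ↥X ⧸ oddCore ↥X) ≠ 1 := fun h =>
  ha1 (eq_one_of_mem_core_sq ((mk_eq_one_iff ha).mp h) haa)

/-- `IsInn` passes from a small pump-up to `X` -/
theorem isInn_of_small (hJM : J ⊔ core M = M) (hJX : J ⊔ core X = X)
    (haJ : a ∈ normalizer (J : Set G)) (haX : a ∈ normalizer (X : Set G)) (h : IsInn a M) :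
    IsInn a X := by
  have hJleX : J ≤ X := by rw [← hJX]; exact le_sup_left
  have hJleM : J ≤ M := by rw [← hJM]; exact le_sup_left
  obtain ⟨y, hy, hf⟩ := isInn_iff.mp h
  obtain ⟨j, hj, hjy⟩ := exists_mul_of_sup hJM hy
  have h1 : Fixes (j⁻¹ * a) M := by
    have e : j⁻¹ * a = (j⁻¹ * y) * (y⁻¹ * a) := by group
    rw [e]
    exact fixes_mul (fixes_of_mem_core hjy) hf
  have hjJ : j⁻¹ * a ∈ normalizer (J : Set G) := mul_mem (inv_mem (le_normalizer hj)) haJ
  have h2 := (fixes_iff_of_sup hJM hjJ h1.1).mpr h1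
  have h3 := (fixes_iff_of_sup hJX hjJ (mul_mem (inv_mem (le_normalizer (hJleX hj))) haX)).mp h2
  exact isInn_iff.mpr ⟨j, hJleX hj, h3⟩

omit [Finite G] in
theorem isInn_of_mem {l : G} (hl : l ∈ X) : IsInn l X :=
  isInn_iff.mpr ⟨l, hl, by rw [inv_mul_cancel]; exact fixes_one X⟩

namespace World

variable (W : World κ G)
include W

/-- `v` outer on `X`, `l` in the vessel of `X` -/
theorem not_vess (hu : IsPair κ u X) (hv : IsPair κ v X') (ho : IsOut v X)
    (hlX : l ∈ X) (hll : l * l = 1) (hl1 : l ≠ 1) (hlf : Fixes l X) (hlv : l * v = v * l) :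
    ¬ Fixes l X' ∧ l ∉ X' := by
  obtain ⟨M, hM, -, hle, hs1, hs2, hfix⟩ := W.sett.vess hu hlX hll hl1 hlf
  have key : ¬ Fixes v M := fun h => ho.not_fixes ((hfix v hlv.symm ho.1).mp h)
  have k1 : ¬ Fixes l X' := fun h => key (typeZero_symm' hv hM hlv.symm h)
  refine ⟨k1, fun h => ?_⟩
  have h1 := (W.ti v l X' M hv hM hlv.symm (isInn_of_mem h) k1).2.1
  exact ho.not_inn (isInn_of_small hs1 hs2 (mem_normalizer_cen ho.1 hlv.symm) ho.1 h1)

/-- `c ∈ X` a noncentral noncanonical involution: `c` is not the involution of a pair -/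
theorem not_D (hu : IsPair κ u X) {c : G} {Y : Subgroup G} (hc : c ∈ X)
    (hnc : ¬ Can (QuotientGroup.mk ⟨c, hc⟩ : ↥X ⧸ oddCore ↥X)) (hcf : ¬ Fixes c X) :
    ¬ IsPair κ c Y := by
  intro h
  obtain ⟨⟨h1, h2⟩, -⟩ := W.ti u c X Y hu h (pair_comm hu hc).symm (isInn_of_mem hc) hcf
  exact hnc h2

/-- an involution `y` of a pair which commutes with `v` and is outer on `X' ∈ Ω_v`: `y v` is the involution of a pair -/
theorem shift_out (hv : IsPair κ v X') {y : G} {Y : Subgroup G} (hy : IsPair κ y Y)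
    (hyv : y * v = v * y) (ho : IsOut y X') : ∃ g ∈ X', g * y * g⁻¹ = y * v := by
  have h1 : act X' ⟨y, ho.1⟩ (QuotientGroup.mk ⟨v, hv.mem⟩) = QuotientGroup.mk ⟨v, hv.mem⟩ := by
    rw [act_mk ho.1 hv.mem]
    congr 1
    exact Subtype.ext (by
      change y * v * y⁻¹ = v
      rw [hyv, mul_inv_cancel_right])
  have h2 : ∃ h, act X' ⟨y, ho.1⟩ h = h * QuotientGroup.mk ⟨v, hv.mem⟩ := by
    rcases W.out hv.kind _ (ho.out hy.sq).sq (ho.out hy.sq).out with h | ⟨J, h⟩ | ⟨J, h⟩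
    · exact h.shift _ (pair_mk_center hv)
    · exact h.shift _ (pair_mk_center hv) h1
    · exact h.shift _ (pair_mk_center hv) h1
  obtain ⟨h, hh⟩ := h2
  exact exists_conj_mul ho.1 hy.sq hv.mem hv.sq hyv.symm hh

/-- `v` acts as type `c`, `f` or `g` on `X`; `c ∈ X` a noncanonical noncentral involution commuting with `v` such that
`v c` is the involution of a pair: then `c` centralizes `X' / O(X')` or `c ∈ X'` -/
theorem fixes_or_mem (hu : IsPair κ u X) (hv : IsPair κ v X') {c : G} {Y : Subgroup G}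
    (hc : c ∈ X) (hnc : ¬ Can (QuotientGroup.mk ⟨c, hc⟩ : ↥X ⧸ oddCore ↥X)) (hcf : ¬ Fixes c X)
    (hcv : c * v = v * c) (hY : IsPair κ (v * c) Y) : Fixes c X' ∨ c ∈ X' := by
  have hcomm : v * (v * c) = (v * c) * v := by rw [mul_assoc, hcv]
  have hn : v * c ∈ normalizer (X' : Set G) :=
    mem_normalizer_iff_cj.mpr (W.no2 v (v * c) X' Y hv hY hcomm)
  rcases isInn_or_isOut hn with hi | ho
  · by_cases hf : Fixes (v * c) X'
    · left
      exact (fixes_mul_iff_right (pair_fixes hv)).mp hf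
    · right
      obtain ⟨⟨h1, -⟩, -⟩ := W.ti v (v * c) X' Y hv hY hcomm hi hf
      have := mul_mem (inv_mem hv.mem) h1
      rwa [inv_mul_cancel_left] at this
  · exfalso
    obtain ⟨g, -, hg⟩ := W.shift_out hv hY hcomm.symm ho
    have h1 : v * c * v = c := by rw [mul_assoc, hcv, ← mul_assoc, hv.sq, one_mul]
    rw [h1] at hg
    exact W.not_D hu hc hnc hcf (pair_conj hY hg)

/-- **no type `c`** -/
theorem no_typeC (hu : IsPair κ u X) (hv : IsPair κ v X')
    (hn : v ∈ normalizer (X : Set G)) (hvu : v * u = u * v) (hc : TypeC (act X ⟨v, hn⟩)) : False := by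
  have ho : IsOut v X := ⟨hn, hc.out⟩
  have hvv := hv.sq
  obtain ⟨w0, hw0, hw0f, h0, hh0⟩ := hc.inv
  obtain ⟨c0, hc0, hcan⟩ := W.exCan' hu.kind w0 hw0
  -- the canonical lift
  obtain ⟨t, ht⟩ : ∃ t, t = w0 * c0 := ⟨_, rfl⟩
  rw [← ht] at hcan
  have htf : act X ⟨v, hn⟩ t = t := by rw [ht, map_mul, hw0f, hc.center c0 hc0]
  have hsh : ∀ z ∈ center (↥X ⧸ oddCore ↥X), ∃ h, act X ⟨v, hn⟩ h = h * (t * z) := by
    intro z hz
    obtain ⟨h1, hh1⟩ := hc.shift (c0 * z) (mul_mem hc0 hz)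
    refine ⟨h1 * h0, ?_⟩
    rw [map_mul, hh1, hh0, ht]
    have h2 := mem_center_iff.mp (mul_mem hc0 hz) (h0 * w0)
    calc h1 * (c0 * z) * (h0 * w0) = h1 * ((c0 * z) * (h0 * w0)) := by group
      _ = h1 * ((h0 * w0) * (c0 * z)) := by rw [h2]
      _ = _ := by group
  -- an element `b` of the centre
  have hucen := pair_mk_center hu
  obtain ⟨ub, hub⟩ : ∃ ub : ↥X ⧸ oddCore ↥X, ub = QuotientGroup.mk ⟨u, hu.mem⟩ := ⟨_, rfl⟩
  have hub1 : ub ≠ 1 := hub ▸ mk_ne_one' hu.mem hu.sq hu.ne_one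
  obtain ⟨b, hb, hb1, hbu⟩ : ∃ b ∈ center (↥X ⧸ oddCore ↥X), b ≠ 1 ∧ b ≠ ub := by
    by_contra hcon
    push Not at hcon
    have h4 := W.sett.kl.card hu.kind
    have h5 : (Set.univ : Set ↥(center (↥X ⧸ oddCore ↥X))) ⊆ {1, ⟨ub, hub ▸ hucen⟩} := by
      rintro ⟨x, hx⟩ -
      by_cases hx1 : x = 1
      · left; exact Subtype.ext hx1
      · right; exact Subtype.ext (hcon x hx hx1)
    have h6 := Set.ncard_le_ncard h5 (Set.toFinite _)
    rw [Set.ncard_univ, h4] at h6
    have h7 := Set.ncard_insert_le (1 : ↥(center (↥X ⧸ oddCore ↥X))) {⟨ub, hub ▸ hucen⟩}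
    rw [Set.ncard_singleton] at h7
    omega
  have hbb := W.sett.kl.sq hu.kind b hb
  obtain ⟨a, haX, hav, haa, hab⟩ := exists_lift_two hn (n := 1) (by rw [pow_one, pow_two, hvv])
    (hc.center b hb) (m := 1) (by rw [pow_one, pow_two, hbb])
  rw [pow_one, pow_two] at haa
  have haf : Fixes a X := (mk_mem_center_iff haX).mp (hab ▸ hb)
  -- the lift of `t`
  have hPcl : ∀ x ∈ ({v, a} : Set G), x * x = 1 := by
    rintro x (rfl | rfl)
    · exact hvv
    · exact haa
  have hPcc : ∀ x ∈ ({v, a} : Set G), ∀ y ∈ ({v, a} : Set G), x * y = y * x := by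
    rintro x (rfl | rfl) y (rfl | rfl)
    · rfl
    · exact hav.symm
    · exact hav
    · rfl
  have hPX : closure ({v, a} : Set G) ≤ normalizer (X : Set G) := by
    rw [closure_le]
    rintro x (rfl | rfl)
    · exact hn
    · exact haf.1
  obtain ⟨w, hwX, hww, hwP, hwt⟩ := exists_lift_group (isPGroup_closure hPcl hPcc) hPX (x := t)
    (by
      intro p hp
      have key : ∀ p (hp : p ∈ closure ({v, a} : Set G)),
          (⟨p, hPX hp⟩ : ↥(normalizer (X : Set G))) ∈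
            (MulAction.stabilizer (MulAut (↥X ⧸ oddCore ↥X)) t).comap (act X) := by
        have h1 : closure ({v, a} : Set G) ≤
            ((MulAction.stabilizer (MulAut (↥X ⧸ oddCore ↥X)) t).comap (act X)).map
              (normalizer (X : Set G)).subtype := by
          rw [closure_le]
          rintro x (rfl | rfl)
          · exact ⟨⟨x, hn⟩, htf, rfl⟩
          · refine ⟨⟨x, haf.1⟩, ?_, rfl⟩
            change act X ⟨x, haf.1⟩ t = t
            rw [(act_eq_one_iff haf.1).mpr haf]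
            rfl
        intro p hp
        obtain ⟨q, hq, hqp⟩ := h1 hp
        have : (⟨p, hPX hp⟩ : ↥(normalizer (X : Set G))) = q := Subtype.ext hqp.symm
        rw [this]; exact hq
      exact key p hp) hcan.1.1
  have hwv : w * v = v * w := (hwP v (subset_closure (Or.inl rfl))).symm
  have hwa : w * a = a * w := (hwP a (subset_closure (Or.inr rfl))).symm
  have huv : u * v = v * u := hvu.symm
  have hau : a * u = u * a := pair_comm hu haX
  have hwu : w * u = u * w := pair_comm hu hwX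
  have ha1 : a ≠ 1 := by
    rintro rfl
    exact hb1 (hab ▸ rfl)
  have hau1 : a * u ≠ 1 := by
    intro h
    apply hbu
    have h1 : a = u := by
      have := mul_eq_one_iff_eq_inv.mp h
      rwa [inv_eq_of_mul_eq_one_left hu.sq] at this
    rw [hub, ← hab]
    congr 1
    exact Subtype.ext h1
  -- the general step
  have step : ∀ j ∈ X, j * j = 1 → j ≠ 1 → Fixes j X → j * v = v * j → w * j = j * w →
      Fixes (w * j) X' ∨ w * j ∈ X' := by
    intro j hj hjj hj1 hjf hjv hwj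
    have hjc : (QuotientGroup.mk ⟨j, hj⟩ : ↥X ⧸ oddCore ↥X) ∈ center (↥X ⧸ oddCore ↥X) :=
      (mk_mem_center_iff hj).mpr hjf
    have hcX : w * j ∈ X := mul_mem hwX hj
    have hmk : (QuotientGroup.mk ⟨w * j, hcX⟩ : ↥X ⧸ oddCore ↥X) = t * QuotientGroup.mk ⟨j, hj⟩ := by
      rw [← hwt]; rfl
    have hcc : (w * j) * (w * j) = 1 := by
      calc (w * j) * (w * j) = w * (j * w) * j := by group
        _ = (w * w) * (j * j) := by rw [← hwj]; group
        _ = 1 := by rw [hww, hjj, one_mul]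
    have hcv : (w * j) * v = v * (w * j) := by
      rw [mul_assoc, hjv, ← mul_assoc, hwv, mul_assoc]
    have hnc : ¬ Can (QuotientGroup.mk ⟨w * j, hcX⟩ : ↥X ⧸ oddCore ↥X) := by
      rw [hmk]
      intro h
      exact mk_ne_one' hj hjj hj1 (W.canU hu.kind t _ hcan hjc h)
    have hcf : ¬ Fixes (w * j) X := by
      intro h
      have h1 := (mk_mem_center_iff hcX).mpr h
      rw [hmk] at h1
      have h2 := mul_mem h1 (inv_mem hjc)
      rw [mul_inv_cancel_right] at h2
      exact hcan.1.2 h2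
    obtain ⟨h, hh⟩ := hsh _ hjc
    rw [← hmk] at hh
    obtain ⟨g, -, hg⟩ := exists_conj_mul hn hvv hcX hcc hcv hh
    exact W.fixes_or_mem hu hv hcX hnc hcf hcv (pair_conj hv hg)
  have su := step u hu.mem hu.sq hu.ne_one (pair_fixes hu) huv hwu
  have sa := step a haX haa ha1 haf hav hwa
  have hauX : a * u ∈ X := mul_mem haX hu.mem
  have hau2 : (a * u) * (a * u) = 1 := by
    calc (a * u) * (a * u) = a * (u * a) * u := by group
      _ = (a * a) * (u * u) := by rw [← hau]; group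
      _ = 1 := by rw [haa, hu.sq, one_mul]
  have hauf : Fixes (a * u) X := fixes_mul haf (pair_fixes hu)
  have hauv : (a * u) * v = v * (a * u) := by rw [mul_assoc, huv, ← mul_assoc, hav, mul_assoc]
  have hwau : w * (a * u) = (a * u) * w := by rw [← mul_assoc, hwa, mul_assoc, hwu, mul_assoc]
  have sau := step (a * u) hauX hau2 hau1 hauf hauv hwau
  -- two of them are of the same type
  have nv := fun {l : G} (h1 : l ∈ X) (h2 : l * l = 1) (h3 : l ≠ 1) (h4 : Fixes l X)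
    (h5 : l * v = v * l) => W.not_vess hu hv ho h1 h2 h3 h4 h5
  have nu := nv hu.mem hu.sq hu.ne_one (pair_fixes hu) huv
  have na := nv haX haa ha1 haf hav
  have nau := nv hauX hau2 hau1 hauf hauv
  have e1 : (w * u) * (w * a) = a * u := by
    calc (w * u) * (w * a) = w * (u * w) * a := by group
      _ = (w * w) * (u * a) := by rw [← hwu]; group
      _ = a * u := by rw [hww, one_mul, hau]
  have e2 : (w * u) * (w * (a * u)) = a := by
    calc (w * u) * (w * (a * u)) = w * (u * w) * (a * u) := by group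
      _ = (w * w) * (u * a) * u := by rw [← hwu]; group
      _ = a * (u * u) := by rw [hww, one_mul, ← hau]; group
      _ = a := by rw [hu.sq, mul_one]
  have e3 : (w * a) * (w * (a * u)) = u := by
    calc (w * a) * (w * (a * u)) = w * (a * w) * (a * u) := by group
      _ = (w * w) * (a * a) * u := by rw [← hwa]; group
      _ = u := by rw [hww, haa, one_mul, one_mul]
  rcases su with f1 | m1 <;> rcases sa with f2 | m2
  · exact nau.1 (e1 ▸ fixes_mul f1 f2)
  · rcases sau with f3 | m3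
    · exact na.1 (e2 ▸ fixes_mul f1 f3)
    · exact nu.2 (e3 ▸ mul_mem m2 m3)
  · rcases sau with f3 | m3
    · exact nu.1 (e3 ▸ fixes_mul f2 f3)
    · exact na.2 (e2 ▸ mul_mem m1 m3)
  · exact nau.2 (e1 ▸ mul_mem m1 m2)

end World

end

end Cfsg.Agent.UGT.I34.Four
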