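import Cfsg.Agent.Intrinsic.Basic

/-!
# Pump-ups for an involution which is inner on the 2-components

`exists_pumpup_of`: as `PumpUp.exists_pumpup`, with `z ∈ L` replaced by `z ∈ K ⊔ cenMod X K` for every 2-component
`K` of `X`.
-/

set_option autoImplicit false

open Cfsg Subgroup
open Cfsg.Agent.SignalizersComponents Cfsg.Agent.Lib
open Cfsg.Agent.SignalizersComponents.IntrinsicBasic
open Cfsg.Agent.SignalizersComponents.IntrinsicIntr
open Cfsg.Agent.SignalizersComponents.PLayerAut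
open Cfsg.Agent.Intrinsic.Charac
open Cfsg.Agent.Intrinsic.PumpUp
open scoped commutatorElement

namespace Cfsg.Agent.UGT.I34.FourPump

variable {G : Type*} [Group G] [Finite G]

/-- **Pump-up** -/
theorem exists_pumpup_of {X L : Subgroup G} {z : G} (hz2 : z * z = 1) (hzX : z ∈ X)
    (hz : ∀ K, TC X K → z ∈ K ⊔ cenMod X K)
    (hL : TC (X ⊓ centralizer ({z} : Set G)) L) : ∃ K, TC X K ∧ L ≤ K := by
  have hLX : L ≤ X := hL.le.trans inf_le_left
  by_contra hno
  push Not at hno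
  have h1 : ∀ K, TC X K → L ≤ cenMod X K := by
    intro K hK
    exact (le_or_le_cenMod hzX hz2 hL hK (hz K hK)).resolve_left (hno K hK)
  -- `L` lies in the 2-layer
  have h2 : L ≤ (pLayer 2 ↥X).map X.subtype := by
    have hT : IsPGroup 2 ↥(zpowers (⟨z, hzX⟩ : ↥X)) := by
      rintro ⟨_, n, rfl⟩
      refine ⟨1, ?_⟩
      apply Subtype.ext
      have h1 : (⟨z, hzX⟩ : ↥X) ^ 2 = 1 := by
        apply Subtype.ext
        simpa [pow_two] using hz2
      change ((⟨z, hzX⟩ : ↥X) ^ n) ^ (2 ^ 1) = 1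
      rw [pow_one, ← zpow_natCast, ← zpow_mul, mul_comm, zpow_mul, zpow_natCast, h1, one_zpow]
    have h1 := Cfsg.Agent.S1301.result (X := ↥X) (zpowers (⟨z, hzX⟩ : ↥X)) hT
    have h2 := isPComponent_map_equiv 2 (IntrinsicBalance.centEquiv X z hzX) hL.comp
    intro a ha
    have ha' : (⟨a, hL.le ha⟩ : ↥(X ⊓ centralizer ({z} : Set G))) ∈
        L.subgroupOf (X ⊓ centralizer ({z} : Set G)) := ha
    have h3 : (IntrinsicBalance.centEquiv X z hzX) ⟨a, hL.le ha⟩ ∈
        pLayer 2 ↥(centralizer ((zpowers (⟨z, hzX⟩ : ↥X) : Subgroup ↥X) : Set ↥X)) :=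
      (le_sSup (show _ ∈ {K | IsPComponent 2 K} from h2)) ⟨_, ha', rfl⟩
    have h4 := h1 ⟨_, h3, rfl⟩
    exact ⟨⟨a, (hL.le ha).1⟩, h4, rfl⟩
  -- hence `L` is abelian modulo `O(X)`
  have h3 : ∀ l ∈ L, ∀ x ∈ (pLayer 2 ↥X).map X.subtype, x⁻¹ * (l * x * l⁻¹) ∈ relCore 2 X := by
    intro l hl
    let W : Subgroup ↥X := (centralizer ({(QuotientGroup.mk' (oddCore ↥X)) ⟨l, hLX hl⟩} :
      Set (↥X ⧸ oddCore ↥X))).comap (QuotientGroup.mk' (oddCore ↥X))
    have hW : ∀ x : ↥X, x ∈ W ↔ (x : G)⁻¹ * (l * x * l⁻¹) ∈ relCore 2 X := by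
      intro x
      change (QuotientGroup.mk' (oddCore ↥X)) x ∈ centralizer _ ↔ _
      rw [mem_centralizer_singleton_iff]
      have e : (QuotientGroup.mk' (oddCore ↥X)) x =
          (QuotientGroup.mk' (oddCore ↥X)) (⟨l, hLX hl⟩ * x * ⟨l, hLX hl⟩⁻¹) ↔
          (x : G)⁻¹ * (l * x * l⁻¹) ∈ relCore 2 X := mk_eq_mk_iff
      rw [← e, map_mul, map_mul, map_inv]
      constructor
      · intro h
        rw [← h]; group
      · intro h
        nth_rewrite 1 [h]
        group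
    have hle : pLayer 2 ↥X ≤ W := by
      rw [pLayer_def]
      refine sSup_le fun K hK => ?_
      intro x hx
      rw [hW]
      have hTC : TC X (K.map X.subtype) := tc_of_subtype hK
      exact ((mem_cenMod hTC.le).mp (h1 _ hTC hl)).2 x ⟨x, hx, rfl⟩
    rintro _ ⟨x, hx, rfl⟩
    exact (hW x).mp (hle hx)
  have h4 : ⁅L, L⁆ ≤ relCore 2 X := by
    rw [commutator_le]
    intro a ha b hb
    have h5 := h3 a ha b (h2 hb)
    have h6 : ⁅a, b⁆ = (a * b * a⁻¹) * b⁻¹ := rfl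
    have h7 : b * (b⁻¹ * (a * b * a⁻¹)) * b⁻¹ ∈ relCore 2 X :=
      conj_mem_relCore' (hLX hb) h5
    rw [h6]
    convert h7 using 1
    group
  rw [hL.perfect] at h4
  have h5 := even_card hL
  have h6 := odd_card_relCore X
  have h7 := card_dvd_of_le h4
  exact (Nat.not_even_iff_odd.mpr h6) (even_iff_two_dvd.mpr (h5.trans h7))

end Cfsg.Agent.UGT.I34.FourPump
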