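import Cfsg.Agent.UGT.I34.FourGF
import Cfsg.Agent.UGT.I34.FourPump
import Cfsg.Agent.Intrinsic.TypesDef

/-!
# THEOREM I34, part [C] (`Z = 2²`): type `f`, second part; the trichotomy

* `World.typeF_eq`: `v` outer on `X ∈ Ω_u`, `X' ∈ Ω_v`: `C_X(v)^∞ = C_{X'}(u)^∞`;
* `World.tri`, `World.one_of`, `World.exists_partner`, `World.canP`.
-/

set_option autoImplicit false

open Cfsg Subgroup
open Cfsg.Agent.SignalizersComponents Cfsg.Agent.Lib
open Cfsg.Agent.SignalizersComponents.IntrinsicBasic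
open Cfsg.Agent.Intrinsic
open Cfsg.Agent.Intrinsic.Basic hiding IsPair PQS Target IsPair.sq IsPair.ne_one IsPair.cj exists_pumpup
open Cfsg.Agent.Intrinsic.Cen hiding pair_comm pair_mem_cen exists_pump pump_unique
open Cfsg.Agent.McLLyComp.Act
open Cfsg.Agent.UGT.I34.Pair Cfsg.Agent.UGT.I34.KAut Cfsg.Agent.UGT.I34.FixLift
open Cfsg.Agent.UGT.I34.KF (NInv)
open Cfsg.Agent.Intrinsic.TypesDef (sup_of_card)
open scoped commutatorElement

namespace Cfsg.Agent.UGT.I34.Four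

universe u

/-- in `C(z)` the involutions outside of `L = C(z)^∞` are conjugate to `z` -/
structure HeOut (κ : Kind.{u}) : Prop where
  out : ∀ {Y : Type u} [Group Y] [Finite Y] {z : Y} {L : Subgroup Y}, κ.T Y z L → IsPair κ z L →
    ∀ t : Y, t * t = 1 → t * z = z * t → t ∉ L → ∃ g, g * z * g⁻¹ = t

/-- a four-group with an involutory automorphism moving `z` -/
theorem fixed_eq {K : Type*} [Group K] (hc : Nat.card (center K) = 4)
    (h2 : ∀ c ∈ center K, c * c = 1) {φ : MulAut K} {z x : K} (hz : z ∈ center K)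
    (hφz : φ z ≠ z) (hx : x ∈ center K) (hx1 : x ≠ 1) (hφx : φ x = x) : φ z = z * x := by
  have hz' : φ z ∈ center K := by
    rw [mem_center_iff] at hz ⊢
    intro g
    obtain ⟨h, rfl⟩ := φ.surjective g
    rw [← map_mul, ← map_mul, hz h]
  have hz1 : z ≠ 1 := by rintro rfl; exact hφz (map_one φ)
  have hz1' : φ z ≠ 1 := fun h => hz1 (by rwa [← map_one φ, φ.injective.eq_iff] at h)
  have hzx : z ≠ x := by rintro rfl; exact hφz hφx
  have hzx' : φ z ≠ x := by
    intro h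
    rw [← hφx, φ.injective.eq_iff] at h
    exact hzx h
  have hz2 := h2 z hz
  have h5 : ({1, x, z, z * x} : Set K) ⊆ (center K : Set K) := by
    rintro y (rfl | rfl | rfl | rfl)
    · exact one_mem _
    · exact hx
    · exact hz
    · exact mul_mem hz hx
  have h6 : ({1, x, z, z * x} : Set K).ncard = 4 := by
    have hzx1 : z * x ≠ 1 := by
      intro h
      apply hzx
      rw [← h2 z hz] at h
      exact (mul_left_cancel h).symm
    rw [Set.ncard_insert_of_notMem, Set.ncard_insert_of_notMem, Set.ncard_insert_of_notMem,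
      Set.ncard_singleton]
    · rw [Set.mem_singleton_iff]
      intro h
      exact hx1 (by rw [eq_comm, mul_eq_left] at h; exact h)
    · rintro (h | h)
      · exact hzx h.symm
      · exact hz1 (by rw [Set.mem_singleton_iff, eq_comm, mul_eq_right] at h; exact h)
    · rintro (h | h | h)
      · exact hx1 h.symm
      · exact hz1 h.symm
      · exact hzx1 (Set.mem_singleton_iff.mp h).symm
  have hfin : (center K : Set K).Finite := Nat.finite_of_card_ne_zero (α := center K) (by rw [hc]; norm_num)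
  have h7 : ({1, x, z, z * x} : Set K) = (center K : Set K) := by
    refine Set.eq_of_subset_of_ncard_le h5 ?_ hfin
    rw [h6]
    exact hc.le
  have h8 : φ z ∈ ({1, x, z, z * x} : Set K) := by rw [h7]; exact hz'
  rcases h8 with h | h | h | h
  · exact absurd h hz1'
  · exact absurd h hzx'
  · exact absurd h hφz
  · exact h

section

variable {κ : Kind.{u}} {G : Type u} [Group G] [Finite G] {u v w a b : G}
  {X X' E C C' K M J : Subgroup G}

/-- two 2-components of `H` and `C_H(w)`, `w` trivial on `K / O(K)`: `E ≤ K` is `cen K w` -/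
theorem eq_cen_of_le {H : Subgroup G} (hK : IsComp H K) (hw : w ∈ H) (hww : w * w = 1)
    (hf : Fixes w K) (hE : IsComp (H ⊓ centralizer ({w} : Set G)) E) (hEK : E ≤ K)
    (hu : u ∈ E) (huu : u * u = 1) (hu1 : u ≠ 1) : E = cen K w := by
  by_contra hne
  obtain ⟨h1, hs⟩ := isComp_cen hK hw hww hf
  have h2 : ∀ e ∈ E, Fixes e K := by
    intro e he
    have h3 := h1.fixes_of_mem hE (Ne.symm hne) he
    exact (fixes_iff_of_sup hs h3.1 (le_normalizer (hEK he))).mp h3
  have h3 : E ≤ core K := by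
    rw [← hE.perfect, commutator_le]
    intro a ha b hb
    exact (h2 a ha).2 b (hEK hb)
  exact hu1 (eq_one_of_mem_core_sq (h3 hu) huu)

namespace World

variable (W : World κ G)
include W

/-- **type `f`, second part** -/
theorem typeF_eq (hO : HeOut κ) (hu : IsPair κ u X) (hv : IsPair κ v X') (hvu : v * u = u * v)
    (ho : IsOut v X) (ho' : IsOut u X') {J : Subgroup (↥X ⧸ oddCore ↥X)}
    {J' : Subgroup (↥X' ⧸ oddCore ↥X')} (hJ : TypeF (act X ⟨v, ho.1⟩) J)
    (hJ' : TypeF (act X' ⟨u, ho'.1⟩) J') (hC : Over u v X C J) (hC' : Over v u X' C' J') :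
    C = C' := by
  by_contra hne
  have hfixC := hC'.fixes_of_ne hu hv hvu ho'.1 hJ'.fg (E := C) (by rw [inf_comm]; exact hC.comp) hne
  obtain ⟨w, hwC, hwX, hww, hw1, hwv, hwJ, -⟩ := hC.exists_inv hv.sq ho.1 hJ.fg
  have hwf : Fixes w X' := hfixC w hwC
  have hwu : w * u = u * w := pair_comm hu hwX
  have hnw : ¬ Fixes w X := fun h =>
    (hJ.noncan _ hwJ (mk_sq_one hwX hww) (mk_ne_one' hwX hww hw1)).1.2 ((mk_mem_center_iff hwX).mpr h)
  have hwCv : w ∈ centralizer ({v} : Set G) := mem_centralizer_singleton_iff.mpr hwv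
  have hwCu : w ∈ centralizer ({u} : Set G) := mem_centralizer_singleton_iff.mpr hwu
  have huCw : u ∈ centralizer ({w} : Set G) := mem_centralizer_singleton_iff.mpr hwu.symm
  -- the pump-up of `X'` at `w`
  obtain ⟨M, hM, hle, hvM⟩ := exists_pump hv hww hwv hwf
  obtain ⟨hE', hs⟩ := isComp_cen hv.comp hwCv hww hwf
  have hE'w : IsComp (centralizer ({w} : Set G) ⊓ centralizer ({v} : Set G)) (cen X' w) := by
    rw [inf_comm]; exact hE'
  have hkE := (kind_cen (κ := κ) hv.comp hwCv hww hwf).mpr hv.kind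
  have hvE := pair_mem_cen hv hwv
  -- the element `g`
  obtain ⟨z, hz, hzv⟩ := hJ.center
  have hzz := W.sett.kl.sq hu.kind z hz
  have hwact : z ∈ fixed (act X ⟨w, le_normalizer hwX⟩) := by
    rw [mem_fixed]
    obtain ⟨⟨z0, hz0⟩, rfl⟩ := QuotientGroup.mk_surjective z
    rw [act_mk (le_normalizer hwX) hz0]
    have h1 := mem_center_iff.mp hz (QuotientGroup.mk ⟨w, hwX⟩)
    have h2 : (QuotientGroup.mk ⟨w * z0 * w⁻¹, conj_mem (le_normalizer hwX) hz0⟩ :
        ↥X ⧸ oddCore ↥X) = QuotientGroup.mk ⟨w, hwX⟩ * QuotientGroup.mk ⟨z0, hz0⟩ *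
          (QuotientGroup.mk ⟨w, hwX⟩)⁻¹ := rfl
    rw [h2, h1, mul_inv_cancel_right]
  obtain ⟨a, haX, haw, -, haz⟩ := exists_lift_two (le_normalizer hwX) (n := 1)
    (by rw [pow_one, pow_two, hww]) hwact (m := 1) (by rw [pow_one, pow_two, hzz])
  have huf : act X ⟨v, ho.1⟩ (QuotientGroup.mk ⟨u, hu.mem⟩) = QuotientGroup.mk ⟨u, hu.mem⟩ := by
    rw [act_mk ho.1 hu.mem]
    congr 1
    exact Subtype.ext (by
      change v * u * v⁻¹ = u
      rw [hvu, mul_inv_cancel_right])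
  have hzu := fixed_eq (W.sett.kl.card hu.kind) (W.sett.kl.sq hu.kind) hz hzv (pair_mk_center hu)
    (mk_ne_one' hu.mem hu.sq hu.ne_one) huf
  obtain ⟨g, hgX, hgw, hg⟩ : ∃ g ∈ X, g * w = w * g ∧ g * v * g⁻¹ = v * u := by
    have hvi : v⁻¹ = v := inv_eq_of_mul_eq_one_left hv.sq
    rw [← haz, act_mk ho.1 haX] at hzu
    have h1 : (v * a * v⁻¹)⁻¹ * (a * u) ∈ core X :=
      (mk_eq_iff (conj_mem ho.1 haX) (mul_mem haX hu.mem)).mp hzu
    have h2 := conj_mem_core (inv_mem ho.1) h1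
    have h3 : v⁻¹ * ((v * a * v⁻¹)⁻¹ * (a * u)) * v⁻¹⁻¹ = (a⁻¹ * v * a⁻¹⁻¹)⁻¹ * (v * u) := by
      calc v⁻¹ * ((v * a * v⁻¹)⁻¹ * (a * u)) * v⁻¹⁻¹ = a⁻¹ * v⁻¹ * a * (u * v) := by group
        _ = a⁻¹ * v⁻¹ * a * (v * u) := by rw [hvu]
        _ = _ := by group
    rw [h3] at h2
    have e1 : (a⁻¹ * v * a⁻¹⁻¹) ^ 2 ^ 1 = 1 := by
      rw [pow_one, pow_two]
      calc a⁻¹ * v * a⁻¹⁻¹ * (a⁻¹ * v * a⁻¹⁻¹) = a⁻¹ * (v * v) * a := by group
        _ = 1 := by rw [hv.sq]; group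
    have e2 : (v * u) ^ 2 ^ 1 = 1 := by
      rw [pow_one, pow_two]
      calc v * u * (v * u) = v * (u * v) * u := by group
        _ = (v * v) * (u * u) := by rw [← hvu]; group
        _ = 1 := by rw [hv.sq, hu.sq, one_mul]
    have haiw : a⁻¹ * w = w * a⁻¹ := by
      rw [inv_mul_eq_iff_eq_mul, ← mul_assoc, haw, mul_inv_cancel_right]
    obtain ⟨o, ho1, ho2, h4⟩ := Lifting.exists_conj_commute (odd_card_core X) (v := w) e1 e2
      (normalizer_le_normalizer_core X (mul_mem (mul_mem (inv_mem (le_normalizer haX)) ho.1)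
        (inv_mem (inv_mem (le_normalizer haX))))) (by
        calc a⁻¹ * v * a⁻¹⁻¹ * w = a⁻¹ * v * (a * w) := by group
          _ = a⁻¹ * v * (w * a) := by rw [haw]
          _ = a⁻¹ * (v * w) * a := by group
          _ = a⁻¹ * w * v * a := by rw [← hwv]; group
          _ = w * (a⁻¹ * v * a⁻¹⁻¹) := by rw [haiw]; group) (by
        calc v * u * w = v * (u * w) := by group
          _ = (v * w) * u := by rw [← hwu]; group
          _ = w * (v * u) := by rw [← hwv]; group) h2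
    refine ⟨o * a⁻¹, mul_mem (core_le X ho1) (inv_mem haX), ?_, ?_⟩
    · rw [mul_assoc, haiw, ← mul_assoc, ho2, mul_assoc]
    · rw [← h4]; group
  have hgCw : g ∈ centralizer ({w} : Set G) := mem_centralizer_singleton_iff.mpr hgw
  -- `u ∈ M`
  have hgM : cj g M = M := by
    by_contra hgM
    have h1 : IsComp (centralizer ({w} : Set G)) (cj g M) := by
      have := hM.cj g
      rwa [cj_eq_self_of_mem hgCw] at this
    have h2 : v * u ∈ cj g M := hg ▸ conj_mem_cj hvM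
    have h3 := hM.fixes_of_mem h1 (Ne.symm hgM) h2
    have hn : v * u ∈ normalizer (X' : Set G) := mul_mem (le_normalizer hv.mem) ho'.1
    have h4 : v * u ∈ normalizer (cen X' w : Set G) := mem_normalizer_cen hn (by
      calc v * u * w = v * (u * w) := by group
        _ = (v * w) * u := by rw [← hwu]; group
        _ = w * (v * u) := by rw [← hwv]; group)
    have h5 := (fixes_iff_of_sup hs h4 hn).mp (fixes_of_le hle h4 h3)
    exact ho'.not_fixes ((fixes_mul_iff_right (pair_fixes hv)).mp h5)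
  have huM : u ∈ M := by
    have h2 : v * u ∈ cj g M := hg ▸ conj_mem_cj hvM
    rw [hgM] at h2
    have := mul_mem (inv_mem hvM) h2
    rwa [inv_mul_cancel_left] at this
  have hucen : u ∈ normalizer (cen X' w : Set G) := mem_normalizer_cen ho'.1 hwu.symm
  -- small is impossible
  rcases W.sett.small_or_big hww hw1 hv.inv hvE hE'w hkE hM hle with hsm | hbig
  · exact ho'.not_inn (isInn_of_small hsm hs hucen ho'.1 (isInn_of_mem huM))
  obtain ⟨hvM', hT, hp⟩ := Sett.big_pair hbig hv.inv hvE hE'w hkE hM hle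
  obtain ⟨gb, hgb⟩ := hO.out hT hp (QuotientGroup.mk ⟨u, huM⟩) (mk_sq_one huM hu.sq) (by
    rw [← QuotientGroup.mk_mul, ← QuotientGroup.mk_mul]
    congr 1
    exact Subtype.ext hvu.symm) (by
    intro h
    obtain ⟨e, he, hc⟩ := (Quot.mem_qs huM).mp h
    have heE : e ∈ cen X' w := he.1
    have h1 : Fixes (e⁻¹ * u) M := fixes_of_mem_core hc
    have h2 : e⁻¹ * u ∈ normalizer (cen X' w : Set G) := mul_mem (inv_mem (le_normalizer heE)) hucen
    have h3 := fixes_of_le hle h2 h1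
    have heX : e ∈ X' := by rw [← hs]; exact mem_sup_left heE
    have h4 := (fixes_iff_of_sup hs h2 (mul_mem (inv_mem (le_normalizer heX)) ho'.1)).mp h3
    exact ho'.not_inn (isInn_iff.mpr ⟨e, heX, h4⟩))
  obtain ⟨g1, hg1M, hg1⟩ : ∃ g ∈ M, g * v * g⁻¹ = u := by
    obtain ⟨⟨k, hk⟩, rfl⟩ := QuotientGroup.mk_surjective gb
    have h1 : (k * v * k⁻¹)⁻¹ * u ∈ core M :=
      (mk_eq_iff (conj_mem (le_normalizer hk) hvM) huM).mp hgb
    obtain ⟨o, ho1, ho2⟩ := Lifting.exists_conj_eq (odd_card_core M) (n := 1) (m := 1)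
      (by
        rw [pow_one, pow_two]
        calc k * v * k⁻¹ * (k * v * k⁻¹) = k * (v * v) * k⁻¹ := by group
          _ = 1 := by rw [hv.sq]; group)
      (by rw [pow_one, pow_two, hu.sq])
      (normalizer_le_normalizer_core M (mul_mem (mul_mem (le_normalizer hk) (le_normalizer hvM))
        (inv_mem (le_normalizer hk)))) h1
    refine ⟨o * k, mul_mem (core_le M ho1) hk, ?_⟩
    rw [← ho2]; group
  have hg1C : g1 ∈ centralizer ({w} : Set G) := hM.le hg1M
  -- the 2-component `E` of `C(u) ∩ C(w)`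
  have hE : IsComp (centralizer ({u} : Set G) ⊓ centralizer ({w} : Set G)) (cj g1 (cen X' w)) := by
    have h1 := hE'w.cj g1
    rw [cj_inf, cj_eq_self_of_mem hg1C, cj_centralizer, hg1, inf_comm] at h1
    exact h1
  have huE : u ∈ cj g1 (cen X' w) := hg1 ▸ conj_mem_cj hvE
  have hkE1 : κ.P (↥(cj g1 (cen X' w)) ⧸ oddCore ↥(cj g1 (cen X' w))) :=
    κ.congr (cjQuot g1 (cen X' w)) hkE
  obtain ⟨K, hK, hEK⟩ := FourPump.exists_pumpup_of (X := centralizer ({u} : Set G)) (z := w) hww hwCu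
    (fun K hK => (IsComp.of_tc hK).L2_le_sup (hu.comp.le_L2 hwX)) hE.tc
  have hK' : IsComp (centralizer ({u} : Set G)) K := IsComp.of_tc hK
  by_cases hKX : K = X
  · subst hKX
    have h1 := sup_of_card hEK (κ.card_eq hkE1 hu.kind)
    have h2 : Fixes w (cj g1 (cen X' w)) := fixes_of_le_cent (hE.le.trans inf_le_right)
    exact hnw ((fixes_iff_of_sup h1 h2.1 (le_normalizer hwX)).mp h2)
  · have h1 : Fixes w K := hK'.fixes_of_mem hu.comp hKX hwX
    have h2 := eq_cen_of_le hK' hwCu hww h1 hE hEK huE hu.sq hu.ne_one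
    rw [h2] at hkE1
    have h3 := (kind_cen (κ := κ) hK' hwCu hww h1).mp hkE1
    exact hKX ((W.typeF_first hu hv hvu ho).2 K ⟨hu.inv, hEK huE, hK', h3⟩)

/-- type `f`: the common 2-component `C = C_X(v)^∞ = C_{X'}(u)^∞` of `C(u) ∩ C(v)` -/
theorem exists_typeF_eq (hO : HeOut κ) (hu : IsPair κ u X) (hv : IsPair κ v X') (huv : u * v = v * u)
    (ho : IsOut v X) : ∃ ho' : IsOut u X', ∃ J J' C, TypeF (act X ⟨v, ho.1⟩) J ∧
      TypeF (act X' ⟨u, ho'.1⟩) J' ∧ Over u v X C J ∧ Over v u X' C J' := by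
  have ho' := W.out_symm hu hv huv.symm ho
  obtain ⟨J, hJ⟩ := W.exists_typeF hu hv huv.symm ho
  obtain ⟨J', hJ'⟩ := W.exists_typeF hv hu huv ho'
  obtain ⟨C, hC⟩ := exists_over hu hv.sq ho.1 hJ.fg
  obtain ⟨C', hC'⟩ := exists_over hv hu.sq ho'.1 hJ'.fg
  have h := W.typeF_eq hO hu hv huv.symm ho ho' hJ hJ' hC hC'
  subst h
  exact ⟨ho', J, J', C, hJ, hJ', hC, hC'⟩

/-- **the trichotomy** -/
theorem tri (hu : IsPair κ u X) (hv : IsPair κ v X') (huv : u * v = v * u) :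
    Fixes v X ∨ (∃ h : v ∈ X, Can (QuotientGroup.mk ⟨v, h⟩ : ↥X ⧸ oddCore ↥X)) ∨
      ∃ ho : IsOut v X, ∃ J, TypeF (act X ⟨v, ho.1⟩) J := by
  have hn : v ∈ normalizer (X : Set G) := mem_normalizer_iff_cj.mpr (W.no2 u v X X' hu hv huv)
  rcases isInn_or_isOut hn with hi | ho
  · by_cases hf : Fixes v X
    · exact Or.inl hf
    · exact Or.inr (Or.inl (W.ti u v X X' hu hv huv hi hf).1)
  · exact Or.inr (Or.inr ⟨ho, W.exists_typeF hu hv huv.symm ho⟩)

/-- `|Ω_u| = 1` if `u` has a partner of type I or `f` -/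
theorem one_of (hu : IsPair κ u X) (hv : IsPair κ v X') (huv : u * v = v * u) (hnf : ¬ Fixes v X) :
    ∀ Y, IsPair κ u Y → Y = X := by
  have hn : v ∈ normalizer (X : Set G) := mem_normalizer_iff_cj.mpr (W.no2 u v X X' hu hv huv)
  rcases isInn_or_isOut hn with hi | ho
  · exact (W.ti u v X X' hu hv huv hi hnf).2.2
  · exact (W.typeF_first hu hv huv.symm ho).2

/-- a partner of type I -/
theorem exists_partner (hu : IsPair κ u X) (hv : IsPair κ v X') (huv : u * v = v * u)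
    (hnf : ¬ Fixes v X) : ∃ c, ∃ hc : c ∈ X, (∃ Y, IsPair κ c Y) ∧
      Can (QuotientGroup.mk ⟨c, hc⟩ : ↥X ⧸ oddCore ↥X) := by
  rcases W.tri hu hv huv with h | ⟨h, h1⟩ | ⟨ho, -⟩
  · exact absurd h hnf
  · exact ⟨v, h, ⟨X', hv⟩, h1⟩
  · obtain ⟨c, hc, ⟨Y, hY⟩, hcf⟩ := (W.typeF_first hu hv huv.symm ho).1
    obtain ⟨h1, h2⟩ := (W.ti u c X Y hu hY (pair_comm hu hc).symm (isInn_of_mem hc) hcf).1
    exact ⟨c, hc, ⟨Y, hY⟩, h2⟩

/-- the canonical involutions of `X` are partners of type I, and the relation is symmetric -/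
theorem canP (hu : IsPair κ u X)
    (hconj : ∀ s t : ↥X ⧸ oddCore ↥X, Can s → Can t → ∃ g, g * s * g⁻¹ = t)
    (hv : IsPair κ v X') (huv : u * v = v * u) (hnf : ¬ Fixes v X) {t : G} (ht : t ∈ X)
    (htt : t * t = 1) (hcan : Can (QuotientGroup.mk ⟨t, ht⟩ : ↥X ⧸ oddCore ↥X)) :
    ∃ Y, IsPair κ t Y ∧ (∃ h : u ∈ Y, Can (QuotientGroup.mk ⟨u, h⟩ : ↥Y ⧸ oddCore ↥Y)) ∧
      ∀ Y', IsPair κ t Y' → Y' = Y := by
  obtain ⟨c, hc, ⟨Y, hY⟩, hcc⟩ := W.exists_partner hu hv huv hnf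
  obtain ⟨gb, hgb⟩ := hconj _ _ hcc hcan
  obtain ⟨g, hgX, hg⟩ : ∃ g ∈ X, g * c * g⁻¹ = t := by
    obtain ⟨⟨k, hk⟩, rfl⟩ := QuotientGroup.mk_surjective gb
    have h1 : (k * c * k⁻¹)⁻¹ * t ∈ core X :=
      (mk_eq_iff (conj_mem (le_normalizer hk) hc) ht).mp hgb
    obtain ⟨o, ho1, ho2⟩ := Lifting.exists_conj_eq (odd_card_core X) (n := 1) (m := 1)
      (by
        rw [pow_one, pow_two]
        calc k * c * k⁻¹ * (k * c * k⁻¹) = k * (c * c) * k⁻¹ := by group
          _ = 1 := by rw [hY.sq]; group)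
      (by rw [pow_one, pow_two, htt])
      (normalizer_le_normalizer_core X (mul_mem (mul_mem (le_normalizer hk) (le_normalizer hc))
        (inv_mem (le_normalizer hk)))) h1
    refine ⟨o * k, mul_mem (core_le X ho1) hk, ?_⟩
    rw [← ho2]; group
  have hY' := pair_conj hY hg
  have hut : u * t = t * u := (pair_comm hu ht).symm
  have hnf' : ¬ Fixes u (cj g Y) := by
    intro h
    have h1 := typeZero_symm' hY' hu hut.symm h
    exact hcan.1.2 ((mk_mem_center_iff ht).mpr h1)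
  refine ⟨cj g Y, hY', ?_, W.one_of hY' hu hut.symm hnf'⟩
  have hi : IsInn u (cj g Y) := (W.ti u t X (cj g Y) hu hY' hut (isInn_of_mem ht) (fun h =>
    hcan.1.2 ((mk_mem_center_iff ht).mpr h))).2.1
  exact (W.ti t u (cj g Y) X hY' hu hut.symm hi hnf').1

end World

end

end Cfsg.Agent.UGT.I34.Four
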