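import Cfsg.Agent.UGT.I34.Pair
import Cfsg.Agent.Intrinsic.TypeGOne
import Cfsg.Agent.Intrinsic.TypeGTwo

/-!
# THEOREM I34, kinds with a unique central involution: (3.G)(i)

* `One κ` : the groups of kind `κ` have a unique central involution, their centre is a 2-group, and in an
  exceptional configuration `T X z L` the group `L` is the only 2-component of `C(z)`.
* `World κ z L` : the setting of the induction.
* `unique_in_pump`, `diag_eq` : if `v` moves `X ∈ Ω_u` and `u` moves the members of `Ω_v` then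
  `C_{X X^v}(v)^∞ = C_{X' X'^u}(u)^∞`.
-/

set_option autoImplicit false

open Cfsg Subgroup
open Cfsg.Agent.SignalizersComponents Cfsg.Agent.Lib
open Cfsg.Agent.SignalizersComponents.IntrinsicBasic
open Cfsg.Agent.Intrinsic.Basic hiding IsPair PQS Target
open Cfsg.Agent.Intrinsic.Cen hiding pair_comm pair_mem_cen exists_pump pump_unique
open Cfsg.Agent.Intrinsic.Quot hiding Big isPair_quot small_or_big
open Cfsg.Agent.Intrinsic.TypesDef (Om exists_om)
open Cfsg.Agent.Intrinsic.Diag
open Cfsg.Agent.Intrinsic.TypeGTwo (swap_facts fixes_of_central)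
open Cfsg.Agent.UGT.I34.Pair
open scoped commutatorElement

namespace Cfsg.Agent.UGT.I34.RankOne

universe u

/-- The groups of kind `κ` have a unique central involution and a 2-group as centre; in an exceptional
configuration the centraliser of the involution has only one 2-component. -/
structure One (κ : Kind.{u}) : Prop where
  uniq : ∀ {K : Type u} [Group K], κ.P K → ∀ a ∈ center K, ∀ b ∈ center K, a * a = 1 → b * b = 1 →
    a ≠ 1 → b ≠ 1 → a = b
  two : ∀ {K : Type u} [Group K], κ.P K → ∀ a ∈ center K, ∃ n : ℕ, a ^ 2 ^ n = 1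
  single : ∀ {X : Type u} [Group X] [Finite X] {z : X} {L : Subgroup X}, κ.T X z L → IsPair κ z L →
    ∀ E, IsComp (centralizer ({z} : Set X)) E → E = L

/-- the setting of the induction -/
structure World (κ : Kind.{u}) {G : Type u} [Group G] (z : G) (L : Subgroup G) : Prop where
  one : One κ
  pair : IsPair κ z L
  ih : PQS κ (Nat.card G)
  cent : ∀ x : G, orderOf x = 2 → centralizer ({x} : Set G) ≠ ⊤

variable {κ : Kind.{u}} {G : Type u} [Group G]

theorem fixes_pair {u : G} {X : Subgroup G} (h : IsPair κ u X) : Fixes u X :=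
  fixes_of_central h.mem fun _ hy => pair_comm h hy

theorem order_two {x : G} (hx2 : x * x = 1) (hx1 : x ≠ 1) : orderOf x = 2 :=
  orderOf_eq_prime (by rw [pow_two]; exact hx2) hx1

variable [Finite G]

/-- commuting involutions of `M` fixing `M` are equal -/
theorem eq_of_fixes (ho : One κ) {M : Subgroup G} (hk : κ.P (↥M ⧸ oddCore ↥M)) {a b : G}
    (ha : a ∈ M) (hb : b ∈ M) (ha2 : a * a = 1) (hb2 : b * b = 1) (ha1 : a ≠ 1) (hb1 : b ≠ 1)
    (hfa : Fixes a M) (hfb : Fixes b M) (hab : a * b = b * a) : a = b := by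
  have e3 := ho.uniq hk _ (Intrinsic.TypeGOne.mk_mem_center ha hfa) _
    (Intrinsic.TypeGOne.mk_mem_center hb hfb) (by
      change (QuotientGroup.mk ⟨a * a, M.mul_mem ha ha⟩ : ↥M ⧸ oddCore ↥M) = 1
      rw [mk_eq_one_iff, ha2]; exact one_mem _) (by
      change (QuotientGroup.mk ⟨b * b, M.mul_mem hb hb⟩ : ↥M ⧸ oddCore ↥M) = 1
      rw [mk_eq_one_iff, hb2]; exact one_mem _)
    (fun h => ha1 (eq_one_of_mem_core_sq ((mk_eq_one_iff ha).mp h) ha2))
    (fun h => hb1 (eq_one_of_mem_core_sq ((mk_eq_one_iff hb).mp h) hb2))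
  have e4 := (mk_eq_mk_iff' ha hb).mp e3
  have hai : a⁻¹ = a := inv_eq_of_mul_eq_one_left ha2
  have e5 : a⁻¹ * b = 1 := by
    apply eq_one_of_mem_core_sq e4
    rw [hai]
    calc a * b * (a * b) = a * b * (b * a) := by rw [hab]
      _ = a * (b * b) * a := by group
      _ = 1 := by rw [hb2, mul_one, ha2]
  exact (inv_mul_eq_one.mp e5)

/-- the only involution of `X` fixing `X` is `u` -/
theorem eq_of_fixes_pair (ho : One κ) {u : G} {X : Subgroup G} (h : IsPair κ u X) {x : G}
    (hx : x ∈ X) (hx2 : x * x = 1) (hx1 : x ≠ 1) (hf : Fixes x X) : x = u :=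
  eq_of_fixes ho h.kind hx h.mem hx2 h.sq hx1 h.ne_one hf (fixes_pair h) (pair_comm h hx)

/-- 2-elements of `C_M(u)` congruent to an element of `J` lie in `J`. -/
theorem mem_of_two' {M J : Subgroup G} {u : G} (hJ : IsComp (M ⊓ centralizer ({u} : Set G)) J)
    {a : G} (hau : a * u = u * a) {j : G} (hj : j ∈ J) (hc : j⁻¹ * a ∈ core M) {n : ℕ}
    (hn : a ^ 2 ^ n = 1) : a ∈ J := by
  have hjc := (hJ.le hj).2
  have hac : a ∈ centralizer ({u} : Set G) := mem_centralizer_singleton_iff.mpr hau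
  have h1 : core M ⊓ centralizer ({u} : Set G) ≤ core (M ⊓ centralizer ({u} : Set G)) := by
    refine le_core (inf_le_inf_right _ (Intrinsic.Basic.core_le M)) ?_
      (Odd.of_dvd_nat (odd_card_core M) (card_dvd_of_le inf_le_left))
    intro x hx
    have e1 : x ∈ normalizer (core M : Set G) := le_normalizer_core M hx.1
    rw [mem_normalizer_iff_cj] at e1 ⊢
    rw [cj_inf, e1, cj_eq_self_of_mem hx.2]
  exact hJ.mem_of_two hj (h1 ⟨hc, mul_mem ((centralizer ({u} : Set G)).inv_mem hjc) hac⟩) hn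

theorem card_lt_of_comp {x : G} (hx : centralizer ({x} : Set G) ≠ ⊤) {R : Subgroup G}
    (hR : R ≤ centralizer ({x} : Set G)) : Nat.card R < Nat.card G :=
  Intrinsic.TypeGOne.card_lt_of_comp hx hR

/-- `E` is the only 2-component of `C(x) ∩ C(e)` below its pump-up in `C(x)`. -/
theorem unique_in_pump {z : G} {L : Subgroup G} (hW : World κ z L) {x e : G} (hx : orderOf x = 2)
    (he : orderOf e = 2) {E R E' : Subgroup G} (heE : e ∈ E)
    (hE : IsComp (centralizer ({x} : Set G) ⊓ centralizer ({e} : Set G)) E)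
    (hk : κ.P (↥E ⧸ oddCore ↥E))
    (hR : IsComp (centralizer ({x} : Set G)) R) (hER : E ≤ R)
    (hE' : IsComp (centralizer ({x} : Set G) ⊓ centralizer ({e} : Set G)) E') (hE'R : E' ≤ R) :
    E' = E := by
  have h := small_or_big hW.ih he heE hE hk hR hER (card_lt_of_comp (hW.cent x hx) hR.le)
  have he2 : e * e = 1 := by rw [← pow_two, ← he, pow_orderOf_eq_one]
  have he1 : e ≠ 1 := by rintro rfl; simp at he
  have hcov : ∀ k ∈ E', ∃ j ∈ E, j⁻¹ * k ∈ core R := by
    intro k hk'
    rcases h with h | h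
    · exact exists_mul_of_sup h (hE'R hk')
    · obtain ⟨heR, hT⟩ := h
      have h1 := isPair_quot he2 he1 heE heR (isComp_inf hE hR hER) hk
      have h2 : IsComp (centralizer ({(QuotientGroup.mk ⟨e, heR⟩ : ↥R ⧸ oddCore ↥R)} : Set _))
          (qs R E') :=
        IsComp.of_tc (Intrinsic.PumpUp.tc_image heR he2 (isComp_inf hE' hR hE'R).tc)
      have h3 := hW.one.single hT h1 _ h2
      have h4 : (QuotientGroup.mk ⟨k, hE'R hk'⟩ : ↥R ⧸ oddCore ↥R) ∈ qs R E' :=
        (mem_qs (hE'R hk')).mpr ⟨k, ⟨hk', hE'R hk'⟩, by simp⟩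
      rw [h3] at h4
      obtain ⟨j, hj, hc⟩ := (mem_qs (hE'R hk')).mp h4
      exact ⟨j, hj.1, hc⟩
  apply hE'.eq_of_le hE
  apply hE'.le_of_two
  intro k hk' m hm
  obtain ⟨j, hj, hc⟩ := hcov k hk'
  exact mem_of_two' (isComp_inf hE hR hER) (mem_centralizer_singleton_iff.mp (hE'.le hk').2) hj hc hm

/-- **(3.G)(i)** -/
theorem diag_eq {z : G} {L : Subgroup G} (hW : World κ z L) {u v : G} {X X' : Subgroup G}
    (huv : u * v = v * u) (hpu : IsPair κ u X) (hpv : IsPair κ v X') (hmove : cj v X ≠ X)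
    (hmove' : cj u X' ≠ X') {x : G}
    (hxX : x ∈ X) (hx2 : x * x = 1) (hx1 : x ≠ 1) (hxu : x ≠ u)
    (hxv : x * (v * x * v⁻¹) = (v * x * v⁻¹) * x) :
    diag (centralizer ({u} : Set G)) X v = diag (centralizer ({v} : Set G)) X' u := by
  by_contra hEE
  have ho := hW.one
  have hvCu : v ∈ centralizer ({u} : Set G) := mem_centralizer_singleton_iff.mpr huv.symm
  have huCv : u ∈ centralizer ({v} : Set G) := mem_centralizer_singleton_iff.mpr huv
  have hv2 := hpv.sq
  have hu2 := hpu.sq
  have hvi : v⁻¹ = v := inv_eq_of_mul_eq_one_left hv2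
  have hui : u⁻¹ = u := inv_eq_of_mul_eq_one_left hu2
  have hxi : x⁻¹ = x := inv_eq_of_mul_eq_one_left hx2
  have hxu' : x * u = u * x := pair_comm hpu hxX
  have huvi : u * v * u⁻¹ = v := by rw [huv, mul_inv_cancel_right]
  have huxi : u * x * u⁻¹ = x := by rw [← hxu', mul_inv_cancel_right]
  -- the element `e`
  obtain ⟨e, he⟩ : ∃ e, e = x * (v * x * v⁻¹) := ⟨_, rfl⟩
  obtain ⟨hxvx, hev, hex, hee⟩ := swap_facts hx2 hv2 hxv he
  have heu : e * u = u * e := by
    rw [he]
    calc x * (v * x * v⁻¹) * u = x * v * x * (v⁻¹ * u) := by group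
      _ = x * v * x * (u * v⁻¹) := by rw [hvi, huv]
      _ = x * v * (x * u) * v⁻¹ := by group
      _ = x * (v * u) * x * v⁻¹ := by rw [hxu']; group
      _ = x * (u * v) * x * v⁻¹ := by rw [huv]
      _ = (x * u) * v * x * v⁻¹ := by group
      _ = u * (x * (v * x * v⁻¹)) := by rw [hxu']; group
  have huei : u * e * u⁻¹ = e := by rw [← heu, mul_inv_cancel_right]
  have hX2 : IsComp (centralizer ({u} : Set G)) (cj v X) := isComp_cj_of_mem hpu.comp hvCu
  have he1 : e ≠ 1 := by
    intro h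
    rw [he] at h
    have h1 : v * x * v⁻¹ = x := by
      have := inv_eq_of_mul_eq_one_right h
      rw [← this, hxi]
    have h2 : x ∈ cj v X := by
      have := conj_mem_cj (g := v) hxX
      rwa [h1] at this
    exact hxu (eq_of_fixes_pair ho hpu hxX hx2 hx1 (hpu.comp.fixes_of_mem hX2 (Ne.symm hmove) h2))
  have hxo := order_two hx2 hx1
  have heo := order_two hee he1
  have heCu : e ∈ centralizer ({u} : Set G) := mem_centralizer_singleton_iff.mpr heu
  have heCv : e ∈ centralizer ({v} : Set G) := mem_centralizer_singleton_iff.mpr hev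
  have huCe : u ∈ centralizer ({e} : Set G) := mem_centralizer_singleton_iff.mpr heu.symm
  have hvCe : v ∈ centralizer ({e} : Set G) := mem_centralizer_singleton_iff.mpr hev.symm
  have hxCe : x ∈ centralizer ({e} : Set G) := mem_centralizer_singleton_iff.mpr hex.symm
  have hxCu : x ∈ centralizer ({u} : Set G) := mem_centralizer_singleton_iff.mpr hxu'
  have huCx : u ∈ centralizer ({x} : Set G) := mem_centralizer_singleton_iff.mpr hxu'.symm
  -- the two diagonals
  obtain ⟨hE, -, -, -, -⟩ := exists_diag hpu.comp hvCu hv2 hmove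
  obtain ⟨hE', -, -, hE'core, -⟩ := exists_diag hpv.comp huCv hu2 hmove'
  have hE2 : IsComp (centralizer ({v} : Set G) ⊓ centralizer ({u} : Set G))
      (diag (centralizer ({u} : Set G)) X v) := by rw [inf_comm]; exact hE
  have heE : e ∈ diag (centralizer ({u} : Set G)) X v :=
    mem_diag heCu hev hxX (by rw [← he, inv_mul_cancel]; exact one_mem _) (n := 1)
      (by rw [pow_one, pow_two]; exact hee)
  have hL2 := isComp_le_L2 huCv hu2 hE2
  have heX' : e ∈ normalizer (X' : Set G) := hpv.comp.L2_le_normalizer (hL2 heE)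
  have heX'2 : e ∈ normalizer (cj u X' : Set G) :=
    (isComp_cj_of_mem hpv.comp huCv).L2_le_normalizer (hL2 heE)
  have hfe : Fixes e X' := by
    refine fixes_of_comm_diag hpv.comp huCv hu2 hmove' heCv heX' heX'2 fun m hm => ?_
    have h1 := hE2.comm_le_core hE' hEE (commutator_mem_commutator heE hm)
    have h2 := h1.2
    rw [hE'core] at h2
    exact h2.2
  -- the pump-up in `C(e)`
  obtain ⟨N, hN, hJN, hvN⟩ := exists_pump hpv hee hev hfe
  obtain ⟨hJ, hJsup⟩ := isComp_cen hpv.comp heCv hee hfe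
  have hJk := (kind_cen (κ := κ) hpv.comp heCv hee hfe).mpr hpv.kind
  have hvJ : v ∈ cen X' e := pair_mem_cen hpv hev
  have hJ2 : IsComp (centralizer ({e} : Set G) ⊓ centralizer ({v} : Set G)) (cen X' e) := by
    rw [inf_comm]; exact hJ
  have hN3 : IsComp (centralizer ({e} : Set G)) (cj u N) := isComp_cj_of_mem hN huCe
  have hN13 : cj u N ≠ N := by
    intro h
    have h1 : IsComp (centralizer ({e} : Set G) ⊓ centralizer ({v} : Set G)) (cj u (cen X' e)) :=
      isComp_cj_of_mem hJ2 ⟨huCe, huCv⟩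
    have h2 : cj u (cen X' e) ≤ N := by
      have := cj_mono (g := u) hJN
      rwa [h] at this
    have h3 := unique_in_pump hW heo hpv.inv hvJ hJ2 hJk hN hJN h1 h2
    apply hmove'
    refine hJ.unique (isComp_cj_of_mem hpv.comp huCv) hpv.comp ?_ (cen_le X' e)
    rw [← h3]
    exact cj_mono (cen_le X' e)
  have hvN3 : v ∈ cj u N := by
    have := conj_mem_cj (g := u) hvN
    rwa [huvi] at this
  have hfv : Fixes v N := hN.fixes_of_mem hN3 (Ne.symm hN13) hvN3
  have hJcen : cen X' e = cen N v := by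
    apply hJ2.eq_of_le (isComp_cen hN hvCe hv2 hfv).1
    apply hJ2.le_of_two
    intro k hk m hm
    exact mem_cen (hJN hk) (mem_centralizer_singleton_iff.mp (hJ2.le hk).2) hm
  have hNk : κ.P (↥N ⧸ oddCore ↥N) := by
    rw [← kind_cen (κ := κ) hN hvCe hv2 hfv, ← hJcen]
    exact hJk
  -- `v e` lies in `N ^ x`
  have hve2 : (v * e) * (v * e) = 1 := by
    calc (v * e) * (v * e) = v * (e * v) * e := by group
      _ = (v * v) * (e * e) := by rw [hev]; group
      _ = 1 := by rw [hv2, hee, one_mul]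
  have hve1 : v * e ≠ 1 := by
    rw [← hxvx]
    intro h
    apply hpv.ne_one
    calc v = x⁻¹ * (x * v * x⁻¹) * x := by group
      _ = 1 := by rw [h]; group
  have hvve : v * (v * e) = (v * e) * v := by
    rw [mul_assoc v e v, hev]
  have hveN2 : v * e ∈ cj x N := by
    rw [← hxvx]; exact conj_mem_cj hvN
  have hfve : Fixes (v * e) (cj x N) := by
    rw [← hxvx]; exact hfv.cj x
  have hne_ve : v ≠ v * e := fun h => he1 (mul_eq_left.mp h.symm)
  have hN12 : cj x N ≠ N := by
    intro h
    rw [h] at hveN2 hfve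
    exact hne_ve (eq_of_fixes ho hNk hvN hveN2 hv2 hve2 hpv.ne_one hve1 hfv hfve hvve)
  have hN32 : cj u N ≠ cj x N := by
    intro h
    rw [← h] at hveN2 hfve
    have hfv3 : Fixes v (cj u N) := by
      have := hfv.cj u
      rwa [huvi] at this
    exact hne_ve (eq_of_fixes ho (κ.congr (cjQuot u N) hNk) hvN3 hveN2 hv2 hve2 hpv.ne_one hve1
      hfv3 hfve hvve)
  -- the diagonal of `N N ^ x`
  obtain ⟨hG, -, -, -, f, hfsurj, hfker, -, hfone⟩ := exists_diag hN hxCe hx2 hN12
  have hvxv : v * (x * v * x⁻¹) = e := by rw [hxvx, ← mul_assoc, hv2, one_mul]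
  have heG : e ∈ diag (centralizer ({e} : Set G)) N x :=
    mem_diag (mem_centralizer_singleton_iff.mpr rfl) hex hvN
      (by rw [hvxv, inv_mul_cancel]; exact one_mem _) (n := 1)
      (by rw [pow_one, pow_two]; exact hee)
  have hfv1 : f (QuotientGroup.mk ⟨v, hvN⟩) ≠ 1 := by
    intro h
    have h1 := (hfone ⟨v, hvN⟩).mp h
    change v * (x * v * x⁻¹) ∈ _ at h1
    rw [hvxv] at h1
    exact he1 (eq_one_of_mem_core_sq h1 hee)
  have hfinj : Function.Injective f := by
    have hvc := Intrinsic.TypeGOne.mk_mem_center hvN hfv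
    have hinv : ∀ a : ↥N ⧸ oddCore ↥N, f a = 1 → a * a = 1 → a = 1 := by
      intro a ha ha2
      by_contra ha1
      have e3 := ho.uniq hNk _ hvc a (hfker (by rw [MonoidHom.mem_ker]; exact ha)) (by
        change (QuotientGroup.mk ⟨v * v, N.mul_mem hvN hvN⟩ : ↥N ⧸ oddCore ↥N) = 1
        rw [mk_eq_one_iff, hv2]; exact one_mem _) ha2
        (fun h => hpv.ne_one (eq_one_of_mem_core_sq ((mk_eq_one_iff hvN).mp h) hv2)) ha1
      exact hfv1 (by rw [e3, ha])
    rw [injective_iff_map_eq_one]
    intro a ha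
    obtain ⟨n, hn⟩ := ho.two hNk a (hfker (by rw [MonoidHom.mem_ker]; exact ha))
    induction n with
    | zero => simpa using hn
    | succ n ih =>
      apply ih
      apply hinv
      · rw [map_pow, ha, one_pow]
      · rw [← pow_two, ← pow_mul, ← pow_succ]
        exact hn
  have hGk : κ.P (↥(diag (centralizer ({e} : Set G)) N x) ⧸
      oddCore ↥(diag (centralizer ({e} : Set G)) N x)) :=
    κ.congr (MulEquiv.ofBijective f ⟨hfinj, hfsurj⟩) hNk
  have hG2 : IsComp (centralizer ({x} : Set G) ⊓ centralizer ({e} : Set G))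
      (diag (centralizer ({e} : Set G)) N x) := by rw [inf_comm]; exact hG
  -- its pump-up in `C(x)`
  obtain ⟨R, hR, hGR⟩ := exists_pumpup hee heG hG2
  have hcjG : cj u (diag (centralizer ({e} : Set G)) N x) =
      diag (centralizer ({e} : Set G)) (cj u N) x := by
    rw [cj_diag, cj_eq_self_of_mem huCe, huxi]
  have hRu : cj u R ≠ R := by
    intro h
    have h1 : IsComp (centralizer ({x} : Set G) ⊓ centralizer ({e} : Set G))
        (cj u (diag (centralizer ({e} : Set G)) N x)) := isComp_cj_of_mem hG2 ⟨huCx, huCe⟩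
    have h2 : cj u (diag (centralizer ({e} : Set G)) N x) ≤ R := by
      have := cj_mono (g := u) hGR
      rwa [h] at this
    have h3 := unique_in_pump hW hxo heo heG hG2 hGk hR hGR h1 h2
    rw [hcjG] at h3
    refine diag_ne hN hxCe hx2 hN12 hN3 ?_ hN13 hN32 h3
    intro h4
    rw [← cj_mul, hxu', cj_mul] at h4
    exact hN12 (cj_injective u h4)
  -- but `u` normalizes `R`
  apply hRu
  have hX2p : IsPair κ u (cj v X) := by
    have := hpu.cj v
    rwa [← huv, mul_inv_cancel_right] at this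
  have hfx : Fixes x (cj v X) := hX2.fixes_of_mem hpu.comp hmove hxX
  have h5 := (isComp_cen hX2 hxCu hx2 hfx).1
  rw [inf_comm] at h5
  have h6 := isComp_le_L2 huCx hu2 h5
  exact mem_normalizer_iff_cj.mp (hR.L2_le_normalizer (h6 (pair_mem_cen hX2p hxu')))

end Cfsg.Agent.UGT.I34.RankOne
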