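import Cfsg.Agent.UGT.I34.Pair
import Cfsg.Agent.UGT.I34.KF
import Cfsg.Agent.McLLyComp.Act

/-!
# THEOREM I34, part [A]: the world W1

`W1 κ τ D L`: `D` is a class of involutions, `(u, L u)` is a pair of kind `κ` for every `u ∈ D`, `L u` normal in `C(u)`,
the involutions of `L u` are in `D`, (P): `v ~ v u` under `L u` if `u, v ∈ D` commute and `v` does not fix `L u`; the
facts `KF.Facts (L u / O(L u)) τ`; in a target all involutions are conjugate (`Tgt κ`).

`act u a`: the automorphism of `L u / O(L u)` induced by `a`.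

* `pump x X`, `IsBig`, `IsSmall`
* (5.1), first part: `mem_of_mem`
* (5.3): `isBig_iff`, `of_mem_pump`
-/

set_option autoImplicit false

open Cfsg Subgroup
open Cfsg.Agent.SignalizersComponents Cfsg.Agent.Lib
open Cfsg.Agent.SignalizersComponents.IntrinsicBasic
open Cfsg.Agent.SignalizersComponents.PLayerAut
open Cfsg.Agent.Intrinsic
open Cfsg.Agent.Intrinsic.Basic hiding IsPair PQS Target IsPair.sq IsPair.ne_one IsPair.cj
open Cfsg.Agent.Intrinsic.Cen hiding pair_comm pair_mem_cen exists_pump pump_unique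
open Cfsg.Agent.Intrinsic.Quot hiding Big isPair_quot small_or_big
open Cfsg.Agent.McLLyComp.Act hiding mk_eq_one_iff
open Cfsg.Agent.UGT.I34.Pair Cfsg.Agent.UGT.I34.KF
open scoped commutatorElement

namespace Cfsg.Agent.UGT.I34.WOne

universe v

/-- The facts on targets. -/
def Tgt (κ : Kind.{v}) : Prop :=
  ∀ (X : Type v) [Group X] [Finite X] (z : X) (L : Subgroup X), κ.T X z L → IsPair κ z L →
    z ∉ center X ∧ ∀ s : X, s * s = 1 → s ≠ 1 → ∃ g, g * z * g⁻¹ = s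

/-- The world W1. -/
structure W1 {G : Type v} [Group G] [Finite G] (κ : Kind.{v}) (τ : Bool) (D : Set G) (L : G → Subgroup G) :
    Prop where
  ih : PQS κ (Nat.card G)
  tgt : Tgt κ
  cent : ∀ x : G, orderOf x = 2 → centralizer ({x} : Set G) ≠ ⊤
  pair : ∀ {u : G}, u ∈ D → IsPair κ u (L u)
  facts : ∀ {u : G}, u ∈ D → Facts (↥(L u) ⧸ oddCore ↥(L u)) τ
  conj : ∀ {u : G}, u ∈ D → ∀ g : G, g * u * g⁻¹ ∈ D
  L_conj : ∀ {u : G}, u ∈ D → ∀ g : G, L (g * u * g⁻¹) = cj g (L u)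
  one_class : ∀ {u v : G}, u ∈ D → v ∈ D → ∃ g : G, g * u * g⁻¹ = v
  /-- (P) -/
  swap : ∀ {u v : G}, u ∈ D → v ∈ D → u * v = v * u → ¬ Fixes v (L u) →
    ∃ h ∈ L u, h⁻¹ * v * h = v * u
  inv_mem : ∀ {u t : G}, u ∈ D → t ∈ L u → t * t = 1 → t ≠ 1 → t ∈ D

/-! ### the pump-up -/

section pump

variable {G : Type v} [Group G]

open Classical in
/-- The 2-component `M_x(X)` of `C(x)` containing `cen X x`. -/
noncomputable def pump (x : G) (X : Subgroup G) : Subgroup G :=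
  if h : ∃ M, IsComp (centralizer ({x} : Set G)) M ∧ cen X x ≤ M then h.choose else ⊥

/-- `x` is big for `(u, X)` -/
def IsBig (κ : Kind.{v}) (u : G) (X : Subgroup G) (x : G) : Prop := Big κ u (cen X x) (pump x X)

/-- `x` is small for `X` -/
def IsSmall (X : Subgroup G) (x : G) : Prop := Small (cen X x) (pump x X)

variable [Finite G] {κ : Kind.{v}} {u x : G} {X : Subgroup G}

theorem pump_spec (h : IsPair κ u X) (hxx : x * x = 1) (hx : x * u = u * x) (hf : Fixes x X) :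
    IsComp (centralizer ({x} : Set G)) (pump x X) ∧ cen X x ≤ pump x X := by
  obtain ⟨M, h1, h2, -⟩ := exists_pump h hxx hx hf
  have h3 : ∃ M, IsComp (centralizer ({x} : Set G)) M ∧ cen X x ≤ M := ⟨M, h1, h2⟩
  rw [pump, dif_pos h3]
  exact h3.choose_spec

theorem pump_comp (h : IsPair κ u X) (hxx : x * x = 1) (hx : x * u = u * x) (hf : Fixes x X) :
    IsComp (centralizer ({x} : Set G)) (pump x X) := (pump_spec h hxx hx hf).1

theorem cen_le_pump (h : IsPair κ u X) (hxx : x * x = 1) (hx : x * u = u * x) (hf : Fixes x X) :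
    cen X x ≤ pump x X := (pump_spec h hxx hx hf).2

theorem mem_pump (h : IsPair κ u X) (hxx : x * x = 1) (hx : x * u = u * x) (hf : Fixes x X) :
    u ∈ pump x X := cen_le_pump h hxx hx hf (pair_mem_cen h hx)

/-- 2-elements of `X` commuting with `x` lie in the pump-up -/
theorem mem_pump_of_mem (h : IsPair κ u X) (hxx : x * x = 1) (hx : x * u = u * x) (hf : Fixes x X)
    {m : G} (hm : m ∈ X) (hmx : m * x = x * m) {k : ℕ} (hk : m ^ 2 ^ k = 1) : m ∈ pump x X :=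
  cen_le_pump h hxx hx hf (mem_cen hm hmx hk)

theorem pump_eq (h : IsPair κ u X) (hxx : x * x = 1) (hx : x * u = u * x) (hf : Fixes x X)
    {M : Subgroup G} (hM : IsComp (centralizer ({x} : Set G)) M) (hle : cen X x ≤ M) :
    pump x X = M :=
  pump_unique h hxx hx hf (pump_comp h hxx hx hf) hM (cen_le_pump h hxx hx hf) hle

theorem cj_pump (h : IsPair κ u X) (hxx : x * x = 1) (hx : x * u = u * x) (hf : Fixes x X)
    (g : G) : pump (g * x * g⁻¹) (cj g X) = cj g (pump x X) := by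
  refine pump_eq (h.cj g) ?_ ?_ (hf.cj g) ?_ ?_
  · rw [show g * x * g⁻¹ * (g * x * g⁻¹) = g * (x * x) * g⁻¹ by group, hxx]; group
  · rw [show g * x * g⁻¹ * (g * u * g⁻¹) = g * (x * u) * g⁻¹ by group, hx]; group
  · rw [← cj_centralizer]
    exact (pump_comp h hxx hx hf).cj g
  · rw [← cj_cen]
    exact cj_mono (cen_le_pump h hxx hx hf)

/-- elements normalizing `X` and commuting with `x` normalize the pump-up -/
theorem mem_normalizer_pump (h : IsPair κ u X) (hxx : x * x = 1) (hx : x * u = u * x)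
    (hf : Fixes x X) {a : G} (ha : a ∈ normalizer (X : Set G)) (hax : a * x = x * a) :
    a ∈ normalizer (pump x X : Set G) := by
  have h1 := cj_pump h hxx hx hf a
  rw [mem_normalizer_iff_cj] at ha ⊢
  rw [ha, hax, mul_inv_cancel_right] at h1
  exact h1.symm

/-- `u` is an involution of `C(x)`, `cen X x` is a 2-component of `C(x) ∩ C(u)` -/
theorem isComp_cen_pump (h : IsPair κ u X) (hxx : x * x = 1) (hx : x * u = u * x)
    (hf : Fixes x X) :
    IsComp (centralizer ({x} : Set G) ⊓ centralizer ({u} : Set G)) (cen X x) := by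
  rw [inf_comm]
  exact (isComp_cen h.comp (mem_centralizer_singleton_iff.mpr hx) hxx hf).1

theorem isComp_cen_inf (h : IsPair κ u X) (hxx : x * x = 1) (hx : x * u = u * x)
    (hf : Fixes x X) : IsComp (pump x X ⊓ centralizer ({u} : Set G)) (cen X x) :=
  isComp_inf (isComp_cen_pump h hxx hx hf) (pump_comp h hxx hx hf) (cen_le_pump h hxx hx hf)

/-- **small or big** -/
theorem isSmall_or_isBig (ih : PQS κ (Nat.card G))
    (hc : ∀ x : G, orderOf x = 2 → centralizer ({x} : Set G) ≠ ⊤)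
    (h : IsPair κ u X) (hxx : x * x = 1) (hx1 : x ≠ 1) (hx : x * u = u * x)
    (hf : Fixes x X) : IsSmall X x ∨ IsBig κ u X x := by
  refine small_or_big ih h.inv (pair_mem_cen h hx) (isComp_cen_pump h hxx hx hf)
    ((kind_cen h.comp (mem_centralizer_singleton_iff.mpr hx) hxx hf).mpr h.kind)
    (pump_comp h hxx hx hf) (cen_le_pump h hxx hx hf) ?_
  have hox : orderOf x = 2 := orderOf_eq_prime (by rw [pow_two, hxx]) hx1
  have h1 : pump x X < ⊤ := lt_of_le_of_lt (pump_comp h hxx hx hf).le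
    (lt_top_iff_ne_top.mpr (hc x hox))
  have h2 : Nat.card (pump x X) ≤ Nat.card G :=
    Nat.le_of_dvd Nat.card_pos (Subgroup.card_subgroup_dvd_card _)
  refine lt_of_le_of_ne h2 fun h3 => h1.ne (Subgroup.eq_top_of_card_eq _ h3)

omit [Finite G] in
theorem IsSmall.fixes {X : Subgroup G} (h : IsSmall X x) (hp : IsPair κ u X) (hx : x * u = u * x) :
    Fixes u (pump x X) :=
  Small.fixes h (pair_mem_cen hp hx) fun _ hy =>
    mem_centralizer_singleton_iff.mpr (pair_comm hp (cen_le X x hy))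

/-- the target situation in `M / O(M)` for a pair -/
theorem Big.tgt {M J : Subgroup G} (hT : Tgt κ) (h : Big κ u J M) (hu : u * u = 1) (hu1 : u ≠ 1)
    (huJ : u ∈ J) (hJ : IsComp (M ⊓ centralizer ({u} : Set G)) J) (hk : κ.P (↥J ⧸ oddCore ↥J)) :
    ∃ huM : u ∈ M, (QuotientGroup.mk ⟨u, huM⟩ : ↥M ⧸ oddCore ↥M) ∉ center (↥M ⧸ oddCore ↥M) ∧
      ∀ s : ↥M ⧸ oddCore ↥M, s * s = 1 → s ≠ 1 → ∃ g, g * QuotientGroup.mk ⟨u, huM⟩ * g⁻¹ = s := by
  obtain ⟨huM, h1⟩ := h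
  exact ⟨huM, hT _ _ _ h1 (isPair_quot hu hu1 huJ huM hJ hk)⟩

theorem IsBig.tgt (hT : Tgt κ) (h : IsBig κ u X x) (hp : IsPair κ u X) (hxx : x * x = 1)
    (hx : x * u = u * x) (hf : Fixes x X) :
    ∃ huM : u ∈ pump x X, (QuotientGroup.mk ⟨u, huM⟩ : ↥(pump x X) ⧸ oddCore ↥(pump x X)) ∉
        center (↥(pump x X) ⧸ oddCore ↥(pump x X)) ∧
      ∀ s : ↥(pump x X) ⧸ oddCore ↥(pump x X), s * s = 1 → s ≠ 1 →
        ∃ g, g * QuotientGroup.mk ⟨u, huM⟩ * g⁻¹ = s :=
  Big.tgt hT h hp.sq hp.ne_one (pair_mem_cen hp hx) (isComp_cen_inf hp hxx hx hf)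
    ((kind_cen hp.comp (mem_centralizer_singleton_iff.mpr hx) hxx hf).mpr hp.kind)

theorem IsBig.not_fixes (hT : Tgt κ) (h : IsBig κ u X x) (hp : IsPair κ u X) (hxx : x * x = 1)
    (hx : x * u = u * x) (hf : Fixes x X) : ¬ Fixes u (pump x X) := by
  intro hfu
  obtain ⟨huM, h1, -⟩ := h.tgt hT hp hxx hx hf
  apply h1
  rw [mem_center_iff]
  intro y
  obtain ⟨⟨y, hy⟩, rfl⟩ := QuotientGroup.mk_surjective y
  rw [mk_comm_iff]
  exact (fixes_iff_conj.mp hfu).2 y hy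

/-- big and small exclude each other -/
theorem IsBig.not_small (hT : Tgt κ) (h : IsBig κ u X x) (hp : IsPair κ u X) (hxx : x * x = 1)
    (hx : x * u = u * x) (hf : Fixes x X) : ¬ IsSmall X x := fun hs =>
  h.not_fixes hT hp hxx hx hf (hs.fixes hp hx)

/-- in the big case the pump-up has one class of involutions -/
theorem IsBig.conj (hT : Tgt κ) (h : IsBig κ u X x) (hp : IsPair κ u X) (hxx : x * x = 1)
    (hx : x * u = u * x) (hf : Fixes x X) {s : G} (hs : s ∈ pump x X) (hss : s * s = 1) (hs1 : s ≠ 1) :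
    ∃ g ∈ pump x X, g * u * g⁻¹ = s := by
  obtain ⟨huM, -, h5⟩ := h.tgt hT hp hxx hx hf
  have h0 : (QuotientGroup.mk ⟨s, hs⟩ : ↥(pump x X) ⧸ oddCore ↥(pump x X)) ≠ 1 := by
    rw [Ne, mk_eq_one_iff]
    exact fun h => hs1 (eq_one_of_mem_core_sq h hss)
  have h00 : (QuotientGroup.mk ⟨s, hs⟩ : ↥(pump x X) ⧸ oddCore ↥(pump x X)) * QuotientGroup.mk ⟨s, hs⟩ = 1 := by
    change (QuotientGroup.mk ⟨s * s, (pump x X).mul_mem hs hs⟩ : ↥(pump x X) ⧸ oddCore ↥(pump x X)) = 1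
    rw [mk_eq_one_iff, hss]
    exact one_mem _
  obtain ⟨g, hg⟩ := h5 _ h00 h0
  obtain ⟨⟨g, hgM⟩, rfl⟩ := QuotientGroup.mk_surjective g
  have h6 : (QuotientGroup.mk ⟨g * u * g⁻¹, (pump x X).mul_mem ((pump x X).mul_mem hgM huM)
      ((pump x X).inv_mem hgM)⟩ : ↥(pump x X) ⧸ oddCore ↥(pump x X)) = QuotientGroup.mk ⟨s, hs⟩ := hg
  rw [mk_eq_mk_iff'] at h6
  have hv : (g * u * g⁻¹) ^ 2 ^ 1 = 1 := by
    rw [pow_one, pow_two]
    calc g * u * g⁻¹ * (g * u * g⁻¹) = g * (u * u) * g⁻¹ := by group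
      _ = 1 := by rw [hp.sq]; group
  obtain ⟨o, ho, h7⟩ := Lifting.exists_conj_eq (odd_card_core (pump x X)) hv
    (show s ^ 2 ^ 1 = 1 by rw [pow_one, pow_two, hss])
    (le_normalizer_core (pump x X) ((pump x X).mul_mem ((pump x X).mul_mem hgM huM)
      ((pump x X).inv_mem hgM))) h6
  refine ⟨o * g, (pump x X).mul_mem (core_le (pump x X) ho) hgM, ?_⟩
  rw [← h7]; group

end pump

/-! ### general lemmas on `Fixes` -/

section general

variable {G : Type v} [Group G]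

theorem comm_mul {u a b : G} (ha : a * u = u * a) (hb : b * u = u * b) : a * b * u = u * (a * b) := by
  rw [mul_assoc, hb, ← mul_assoc, ha, mul_assoc]

theorem comm_inv {u a : G} (ha : a * u = u * a) : a⁻¹ * u = u * a⁻¹ := by
  rw [inv_mul_eq_iff_eq_mul, ← mul_assoc, ha, mul_inv_cancel_right]

theorem comm_pow {u a : G} (ha : a * u = u * a) (m : ℕ) : a ^ m * u = u * a ^ m :=
  ((show Commute a u from ha).pow_left m).eq

theorem mul_sq {a b : G} (ha : a * a = 1) (hb : b * b = 1) (hab : a * b = b * a) :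
    (a * b) * (a * b) = 1 := by
  rw [mul_assoc, ← mul_assoc b a b, ← hab, mul_assoc a b b, hb, mul_one, ha]

theorem mul_ne_one {a b : G} (hb : b * b = 1) (hab : a ≠ b) : a * b ≠ 1 := fun h =>
  hab (by rw [eq_inv_of_mul_eq_one_left h, inv_eq_of_mul_eq_one_left hb])

theorem fixes_pow {K : Subgroup G} {a : G} (ha : Fixes a K) (m : ℕ) : Fixes (a ^ m) K := by
  induction m with
  | zero => rw [pow_zero]; exact fixes_one K
  | succ m ih => rw [pow_succ]; exact fixes_mul ih ha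

variable [Finite G]

/-- a normal odd subgroup of a bigger group meets `J` in the core of `J` -/
theorem inf_core_le {J M : Subgroup G} (hJ : J ≤ normalizer (M : Set G)) : J ⊓ core M ≤ core J := by
  refine le_core inf_le_left ?_ (Odd.of_dvd_nat (odd_card_core M) (card_dvd_of_le inf_le_right))
  intro j hj
  rw [mem_normalizer_iff_cj, cj_inf, cj_eq_self_of_mem hj,
    mem_normalizer_iff_cj.mp (normalizer_le_normalizer_core M (hJ hj))]

/-- an element normalizing `J ≤ M` and fixing `M` fixes `J` -/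
theorem fixes_of_le {J M : Subgroup G} (hJM : J ≤ M) {a : G} (ha : a ∈ normalizer (J : Set G))
    (haf : Fixes a M) : Fixes a J := by
  rw [fixes_iff_conj] at haf ⊢
  refine ⟨ha, fun y hy => inf_core_le (hJM.trans le_normalizer) ⟨?_, haf.2 y (hJM hy)⟩⟩
  exact J.mul_mem (J.inv_mem hy) ((mem_normalizer_iff.mp ha y).mp hy)

/-- if `a` fixes `pump x X` it fixes `X` -/
theorem fixes_of_pump {κ : Kind.{v}} {u x : G} {X : Subgroup G} (h : IsPair κ u X) (hxx : x * x = 1)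
    (hx : x * u = u * x) (hf : Fixes x X) {a : G} (ha : a ∈ normalizer (X : Set G)) (hax : a * x = x * a)
    (haf : Fixes a (pump x X)) : Fixes a X := by
  have hs := (isComp_cen h.comp (mem_centralizer_singleton_iff.mpr hx) hxx hf).2
  rw [← fixes_iff_of_sup hs (mem_normalizer_cen ha hax) ha]
  exact fixes_of_le (cen_le_pump h hxx hx hf) (mem_normalizer_cen ha hax) haf

end general

/-! ### consequences of the record -/

namespace W1

variable {G : Type v} [Group G] [Finite G] {κ : Kind.{v}} {τ : Bool} {D : Set G} {L : G → Subgroup G}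
  {u v t x s a b : G}

theorem sq (h : W1 κ τ D L) (hu : u ∈ D) : u * u = 1 := (h.pair hu).sq

theorem ne_one (h : W1 κ τ D L) (hu : u ∈ D) : u ≠ 1 := (h.pair hu).ne_one

theorem mem (h : W1 κ τ D L) (hu : u ∈ D) : u ∈ L u := (h.pair hu).mem

theorem comp (h : W1 κ τ D L) (hu : u ∈ D) : IsComp (centralizer ({u} : Set G)) (L u) :=
  (h.pair hu).comp

/-- elements of `L u` commute with `u` -/
theorem comm (h : W1 κ τ D L) (hu : u ∈ D) (hx : x ∈ L u) : x * u = u * x := pair_comm (h.pair hu) hx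

theorem norm (h : W1 κ τ D L) (hu : u ∈ D) {a : G} (ha : a * u = u * a) :
    a ∈ normalizer (L u : Set G) := by
  have h1 := h.L_conj hu a
  rw [ha, mul_inv_cancel_right] at h1
  rw [mem_normalizer_iff_cj]
  exact h1.symm

/-- (3.A) -/
theorem symm (h : W1 κ τ D L) (hu : u ∈ D) (hv : v ∈ D) (huv : u * v = v * u) (hf : Fixes v (L u)) :
    Fixes u (L v) := typeZero_symm' (h.pair hu) (h.pair hv) huv hf

theorem small_or_big (h : W1 κ τ D L) (hu : u ∈ D) (hxx : x * x = 1) (hx1 : x ≠ 1)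
    (hx : x * u = u * x) (hf : Fixes x (L u)) : IsSmall (L u) x ∨ IsBig κ u (L u) x :=
  isSmall_or_isBig h.ih h.cent (h.pair hu) hxx hx1 hx hf

theorem fixes_self (h : W1 κ τ D L) (hu : u ∈ D) : Fixes u (L u) := by
  rw [fixes_iff_conj]
  refine ⟨le_normalizer (h.mem hu), fun y hy => ?_⟩
  rw [← h.comm hu hy, mul_inv_cancel_right, inv_mul_cancel]
  exact one_mem _

section mk

variable (h : W1 κ τ D L) (hu : u ∈ D)

/-- central involutions of `L u / O(L u)` are equal -/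
theorem center_unique (hF : Facts (↥(L u) ⧸ oddCore ↥(L u)) τ) {a b : ↥(L u) ⧸ oddCore ↥(L u)}
    (ha : a ∈ center (↥(L u) ⧸ oddCore ↥(L u))) (hb : b ∈ center (↥(L u) ⧸ oddCore ↥(L u)))
    (haa : a * a = 1) (hbb : b * b = 1) (ha1 : a ≠ 1) (hb1 : b ≠ 1) : a = b := by
  obtain ⟨i, hi, hc⟩ := hF.exists_i
  rw [hc] at ha hb
  have hi4 : i ^ 4 = 1 := by rw [← hi, pow_orderOf_eq_one]
  have key : ∀ {a : ↥(L u) ⧸ oddCore ↥(L u)}, a ∈ zpowers i → a * a = 1 → a ≠ 1 → a = i ^ 2 := by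
    intro a ha haa ha1
    classical
    rw [mem_zpowers_iff_mem_range_orderOf, hi] at ha
    simp only [Finset.mem_image, Finset.mem_range] at ha
    obtain ⟨n, hn, rfl⟩ := ha
    have h2 : ∀ m : ℕ, i ^ m = 1 → 4 ∣ m := fun m hm => by
      rw [← hi]; exact orderOf_dvd_of_pow_eq_one hm
    interval_cases n
    · exact absurd (pow_zero i) ha1
    · rw [← pow_add] at haa
      have := h2 _ haa
      omega
    · rfl
    · rw [← pow_add] at haa
      have := h2 _ haa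
      omega
  rw [key ha haa ha1, key hb hbb hb1]

end mk

omit [Finite G] in
theorem mk_mul {X : Subgroup G} {a b : G} (ha : a ∈ X) (hb : b ∈ X) :
    (QuotientGroup.mk ⟨a, ha⟩ : ↥X ⧸ oddCore ↥X) * QuotientGroup.mk ⟨b, hb⟩ =
      QuotientGroup.mk ⟨a * b, X.mul_mem ha hb⟩ := rfl

omit [Finite G] in
/-- `mk t` is an involution -/
theorem mk_sq {X : Subgroup G} (ht : t ∈ X) (htt : t * t = 1) :
    (QuotientGroup.mk ⟨t, ht⟩ : ↥X ⧸ oddCore ↥X) * QuotientGroup.mk ⟨t, ht⟩ = 1 := by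
  rw [mk_mul, mk_eq_one_iff, htt]
  exact one_mem _

theorem mk_ne_one {X : Subgroup G} (ht : t ∈ X) (htt : t * t = 1) (ht1 : t ≠ 1) :
    (QuotientGroup.mk ⟨t, ht⟩ : ↥X ⧸ oddCore ↥X) ≠ 1 := by
  rw [Ne, mk_eq_one_iff]
  exact fun h => ht1 (eq_one_of_mem_core_sq h htt)

omit [Finite G] in
theorem mk_center_iff {X : Subgroup G} (ht : t ∈ X) :
    (QuotientGroup.mk ⟨t, ht⟩ : ↥X ⧸ oddCore ↥X) ∈ center (↥X ⧸ oddCore ↥X) ↔ Fixes t X := by
  rw [mem_center_iff, fixes_iff_conj]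
  constructor
  · intro h
    refine ⟨le_normalizer ht, fun y hy => ?_⟩
    exact (mk_comm_iff hy ht).mp (h _)
  · rintro ⟨-, h⟩ y
    obtain ⟨⟨y, hy⟩, rfl⟩ := QuotientGroup.mk_surjective y
    exact (mk_comm_iff hy ht).mpr (h y hy)

/-- `t ∈ L u`, `t` an involution, `t` fixes `L u`: `t = u` -/
theorem eq_of_fixes (h : W1 κ τ D L) (hu : u ∈ D) (ht : t ∈ L u) (htt : t * t = 1) (ht1 : t ≠ 1)
    (hf : Fixes t (L u)) : t = u := by
  have h1 := center_unique (h.facts hu) ((mk_center_iff ht).mpr hf)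
    ((mk_center_iff (h.mem hu)).mpr (h.fixes_self hu)) (mk_sq ht htt) (mk_sq (h.mem hu) (h.sq hu))
    (mk_ne_one ht htt ht1) (mk_ne_one (h.mem hu) (h.sq hu) (h.ne_one hu))
  rw [mk_eq_mk_iff'] at h1
  exact Lifting.eq_of_commute (odd_card_core (L u)) (n := 1) (m := 1)
    (by rw [pow_one, pow_two, htt]) (by rw [pow_one, pow_two, h.sq hu]) (h.comm hu ht) h1

/-- involutions of `L u` other than `u` do not fix `L u` -/
theorem not_fixes (h : W1 κ τ D L) (hu : u ∈ D) (ht : t ∈ L u) (htt : t * t = 1) (ht1 : t ≠ 1)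
    (htu : t ≠ u) : ¬ Fixes t (L u) := fun hf => htu (h.eq_of_fixes hu ht htt ht1 hf)

/-- noncentral involutions of `L u / O(L u)` -/
theorem ninv (h : W1 κ τ D L) (hu : u ∈ D) (ht : t ∈ L u) (htt : t * t = 1) (ht1 : t ≠ 1)
    (htu : t ≠ u) : NInv (QuotientGroup.mk ⟨t, ht⟩ : ↥(L u) ⧸ oddCore ↥(L u)) :=
  ⟨mk_sq ht htt, fun hc => h.not_fixes hu ht htt ht1 htu ((mk_center_iff ht).mp hc)⟩

theorem exists_conj (h : W1 κ τ D L) (hu : u ∈ D) {s t : G} (hs : s ∈ L u) (ht : t ∈ L u)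
    (hss : s * s = 1) (htt : t * t = 1) (hs1 : s ≠ 1) (ht1 : t ≠ 1) (hsu : s ≠ u) (htu : t ≠ u) :
    ∃ g ∈ L u, g * s * g⁻¹ = t := by
  obtain ⟨w, hw⟩ := (h.facts hu).conj (h.ninv hu hs hss hs1 hsu) (h.ninv hu ht htt ht1 htu)
  obtain ⟨⟨w, hwX⟩, rfl⟩ := QuotientGroup.mk_surjective w
  have h1 : w * s * w⁻¹ ∈ L u := (L u).mul_mem ((L u).mul_mem hwX hs) ((L u).inv_mem hwX)
  have h2 : (w * s * w⁻¹)⁻¹ * t ∈ core (L u) := (mk_eq_mk_iff' h1 ht).mp hw
  obtain ⟨o, ho, h3⟩ := Lifting.exists_conj_eq (odd_card_core (L u)) (v := w * s * w⁻¹) (v' := t)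
    (n := 1) (m := 1) (by rw [pow_one, pow_two, show w * s * w⁻¹ * (w * s * w⁻¹) = w * (s * s) * w⁻¹ by group, hss]; group)
    (by rw [pow_one, pow_two, htt]) (le_normalizer_core (L u) h1) h2
  refine ⟨o * w, (L u).mul_mem (core_le (L u) ho) hwX, ?_⟩
  rw [← h3]; group

/-- involutions of `L u` commuting with a 2-group fixing `L u` -/
theorem exists_inv_comm (h : W1 κ τ D L) (hu : u ∈ D) {V : Subgroup G} (hV : IsPGroup 2 V)
    (hf : ∀ a ∈ V, Fixes a (L u)) :
    ∃ t ∈ L u, t * t = 1 ∧ t ≠ 1 ∧ t ≠ u ∧ ∀ a ∈ V, a * t = t * a := by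
  obtain ⟨t', ht2, htc⟩ := (h.facts hu).exists_t
  obtain ⟨⟨t₀, ht₀⟩, rfl⟩ := QuotientGroup.mk_surjective t'
  have hVN : V ≤ normalizer (core (L u) : Set G) := fun a ha =>
    normalizer_le_normalizer_core (L u) (hf a ha).1
  obtain ⟨o, ho, h4⟩ := Lifting.exists_commute_group (odd_card_core (L u)) hV hVN (m := t₀)
    (fun a ha => (fixes_iff_conj.mp (hf a ha)).2 t₀ ht₀)
  have h3 : t₀ * t₀ ∈ core (L u) := by
    rw [mk_mul, mk_eq_one_iff] at ht2
    exact ht2
  have h5 : (t₀ * o) ^ 2 ^ 1 ∈ core (L u) := by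
    have h6 := conj_mem_core (x := t₀) (le_normalizer ht₀) ho
    have h7 : (t₀ * o) ^ 2 ^ 1 = (t₀ * o * t₀⁻¹) * (t₀ * t₀) * o := by
      rw [pow_one, pow_two]; group
    rw [h7]
    exact mul_mem (mul_mem h6 h3) ho
  obtain ⟨k, h6, h7⟩ := Lifting.exists_two_part (odd_card_core (L u)) h5
  have hmem : t₀ * o ∈ L u := (L u).mul_mem ht₀ (core_le (L u) ho)
  have hk := (L u).pow_mem hmem k
  have e : (QuotientGroup.mk ⟨(t₀ * o) ^ k, hk⟩ : ↥(L u) ⧸ oddCore ↥(L u)) = QuotientGroup.mk ⟨t₀, ht₀⟩ := by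
    have h8 : (QuotientGroup.mk ⟨t₀ * o, hmem⟩ : ↥(L u) ⧸ oddCore ↥(L u)) =
        QuotientGroup.mk ⟨(t₀ * o) ^ k, hk⟩ := (mk_eq_mk_iff' hmem hk).mpr h7
    rw [← h8]
    symm
    rw [mk_eq_mk_iff', inv_mul_cancel_left]
    exact ho
  refine ⟨(t₀ * o) ^ k, hk, by rwa [pow_one, pow_two] at h6, ?_, ?_, fun a ha => ?_⟩
  · intro h8
    apply htc
    have h9 : (QuotientGroup.mk ⟨(t₀ * o) ^ k, hk⟩ : ↥(L u) ⧸ oddCore ↥(L u)) = 1 := by
      rw [mk_eq_one_iff, h8]; exact one_mem _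
    rw [← e, h9]
    exact one_mem _
  · intro h8
    apply htc
    rw [← e, mk_center_iff, h8]
    exact h.fixes_self hu
  · exact ((show Commute a (t₀ * o) from h4 a ha).pow_right k).eq

/-- an involution of `L u` other than `u` commuting with the 2-element `a` fixing `L u` -/
theorem exists_inv_comm_one (h : W1 κ τ D L) (hu : u ∈ D) {a : G} {m : ℕ} (ham : a ^ 2 ^ m = 1)
    (hf : Fixes a (L u)) :
    ∃ t ∈ L u, t * t = 1 ∧ t ≠ 1 ∧ t ≠ u ∧ a * t = t * a := by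
  have hV : IsPGroup 2 (zpowers a) := by
    rintro ⟨_, k, rfl⟩
    refine ⟨m, ?_⟩
    apply Subtype.ext
    change (a ^ k) ^ 2 ^ m = 1
    rw [← zpow_natCast, ← zpow_mul, mul_comm, zpow_mul, zpow_natCast, ham, one_zpow]
  obtain ⟨t, ht, h1, h2, h3, h4⟩ := h.exists_inv_comm hu hV (fun b hb => by
    obtain ⟨k, rfl⟩ := mem_zpowers_iff.mp hb
    obtain ⟨n, hn⟩ : ∃ n : ℕ, a ^ k = a ^ n := by
      have h5 := mem_powers_iff_mem_zpowers.mpr (zpow_mem_zpowers a k)
      obtain ⟨n, hn⟩ := Submonoid.mem_powers_iff _ _ |>.mp h5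
      exact ⟨n, hn.symm⟩
    rw [hn]
    exact fixes_pow hf n)
  exact ⟨t, ht, h1, h2, h3, h4 a (mem_zpowers a)⟩

/-- **(5.1)** -/
theorem mem_of_mem (h : W1 κ τ D L) (hu : u ∈ D) (ht : t ∈ L u) (htt : t * t = 1) (ht1 : t ≠ 1) :
    u ∈ L t := by
  by_cases htu : t = u
  · rw [htu]; exact h.mem hu
  have htD := h.inv_mem hu ht htt ht1
  have hc := h.comm hu ht
  have hnf := h.not_fixes hu ht htt ht1 htu
  have hnf' : ¬ Fixes u (L t) := fun hf => hnf (h.symm htD hu hc hf)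
  obtain ⟨a, haL, ha⟩ := h.swap hu htD hc.symm hnf
  obtain ⟨b, hbL, hb⟩ := h.swap htD hu hc hnf'
  -- `a`: fixes `u`, `t ↦ t u`;  `b`: fixes `t`, `u ↦ u t`
  have hau : a⁻¹ * u * a = u := by
    rw [mul_assoc, ← h.comm hu haL, inv_mul_cancel_left]
  have hbt : b⁻¹ * t * b = t := by
    rw [mul_assoc, ← h.comm htD hbL, inv_mul_cancel_left]
  -- `g = a * b * a`
  obtain ⟨g, hg⟩ : ∃ g, g = a * b * a := ⟨_, rfl⟩
  have e1 : g⁻¹ * u * g = t := by
    have : g⁻¹ * u * g = a⁻¹ * (b⁻¹ * (a⁻¹ * u * a) * b) * a := by rw [hg]; group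
    rw [this, hau, hb, show a⁻¹ * (u * t) * a = (a⁻¹ * u * a) * (a⁻¹ * t * a) by group, hau, ha,
      hc, ← mul_assoc, h.sq hu, one_mul]
  have e2 : g⁻¹ * t * g = u := by
    have : g⁻¹ * t * g = a⁻¹ * (b⁻¹ * (a⁻¹ * t * a) * b) * a := by rw [hg]; group
    rw [this, ha, show b⁻¹ * (t * u) * b = (b⁻¹ * t * b) * (b⁻¹ * u * b) by group, hbt, hb,
      ← hc, ← mul_assoc t t u, h.sq htD, one_mul, hau]
  have e3 : L t = cj g⁻¹ (L u) := by
    have := h.L_conj hu g⁻¹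
    rw [inv_inv, e1] at this
    exact this
  rw [e3]
  have := conj_mem_cj (g := g⁻¹) ht
  rwa [inv_inv, e2] at this

/-! ### (5.3) -/

section

variable (h : W1 κ τ D L) (hu : u ∈ D) (hxx : x * x = 1) (hx : x * u = u * x)
  (hf : Fixes x (L u)) (ht : t ∈ L u) (htt : t * t = 1) (ht1 : t ≠ 1) (htu : t ≠ u)
  (hxt : x * t = t * x)

include h hu hxx hx hf ht htt ht1 htu hxt

/-- the involutions of `L u` other than `u` commuting with `x` do not fix the pump-up -/
theorem not_fixes_pump : ¬ Fixes t (pump x (L u)) := fun hft =>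
  h.not_fixes hu ht htt ht1 htu
    (fixes_of_pump (h.pair hu) hxx hx hf (h.norm hu (h.comm hu ht)) hxt.symm hft)

/-- **(5.3), first half** -/
theorem pump_eq_pump (hft : Fixes x (L t)) : pump x (L u) = pump x (L t) := by
  have htD := h.inv_mem hu ht htt ht1
  by_contra hne
  have h1 := pump_comp (h.pair hu) hxx hx hf
  have h2 := pump_comp (h.pair htD) hxx hxt hft
  have h3 := mem_pump_of_mem (h.pair hu) hxx hx hf ht hxt.symm (k := 1) (by rw [pow_one, pow_two, htt])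
  have h4 := h1.fixes_of_mem h2 hne (mem_pump (h.pair htD) hxx hxt hft)
  exact h.not_fixes_pump hu hxx hx hf ht htt ht1 htu hxt h4

theorem isBig_of_fixes (hx1 : x ≠ 1) (hft : Fixes x (L t)) :
    IsBig κ u (L u) x ∧ IsBig κ t (L t) x := by
  have htD := h.inv_mem hu ht htt ht1
  have huL := h.mem_of_mem hu ht htt ht1
  have he := h.pump_eq_pump hu hxx hx hf ht htt ht1 htu hxt hft
  constructor
  · refine (h.small_or_big hu hxx hx1 hx hf).resolve_left fun hs => ?_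
    -- `u` fixes the pump-up, which is the pump-up of `L t`, in which `u` is not central
    have h1 := hs.fixes (h.pair hu) hx
    rw [he] at h1
    exact h.not_fixes_pump htD hxx hxt hft huL (h.sq hu) (h.ne_one hu) (Ne.symm htu) hx h1
  · refine (h.small_or_big htD hxx hx1 hxt hft).resolve_left fun hs => ?_
    have h1 := hs.fixes (h.pair htD) hxt
    rw [← he] at h1
    exact h.not_fixes_pump hu hxx hx hf ht htt ht1 htu hxt h1

end

/-- **(5.3), second half**: if `x` is big then all involutions `s` of the pump-up are in `D`, `x` fixes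
`L s`, the pump-ups are the same and `x` is big for `s`. -/
theorem of_mem_pump (h : W1 κ τ D L) (hu : u ∈ D) (hxx : x * x = 1) (hx1 : x ≠ 1) (hx : x * u = u * x)
    (hf : Fixes x (L u)) (hb : IsBig κ u (L u) x) {s : G} (hs : s ∈ pump x (L u))
    (hss : s * s = 1) (hs1 : s ≠ 1) : s ∈ D ∧ x * s = s * x ∧ Fixes x (L s) ∧
      pump x (L s) = pump x (L u) ∧ IsBig κ s (L s) x := by
  obtain ⟨m, hm, rfl⟩ := hb.conj h.tgt (h.pair hu) hxx hx hf hs hss hs1
  have hM := pump_comp (h.pair hu) hxx hx hf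
  have hmx : m * x = x * m := mem_centralizer_singleton_iff.mp (hM.le hm)
  have hxm : m * x * m⁻¹ = x := by rw [hmx, mul_inv_cancel_right]
  have h1 := hf.cj m
  rw [hxm, ← h.L_conj hu] at h1
  have h2 := cj_pump (h.pair hu) hxx hx hf m
  rw [hxm, ← h.L_conj hu, cj_eq_self_of_mem hm] at h2
  have h3 := (mem_centralizer_singleton_iff.mp (hM.le hs)).symm
  refine ⟨h.conj hu m, h3, h1, h2, ?_⟩
  refine (h.small_or_big (h.conj hu m) hxx hx1 h3 h1).resolve_left fun hsm => ?_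
  have h4 := (hsm.fixes (h.pair (h.conj hu m)) h3).cj m⁻¹
  rw [h2, cj_eq_self_of_mem (Subgroup.inv_mem _ hm), show m⁻¹ * (m * u * m⁻¹) * m⁻¹⁻¹ = u by group] at h4
  exact hb.not_fixes h.tgt (h.pair hu) hxx hx hf h4

/-- **(5.3)** -/
theorem fixes_of_isBig (h : W1 κ τ D L) (hu : u ∈ D) (hxx : x * x = 1) (hx1 : x ≠ 1)
    (hx : x * u = u * x) (hf : Fixes x (L u)) (ht : t ∈ L u) (htt : t * t = 1) (ht1 : t ≠ 1)
    (hxt : x * t = t * x) (hb : IsBig κ u (L u) x) : Fixes x (L t) :=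
  (h.of_mem_pump hu hxx hx1 hx hf hb
    (mem_pump_of_mem (h.pair hu) hxx hx hf ht hxt.symm (k := 1) (by rw [pow_one, pow_two, htt]))
    htt ht1).2.2.1

/-- **(5.3)** -/
theorem isBig_iff (h : W1 κ τ D L) (hu : u ∈ D) (hxx : x * x = 1) (hx1 : x ≠ 1)
    (hx : x * u = u * x) (hf : Fixes x (L u)) (ht : t ∈ L u) (htt : t * t = 1) (ht1 : t ≠ 1)
    (htu : t ≠ u) (hxt : x * t = t * x) : IsBig κ u (L u) x ↔ Fixes x (L t) :=
  ⟨h.fixes_of_isBig hu hxx hx1 hx hf ht htt ht1 hxt,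
    fun hft => (h.isBig_of_fixes hu hxx hx hf ht htt ht1 htu hxt hx1 hft).1⟩

end W1

end Cfsg.Agent.UGT.I34.WOne
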