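import Cfsg.Agent.UGT.I34.FourDefs

/-!
# THEOREM I34, part [C]: the K-facts of (TYPE I)

`K = 2².L₃(4)`, `t` a noncentral involution, `T = C_K(t)` (a Sylow 2-subgroup, of order `2⁸`),
`DZ t = Z(T) = T'` of order 16.
-/

set_option autoImplicit false

open Cfsg Subgroup
open Cfsg.Agent.UGT.I34.Pair Cfsg.Agent.UGT.I34.KAut
open Cfsg.Agent.UGT.I34.KF (NInv)
open scoped commutatorElement

namespace Cfsg.Agent.UGT.I34.Four

universe u

/-- the centre of `C(t)` -/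
def DZ {K : Type*} [Group K] (t : K) : Subgroup K :=
  centralizer ({t} : Set K) ⊓ centralizer (centralizer ({t} : Set K) : Set K)

/-- The facts on `K = 2².L₃(4)` used in (TYPE I). -/
structure TFacts (K : Type*) [Group K] : Prop where
  /-- involutions modulo the centre are involutions -/
  sqz : ∀ x : K, x * x ∈ center K → x * x = 1
  card : ∀ {t : K}, NInv t → Nat.card (centralizer ({t} : Set K)) = 256
  gen : ∀ {t : K}, NInv t → centralizer ({t} : Set K) ≤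
    closure {m | ∃ g : K, t * (g * t * g⁻¹) = (g * t * g⁻¹) * t ∧ m = t * (g * t * g⁻¹)}
  /-- `T' ≥ Z(K)` -/
  center_le : ∀ {t : K}, NInv t →
    center K ≤ ⁅centralizer ({t} : Set K), centralizer ({t} : Set K)⁆
  card_DZ : ∀ {t : K}, NInv t → Nat.card (DZ t) = 16
  sq_DZ : ∀ {t : K}, NInv t → ∀ d ∈ DZ t, d * d = 1
  /-- (V) -/
  four : ∀ {t : K}, NInv t → ∀ V : Subgroup (MulAut K), Nat.card V = 4 → (∀ α ∈ V, α * α = 1) →
    MulAut.conj t ∈ V →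
    (∀ x ∈ centralizer ({t} : Set K), ∀ α ∈ V, MulAut.conj x * α * (MulAut.conj x)⁻¹ ∈ V) →
    ∀ α : MulAut K, α ∈ V ↔ ∃ d ∈ DZ t, α = MulAut.conj d
  /-- (W) -/
  inn : ∀ {t : K}, NInv t → ∀ α : MulAut K, (∃ n : ℕ, α ^ 2 ^ n = 1) → (∀ z ∈ center K, α z = z) →
    (∀ d ∈ DZ t, ∃ z ∈ center K, α d = d * z) →
    ∃ p ∈ centralizer ({t} : Set K), α = MulAut.conj p
  /-- (B) -/
  nB : ∀ {t : K}, NInv t → ∀ B : Subgroup K, B ≤ centralizer ({t} : Set K) →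
    (∀ x ∈ centralizer ({t} : Set K), ∀ b ∈ B, x * b * x⁻¹ ∈ B) → (∀ b ∈ B, b ∈ center K → b = 1) →
    4 ≤ Nat.card B → (∀ d ∈ DZ t, ∃ b ∈ B, b ∈ DZ t ∧ ∃ z ∈ center K, d = b * z) ∧ Nat.card B ≤ 8
  /-- centralisers in `T / Z(K)` of elements outside `Z(T) / Z(K)` -/
  cE : ∀ {t : K}, NInv t → ∀ e ∈ centralizer ({t} : Set K), e ∉ DZ t →
    ∀ A : Subgroup K, A ≤ centralizer ({t} : Set K) → (∀ a ∈ A, ⁅a, e⁆ ∈ center K) → Nat.card A ≤ 64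
  /-- the two elementary abelian subgroups of order `2⁶` of `T` -/
  EE : ∀ {t : K}, NInv t → ∃ E₁ E₂ : Subgroup K, E₁ ≤ centralizer ({t} : Set K) ∧
    E₂ ≤ centralizer ({t} : Set K) ∧ center K ≤ E₁ ∧ center K ≤ E₂ ∧ DZ t ≤ E₁ ∧ DZ t ≤ E₂ ∧ E₁ ≠ E₂ ∧
    Nat.card E₁ = 64 ∧ Nat.card E₂ = 64 ∧ (∀ x ∈ E₁, x * x = 1) ∧ (∀ x ∈ E₂, x * x = 1) ∧
    (∀ x ∈ centralizer ({t} : Set K), x * x ∈ center K → x ∈ E₁ ∨ x ∈ E₂) ∧
    ∀ W : Subgroup K, W ≤ centralizer ({t} : Set K) → (∀ x ∈ W, x * x ∈ center K) → W ≤ E₁ ∨ W ≤ E₂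
  /-- involutions of `(Aut K)'` are inner -/
  cinn : ∀ φ ∈ commutator (MulAut K), φ * φ = 1 → φ ∈ Inn K

/-- `TFacts` for all groups of the kind `κ` -/
def KI (κ : Kind.{u}) : Prop := ∀ {K : Type u} [Group K] [Finite K], κ.P K → TFacts K

end Cfsg.Agent.UGT.I34.Four
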