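import Cfsg.Agent.UGT.I34.KleinOf
import Cfsg.Agent.UGT.I34.FourKI

/-!
# THEOREM I34, part [C]: the record `Four.KI` for `2².L₃(4)` (helper281)
-/

set_option autoImplicit false
set_option linter.constructorNameAsVariable false
set_option linter.unusedVariables false

namespace Cfsg.Agent.UGT.I34.KIOf

open Cfsg Subgroup
open scoped commutatorElement
open Cfsg.Agent.Lib
open Cfsg.Agent.UGT.I34.Pair Cfsg.Agent.UGT.I34.KAut
open Cfsg.Agent.UGT.I34.Four (DZ TFacts KI)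
open Cfsg.Agent.SporadicA.FieldFour
open Cfsg.Agent.UGT.Cov.Klein (KleinKind Dat)

universe u

variable {K : Type*} [Group K]

/-- coordinates adapted to a noncentral involution -/
theorem adapt (A : Dat K) {s : K} (hs : KF.NInv s) : ∃ (B : Dat K) (r : F4), s = B.t * B.g r ∧
    centralizer ({s} : Set K) = B.T ∧ DZ s = B.D0 := by
  obtain ⟨B, r, -, h1, h2⟩ := A.centralizer_eq (s := s) hs
  refine ⟨B, r, h1, h2, ?_⟩
  ext x
  unfold DZ
  rw [h2, mem_inf, B.mem_D0_iff', mem_centralizer_iff]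
  exact ⟨fun h => ⟨h.1, fun y hy => (h.2 y hy).symm⟩, fun h => ⟨h.1, fun y hy => (h.2 y hy).symm⟩⟩

theorem conj_tg (B : Dat K) (r : F4) : MulAut.conj (B.t * B.g r) = MulAut.conj B.t := by
  apply B.conj_eq_of_map
  rw [map_mul, B.π_g, mul_one]

theorem tfacts (A : Dat K) : TFacts K where
  sqz x hx := A.sq_of_center hx
  card hs := by
    obtain ⟨B, r, -, h, -⟩ := adapt A hs
    rw [h, B.card_T]
  gen hs := by
    obtain ⟨B, r, rfl, h, -⟩ := adapt A hs
    rw [h]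
    intro y hy
    refine (Subgroup.closure_mono ?_) (B.gen_T r hy)
    rintro _ ⟨g, h1, rfl⟩
    exact ⟨g, h1.symm, rfl⟩
  center_le hs := by
    obtain ⟨B, r, -, h, -⟩ := adapt A hs
    rw [h, B.commutator_T]
    exact B.center_le_D0
  card_DZ hs := by
    obtain ⟨B, r, -, -, h⟩ := adapt A hs
    rw [h, B.card_D0]
  sq_DZ hs d hd := by
    obtain ⟨B, r, -, -, h⟩ := adapt A hs
    rw [h] at hd
    exact B.E1_sq (B.D0_le_E1 hd)
  four hs V hV4 hV2 hv hn α := by
    obtain ⟨B, r, rfl, h1, h2⟩ := adapt A hs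
    rw [h2]
    rw [h1] at hn
    rw [conj_tg] at hv
    exact B.four_iff hV2 hV4 hv hn α
  inn hs α h2 hz hd := by
    obtain ⟨B, r, rfl, h1, h3⟩ := adapt A hs
    rw [h3] at hd
    rw [h1]
    obtain ⟨n, hn⟩ := h2
    exact B.inner_of_D0 hn hz hd
  nB hs N hN hn hz h4 := by
    obtain ⟨B, r, rfl, h1, h3⟩ := adapt A hs
    rw [h1] at hN hn
    rw [h3]
    have hNml : B.Nml N := ⟨hN, fun x hx y hy => hn y hy x hx, hz⟩
    refine ⟨?_, hNml.card_le⟩
    intro d hd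
    obtain ⟨c, s, rfl⟩ := B.D0_form hd
    obtain ⟨s', hs'⟩ := hNml.cover h4 c
    have e : B.el ⟨0, 0, c, s'⟩ = B.x 0 2 c * B.g s' := by
      rw [B.el_eq, B.x_zero 0 1 (by decide), B.x_zero 1 2 (by decide), one_mul, one_mul]
    refine ⟨_, hs', B.mem_D0.2 ⟨rfl, rfl⟩, B.g (s' + s), B.g_mem_center _, ?_⟩
    rw [e, mul_assoc, B.g_add, ← add_assoc, Cov.Klein.add_self, zero_add]
  cE hs e he heD N hN hc := by
    obtain ⟨B, r, rfl, h1, h3⟩ := adapt A hs
    rw [h1] at he hN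
    rw [h3] at heD
    exact B.card_centz he heD hN hc
  EE hs := by
    obtain ⟨B, r, rfl, h1, h3⟩ := adapt A hs
    rw [h1, h3]
    refine ⟨B.E1, B.E2, B.sub_le_T, B.sub_le_T, B.center_le_D0.trans B.D0_le_E1,
      B.center_le_D0.trans B.D0_le_E2, B.D0_le_E1, B.D0_le_E2, ?_, B.card_E1, B.card_E2,
      fun x hx => B.E1_sq hx, fun x hx => B.E2_sq hx, fun x hx hx2 => B.mem_of_sq hx hx2,
      fun W hW h => B.elem_le hW h⟩
    intro h
    have h4 := B.E1_inf_E2
    rw [← h, inf_idem] at h4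
    have h5 := B.card_E1
    rw [h4, B.card_D0] at h5
    omega
  cinn φ hφ h2 := by
    obtain ⟨k, hk⟩ := A.comm_inner hφ h2
    exact ⟨k, hk.symm⟩

/-- the record `Four.KI` -/
theorem ki (κ : Kind.{u}) (hκ : ∀ {K : Type u} [Group K] [Finite K], κ.P K → KleinKind K) : KI κ := by
  intro K _ _ hK
  obtain ⟨A⟩ := (hκ hK).dat
  exact tfacts A

end Cfsg.Agent.UGT.I34.KIOf
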