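import Cfsg.Agent.UGT.I34.FourDefs
import Cfsg.Agent.UGT.I34.Cov
import Cfsg.Agent.UGT.Cov.KleinJ
import Cfsg.Agent.SignalizersComponents.IntrinsicDiag

/-!
# THEOREM I34, part [C]: the K-facts on the involutory automorphisms of `K = 2².L₃(4)`

* `typeC`, `typeF`, `typeG` : the pure automorphisms; `types` : every outer involution is of type `c`, `f` or `g`;
* `klein`, `kTypes` : the records `Klein κ`, `KTypes κ` for the kinds of groups `2².L₃(4)`.
-/

set_option autoImplicit false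
set_option linter.constructorNameAsVariable false
set_option linter.unusedVariables false

namespace Cfsg.Agent.UGT.I34.FourKF

open Cfsg Subgroup
open scoped commutatorElement
open Cfsg.Agent.Lib
open Cfsg.Agent.UGT.I34.Pair Cfsg.Agent.UGT.I34.KAut
open Cfsg.Agent.UGT.I34.KF (NInv)
open Cfsg.Agent.UGT.I34.Four (Can TypeC TypeF TypeG Klein KTypes)
open Cfsg.Agent.SporadicA.FieldFour
open Cfsg.Agent.ONType.Psl (PSL3)
open Cfsg.Agent.UGT.ThEL34 (fx mem_fx)
open Cfsg.Agent.UGT.Cov (ResData)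
open Cfsg.Agent.UGT.Cov.Klein hiding Can NInv
open Cfsg.Agent.UGT.Cov.Klein.Dat

universe u

variable {K : Type*} [Group K] {A : Dat K} {φ : MulAut K}

theorem not_inn {φ : MulAut K} (h : φ ∉ Inn K) (k : K) : φ ≠ MulAut.conj k := by
  rintro rfl
  exact h ⟨k, rfl⟩

/-! ### type `c` -/

theorem c_code : ∀ s : F4, ctau true true ⟨s * s, s, if s = 0 then 0 else F4.w, 0⟩ =
    cmul ⟨s * s, s, if s = 0 then 0 else F4.w, 0⟩ ⟨0, 0, 0, s⟩ := by decide

theorem typeC (h : A.IsTau (true, true, 0) φ) : TypeC φ where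
  sq := h.sq
  out := h.not_inn (by decide)
  center := by
    intro z hz
    obtain ⟨s, rfl⟩ := A.mem_center.1 hz
    have e1 : ∀ s, fq true s * fq true s = s := by decide
    rw [h.g, if_pos rfl, e1]
  shift := by
    intro z hz
    obtain ⟨s, rfl⟩ := A.mem_center.1 hz
    refine ⟨A.el ⟨s * s, s, if s = 0 then 0 else F4.w, 0⟩, ?_⟩
    rw [h.el, c_code, ← A.el_mul, A.el_g]
  inv := by
    refine ⟨A.t, ⟨A.t_sq, A.t_not_center⟩, ?_, A.el ⟨0, 0, F4.w, 0⟩, ?_⟩
    · rw [A.t_eq]
      exact (h.fix _).mpr (by decide)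
    · rw [h.el, A.t_eq, A.el_mul]
      congr 1

/-! ### types `f`, `g` -/

theorem shift_code : ∀ s : F4, s * s = s → ∃ r : F4, r * r = r + s := by decide

/-- the action on the centre -/
theorem g_sq {e f : Bool} (hef : FGt e f) (h : A.IsTau (e, f, 0) φ) (s : F4) : φ (A.g s) = A.g (s * s) := by
  rcases hef with ⟨rfl, rfl⟩ | ⟨rfl, rfl⟩
  · rw [h.g, if_neg (by decide)]; rfl
  · rw [h.g, if_pos rfl]; rfl

theorem center_move {e f : Bool} (hef : FGt e f) (h : A.IsTau (e, f, 0) φ) : ∃ z ∈ center K, φ z ≠ z := by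
  refine ⟨A.g F4.w, A.g_mem_center _, ?_⟩
  rw [g_sq hef h]
  intro h1
  exact absurd (A.g_inj h1) (by decide)

theorem shift {e f : Bool} (hef : FGt e f) (h : A.IsTau (e, f, 0) φ) : ∀ z ∈ center K, φ z = z →
    ∃ h, φ h = h * z := by
  intro z hz hzz
  obtain ⟨s, rfl⟩ := A.mem_center.1 hz
  rw [g_sq hef h] at hzz
  obtain ⟨r, hr⟩ := shift_code s (A.g_inj hzz)
  exact ⟨A.g r, by rw [g_sq hef h, hr, A.g_add]⟩

theorem even_of {J : Subgroup K} (R : ResData φ J) : 2 ∣ Nat.card J := by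
  obtain ⟨s, hs, hs1, hss⟩ := R.inv
  have h1 : orderOf (⟨s, hs⟩ : J) = 2 := by
    apply orderOf_eq_prime
    · rw [pow_two]; exact Subtype.ext hss
    · intro h2; exact hs1 (congrArg Subtype.val h2)
  rw [← h1]
  exact orderOf_dvd_natCard _

theorem comp_of [Finite K] {J : Subgroup K} (R : ResData φ J) :
    IsComponent (J.subgroupOf (fixed φ)) ∧ oddCore ↥J = ⊥ := by
  obtain ⟨s, hs, hs1, hss⟩ := R.inv
  have hJs := R.simple
  have hnc : ¬ IsMulCommutative J := by
    intro hc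
    have h1 : ⁅J, J⁆ = ⊥ := by
      rw [eq_bot_iff, Subgroup.commutator_le]
      intro x hx y hy
      rw [mem_bot, commutatorElement_eq_one_iff_mul_comm]
      exact congrArg Subtype.val (hc.is_comm.comm (⟨x, hx⟩ : J) ⟨y, hy⟩)
    rw [R.perf] at h1
    apply hs1
    rw [h1] at hs
    exact mem_bot.mp hs
  have e : J.subgroupOf (fx φ) ≃* J := subgroupOfEquivOfLe R.le
  constructor
  · constructor
    · have hn : (J.subgroupOf (fx φ)).Normal := by
        have h1 : J.subgroupOf (fx φ) = _root_.commutator (fx φ) := by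
          apply Subgroup.map_injective (fx φ).subtype_injective
          rw [commutator_def, Subgroup.map_commutator, ← MonoidHom.range_eq_map,
            (fx φ).range_subtype, R.comm, Subgroup.map_subgroupOf_eq_of_le R.le]
        rw [h1]; infer_instance
      exact hn.isSubnormal
    · have hs2 : IsSimpleGroup (J.subgroupOf (fx φ)) := e.isSimpleGroup
      refine Cfsg.Agent.SignalizersComponents.IntrinsicDiag.quasisimple_of_simple hs2 ?_
      intro hc
      exact hnc (Cfsg.Agent.SignalizersComponents.IntrinsicDiag.isMulCommutative_congr e hc)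
  · have hnor : (oddCore J).Normal := Cores.pPrimeCore_normal 2
    rcases hJs.eq_bot_or_eq_top_of_normal (oddCore J) hnor with h1 | h1
    · exact h1
    · exfalso
      have h2 : (Nat.card (oddCore J)).Coprime 2 := Cores.pPrimeCore_coprime 2
      rw [h1, Subgroup.card_top] at h2
      have h3 := Nat.Coprime.eq_one_of_dvd h2.symm (even_of R)
      exact absurd h3 (by norm_num)

/-- inner automorphisms commuting with `φ` and trivial on `J` -/
theorem cent_of [Finite K] {e f : Bool} (hef : FGt e f) (h : A.IsTau (e, f, 0) φ)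
    (B : Subgroup (MulAut K)) (hB : B ≤ Inn K) (hBφ : ∀ a ∈ B, a * φ = φ * a)
    (hBJ : ∀ a ∈ B, ∀ j ∈ A.Jc φ, a j = j) : B = ⊥ := by
  obtain ⟨R, hmap, hsimple⟩ := res_tau hef h
  rw [eq_bot_iff]
  intro a ha
  obtain ⟨k, rfl⟩ := hB ha
  rw [mem_bot]
  have hcomm := hBφ _ ha
  have htriv := hBJ _ ha
  -- `π k ∈ C(b φ)`
  have h1 : A.π k ∈ fx (A.b φ) := by
    rw [mem_fx, A.bar]
    have h2 : MulAut.conj (φ k) = MulAut.conj k := by
      have h3 : φ * MulAut.conj k * φ⁻¹ = MulAut.conj (φ k) := by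
        ext m
        simp [MulAut.mul_apply, MulAut.conj_apply]
      rw [← h3, ← hcomm]; group
    have h4 : MulAut.conj ((φ k)⁻¹ * k) = 1 := by rw [map_mul, map_inv, h2, inv_mul_cancel]
    have h5 : A.π ((φ k)⁻¹ * k) = 1 := A.ext.map_one_of_conj h4
    rw [map_mul, map_inv, inv_mul_eq_one] at h5
    exact h5
  -- `π k` centralizes `C(b φ)`
  have h2 : ∀ q ∈ fx (A.b φ), A.π k * q = q * A.π k := by
    intro q hq
    rw [← hmap] at hq
    obtain ⟨j, hj, rfl⟩ := hq
    have h3 : MulAut.conj k j = j := htriv j hj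
    rw [MulAut.conj_apply, mul_inv_eq_iff_eq_mul] at h3
    rw [← map_mul, ← map_mul, h3]
  have h3 : (⟨A.π k, h1⟩ : fx (A.b φ)) ∈ center (fx (A.b φ)) := by
    rw [mem_center_iff]
    intro q
    exact Subtype.ext (h2 q.1 q.2).symm
  have h4 : center (fx (A.b φ)) = ⊥ := by
    rcases hsimple.eq_bot_or_eq_top_of_normal (center (fx (A.b φ))) inferInstance with h5 | h5
    · exact h5
    · exfalso
      obtain ⟨s, hs, hs1, hss⟩ := R.inv
      have hJab : ⁅A.Jc φ, A.Jc φ⁆ = ⊥ := by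
        rw [eq_bot_iff, Subgroup.commutator_le]
        intro x hx y hy
        rw [mem_bot]
        apply R.inf
        · rw [← R.perf]; exact commutator_mem_commutator hx hy
        · rw [← A.ker_eq, MonoidHom.mem_ker, map_commutatorElement, commutatorElement_eq_one_iff_mul_comm]
          have hx' : A.π x ∈ fx (A.b φ) := by rw [← hmap]; exact ⟨x, hx, rfl⟩
          have hy' : A.π y ∈ fx (A.b φ) := by rw [← hmap]; exact ⟨y, hy, rfl⟩
          have h6 : (⟨A.π y, hy'⟩ : fx (A.b φ)) ∈ center (fx (A.b φ)) := by rw [h5]; exact mem_top _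
          exact congrArg Subtype.val (mem_center_iff.mp h6 ⟨A.π x, hx'⟩)
      rw [R.perf] at hJab
      rw [hJab] at hs
      exact hs1 (mem_bot.mp hs)
  rw [h4, mem_bot] at h3
  have h5 : A.π k = 1 := congrArg Subtype.val h3
  exact A.ext.conj_one h5

theorem typeF [Finite K] (h : A.IsTau (true, false, 0) φ) : TypeF φ (A.Jc φ) := by
  have hef : FGt true false := Or.inl ⟨rfl, rfl⟩
  obtain ⟨R, hmap, hsimple⟩ := res_tau hef h
  obtain ⟨hc1, hc2⟩ := comp_of R
  refine ⟨h.sq, h.not_inn (by decide), center_move hef h, shift hef h, R.le, hc1, even_of R, hc2, ?_, ?_,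
    fun B hB _ hBφ hBJ => cent_of hef h B hB hBφ hBJ⟩
  · intro w hw hww hw1
    refine ⟨⟨hww, fun hc => hw1 (R.inf w hw hc)⟩, fun hcan => ?_⟩
    have h1 := inv_J hef h hw hww hw1
    rw [if_pos rfl] at h1
    have h2 : Cj w A.t := A.can_t hcan
    have h3 : Cj (A.t * A.g 1) (A.t * A.g 0) := by
      rw [A.g_zero, mul_one]
      exact h1.symm'.trans' h2
    exact absurd (A.tg_inj h3) (by decide)
  · refine ⟨A.t * A.g 1, f_mem h, ?_, ?_, A.el ⟨0, 0, F4.w, F4.w⟩, ?_⟩
    · exact (A.tg_NInv 1).1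
    · intro h1
      exact (A.tg_NInv 1).2 (by rw [h1]; exact one_mem _)
    · rw [h.el, A.t_eq, ← A.el_g, A.el_mul, A.el_mul]
      congr 1

theorem typeG [Finite K] (h : A.IsTau (false, true, 0) φ) : TypeG φ (A.Jc φ) := by
  have hef : FGt false true := Or.inr ⟨rfl, rfl⟩
  obtain ⟨R, hmap, hsimple⟩ := res_tau hef h
  obtain ⟨hc1, hc2⟩ := comp_of R
  refine ⟨h.sq, h.not_inn (by decide), center_move hef h, shift hef h, R.le, hc1, even_of R, hc2, ?_, ?_,
    fun B hB _ hBφ hBJ => cent_of hef h B hB hBφ hBJ⟩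
  · intro w hw hww hw1
    have h1 := inv_J hef h hw hww hw1
    rw [if_neg (by decide)] at h1
    exact A.can_iff.mpr h1
  · refine ⟨A.t, g_mem h 1, A.t_sq, ?_, A.el ⟨1, 1, 0, F4.w⟩, ?_⟩
    · intro h1
      exact A.t_not_center (by rw [h1]; exact one_mem _)
    · rw [h.el, A.t_eq, A.el_mul]
      congr 1

/-- **The types of the outer involutory automorphisms.** -/
theorem types [Finite K] (A : Dat K) (h2 : φ * φ = 1) (ho : φ ∉ Inn K) :
    TypeC φ ∨ (∃ J, TypeF φ J) ∨ ∃ J, TypeG φ J := by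
  obtain ⟨B, e, f, hef, h⟩ := A.exists_pure h2 (not_inn ho)
  cases e <;> cases f
  · exact absurd rfl hef
  · exact Or.inr (Or.inr ⟨_, typeG h⟩)
  · exact Or.inr (Or.inl ⟨_, typeF h⟩)
  · exact Or.inl (typeC h)

/-- involutions of `(Aut K)'` are inner -/
theorem cinn (A : Dat K) (hφ : φ ∈ _root_.commutator (MulAut K)) (h2 : φ * φ = 1) : φ ∈ Inn K := by
  set ψ : MulAut K →* LThreeFour.TyG := LThreeFour.datPSL.tyHom.comp A.b with hψ
  have h3 : LThreeFour.bitsHom (ψ φ) = 1 :=
    Abelianization.commutator_subset_ker (LThreeFour.bitsHom.comp ψ) hφ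
  have h4 : ψ φ * ψ φ = 1 := by rw [← map_mul, h2, map_one]
  have h5 : ψ φ = 1 := LThreeFour.bitsHom_inj _ h3 h4
  obtain ⟨k, hk⟩ := A.ext.inner h5
  exact ⟨k, hk.symm⟩

/-! ### the records -/

/-- the involution `t c` is canonical for a unique `c` -/
theorem canU (A : Dat K) (t c : K) (ht : Can t) (hc : c ∈ center K) (htc : Can (t * c)) : c = 1 := by
  obtain ⟨r, rfl⟩ := A.mem_center.1 hc
  have h1 := A.can_t ht
  have h2 := A.can_t htc
  have h3 : Cj (A.t * A.g r) (A.t * A.g 0) := by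
    rw [A.g_zero, mul_one]
    exact (Dat.Cj.g h1.symm' A r).trans' h2
  rw [A.tg_inj h3, A.g_zero]

theorem exC (A : Dat K) (t : K) (ht : NInv t) : ∃ c ∈ center K, Can (t * c) := by
  obtain ⟨r, hr⟩ := A.conj_tg ht
  refine ⟨A.g r, A.g_mem_center r, A.can_iff.mpr ?_⟩
  have h1 := Dat.Cj.g hr A r
  rwa [mul_assoc A.t, A.g_sq, mul_one] at h1

/-- the kinds of groups `2².L₃(4)` -/
theorem isCv_dat {K : Type*} [Group K] [Finite K] (h : Cfsg.Agent.UGT.I34.Cov.IsCv 4 4 K) : Nonempty (Dat K) := by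
  obtain ⟨F, i, j, hF, ⟨e⟩⟩ := h.l34
  have hsq : ∀ z ∈ center K, z * z = 1 := by
    intro z hz
    by_contra hne
    have h1 : Nat.card {z : ↥(center K) // z * z = 1} < Nat.card ↥(center K) := by
      apply Finite.card_subtype_lt (x := (⟨z, hz⟩ : center K))
      intro h2
      exact hne (congrArg Subtype.val h2)
    rw [h.om, h.card] at h1
    exact lt_irrefl _ h1
  exact exists_dat (Group.isPerfect_def.mp h.qs.1) h.card hsq hF e

theorem klein {κ : Kind.{u}} (hκ : ∀ {K : Type u} [Group K] [Finite K], κ.P K → Nonempty (Dat K)) : Klein κ where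
  card hK := by
    obtain ⟨A⟩ := hκ hK
    exact A.card_center
  sq hK c hc := by
    obtain ⟨A⟩ := hκ hK
    exact A.center_sq hc
  exCan hK := by
    obtain ⟨A⟩ := hκ hK
    exact ⟨A.t, A.t_can⟩
  canU hK t c := by
    obtain ⟨A⟩ := hκ hK
    exact canU A t c
  exC hK t ht := by
    obtain ⟨A⟩ := hκ hK
    exact exC A t ht

theorem kTypes {κ : Kind.{u}} (hκ : ∀ {K : Type u} [Group K] [Finite K], κ.P K → Nonempty (Dat K)) : KTypes κ where
  out hK φ h2 ho := by
    obtain ⟨A⟩ := hκ hK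
    exact types A h2 ho

end Cfsg.Agent.UGT.I34.FourKF
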