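import Cfsg.Agent.UGT.I34.FourBigDefs
import Cfsg.Agent.UGT.I34.FourKF
import Cfsg.Agent.UGT.Cov.KleinX
import Cfsg.Agent.SignalizersComponents.Components

/-!
# THEOREM I34, part [C]: the record `Four.KJ` for `2².L₃(4)`

`φ` of type `f`, `J = C_K(φ)^∞ = L₃(2)`: `C_{Aut K}(J) = {1, φ}`.
-/

set_option autoImplicit false
set_option linter.constructorNameAsVariable false
set_option linter.unusedVariables false

namespace Cfsg.Agent.UGT.I34.KJOf

open Cfsg Subgroup
open scoped commutatorElement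
open Cfsg.Agent.Lib
open Cfsg.Agent.UGT.I34.Pair Cfsg.Agent.UGT.I34.KAut
open Cfsg.Agent.UGT.I34.Four (Can TypeF TypeG KJ)
open Cfsg.Agent.UGT.ThEL34 (fx mem_fx)
open Cfsg.Agent.UGT.Cov (ResData)
open Cfsg.Agent.LThreeFour (Ty datPSL ty1)
open Cfsg.Agent.ONType
open Cfsg.Agent.SporadicA.FieldFour
open Cfsg.Agent.UGT.Cov.Klein hiding Can NInv
open Cfsg.Agent.UGT.Cov.Klein.Dat
open Cfsg.Agent.UGT.FL34 (pure_of_fix)

universe u

variable {K : Type*} [Group K]

/-- the component of the fixed points is unique -/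
theorem comp_eq [Finite K] {φ : MulAut K} {J J' : Subgroup K} (R : ResData φ J') (hJ : J ≤ fixed φ)
    (hc : IsComponent (J.subgroupOf (fixed φ))) (hJ1 : J ≠ ⊥) : J = J' := by
  obtain ⟨h1, -⟩ := FourKF.comp_of R
  have hJ' : J' ≤ fixed φ := R.le
  by_contra hne
  have h2 : J.subgroupOf (fixed φ) ≠ J'.subgroupOf (fixed φ) := by
    intro h3
    apply hne
    have h4 := congrArg (Subgroup.map (fixed φ).subtype) h3
    rwa [Subgroup.map_subgroupOf_eq_of_le hJ, Subgroup.map_subgroupOf_eq_of_le hJ'] at h4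
  have h3 := Cfsg.Agent.SignalizersComponents.Components.component_commutator_eq_bot_of_ne hc h1 h2
  have h4 := Cfsg.Agent.SignalizersComponents.Components.component_commutator_self hc
  have h5 : J.subgroupOf (fixed φ) ≤ J'.subgroupOf (fixed φ) := by
    have h6 : J'.subgroupOf (fixed φ) = ⁅(⊤ : Subgroup (fixed φ)), ⊤⁆ := by
      apply Subgroup.map_injective (fixed φ).subtype_injective
      rw [Subgroup.map_commutator, ← MonoidHom.range_eq_map, (fixed φ).range_subtype,
        Subgroup.map_subgroupOf_eq_of_le hJ']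
      exact R.comm.symm
    rw [h6, ← h4]
    exact Subgroup.commutator_mono le_top le_top
  have h7 : ⁅J.subgroupOf (fixed φ), J.subgroupOf (fixed φ)⁆ = ⊥ := by
    rw [eq_bot_iff, ← h3]
    exact Subgroup.commutator_mono le_rfl h5
  rw [h4] at h7
  apply hJ1
  rw [← Subgroup.map_subgroupOf_eq_of_le hJ, h7, Subgroup.map_bot]

/-- automorphisms centralizing `L₃(2)` -/
theorem cent_J [Finite K] (A : Dat K) {φ : MulAut K} {J : Subgroup K} (h : TypeF φ J) {ψ : MulAut K}
    (hψ : ∀ j ∈ J, ψ j = j) : ψ = 1 ∨ ψ = φ := by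
  obtain ⟨B, e, f, hef, ht⟩ := A.exists_pure h.sq (fun k hk => h.out ⟨k, hk.symm⟩)
  have hJ1 : J ≠ ⊥ := by
    obtain ⟨w, hw, -, hw1, -⟩ := h.inv
    rintro rfl
    exact hw1 (mem_bot.mp hw)
  cases e <;> cases f
  · exact absurd rfl hef
  · exfalso
    obtain ⟨R, hmap, -⟩ := res_tau (Or.inr ⟨rfl, rfl⟩) ht
    have h1 := comp_eq R h.le h.comp hJ1
    obtain ⟨w, hw, hww, hw1, -⟩ := h.inv
    have h2 := (h.noncan w hw hww hw1).2
    rw [h1] at hw
    have h3 := inv_J (Or.inr ⟨rfl, rfl⟩) ht hw hww hw1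
    rw [if_neg (by decide)] at h3
    exact h2 (B.can_iff.mpr h3)
  · obtain ⟨R, hmap, -⟩ := res_tau (Or.inl ⟨rfl, rfl⟩) ht
    have h1 := comp_eq R h.le h.comp hJ1
    subst h1
    have hb : ∀ q ∈ fx (B.b φ), B.b ψ q = q := by
      intro q hq
      rw [← hmap] at hq
      obtain ⟨j, hj, rfl⟩ := hq
      rw [B.bar, hψ j hj]
    have hx : ∀ i j : Fin 3, i ≠ j → B.b ψ (Psl.t i j 1) = Psl.t i j 1 := by
      intro i j hij
      apply hb
      rw [mem_fx, ← B.π_x i j hij, B.bar, ht.x0 hij, fq_one]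
    obtain ⟨τ, hτ⟩ := pure_of_fix (A := datPSL) (b := B.b ψ) (hx 0 2 (by decide)) (hx 2 0 (by decide))
    have k1 : ∀ τ : Ty, τ.2.1 = false → LThreeFour.pu τ 0 1 1 = 1 → LThreeFour.pu τ 1 2 1 = 1 →
        τ = ty1 ∨ τ = (true, false, 0) := by decide +kernel
    have k2 : ∀ u v : F4, datPSL.x 0 1 u = datPSL.x 0 1 v → u = v := by
      intro u v huv
      rw [← datPSL.el_x01, ← datPSL.el_x01] at huv
      exact congrArg LThreeFour.Code.a (datPSL.inj huv)
    have k3 : ∀ u v : F4, datPSL.x 1 2 u = datPSL.x 1 2 v → u = v := by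
      intro u v huv
      rw [← datPSL.el_x12, ← datPSL.el_x12] at huv
      exact congrArg LThreeFour.Code.b (datPSL.inj huv)
    have k4 : ∀ u v : F4, datPSL.x 1 2 u = datPSL.x 0 1 v → v = 0 := by
      intro u v huv
      rw [← datPSL.el_x12, ← datPSL.el_x01] at huv
      exact (congrArg LThreeFour.Code.a (datPSL.inj huv)).symm
    have e01 := (hτ 0 1 (by decide) 1).symm.trans (hx 0 1 (by decide))
    have e12 := (hτ 1 2 (by decide) 1).symm.trans (hx 1 2 (by decide))
    unfold LThreeFour.imgx at e01 e12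
    have hf : τ.2.1 = false := by
      by_contra hcon
      rw [if_pos (by simpa using hcon)] at e01
      exact absurd (k4 _ _ e01) (by decide)
    rw [hf, if_neg (by decide)] at e01 e12
    have hinj := B.b_injective
    rcases k1 τ hf (k2 _ _ e01) (k3 _ _ e12) with rfl | rfl
    · left
      apply hinj
      rw [map_one]
      exact hτ.ext LThreeFour.Dat.isTau_one
    · right
      exact hinj (hτ.ext ht.bar)
  · exfalso
    obtain ⟨z, hz, hz2⟩ := h.center
    obtain ⟨s, rfl⟩ := B.mem_center.1 hz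
    apply hz2
    have e1 : ∀ s, fq true s * fq true s = s := by decide
    rw [ht.g, if_pos rfl, e1]

theorem kj (κ : Kind.{u}) (hκ : ∀ {K : Type u} [Group K] [Finite K], κ.P K → Nonempty (Dat K)) : KJ κ where
  cent hK φ J h ψ hψ := by
    obtain ⟨A⟩ := hκ hK
    exact cent_J A h hψ

end Cfsg.Agent.UGT.I34.KJOf
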