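import Cfsg.Agent.UGT.I34.Two

/-!
# THEOREM I34, part [A]: (5.4), (5.5) first half in the world W1

* `no_sq`: a 2-element `k` of `C(u)` fixing `L u` with `k * k = i ∈ L u`, `i` central of order 4 modulo the core: no.
* `NoBig`: no involution `x ≠ u` of `C(u)` fixing `L u` is big. Then `u` is the only involution of `C(u)` fixing `L u`
  (`eq_of_noBig`), the 2-elements of `C(u)` fixing `L u` are in `L u` (`mem_of_noBig`), `τ = true` (`tau_of_noBig`: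
  `4₂` is dead) and for `R` as in `Cfg` (`R` Sylow in `C(u, t)`): the elements of `R` fixing `L t` are in `L u`
  (`mem_of_fixes`), they form a group of order 4 (`card_N`).
-/

set_option autoImplicit false

open Cfsg Subgroup
open Cfsg.Agent.SignalizersComponents Cfsg.Agent.Lib
open Cfsg.Agent.SignalizersComponents.IntrinsicBasic
open Cfsg.Agent.SignalizersComponents.PLayerAut
open Cfsg.Agent.Intrinsic
open Cfsg.Agent.Intrinsic.Basic hiding IsPair PQS Target IsPair.sq IsPair.ne_one IsPair.cj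
open Cfsg.Agent.Intrinsic.Cen hiding pair_comm pair_mem_cen exists_pump pump_unique
open Cfsg.Agent.Intrinsic.Quot hiding Big isPair_quot small_or_big
open Cfsg.Agent.McLLyComp.Act hiding mk_eq_one_iff
open Cfsg.Agent.UGT.I34.Pair Cfsg.Agent.UGT.I34.KF Cfsg.Agent.UGT.I34.Loc Cfsg.Agent.UGT.I34.WOne
open Cfsg.Agent.UGT.I34.SideOf Cfsg.Agent.UGT.I34.Two
open scoped commutatorElement

namespace Cfsg.Agent.UGT.I34.Four

universe v

variable {G : Type v} [Group G] [Finite G] {κ : Kind.{v}} {τ : Bool} {D : Set G} {L : G → Subgroup G}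
  {u t x y k i : G} {R : Subgroup G}

omit [Finite G] in
theorem two_zpowers {a : G} {n : ℕ} (ha : a ^ 2 ^ n = 1) : IsPGroup 2 ↥(zpowers a) := by
  rintro ⟨_, k, rfl⟩
  refine ⟨n, ?_⟩
  apply Subtype.ext
  change (a ^ k) ^ 2 ^ n = 1
  rw [← zpow_natCast, ← zpow_mul, mul_comm, zpow_mul, zpow_natCast, ha, one_zpow]

/-- a configuration `t, R` with `R` containing a given 2-element fixing `L u` -/
theorem exists_cfg_mem (h : W1 κ τ D L) (hu : u ∈ D) {n : ℕ} (hy2 : y ^ 2 ^ n = 1) (hy : y * u = u * y)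
    (hf : Fixes y (L u)) : ∃ t R, Cfg D L u t R ∧ y ∈ R := by
  obtain ⟨t, ht, htt, ht1, htu, hyt⟩ := h.exists_inv_comm_one hu hy2 hf
  obtain ⟨R, c, hR⟩ := Cfg.exists_cfg h hu ht htt ht1 htu (two_zpowers hy2) (zpowers_le.mpr
    ⟨mem_centralizer_singleton_iff.mpr hy, mem_centralizer_singleton_iff.mpr hyt⟩)
  exact ⟨t, R, c, hR (mem_zpowers y)⟩

/-- **(5.4)** -/
theorem no_sq (h : W1 κ τ D L) (hu : u ∈ D) {n : ℕ} (hk2 : k ^ 2 ^ n = 1) (hk : k * u = u * k)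
    (hf : Fixes k (L u)) (hi : i ∈ L u) (hi4 : orderOf (QuotientGroup.mk ⟨i, hi⟩ : ↥(L u) ⧸ oddCore ↥(L u)) = 4)
    (hic : (QuotientGroup.mk ⟨i, hi⟩ : ↥(L u) ⧸ oddCore ↥(L u)) ∈ center (↥(L u) ⧸ oddCore ↥(L u)))
    (hki : k * k = i) : False := by
  obtain ⟨t, R, c, hkR⟩ := exists_cfg_mem h hu hk2 hk hf
  have c' := c.symm h
  have hiR : i ∈ R := by rw [← hki]; exact R.mul_mem hkR hkR
  exact Side.no_sq (c.side h) (c'.side h) (c.cen h) (h.facts hu) (h.facts c'.hu)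
    ((c.side_ρ_eq_one_iff h hkR).mpr hf) (i := ⟨i, hiR⟩) hi hi4 hic (Subtype.ext hki)

/-- there are no big elements -/
def NoBig (κ : Kind.{v}) (D : Set G) (L : G → Subgroup G) : Prop :=
  ∀ u ∈ D, ∀ x : G, x * x = 1 → x ≠ 1 → x * u = u * x → Fixes x (L u) → ¬ IsBig κ u (L u) x

/-- `u` is the only involution of `C(u)` fixing `L u` -/
theorem eq_of_noBig (h : W1 κ τ D L) (hb : NoBig κ D L) (hu : u ∈ D) (hxx : x * x = 1) (hx1 : x ≠ 1)
    (hx : x * u = u * x) (hf : Fixes x (L u)) : x = u := by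
  by_contra hxu
  obtain ⟨t, ht, htt, ht1, htu, hxt⟩ := h.exists_inv_comm_one hu (m := 1)
    (by rw [pow_one, pow_two, hxx]) hf
  have hut := (h.comm hu ht).symm
  rcases fixes_or h hu hxx hx1 hx hf ht htt ht1 htu hxt with h1 | h1
  · exact hb u hu x hxx hx1 hx hf ((h.isBig_iff hu hxx hx1 hx hf ht htt ht1 htu hxt).mpr h1)
  · have hf' := fixes_mul hf (h.fixes_self hu)
    refine hb u hu (x * u) (mul_sq hxx (h.sq hu) hx) (mul_ne_one (h.sq hu) hxu) (comm_mul hx rfl) hf' ?_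
    exact (h.isBig_iff hu (mul_sq hxx (h.sq hu) hx) (mul_ne_one (h.sq hu) hxu) (comm_mul hx rfl) hf' ht htt
      ht1 htu (by rw [mul_assoc, hut, ← mul_assoc, hxt, mul_assoc])).mpr h1

theorem unique (h : W1 κ τ D L) (hb : NoBig κ D L) (c : Cfg D L u t R) (x : ↥R) (hx : (c.side h).ρ x = 1)
    (hxx : x * x = 1) (hx1 : x ≠ 1) : x = ⟨u, c.uR h⟩ := by
  obtain ⟨x, hxR⟩ := x
  apply Subtype.ext
  exact eq_of_noBig h hb c.hu (congrArg Subtype.val hxx) (fun h' => hx1 (Subtype.ext h')) (c.comm_u hxR)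
    ((c.side_ρ_eq_one_iff h hxR).mp hx)

/-- 2-elements of `C(u)` fixing `L u` are in `L u`. -/
theorem mem_of_noBig (h : W1 κ τ D L) (hb : NoBig κ D L) (hu : u ∈ D) {n : ℕ} (hy2 : y ^ 2 ^ n = 1)
    (hy : y * u = u * y) (hf : Fixes y (L u)) : y ∈ L u := by
  obtain ⟨t, R, c, hyR⟩ := exists_cfg_mem h hu hy2 hy hf
  have c' := c.symm h
  obtain ⟨h1, -⟩ := Side.ker_le (c.side h) (c'.side h) (c.cen h) (h.facts hu) (h.facts c'.hu)
    (unique h hb c) (x := ⟨y, hyR⟩) ((c.side_ρ_eq_one_iff h hyR).mpr hf)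
  exact h1

/-- **(5.5)**, first half -/
theorem card_N (h : W1 κ τ D L) (hb : NoBig κ D L) (c : Cfg D L u t R) :
    τ = true ∧ Nat.card (Side.N (c.side h) ((c.symm h).side h)) = 4 ∧ ∀ y ∈ R, Fixes y (L t) → y ∈ L u := by
  have c' := c.symm h
  obtain ⟨h1, h2, h3⟩ := Side.ker_card (c.side h) (c'.side h) (c.cen h) (h.facts c.hu) (h.facts c'.hu)
    (unique h hb c) (unique h hb c')
  exact ⟨h1, h2, fun y hy hf => h3 ⟨y, hy⟩ ((c'.side_ρ_eq_one_iff h hy).mpr hf)⟩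

section local_

variable {R : Type*} [Group R] [Finite R] {K₁ K₂ : Type*} [Group K₁] [Group K₂] [Finite K₁] [Finite K₂]
  {z e : R} (A : Side R K₁ z e) (B : Side R K₂ e z) {τ : Bool} (C : Cen R z e) (F₁ : Facts K₁ τ) (F₂ : Facts K₂ τ)

include C F₁ F₂ A

/-- elements inner on `K₂` are in `S'` -/
theorem side_mem_of_inner (hv : ∀ x : R, B.ρ x = 1 → x * x = 1 → x ≠ 1 → x = e) {r : R} {k : K₂}
    (hk : B.ρ r = MulAut.conj k) : r ∈ B.S := by
  obtain ⟨s, hs, -, hρ⟩ := Side.exists_inner B C hk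
  obtain ⟨h1, -⟩ := Side.ker_le B A C.symm F₂ F₁ hv (x := r * s⁻¹)
    (by rw [map_mul, map_inv, hρ, mul_inv_cancel])
  have h2 := B.S.mul_mem h1 hs
  rwa [inv_mul_cancel_right] at h2

/-- `F(z, e) ≤ F(e, z)` -/
theorem side_F (hv : ∀ x : R, B.ρ x = 1 → x * x = 1 → x ≠ 1 → x = e) {w : R} (hw : w ∈ A.Yr)
    (hww : w * w = 1) : w ∈ B.Yr := by
  by_cases h1 : w = 1
  · rw [h1]; exact one_mem _
  by_cases hz : w = z
  · rw [hz]; exact B.e_mem
  by_cases he : w = e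
  · rw [he]; exact B.z_mem
  by_cases hze : w = e * z
  · rw [hze]; exact mul_mem B.z_mem B.e_mem
  obtain ⟨w', hw', hY, hρ, -⟩ := Side.Y_image A B C F₁ F₂ hw hww h1 hz he hze
  obtain ⟨k, hk⟩ := Side.inner_of_Yr A B C F₁ F₂ hw
  have hwS := side_mem_of_inner A B C F₁ F₂ hv hk
  refine B.mem_Yr.mpr ⟨hwS, ?_⟩
  have h2 : MulAut.conj (B.j ⟨w, hwS⟩) = MulAut.conj (B.j ⟨w', hw'⟩) := by
    rw [← B.ρ_S ⟨w, hwS⟩, ← B.ρ_S ⟨w', hw'⟩]
    exact hρ.symm
  obtain ⟨c, hc, h3⟩ := conj_eq_iff.mp h2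
  rw [h3]
  exact mul_mem hY (center_le_Y hc)

end local_

/-- elements of `R` inducing inner automorphisms on `L t / O(L t)` are in `L t` -/
theorem mem_of_inner (h : W1 κ τ D L) (hb : NoBig κ D L) (c : Cfg D L u t R) (hy : y ∈ R)
    {k : ↥(L t) ⧸ oddCore ↥(L t)} (hk : act (L t) ⟨y, (c.symm h).norm h hy⟩ = MulAut.conj k) : y ∈ L t := by
  have c' := c.symm h
  exact side_mem_of_inner (c.side h) (c'.side h) (c.cen h) (h.facts c.hu) (h.facts c'.hu)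
    (unique h hb c') (r := ⟨y, hy⟩) hk

/-- `F(u, t) = F(t, u)` -/
theorem F_symm (h : W1 κ τ D L) (hb : NoBig κ D L) (c : Cfg D L u t R) {w : G} (hw : w ∈ R) (hwu : w ∈ L u)
    (hY : (QuotientGroup.mk ⟨w, hwu⟩ : ↥(L u) ⧸ oddCore ↥(L u)) ∈ Y (QuotientGroup.mk ⟨t, c.ht⟩))
    (hww : w * w = 1) : ∃ hwt : w ∈ L t, (QuotientGroup.mk ⟨w, hwt⟩ : ↥(L t) ⧸ oddCore ↥(L t)) ∈
      Y (QuotientGroup.mk ⟨u, (c.symm h).ht⟩) := by
  have c' := c.symm h
  have h1 : (⟨w, hw⟩ : ↥R) ∈ (c.side h).Yr := (c.side h).mem_Yr.mpr ⟨hwu, hY⟩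
  obtain ⟨h2, h3⟩ := (c'.side h).mem_Yr.mp (side_F (c.side h) (c'.side h) (c.cen h) (h.facts c.hu)
    (h.facts c'.hu) (unique h hb c') h1 (Subtype.ext hww))
  exact ⟨h2, h3⟩

/-- **`4₂` is dead** if there are no big elements. -/
theorem tau_of_noBig (h : W1 κ τ D L) (hb : NoBig κ D L) (hu : u ∈ D) : τ = true := by
  obtain ⟨t, R, c, -⟩ := exists_cfg_mem h hu (y := 1) (n := 0) (one_pow _) (by rw [one_mul, mul_one])
    (fixes_one _)
  exact (card_N h hb c).1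

end Cfsg.Agent.UGT.I34.Four
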