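import Cfsg.Agent.UGT.I34.FourBig

/-!
# THEOREM I34, part [C] (`Z = 2²`): the record `FourBig.NB` from the output of section 3

* `nbOf`: the record `NB` from `World`, the K-facts, a partner for every pair and NZ;
* `noBig`: NZ implies that there are no big pump-ups.
-/

set_option autoImplicit false

open Cfsg Subgroup
open Cfsg.Agent.SignalizersComponents Cfsg.Agent.Lib
open Cfsg.Agent.SignalizersComponents.IntrinsicBasic
open Cfsg.Agent.Intrinsic.Basic hiding IsPair PQS Target IsPair.sq IsPair.ne_one IsPair.cj exists_pumpup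
open Cfsg.Agent.Intrinsic.Cen hiding pair_comm pair_mem_cen exists_pump pump_unique
open Cfsg.Agent.McLLyComp.Act
open Cfsg.Agent.UGT.I34.Pair Cfsg.Agent.UGT.I34.KAut
open Cfsg.Agent.UGT.I34.HeP (HeX)
open scoped commutatorElement

namespace Cfsg.Agent.UGT.I34.Four

universe u

variable {κ : Kind.{u}} {G : Type u} [Group G] [Finite G]

/-- **the record `NB`** -/
theorem nbOf (W : World κ G) (hex : HeX κ) (aut : HeAut κ) (kj : KJ κ) (hO : HeOut κ)
    (hconj : ∀ {K : Type u} [Group K] [Finite K], κ.P K → ∀ s t : K, Can s → Can t →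
      ∃ g, g * s * g⁻¹ = t)
    (hp : ∀ {u : G} {X : Subgroup G}, IsPair κ u X → ∃ v Y, IsPair κ v Y ∧ u * v = v * u ∧ ¬ Fixes v X)
    (ves : ∀ {u v : G} {X Y : Subgroup G}, IsPair κ u X → IsPair κ v Y → u * v = v * u → Fixes v X →
      v ∈ X) : FourBig.NB κ G where
  sett := W.sett
  hex := hex
  aut := aut
  kj := kj
  one {u X X'} h h' := by
    obtain ⟨v, Y, hv, huv, hnf⟩ := hp h
    exact W.one_of h hv huv hnf X' h'
  can {u X} h t ht htt hcan := by
    obtain ⟨v, Y, hv, huv, hnf⟩ := hp h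
    obtain ⟨Z, hZ, ⟨h1, -⟩, -⟩ := W.canP h (hconj h.kind) hv huv hnf ht htt hcan
    exact ⟨Z, hZ, h1⟩
  ves := ves
  tri {u v X Y} h h' huv := by
    rcases W.tri h h' huv with h1 | h1 | ⟨ho, -⟩
    · exact Or.inl h1
    · exact Or.inr (Or.inl h1)
    · obtain ⟨ho', J, J', C, h1, h2, h3, h4⟩ := W.exists_typeF_eq hO h h' huv ho
      exact Or.inr (Or.inr ⟨ho, ho', J, J', C, h1, h2, h3, h4⟩)

/-- **NZ implies that there are no big pump-ups** -/
theorem noBig [IsSimpleGroup G] (W : World κ G) (hex : HeX κ) (aut : HeAut κ) (kj : KJ κ) (hO : HeOut κ)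
    (hconj : ∀ {K : Type u} [Group K] [Finite K], κ.P K → ∀ s t : K, Can s → Can t →
      ∃ g, g * s * g⁻¹ = t)
    (hp : ∀ {u : G} {X : Subgroup G}, IsPair κ u X → ∃ v Y, IsPair κ v Y ∧ u * v = v * u ∧ ¬ Fixes v X)
    (ves : ∀ {u v : G} {X Y : Subgroup G}, IsPair κ u X → IsPair κ v Y → u * v = v * u → Fixes v X →
      v ∈ X)
    (h1173 : ∀ (S : Sylow 2 G) (T : Subgroup G), IsStronglyClosed T (S : Subgroup G) →
      ((⨅ n : ℕ, derivedSeries ↥(centralizer (T : Set G)) n).map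
        (centralizer (T : Set G)).subtype).Normal) {u y : G} {X M : Subgroup G} (hu : IsPair κ u X)
    (hyy : y * y = 1) (hy1 : y ≠ 1) (hyu : y * u = u * y) (hf : Fixes y X)
    (hM : IsComp (centralizer ({y} : Set G)) M) (hle : cen X y ≤ M) : ¬ Pair.Big κ u (cen X y) M :=
  FourBig.no_big (nbOf W hex aut kj hO hconj hp ves) h1173 hu hyy hy1 hyu hf hM hle

end Cfsg.Agent.UGT.I34.Four
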