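import Cfsg.Agent.UGT.I34.FourStd
import Cfsg.Agent.UGT.I34.FixLift
import Cfsg.Agent.UGT.Cov.OddMv
import Cfsg.Agent.UGT.Cov.KleinOddAut
import Cfsg.Agent.Lib.KleinGen

/-!
# THEOREM I34, part [C]: the 2-components have no core

`core_eq_bot`: `(u, X)`, `(v, Y)` pairs, `v ∈ X`, `u ∈ Y` noncentral; all 2-components of pairs are quasisimple and
standard. Then `O(X) = 1`.
-/

set_option autoImplicit false

open Cfsg Subgroup
open Cfsg.Agent.SignalizersComponents Cfsg.Agent.Lib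
open Cfsg.Agent.SignalizersComponents.IntrinsicBasic
open Cfsg.Agent.SignalizersComponents.PLayerAut
open Cfsg.Agent.Intrinsic.Basic hiding IsPair PQS Target IsPair.sq IsPair.ne_one IsPair.cj
open Cfsg.Agent.Intrinsic.Cen hiding pair_comm pair_mem_cen exists_pump pump_unique
open Cfsg.Agent.Intrinsic.Quot hiding Big isPair_quot small_or_big
open Cfsg.Agent.McLLyComp.Act hiding mk_eq_one_iff
open Cfsg.Agent.UGT.I34.Pair Cfsg.Agent.UGT.I34.Four Cfsg.Agent.UGT.I34.FourStd Cfsg.Agent.UGT.I34.KAut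
open Cfsg.Agent.UGT.I34.FixLift
open scoped commutatorElement

namespace Cfsg.Agent.UGT.I34.FourCore

universe u

/-- The facts on `K = 2².L₃(4)` and on `He`. -/
structure CoreK (κ : Kind.{u}) : Prop where
  dat : ∀ {K : Type u} [Group K] [Finite K], κ.P K → Nonempty (Cov.Klein.Dat K)
  mv : ∀ {Y : Type u} [Group Y] [Finite Y] {z : Y} {L : Subgroup Y}, κ.T Y z L → IsPair κ z L →
    ∃ y, y * z = z * y ∧ y * y = 1 ∧ ∃ c ∈ L, (∀ l ∈ L, c * l = l * c) ∧ y * c * y⁻¹ ≠ c

/-- elements of odd order commuting with a noncentral involution -/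
theorem eq_one_of_comm {K : Type*} [Group K] (A : Cov.Klein.Dat K) {t w : K} (htt : t * t = 1)
    (ht : t ∉ center K) (hw : w * t = t * w) (ho : Odd (orderOf w)) : w = 1 := by
  obtain ⟨B, r, -, rfl⟩ := A.exists_dat_tg ⟨htt, ht⟩
  have h1 : w ∈ B.T := (B.cent_tg r).mp hw
  have h2 : w ^ 256 = 1 := by
    have := pow_card_eq_one' (x := (⟨w, h1⟩ : ↥B.T))
    rw [B.card_T] at this
    exact congrArg Subtype.val this
  have h4 := orderOf_dvd_of_pow_eq_one h2
  have h5 : Nat.Coprime (orderOf w) 256 := by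
    have := Nat.Coprime.pow_right 8 (Nat.coprime_two_right.mpr ho)
    norm_num at this
    exact this
  exact orderOf_eq_one_iff.mp (h5.eq_one_of_dvd h4)

section

variable {G : Type u} [Group G] [Finite G] {κ : Kind.{u}} {u v o : G} {X Y : Subgroup G}

theorem odd_order_core {w : G} (hw : w ∈ core X) : Odd (orderOf w) := by
  have h1 := orderOf_dvd_natCard (⟨w, hw⟩ : ↥(core X))
  rw [← Subgroup.orderOf_coe] at h1
  exact Odd.of_dvd_nat (odd_card_core X) h1

omit [Finite G] in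
theorem norm_of_comm (S : Hyp κ G) (h : IsPair κ v Y) {a : G} (ha : a * v = v * a) :
    a ∈ normalizer (Y : Set G) := by
  rw [mem_normalizer_iff_cj]
  have h1 := h.cj a
  have h2 : a * v * a⁻¹ = v := by rw [ha, mul_inv_cancel_right]
  rw [h2] at h1
  exact S.one h h1

/-- `O(X)` centralizes `Y` -/
theorem comm_core (S : Hyp κ G) (Kf : CoreK κ) (hu : IsPair κ u X) (hv : IsPair κ v Y) (hvX : v ∈ X)
    (huY : u ∈ Y) (hnf : ¬ Fixes u Y) (ho : o ∈ core X) : ∀ y ∈ Y, o * y = y * o := by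
  have hov : o * v = v * o := core_central hu.comp (S.qs hu) ho hvX
  have hou : o * u = u * o := core_central hu.comp (S.qs hu) ho hu.mem
  have hoN : o ∈ normalizer (Y : Set G) := norm_of_comm S hv hov
  obtain ⟨A⟩ := Kf.dat hv.kind
  -- `t = u O(Y)`
  have htt : (QuotientGroup.mk ⟨u, huY⟩ : ↥Y ⧸ oddCore ↥Y) * QuotientGroup.mk ⟨u, huY⟩ = 1 := by
    rw [← QuotientGroup.mk_mul]
    have : (⟨u, huY⟩ : ↥Y) * ⟨u, huY⟩ = 1 := Subtype.ext hu.sq
    rw [this]
    rfl
  have htc : (QuotientGroup.mk ⟨u, huY⟩ : ↥Y ⧸ oddCore ↥Y) ∉ center (↥Y ⧸ oddCore ↥Y) :=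
    fun h => hnf ((mk_mem_center_iff huY).mp h)
  -- `[o, q] ∈ O(Y)`
  have key : ∀ (q : G) (hq : q ∈ Y), q * u = u * q →
      act Y ⟨o, hoN⟩ (QuotientGroup.mk ⟨q, hq⟩) = QuotientGroup.mk ⟨q, hq⟩ := by
    intro q hq hqu
    rw [act_mk hoN hq]
    have hw1 : o * q * o⁻¹ * q⁻¹ ∈ Y := mul_mem (McLLyComp.Act.conj_mem hoN hq) (inv_mem hq)
    have hw2 : o * q * o⁻¹ * q⁻¹ ∈ core X := by
      have h1 := conj_mem_core (norm_of_comm S hu hqu) (inv_mem ho)
      have h2 : o * q * o⁻¹ * q⁻¹ = o * (q * o⁻¹ * q⁻¹) := by group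
      rw [h2]
      exact mul_mem ho h1
    have hw3 : o * q * o⁻¹ * q⁻¹ ∈ core Y := by
      rw [← Cfsg.Agent.Intrinsic.Quot.mk_eq_one_iff hw1]
      apply eq_one_of_comm A htt htc
      · rw [← QuotientGroup.mk_mul, ← QuotientGroup.mk_mul]
        congr 1
        exact Subtype.ext (pair_comm hu (core_le X hw2))
      · have h1 : orderOf (QuotientGroup.mk ⟨o * q * o⁻¹ * q⁻¹, hw1⟩ : ↥Y ⧸ oddCore ↥Y) ∣
            orderOf (⟨o * q * o⁻¹ * q⁻¹, hw1⟩ : ↥Y) := orderOf_map_dvd (QuotientGroup.mk' (oddCore ↥Y)) _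
        rw [← Subgroup.orderOf_coe] at h1
        exact Odd.of_dvd_nat (odd_order_core hw2) h1
    rw [mk_eq_iff]
    have h1 := inv_mem hw3
    have h2 := conj_mem_core (le_normalizer (inv_mem (McLLyComp.Act.conj_mem hoN hq))) h1
    have h3 : (o * q * o⁻¹)⁻¹ * (o * q * o⁻¹ * q⁻¹)⁻¹ * (o * q * o⁻¹)⁻¹⁻¹ = (o * q * o⁻¹)⁻¹ * q := by group
    rwa [h3] at h2
  have hact : act Y ⟨o, hoN⟩ = 1 := by
    apply A.eq_one_of_odd (t := QuotientGroup.mk ⟨u, huY⟩)
    · have h1 : orderOf (act Y ⟨o, hoN⟩) ∣ orderOf (⟨o, hoN⟩ : ↥(normalizer (Y : Set G))) :=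
        orderOf_map_dvd _ _
      rw [← Subgroup.orderOf_coe] at h1
      exact Odd.of_dvd_nat (odd_order_core ho) h1
    · intro z hz
      obtain ⟨a, ha, hau, -, rfl⟩ := exists_lift_two (le_normalizer huY) (n := 1)
        (by rw [pow_one, pow_two, hu.sq]) (x := z) (by
          rw [mem_fixed, act_of_mem huY, MulAut.conj_apply, mem_center_iff.mp hz, mul_inv_cancel_right])
        (m := 1) (by rw [pow_one, pow_two, A.center_sq hz])
      exact key a ha hau
    · exact ⟨htt, htc⟩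
    · exact key u huY rfl
  exact fun y hy => comm_of_fixes hv.comp (S.qs hv) ((act_eq_one_iff hoN).mp hact) hy

omit [Finite G] in
/-- the action of an element commuting with `X` modulo `O(X)` on `N`: in `N / O(N)` -/
theorem mem_of_pow {R C : Subgroup G} (hR : Odd (Nat.card R)) {r : G} (hr : r ∈ R) {k : ℕ} (h : r ^ 2 ^ k ∈ C) :
    r ∈ C := by
  have h1 : Nat.Coprime (2 ^ k) (Nat.card R) := Nat.Coprime.pow_left k (Nat.coprime_two_left.mpr hR)
  have h2 : orderOf r ∣ Nat.card R := by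
    have := orderOf_dvd_natCard (⟨r, hr⟩ : ↥R)
    rwa [← Subgroup.orderOf_coe] at this
  have h3 : Nat.Coprime (2 ^ k) (orderOf r) := h1.coprime_dvd_right h2
  obtain ⟨m, hm⟩ := exists_pow_eq_self_of_coprime h3
  rw [← hm]
  exact pow_mem h m

/-- **`O(X) = 1`** -/
theorem core_eq_bot (S : Hyp κ G) (Kf : CoreK κ) (hcen : ∀ o : G, o ≠ 1 → centralizer ({o} : Set G) ≠ ⊤)
    (hu : IsPair κ u X) (hv : IsPair κ v Y) (hvX : v ∈ X) (hnv : ¬ Fixes v X)
    (huY : u ∈ Y) (hnf : ¬ Fixes u Y) : oddCore ↥X = ⊥ := by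
  by_contra hne
  obtain ⟨o, ho, ho1⟩ : ∃ o ∈ core X, o ≠ 1 := by
    by_contra hcon
    push Not at hcon
    apply hne
    rw [eq_bot_iff]
    intro z hz
    rw [mem_bot]
    exact Subtype.ext (hcon z ⟨z, hz, rfl⟩)
  have hXo : X ≤ centralizer ({o} : Set G) := fun x hx =>
    mem_centralizer_singleton_iff.mpr (core_central hu.comp (S.qs hu) ho hx).symm
  have hYo : Y ≤ centralizer ({o} : Set G) := fun y hy =>
    mem_centralizer_singleton_iff.mpr (comm_core S Kf hu hv hvX huY hnf ho y hy).symm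
  have hcu : IsComp (centralizer ({o} : Set G) ⊓ centralizer ({u} : Set G)) X :=
    hu.comp.restrict inf_le_right (le_inf hXo hu.comp.le)
  have hcv : IsComp (centralizer ({o} : Set G) ⊓ centralizer ({v} : Set G)) Y :=
    hv.comp.restrict inf_le_right (le_inf hYo hv.comp.le)
  obtain ⟨N, hN, hXN⟩ := exists_pumpup hu.sq hu.mem hcu
  obtain ⟨N', hN', hYN'⟩ := exists_pumpup hv.sq hv.mem hcv
  have hNN : N' = N := by
    by_contra h
    have h1 := hN.fixes_of_mem hN' (Ne.symm h) (hYN' hv.mem)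
    exact hnv (fixes_of_le hXN (le_normalizer hvX) h1)
  subst hNN
  have hcard : Nat.card N' < Nat.card G := card_lt_of_le_cent (hcen o ho1) hN.le
  rcases Pair.small_or_big S.sett.ih hu.inv hu.mem hcu hu.kind hN hXN hcard with hs | hb
  · have h1 : Fixes u N' := Small.fixes hs hu.mem hu.comp.le
    exact hnf (fixes_of_le hYN' (le_normalizer huY) h1)
  obtain ⟨huN, hT, hp⟩ := Sett.big_pair hb hu.inv hu.mem hcu hu.kind hN hXN
  -- `O(X) ≤ O(N)`
  have hOX : core X ≤ core N' := by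
    have h4 := S.sett.he.core hT hp
    obtain ⟨e, he⟩ := exists_qs_equiv hXN
    intro j hj
    have hjJ := core_le X hj
    have h1 := he j hjJ
    rw [(Cfsg.Agent.Intrinsic.Quot.mk_eq_one_iff hjJ).mpr hj, map_one] at h1
    have h2 := (QuotientGroup.eq_one_iff _).mp h1.symm
    rw [h4, mem_bot] at h2
    exact (Cfsg.Agent.Intrinsic.Quot.mk_eq_one_iff (hXN hjJ)).mp (congrArg Subtype.val h2)
  -- `X ∩ O(N) ≤ O(X)`
  have hXO : ∀ x ∈ X, x ∈ core N' → x ∈ core X := by
    have h0 : X ⊓ core N' ≤ core X := by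
      refine le_core inf_le_left ?_ (Odd.of_dvd_nat (odd_card_core N') (card_dvd_of_le inf_le_right))
      intro j hj
      rw [mem_normalizer_iff_cj, cj_inf, cj_eq_self_of_mem hj,
        mem_normalizer_iff_cj.mp (le_normalizer_core N' (hXN hj))]
    exact fun x hx hxN => h0 ⟨hx, hxN⟩
  obtain ⟨A⟩ := Kf.dat hu.kind
  -- a second involution `a` of `Z(X)`
  obtain ⟨a, haX, hau, haa, ha1, hau1, haf⟩ : ∃ a, ∃ _ : a ∈ X, a * u = u * a ∧ a * a = 1 ∧ a ≠ 1 ∧ a * u ≠ 1 ∧
      Fixes a X := by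
    obtain ⟨ub, hub⟩ : ∃ ub : ↥X ⧸ oddCore ↥X, ub = QuotientGroup.mk ⟨u, hu.mem⟩ := ⟨_, rfl⟩
    have hucen : ub ∈ center (↥X ⧸ oddCore ↥X) := hub ▸ (mk_mem_center_iff hu.mem).mpr (pair_fixes hu)
    obtain ⟨b, hb, hb1, hbu⟩ : ∃ b ∈ center (↥X ⧸ oddCore ↥X), b ≠ 1 ∧ b ≠ ub := by
      by_contra hcon
      push Not at hcon
      have h4 := A.card_center
      have h5 : (Set.univ : Set ↥(center (↥X ⧸ oddCore ↥X))) ⊆ {1, ⟨ub, hucen⟩} := by
        rintro ⟨x, hx⟩ -
        by_cases hx1 : x = 1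
        · left; exact Subtype.ext hx1
        · right; exact Subtype.ext (hcon x hx hx1)
      have h6 := Set.ncard_le_ncard h5 (Set.toFinite _)
      rw [Set.ncard_univ, h4] at h6
      have h7 := Set.ncard_insert_le (1 : ↥(center (↥X ⧸ oddCore ↥X))) {⟨ub, hucen⟩}
      rw [Set.ncard_singleton] at h7
      omega
    obtain ⟨a, haX, hau, haa, hab⟩ := exists_lift_two (le_normalizer hu.mem) (n := 1)
      (by rw [pow_one, pow_two, hu.sq]) (x := b) (by
        rw [mem_fixed, act_of_mem hu.mem, MulAut.conj_apply, mem_center_iff.mp hb, mul_inv_cancel_right])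
      (m := 1) (by rw [pow_one, pow_two, A.center_sq hb])
    rw [pow_one, pow_two] at haa
    refine ⟨a, haX, hau, haa, ?_, ?_, (mk_mem_center_iff haX).mp (hab ▸ hb)⟩
    · rintro rfl
      exact hb1 (hab ▸ rfl)
    · intro h
      apply hbu
      have h1 : a = u := by
        have := mul_eq_one_iff_eq_inv.mp h
        rwa [inv_eq_of_mul_eq_one_left hu.sq] at this
      rw [hub, ← hab]
      congr 1
      exact Subtype.ext h1
  -- `X` centralizes `C_{O(N)}(w)`, `w` an involution of `Z(X)`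
  have hall : ∀ w ∈ X, w * w = 1 → w ≠ 1 → Fixes w X →
      core N' ⊓ centralizer ({w} : Set G) ≤ centralizer (X : Set G) := by
    intro w hw hww hw1 hwf c hc
    have hpw : IsPair κ w X := S.pair_center hu hw hww hw1 hwf
    have hcw := mem_centralizer_singleton_iff.mp hc.2
    have h1 : Fixes c X := fixes_of_le hXN (norm_of_comm S hpw hcw) (hN.fixes_of_core (hN.core_le_core hc.1))
    rw [mem_centralizer_iff]
    exact fun x hx => (comm_of_fixes hu.comp (S.qs hu) h1 hx).symm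
  have hXC : core N' ≤ centralizer (X : Set G) := by
    have hnN : ∀ x ∈ X, ∀ h ∈ core N', x * h * x⁻¹ ∈ core N' := fun x hx h hh =>
      conj_mem_core (le_normalizer (hXN hx)) hh
    refine KleinGen.le_of_klein (core N') (centralizer (X : Set G)) (odd_card_core N') a u haa hu.sq hau
      (hnN a haX) (hnN u hu.mem) (hall a haX haa ha1 haf) (hall u hu.mem hu.sq hu.ne_one (pair_fixes hu)) ?_
    refine hall (a * u) (mul_mem haX hu.mem) ?_ hau1 (fixes_mul haf (pair_fixes hu))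
    calc (a * u) * (a * u) = a * (u * a) * u := by group
      _ = (a * a) * (u * u) := by rw [← hau]; group
      _ = 1 := by rw [haa, hu.sq, one_mul]
  -- `O(N) ≤ Z(N)`
  have hNC : N' ≤ centralizer (core N' : Set G) := by
    obtain ⟨C, hC⟩ : ∃ C, C = N' ⊓ centralizer (core N' : Set G) := ⟨_, rfl⟩
    have hXleC : X ≤ C := by
      rw [hC]
      refine le_inf hXN fun x hx => ?_
      rw [mem_centralizer_iff]
      exact fun c hc => (mem_centralizer_iff.mp (hXC hc) x hx).symm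
    have hnorm : N' ≤ normalizer (C : Set G) := by
      intro n hn
      rw [mem_normalizer_iff_cj, hC, cj_inf, cj_eq_self_of_mem hn]
      congr 1
      have h1 := mem_normalizer_iff_cj.mp (le_normalizer_core N' hn)
      have h2 : ∀ (g : G) (B : Subgroup G), cj g (centralizer (B : Set G)) = centralizer ((cj g B : Subgroup G) : Set G) := by
        intro g B
        ext x
        rw [mem_cj, mem_centralizer_iff, mem_centralizer_iff]
        constructor
        · intro h b hb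
          have h3 := h _ (mem_cj.mp hb)
          have h4 : g * (g⁻¹ * b * g * (g⁻¹ * x * g)) * g⁻¹ = g * (g⁻¹ * x * g * (g⁻¹ * b * g)) * g⁻¹ := by rw [h3]
          have e1 : g * (g⁻¹ * b * g * (g⁻¹ * x * g)) * g⁻¹ = b * x := by group
          have e2 : g * (g⁻¹ * x * g * (g⁻¹ * b * g)) * g⁻¹ = x * b := by group
          rwa [e1, e2] at h4
        · intro h b hb
          have h3 := h (g * b * g⁻¹) (conj_mem_cj hb)
          have h4 : g⁻¹ * (g * b * g⁻¹ * x) * g = g⁻¹ * (x * (g * b * g⁻¹)) * g := by rw [h3]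
          have e1 : g⁻¹ * (g * b * g⁻¹ * x) * g = b * (g⁻¹ * x * g) := by group
          have e2 : g⁻¹ * (x * (g * b * g⁻¹)) * g = g⁻¹ * x * g * b := by group
          rwa [e1, e2] at h4
      rw [h2, h1]
    have hCn : (C.subgroupOf N').Normal := normal_subgroupOf_of_le_normalizer hnorm
    have hqn : (qs N' C).Normal := hCn.map _ (QuotientGroup.mk'_surjective _)
    have htop : qs N' C = ⊤ := by
      by_contra hntop
      have h1 := QsBasic.normal_le_center_of_ne_top (quasisimple_quot hN) (qs N' C) hntop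
      rw [S.sett.he.center hT hp] at h1
      have h2 : (QuotientGroup.mk ⟨u, huN⟩ : ↥N' ⧸ oddCore ↥N') ∈ qs N' C :=
        (mem_qs huN).mpr ⟨u, ⟨hXleC hu.mem, huN⟩, by simp⟩
      have h3 := (mem_bot.mp (h1 h2))
      rw [Cfsg.Agent.Intrinsic.Quot.mk_eq_one_iff] at h3
      exact hu.ne_one (eq_one_of_mem_core_sq h3 hu.sq)
    have hle : N' ≤ C := by
      refine hN.le_of_two fun n hn k hk => ?_
      have h1 : (QuotientGroup.mk ⟨n, hn⟩ : ↥N' ⧸ oddCore ↥N') ∈ qs N' C := by rw [htop]; trivial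
      obtain ⟨c, hc, hcn⟩ := (mem_qs hn).mp h1
      have hcomm : Commute c (c⁻¹ * n) := by
        have h2 := hc.1
        rw [hC] at h2
        exact (mem_centralizer_iff.mp h2.2 _ hcn).symm
      have h2 : n = c * (c⁻¹ * n) := by group
      have h3 : n ^ 2 ^ k = c ^ 2 ^ k * (c⁻¹ * n) ^ 2 ^ k := by
        conv_lhs => rw [h2]
        exact hcomm.mul_pow _
      rw [hk] at h3
      have h4 : (c⁻¹ * n) ^ 2 ^ k = (c ^ 2 ^ k)⁻¹ := (inv_eq_of_mul_eq_one_right h3.symm).symm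
      have h5 : c⁻¹ * n ∈ C := mem_of_pow (odd_card_core N') hcn (k := k) (by
        rw [h4]
        exact inv_mem (pow_mem hc.1 _))
      rw [h2]
      exact mul_mem hc.1 h5
    rw [hC] at hle
    exact hle.trans inf_le_right
  -- the element `y`
  obtain ⟨yb, hyu, hyy, c, hcq, hcc, hcy⟩ := Kf.mv hT hp
  obtain ⟨y, hyN, hyu', hyy', hyb⟩ := exists_lift_two (le_normalizer huN) (n := 1)
    (by rw [pow_one, pow_two, hu.sq]) (x := yb) (by
      rw [mem_fixed, act_of_mem huN, MulAut.conj_apply, ← hyu, mul_inv_cancel_right])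
    (m := 1) (by rw [pow_one, pow_two, hyy])
  rw [pow_one, pow_two] at hyy'
  have hyX : y ∈ normalizer (X : Set G) := norm_of_comm S hu hyu'
  obtain ⟨⟨c', hc'N⟩, hc'X, rfl⟩ := hcq
  have hc'X : c' ∈ X := hc'X
  obtain ⟨o', ho', hne'⟩ := Cov.OddMv.exists_moved (S.qs hu) A (QuotientGroup.mk' (oddCore ↥X))
    (QuotientGroup.mk'_surjective _) (QuotientGroup.ker_mk' _) hne (X.normalizerMonoidHom ⟨y, hyX⟩)
    (act X ⟨y, hyX⟩) (fun k => rfl) (by
      rw [← map_mul]
      have : (⟨y, hyX⟩ : ↥(normalizer (X : Set G))) * ⟨y, hyX⟩ = 1 := Subtype.ext hyy'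
      rw [this, map_one])
    ⟨QuotientGroup.mk ⟨c', hc'X⟩, by
      rw [mem_center_iff]
      intro g
      obtain ⟨⟨x, hx⟩, rfl⟩ := QuotientGroup.mk_surjective g
      rw [mk_comm_iff]
      apply hXO
      · exact mul_mem (inv_mem hx) (mul_mem (mul_mem hc'X hx) (inv_mem hc'X))
      · rw [← mk_comm_iff (hXN hx) hc'N]
        have h1 := hcc (QuotientGroup.mk ⟨x, hXN hx⟩) ((mem_qs (hXN hx)).mpr ⟨x, ⟨hx, hXN hx⟩, by simp⟩)
        exact h1.symm, by
      intro h
      apply hcy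
      rw [act_mk hyX hc'X, mk_eq_iff] at h
      have h1 := hOX h
      rw [← hyb]
      change (QuotientGroup.mk ⟨y * c' * y⁻¹, _⟩ : ↥N' ⧸ oddCore ↥N') = QuotientGroup.mk ⟨c', hc'N⟩
      rw [mk_eq_iff]
      exact h1⟩
  apply hne'
  apply Subtype.ext
  have h1 : (o' : G) ∈ core N' := hOX ⟨o', ho', rfl⟩
  have h2 := mem_centralizer_iff.mp (hNC hyN) _ h1
  change y * (o' : G) * y⁻¹ = o'
  rw [← h2, mul_inv_cancel_right]

end

end Cfsg.Agent.UGT.I34.FourCore
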