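import Cfsg.Agent.UGT.I34.Cov
import Cfsg.Agent.UGT.Triple

/-!
# THEOREM I34, part [C]: the kind `2².L₃(4)` and the two targets

* `four`: the kind of the covers with centre a four-group; the exceptional group is `He`.
* `SimpleCaseB κ`: the main theorem for simple groups with the B-property.
* `TripleCase κ`: no triple `(x, c, M)`, `x ∈ X`, `c ∈ M`, of kind `κ` in a simple group `X`.
-/

set_option autoImplicit false

open Cfsg Subgroup
open Cfsg.Agent.UGT.Iface Cfsg.Agent.UGT.Triple
open Cfsg.Agent.UGT.I34.Pair Cfsg.Agent.UGT.I34.Cov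

namespace Cfsg.Agent.UGT.I34.FourKind

universe u

/-- the exceptional group -/
def T22 : (X : Type u) → [Group X] → X → Subgroup X → Prop := fun X _ _ _ => Cfsg.Spor.IsoHe X

/-- the kind `2².L₃(4)` -/
def four : Kind.{u} := kind' 4 4 T22

theorem four_iff {K : Type u} [Group K] : four.P K ↔ IsCv 4 4 K := by
  change (IsCv 4 4 K ∧ True) ↔ _
  rw [and_true]

theorem four_T {X : Type u} [Group X] {z : X} {L : Subgroup X} : four.T X z L ↔ Cfsg.Spor.IsoHe X :=
  Iff.rfl

/-- the main theorem for simple groups with the B-property -/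
def SimpleCaseB (κ : Kind.{u}) : Prop :=
  ∀ (X : Type u) [Group X] [Finite X] [IsSimpleGroup X], HasBProperty X → PQS κ (Nat.card X) →
    ∀ (z : X) (L : Subgroup X), IsPair κ z L → κ.T X z L

/-- no triples of kind `κ` in a simple group -/
def TripleCase (κ : Kind.{u}) : Prop :=
  ∀ (X : Type u) [Group X] [Finite X] [IsSimpleGroup X], PQS κ (Nat.card X) →
    ∀ (x c : X) (M : Subgroup X), IsTriple x c M → c ∈ M → ¬ κ.P (Bar M)

end Cfsg.Agent.UGT.I34.FourKind
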