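import Cfsg.Agent.UGT.I34.FourStd
import Cfsg.Agent.UGT.I34.FourCore
import Cfsg.Agent.UGT.I34.FourKind
import Cfsg.Agent.ClassificationK.PCompTransport
import Cfsg.Agent.StandardComponent.HeldType.Close
import Cfsg.Agent.S1175

/-!
# THEOREM I34, part [C]: the end, `X ≅ He`

* `quasisimple_of_B`: in a core-free group with the B-property the 2-components of the centralizers of involutions
  are quasisimple.
* `isoHe`: a simple group with a standard subgroup `2².L₃(4)` is `He`.
-/

set_option autoImplicit false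

open Cfsg Subgroup
open Cfsg.Agent.SignalizersComponents Cfsg.Agent.Lib
open Cfsg.Agent.SignalizersComponents.IntrinsicBasic
open Cfsg.Agent.SignalizersComponents.PLayerAut
open Cfsg.Agent.Intrinsic.Basic hiding IsPair PQS Target IsPair.sq IsPair.ne_one IsPair.cj
open Cfsg.Agent.Intrinsic.Cen hiding pair_comm pair_mem_cen exists_pump pump_unique
open Cfsg.Agent.McLLyComp.Act hiding mk_eq_one_iff
open Cfsg.Agent.UGT.I34.KAut
open Cfsg.Agent.UGT.Iface (Bar IsL34)
open Cfsg.Agent.UGT.I34.Pair Cfsg.Agent.UGT.I34.Four Cfsg.Agent.UGT.I34.FourStd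
open Cfsg.Agent.UGT.I34.FourCore Cfsg.Agent.UGT.I34.Cov Cfsg.Agent.UGT.I34.FourKind
open scoped commutatorElement

namespace Cfsg.Agent.UGT.I34.FourEnd

universe u

/-- the B-property: 2-components of `C(d)` are quasisimple -/
theorem quasisimple_of_B {N : Type*} [Group N] [Finite N] (hO : oddCore N = ⊥) (hB : HasBProperty N) {d : N}
    (hd : orderOf d = 2) {E : Subgroup N} (hE : IsComp (centralizer ({d} : Set N)) E) : IsQuasisimple ↥E := by
  have h0 : ⁅pLayer 2 ↥(centralizer ({d} : Set N)), oddCore ↥(centralizer ({d} : Set N))⁆ = ⊥ := by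
    have h1 := hB d hd
    rw [hO, le_bot_iff, Subgroup.map_eq_bot_iff_of_injective _ (Subgroup.subtype_injective _)] at h1
    exact h1
  have : Fact (Nat.Prime 2) := ⟨Nat.prime_two⟩
  have h1 : ⁅E.subgroupOf (centralizer ({d} : Set N)), pPrimeCore 2 ↥(centralizer ({d} : Set N))⁆ = ⊥ := by
    rw [eq_bot_iff, ← h0]
    exact commutator_mono (le_sSup (show _ ∈ {K | IsPComponent 2 K} from hE.2)) le_rfl
  have h2 := ClassificationK.PCompTransport.isComponent_of_isPComponent 2 hE.2 h1
  exact Components.isQuasisimple_of_mulEquiv (subgroupOfEquivOfLe hE.le) h2.2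

/-- the centre of a cover of type `2²` -/
theorem isKleinFour_center {K : Type*} [Group K] [Finite K] (h : IsCv 4 4 K) : IsKleinFour ↥(center K) := by
  have hc := h.card
  have ho := h.om
  have h1 : ∀ z : ↥(center K), z * z = 1 := by
    have h2 : Function.Injective (fun z : {z : ↥(center K) // z * z = 1} => (z : ↥(center K))) :=
      Subtype.val_injective
    have h3 : Function.Bijective (fun z : {z : ↥(center K) // z * z = 1} => (z : ↥(center K))) := by
      rw [Nat.bijective_iff_injective_and_card]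
      exact ⟨h2, by rw [ho, hc]⟩
    intro z
    obtain ⟨⟨w, hw⟩, rfl⟩ := h3.2 z
    exact hw
  refine ⟨hc, ?_⟩
  have h2 : Monoid.exponent ↥(center K) ∣ 2 := by
    rw [Monoid.exponent_dvd_iff_forall_pow_eq_one]
    intro z
    rw [pow_two, h1 z]
  rcases (Nat.dvd_prime Nat.prime_two).mp h2 with h3 | h3
  · exfalso
    have h4 : Subsingleton ↥(center K) := Monoid.exp_eq_one_iff.mp h3
    have := Finite.card_le_one_iff_subsingleton.mpr h4
    omega
  · exact h3

variable {G : Type u} [Group G] [Finite G] {κ : Kind.{u}}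

omit [Finite G] in
theorem not_comm {u : G} {X : Subgroup G} (h : IsPair κ u X) : ¬ IsMulCommutative G := by
  intro hc
  have hq := h.comp.perfect
  have h1 : ∀ a b : G, a * b = b * a := fun a b => hc.is_comm.comm a b
  have h2 : ⁅X, X⁆ = ⊥ := by
    rw [eq_bot_iff, Subgroup.commutator_le]
    intro a _ b _
    rw [mem_bot, commutatorElement_eq_one_iff_mul_comm]
    exact h1 a b
  rw [h2] at hq
  have h3 := h.mem
  rw [← hq, mem_bot] at h3
  exact h.ne_one h3

/-- **the end** -/
theorem isoHe [IsSimpleGroup G] (S : Hyp κ G) {u : G} {X : Subgroup G} (h : IsPair κ u X)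
    (hcv : IsCv 4 4 (Bar X)) (hO : oddCore ↥X = ⊥) : Cfsg.Spor.IsoHe G := by
  let e : Bar X ≃* ↥X := (QuotientGroup.quotientMulEquivOfEq hO).trans QuotientGroup.quotientBot
  have h1 : IsCv 4 4 ↥X := hcv.congr e
  obtain ⟨F, i, j, hF, he⟩ := h1.l34
  exact StandardComponent.HeldType.Close.close (not_comm h) X (S.standard h) hF
    ⟨isKleinFour_center h1, he⟩
    (Or.inl fun M hM z hz hzM h1 h2 h3 => Cfsg.Agent.S1175.result M hM z hz hzM h1 h2 h3)

/-- The structure of the world of [C]. -/
structure Str (κ : Kind.{u}) (G : Type u) [Group G] : Prop where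
  sett : Sett κ G
  one : ∀ {u : G} {X X' : Subgroup G}, IsPair κ u X → IsPair κ u X' → X' = X
  ves : ∀ {u v : G} {X Y : Subgroup G}, IsPair κ u X → IsPair κ v Y → u * v = v * u → Fixes v X → v ∈ X
  nobig : ∀ {u y : G} {X M : Subgroup G}, IsPair κ u X → y * y = 1 → y ≠ 1 → y * u = u * y → Fixes y X →
    IsComp (centralizer ({y} : Set G)) M → cen X y ≤ M → ¬ Big κ u (cen X y) M
  canP : ∀ {u : G} {X : Subgroup G}, IsPair κ u X → ∀ (t : G) (ht : t ∈ X), t * t = 1 →
    Can (QuotientGroup.mk ⟨t, ht⟩ : ↥X ⧸ oddCore ↥X) → ∃ Y, IsPair κ t Y ∧ u ∈ Y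

/-- a type I partner -/
theorem Str.exists_partner (S : Str κ G) {u : G} {X : Subgroup G} (h : IsPair κ u X) :
    ∃ (v : G) (Y : Subgroup G), IsPair κ v Y ∧ v ∈ X ∧ ¬ Fixes v X ∧ u ∈ Y ∧ ¬ Fixes u Y := by
  obtain ⟨t, ht⟩ := S.sett.kl.exCan h.kind
  obtain ⟨a, ha, -, haa, rfl⟩ := FixLift.exists_lift_two (le_normalizer h.mem) (n := 1)
    (by rw [pow_one, pow_two, h.sq]) (x := t) (by
      rw [mem_fixed, act_of_mem h.mem, MulAut.conj_apply,
        ← mem_center_iff.mp ((mk_mem_center_iff h.mem).mpr (pair_fixes h)) t, mul_inv_cancel_right])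
    (m := 1) (by rw [pow_one, pow_two, ht.1.1])
  rw [pow_one, pow_two] at haa
  have hnf : ¬ Fixes a X := fun hf => ht.1.2 ((mk_mem_center_iff ha).mpr hf)
  obtain ⟨Y, hY, huY⟩ := S.canP h a ha haa ht
  exact ⟨a, Y, hY, ha, hnf, huY, fun hf => hnf (typeZero_symm' hY h (pair_comm h ha) hf)⟩

/-- **The main theorem for simple groups with the B-property from the structure of the world.** -/
theorem isoHe_of_str [IsSimpleGroup G] (hB : HasBProperty G) (S : Str κ G) (Kf : CoreK κ)
    (hk : ∀ {K : Type u} [Group K], κ.P K → IsCv 4 4 K) {u : G} {X : Subgroup G} (h : IsPair κ u X) :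
    Cfsg.Spor.IsoHe G := by
  have hnc := not_comm h
  have hO : oddCore G = ⊥ := by
    have hn : (oddCore G).Normal := Lib.Cores.pPrimeCore_normal 2
    rcases hn.eq_bot_or_eq_top with h1 | h1
    · exact h1
    · exfalso
      have h2 : u ∈ oddCore G := by rw [h1]; trivial
      have h3 : Odd (Nat.card ↥(oddCore G)) := Nat.coprime_two_right.mp (Lib.Cores.pPrimeCore_coprime 2)
      have h4 := orderOf_dvd_natCard (⟨u, h2⟩ : ↥(oddCore G))
      rw [← Subgroup.orderOf_coe, h.inv] at h4
      rw [Nat.odd_iff] at h3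
      omega
  have hcen : ∀ o : G, o ≠ 1 → centralizer ({o} : Set G) ≠ ⊤ := by
    intro o ho htop
    have h1 : o ∈ center G := by
      rw [mem_center_iff]
      intro g
      have h2 : g ∈ centralizer ({o} : Set G) := by rw [htop]; trivial
      exact mem_centralizer_singleton_iff.mp h2
    rcases (inferInstance : (center G).Normal).eq_bot_or_eq_top with h2 | h2
    · rw [h2, mem_bot] at h1
      exact ho h1
    · apply hnc
      refine ⟨⟨fun a b => ?_⟩⟩
      have h3 : b ∈ center G := by rw [h2]; trivial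
      exact mem_center_iff.mp h3 a
  have H : Hyp κ G := ⟨S.sett, S.one, S.ves, S.nobig, fun hy hM => quasisimple_of_B hO hB hy hM⟩
  obtain ⟨v, Y, hv, hvX, hnv, huY, hnu⟩ := S.exists_partner h
  exact isoHe H h (hk h.kind) (core_eq_bot H Kf hcen h hv hvX hnv huY hnu)

end Cfsg.Agent.UGT.I34.FourEnd
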