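import Cfsg.Agent.UGT.I34.FourMain
import Cfsg.Agent.UGT.I34.FourBigOf
import Cfsg.Agent.UGT.I34.FourEnd
import Cfsg.Agent.UGT.I34.KJOf

/-!
# THEOREM I34, part [C] (`Z = 2²`): the main theorem for simple groups with the B-property

`simpleCaseB` : `SimpleCaseB four`.
-/

set_option autoImplicit false

open Cfsg Subgroup
open Cfsg.Agent.UGT.I34.Pair Cfsg.Agent.UGT.I34.KAut Cfsg.Agent.UGT.I34.Cov Cfsg.Agent.UGT.I34.Red
open Cfsg.Agent.UGT.I34.Four Cfsg.Agent.UGT.I34.FourKind Cfsg.Agent.UGT.I34.FourMain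

namespace Cfsg.Agent.UGT.I34.FourB

universe u

/-- the structure of the world -/
theorem str_of {G : Type u} [Group G] [Finite G] [IsSimpleGroup G] (hW : W1A.{u}) (aut : HeAut four.{u})
    (hO : HeOut four.{u}) (W : Four.World four.{u} G) : FourEnd.Str four.{u} G := by
  have N := nz_of hW W
  have hk : ∀ {K : Type u} [Group K] [Finite K], four.P K → Cov.Klein.KleinKind K :=
    fun hK => kleinKind (four_iff.mp hK)
  refine ⟨N.sett, N.one, N.ves, ?_, N.canP⟩
  intro u y X M hu hyy hy1 hyu hf hM hle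
  exact noBig W (HeRecX.heX heKind) aut (KJOf.kj four fun hK => (hk hK).dat) hO
    (fun hK s t hs ht => can_conj_of (hk hK).dat hs ht) (exP W)
    (fun h h' huv hf => hW G W (exP W) h h' huv hf)
    (fun S T h => Cfsg.Agent.S1173.result (oddCore_bot hu) S T h) hu hyy hy1 hyu hf hM hle

/-- **The main theorem for simple groups with the B-property.** -/
theorem simpleCaseB (h2 : SimpleCase.{u} (kind' 2 2 noT)) (hW : W1A.{u}) (aut : HeAut four.{u})
    (hO : HeOut four.{u})
    (mv : ∀ {Y : Type u} [Group Y] [Finite Y] {z : Y} {L : Subgroup Y}, four.T Y z L → IsPair four z L →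
      ∃ y, y * z = z * y ∧ y * y = 1 ∧ ∃ c ∈ L, (∀ l ∈ L, c * l = l * c) ∧ y * c * y⁻¹ ≠ c) :
    SimpleCaseB four.{u} := by
  intro X _ _ _ hB hP z L hp
  exact FourEnd.isoHe_of_str hB (str_of hW aut hO (world_of h2 hP hp))
    ⟨fun hK => (kleinKind (four_iff.mp hK)).dat, mv⟩ (fun hK => four_iff.mp hK) hp

end Cfsg.Agent.UGT.I34.FourB
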