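import Cfsg.Agent.UGT.I34.FourKind
import Cfsg.Agent.UGT.I34.Main
import Cfsg.Agent.FixBN.BRelative

/-!
# THEOREM I34, part [C]: the frame for a kind proved under the B-property

* `below_of_B`: `SimpleCaseB κ` and S1311 below `N` give the theorem for simple groups of order `< N`;
* `bal_of_B`: `SimpleCaseB κ` gives `BalCase κ`;
* `xCase_of_triple`: `TripleCase κ` gives `XCase κ`.
So `ExtCase` is not needed. `Known` is `FixBN.KnownAll.known`.
-/

set_option autoImplicit false

open Cfsg Subgroup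
open Cfsg.Agent.UGT.Iface Cfsg.Agent.UGT.Triple
open Cfsg.Agent.UGT.I34.Pair Cfsg.Agent.UGT.I34.Red Cfsg.Agent.UGT.I34.Cov Cfsg.Agent.UGT.I34.Main
open Cfsg.Agent.UGT.I34.FourKind

namespace Cfsg.Agent.UGT.I34.FourFrame

universe u

theorem below_of_B {κ : Kind.{u}} {N : ℕ} (hk : FixBN.BTheorem.Known.{u}) (h : SimpleCaseB κ)
    (hU : FixBN.BRelative.UgtBelow.{u} N) :
    SimpleBelow κ N := by
  intro X _ _ _ hX hP z L hp
  refine h X ?_ hP z L hp
  exact FixBN.BRelative.hasB_of_lt hU hk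
    (FixBN.BRelative.isComposition_of_isKGroupWith (FixBN.BRelative.isKGroupWith_of_card_lt hX))

/-- a balanced group has the B-property -/
theorem hasB_of_bal {X : Type*} [Group X] (h : ∀ t : X, orderOf t = 2 → centralizerPPrimeCore 2 t = ⊥) :
    HasBProperty X := by
  intro t ht
  have h1 := h t ht
  rw [centralizerPPrimeCore] at h1
  have h2 : oddCore ↥(centralizer ({t} : Set X)) = ⊥ :=
    (Subgroup.map_eq_bot_iff_of_injective _ (Subgroup.subtype_injective _)).mp h1
  rw [h2, commutator_bot_right, Subgroup.map_bot]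
  exact bot_le

theorem bal_of_B {κ : Kind.{u}} (h : SimpleCaseB κ) : BalCase κ := fun X _ _ _ hbal hP z L hp =>
  h X (hasB_of_bal hbal) hP z L hp

theorem xCase_of_triple {κ : Kind.{u}} (h : TripleCase κ) : XCase κ :=
  fun G _ _ _ _ hP x c M hT hp => h G hP x c M hT hp.mem hp.kind

/-- **Assembly of `P34T`**, with the two statements for the kind `2²`. -/
theorem p34_of_B (hk : FixBN.BTheorem.Known.{u}) {T22 : (X : Type u) → [Group X] → X → Subgroup X → Prop}
    (h2 : SimpleCase.{u} (kind' 2 2 noT)) (h4 : ∀ N, Settled'.{u} N 4 2)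
    (h22 : SimpleCaseB.{u} (kind' 4 4 T22)) (h22x : TripleCase.{u} (kind' 4 4 T22)) (hT22 : GoodT.{u} T22)
    (h8 : SimpleCase.{u} (kind' 8 4 noT)) (h16 : SimpleCase.{u} (kind' 16 4 noT)) : P34T.{u} :=
  p34_of (fun _ => settled_of_simple h2 goodT_noT) h4 (fun _ hU => below_of_B hk h22 hU) hT22.nodbl
    (last_of_bal (bal_of_B h22) (xCase_of_triple h22x) hT22) h8 h16

end Cfsg.Agent.UGT.I34.FourFrame
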