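import Cfsg.Agent.UGT.I34.FourMain
import Cfsg.Agent.UGT.I34.FourFrame

/-!
# THEOREM I34, part [C]: `P34T` with the kind `2²` plugged in

`p34_of_B`: the inputs for the kind `2²` are `SimpleCaseB four` and `W1A`. `Known` is `FixBN.KnownAll.known`.
-/

set_option autoImplicit false

open Cfsg Subgroup
open Cfsg.Agent.UGT.I34.Pair Cfsg.Agent.UGT.I34.Red Cfsg.Agent.UGT.I34.Cov Cfsg.Agent.UGT.I34.Main
open Cfsg.Agent.UGT.I34.FourKind Cfsg.Agent.UGT.I34.FourMain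

namespace Cfsg.Agent.UGT.I34.FourBelow

universe u

/-- **Assembly of `P34T`** -/
theorem p34_of_B (hk : FixBN.BTheorem.Known.{u}) (h2 : SimpleCase.{u} (kind' 2 2 noT))
    (h4 : ∀ N, Settled'.{u} N 4 2) (hB : SimpleCaseB.{u} four) (hW : W1A.{u})
    (h8 : SimpleCase.{u} (kind' 8 4 noT)) (h16 : SimpleCase.{u} (kind' 16 4 noT)) : P34T.{u} :=
  FourFrame.p34_of_B hk h2 h4 hB (tripleCase h2 hW) goodT h8 h16

end Cfsg.Agent.UGT.I34.FourBelow
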