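import Cfsg.Agent.UGT.I34.FourDefs

/-!
# THEOREM I34, part [C]: the facts used for "NZ implies no big pump-ups"

* `KJ κ`: `C_{Aut K}(J) = ⟨φ⟩` for `φ` of type `f`, `J = C_K(φ)^∞`;
* `HeAut κ`: automorphisms of the Held group trivial on `L = C(z)^∞` are conjugations by elements of `Z(L)`.
-/

set_option autoImplicit false

open Cfsg Subgroup
open Cfsg.Agent.UGT.I34.Pair Cfsg.Agent.UGT.I34.KAut
open scoped commutatorElement

namespace Cfsg.Agent.UGT.I34.Four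

universe u

/-- `C_{Aut K}(J) = {1, φ}` for `φ` of type `f` -/
structure KJ (κ : Kind.{u}) : Prop where
  cent : ∀ {K : Type u} [Group K] [Finite K], κ.P K → ∀ (φ : MulAut K) (J : Subgroup K), TypeF φ J →
    ∀ ψ : MulAut K, (∀ j ∈ J, ψ j = j) → ψ = 1 ∨ ψ = φ

/-- automorphisms trivial on `L` -/
structure HeAut (κ : Kind.{u}) : Prop where
  aut : ∀ {Y : Type u} [Group Y] [Finite Y] {z : Y} {L : Subgroup Y}, κ.T Y z L → IsPair κ z L →
    ∀ φ : MulAut Y, (∀ l ∈ L, φ l = l) → ∃ c ∈ L, (∀ l ∈ L, c * l = l * c) ∧ ∀ y, φ y = c * y * c⁻¹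

end Cfsg.Agent.UGT.I34.Four
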