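import Cfsg.Agent.UGT.I34.FourDefs
import Cfsg.Agent.UGT.I34.FixLift
import Cfsg.Agent.UGT.ParityPair

/-!
# THEOREM I34, part [C] (`Z = 2²`): the `x`-END (PAR)

`NZ κ G`: the world without pairs of type (0) outside vessels. `XFacts κ Λ`: the facts on the automorphisms of
`K = 2².L₃(4)`; `Λ K` is the subgroup of index two of `Aut K` which contains the inner automorphisms and the graph
automorphisms of type `g`, but not those of type `c`, `f`.

`false_of_triple`: `G` perfect, `NZ κ G`; there is no triple `(x, z, L)` with `z ∈ L`, `(z, L)` a pair of kind `κ`.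

Proof. `x` is of type `c` on `L`. Let `V` be the vessel of `(z, L)`, centralised by `x`. The involutions `d` of pairs
which commute with `x` and `V` are the elements of `V#` and canonical involutions `d ∈ L`. The automorphism `x` is odd on
the pairs over `V#`; it is even on the pairs over the elements `d` of the second kind, since it centralises `V` and
`V#` consists of canonical involutions of the pair over `d`. This contradicts PAR for the 2-group `⟨x⟩ × V`.
-/

set_option autoImplicit false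

open Cfsg Subgroup
open Cfsg.Agent.SignalizersComponents Cfsg.Agent.Lib
open Cfsg.Agent.SignalizersComponents.IntrinsicBasic
open Cfsg.Agent.SignalizersComponents.PLayerAut
open Cfsg.Agent.Intrinsic
open Cfsg.Agent.Intrinsic.Basic hiding IsPair PQS Target IsPair.sq IsPair.ne_one IsPair.cj
open Cfsg.Agent.Intrinsic.Cen hiding pair_comm pair_mem_cen exists_pump pump_unique
open Cfsg.Agent.Intrinsic.Quot hiding Big isPair_quot small_or_big
open Cfsg.Agent.McLLyComp.Act hiding mk_eq_one_iff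
open Cfsg.Agent.UGT.I34.Pair Cfsg.Agent.UGT.I34.KAut Cfsg.Agent.UGT.I34.Four
open Cfsg.Agent.UGT.I34.KF (NInv)
open Cfsg.Agent.UGT.Triple Cfsg.Agent.UGT.Parity Cfsg.Agent.UGT.ParityPair
open scoped commutatorElement

namespace Cfsg.Agent.UGT.I34.FourPar

universe u

/-- The world NZ: the pairs of type (0) are in vessels. -/
structure NZ (κ : Kind.{u}) (G : Type u) [Group G] : Prop where
  sett : Sett κ G
  one : ∀ {u : G} {X X' : Subgroup G}, IsPair κ u X → IsPair κ u X' → X' = X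
  canP : ∀ {u : G} {X : Subgroup G}, IsPair κ u X → ∀ (t : G) (ht : t ∈ X), t * t = 1 →
    Can (QuotientGroup.mk ⟨t, ht⟩ : ↥X ⧸ oddCore ↥X) → ∃ Y, IsPair κ t Y ∧ u ∈ Y
  tri : ∀ {u v : G} {X Y : Subgroup G}, IsPair κ u X → IsPair κ v Y → u * v = v * u →
    Fixes v X ∨ (∃ hv : v ∈ X, Can (QuotientGroup.mk ⟨v, hv⟩ : ↥X ⧸ oddCore ↥X)) ∨
      ∃ hv : v ∈ normalizer (X : Set G), ∃ z ∈ center (↥X ⧸ oddCore ↥X), act X ⟨v, hv⟩ z ≠ z
  ves : ∀ {u v : G} {X Y : Subgroup G}, IsPair κ u X → IsPair κ v Y → u * v = v * u → Fixes v X →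
    v ∈ X

/-- `φ` is an involutory automorphism of type `c` -/
structure IsC {K : Type*} [Group K] (φ : MulAut K) : Prop where
  sq : φ * φ = 1
  out : φ ∉ Inn K
  center : ∀ z ∈ center K, φ z = z

/-- The facts on the automorphisms of `K = 2².L₃(4)`. -/
structure XFacts (κ : Kind.{u}) (Λ : ∀ (K : Type u) [Group K], Set (MulAut K)) : Prop where
  map : ∀ {A B : Type u} [Group A] [Group B] (e : A ≃* B) (φ : MulAut A),
    MulAut.congr e φ ∈ Λ B ↔ φ ∈ Λ A
  mul : ∀ {K : Type u} [Group K] [Finite K], κ.P K → ∀ φ ψ : MulAut K,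
    φ * ψ ∈ Λ K ↔ (φ ∈ Λ K ↔ ψ ∈ Λ K)
  /-- unbalanced involutory automorphisms are of type `c` -/
  unb : ∀ {K : Type u} [Group K] [Finite K], κ.P K → ∀ φ : MulAut K, φ * φ = 1 → φ ≠ 1 →
    ∀ Δ : Subgroup (MulAut K), Odd (Nat.card Δ) → Δ ≠ ⊥ → (∀ δ ∈ Δ, δ * φ = φ * δ) →
    (∀ k, φ k = k → ∀ δ ∈ Δ, MulAut.conj k * δ * (MulAut.conj k)⁻¹ ∈ Δ) → IsC φ
  odd : ∀ {K : Type u} [Group K] [Finite K], κ.P K → ∀ φ : MulAut K, IsC φ → φ ∉ Λ K
  /-- involutory automorphisms of type `c`, `f` do not fix a root subgroup pointwise -/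
  four : ∀ {K : Type u} [Group K] [Finite K], κ.P K → ∀ φ : MulAut K, φ ∉ Λ K → φ * φ = 1 →
    ∀ a b : K, Can a → Can b → Can (a * b) → a * b = b * a → φ a = a → φ b = b → False

/-! ### transport of the action -/

section transport

variable {G : Type u} [Group G]

theorem cjQuot_mk (g : G) (X : Subgroup G) {a : G} (ha : a ∈ X) :
    cjQuot g X (QuotientGroup.mk ⟨a, ha⟩) = QuotientGroup.mk ⟨g * a * g⁻¹, conj_mem_cj ha⟩ := rfl

theorem act_cj {g a : G} {X : Subgroup G} (ha : a ∈ normalizer (X : Set G))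
    (ha' : g * a * g⁻¹ ∈ normalizer (cj g X : Set G)) :
    act (cj g X) ⟨g * a * g⁻¹, ha'⟩ = MulAut.congr (cjQuot g X) (act X ⟨a, ha⟩) := by
  apply MulEquiv.ext
  intro y
  obtain ⟨y, rfl⟩ := (cjQuot g X).surjective y
  obtain ⟨⟨k, hk⟩, rfl⟩ := QuotientGroup.mk_surjective y
  have h1 : MulAut.congr (cjQuot g X) (act X ⟨a, ha⟩) (cjQuot g X (QuotientGroup.mk ⟨k, hk⟩)) =
      cjQuot g X (act X ⟨a, ha⟩ (QuotientGroup.mk ⟨k, hk⟩)) := by
    change cjQuot g X (act X ⟨a, ha⟩ ((cjQuot g X).symm (cjQuot g X (QuotientGroup.mk ⟨k, hk⟩)))) = _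
    rw [MulEquiv.symm_apply_apply]
  rw [h1, act_mk ha hk, cjQuot_mk, cjQuot_mk, act_mk ha' (conj_mem_cj hk)]
  congr 1
  apply Subtype.ext
  change g * a * g⁻¹ * (g * k * g⁻¹) * (g * a * g⁻¹)⁻¹ = g * (a * k * a⁻¹) * g⁻¹
  group

theorem norm_cj {g a : G} {X : Subgroup G} (ha : a ∈ normalizer (X : Set G)) :
    g * a * g⁻¹ ∈ normalizer (cj g X : Set G) := by
  rw [mem_normalizer_iff_cj] at ha ⊢
  rw [← cj_mul, show g * a * g⁻¹ * g = g * a by group, cj_mul, ha]

variable [Finite G]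

/-- `J ⊔ O(X) = X`: the actions on `J / O(J)` and on `X / O(X)` -/
theorem act_sup {J X : Subgroup G} (hs : J ⊔ core X = X) {a : G}
    (haJ : a ∈ normalizer (J : Set G)) (haX : a ∈ normalizer (X : Set G)) :
    ∃ e : (↥J ⧸ oddCore ↥J) ≃* (↥X ⧸ oddCore ↥X),
      (∀ (j : G) (hj : j ∈ J) (hjX : j ∈ X), e (QuotientGroup.mk ⟨j, hj⟩) = QuotientGroup.mk ⟨j, hjX⟩) ∧
      MulAut.congr e (act J ⟨a, haJ⟩) = act X ⟨a, haX⟩ := by
  obtain ⟨e, he⟩ := exists_quotEquiv hs
  have hJ : J ≤ X := by rw [← hs]; exact le_sup_left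
  refine ⟨e, he, ?_⟩
  apply MulEquiv.ext
  intro y
  obtain ⟨y, rfl⟩ := e.surjective y
  obtain ⟨⟨k, hk⟩, rfl⟩ := QuotientGroup.mk_surjective y
  have h1 : MulAut.congr e (act J ⟨a, haJ⟩) (e (QuotientGroup.mk ⟨k, hk⟩)) =
      e (act J ⟨a, haJ⟩ (QuotientGroup.mk ⟨k, hk⟩)) := by
    change e (act J ⟨a, haJ⟩ (e.symm (e (QuotientGroup.mk ⟨k, hk⟩)))) = _
    rw [MulEquiv.symm_apply_apply]
  rw [h1, act_mk haJ hk, he k hk (hJ hk), he _ _ (hJ (conj_mem haJ hk)), act_mk haX (hJ hk)]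

end transport

/-! ### lifting -/

section lift

variable {G : Type u} [Group G]

theorem isPGroup_closure {s : Set G} (h2 : ∀ x ∈ s, x * x = 1) (hc : ∀ x ∈ s, ∀ y ∈ s, x * y = y * x) :
    IsPGroup 2 (closure s) := by
  have h1 : ∀ x ∈ closure s, ∀ y ∈ s, x * y = y * x := by
    intro x hx
    refine closure_induction (p := fun x _ => ∀ y ∈ s, x * y = y * x) (fun x hx y hy => hc x hx y hy)
      (fun y _ => by rw [one_mul, mul_one]) (fun a b _ _ ha hb y hy => ?_) (fun a _ ha y hy => ?_) hx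
    · rw [mul_assoc, hb y hy, ← mul_assoc, ha y hy, mul_assoc]
    · rw [inv_mul_eq_iff_eq_mul, ← mul_assoc, ha y hy, mul_inv_cancel_right]
  have h3 : ∀ x ∈ closure s, ∀ y ∈ closure s, x * y = y * x := by
    intro x hx y hy
    refine closure_induction (p := fun y _ => x * y = y * x) (fun y hy => h1 x hx y hy)
      (by rw [one_mul, mul_one]) (fun a b _ _ ha hb => ?_) (fun a _ ha => ?_) hy
    · rw [← mul_assoc, ha, mul_assoc, hb, mul_assoc]
    · rw [eq_inv_mul_iff_mul_eq, ← mul_assoc, ← ha, mul_inv_cancel_right]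
  have h4 : ∀ x ∈ closure s, x * x = 1 := by
    intro x hx
    refine closure_induction (p := fun x _ => x * x = 1) (fun x hx => h2 x hx)
      (by rw [one_mul]) (fun a b ha' hb' ha hb => ?_) (fun a _ ha => ?_) hx
    · calc a * b * (a * b) = a * (b * a) * b := by group
        _ = (a * a) * (b * b) := by rw [h3 b hb' a ha']; group
        _ = 1 := by rw [ha, hb, one_mul]
    · rw [← mul_inv_rev, ha, inv_one]
  rintro ⟨x, hx⟩
  exact ⟨1, Subtype.ext (by
    change x ^ 2 ^ 1 = 1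
    rw [pow_one, pow_two, h4 x hx])⟩

variable [Finite G] {X : Subgroup G}

/-- lifting involutions fixed by commuting involutions -/
theorem exists_lift_set {s : Set G} (h2 : ∀ x ∈ s, x * x = 1) (hc : ∀ x ∈ s, ∀ y ∈ s, x * y = y * x)
    (hs : ∀ p ∈ s, p ∈ normalizer (X : Set G)) {x : ↥X ⧸ oddCore ↥X}
    (hx : ∀ p (hp : p ∈ s), act X ⟨p, hs p hp⟩ x = x) (hxx : x * x = 1) :
    ∃ a, ∃ ha : a ∈ X, a * a = 1 ∧ (∀ p ∈ s, p * a = a * p) ∧ QuotientGroup.mk ⟨a, ha⟩ = x := by
  have hP := isPGroup_closure h2 hc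
  have hPX : closure s ≤ normalizer (X : Set G) := (closure_le _).mpr hs
  obtain ⟨⟨c, hc⟩, rfl⟩ := QuotientGroup.mk_surjective x
  have key : ∀ p (hp : p ∈ closure s), act X ⟨p, hPX hp⟩ (QuotientGroup.mk ⟨c, hc⟩) =
      QuotientGroup.mk ⟨c, hc⟩ := by
    have h1 : closure s ≤ ((MulAction.stabilizer (MulAut (↥X ⧸ oddCore ↥X))
        (QuotientGroup.mk ⟨c, hc⟩ : ↥X ⧸ oddCore ↥X)).comap (act X)).map
          (normalizer (X : Set G)).subtype := by
      rw [closure_le]
      intro p hp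
      exact ⟨⟨p, hs p hp⟩, hx p hp, rfl⟩
    intro p hp
    obtain ⟨q, hq, hqp⟩ := h1 hp
    have : (⟨p, hPX hp⟩ : ↥(normalizer (X : Set G))) = q := Subtype.ext hqp.symm
    rw [this]; exact hq
  obtain ⟨o, ho, h1⟩ := Lifting.exists_commute_group (odd_card_core X) hP
    (hPX.trans (normalizer_le_normalizer_core X)) (m := c) (fun p hp => by
      have := key p hp
      rw [act_mk (hPX hp) hc] at this
      exact (mk_eq_iff hc (conj_mem (hPX hp) hc)).mp this.symm)
  have hco : c * o ∈ X := mul_mem hc (core_le X ho)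
  have hmk : (QuotientGroup.mk ⟨c * o, hco⟩ : ↥X ⧸ oddCore ↥X) = QuotientGroup.mk ⟨c, hc⟩ := by
    rw [mk_eq_iff]
    have : (c * o)⁻¹ * c = o⁻¹ := by group
    rw [this]
    exact inv_mem ho
  have h2 : (c * o) ^ 2 ^ 1 ∈ core X := by
    rw [← mk_eq_one_iff (pow_mem hco _)]
    have : (QuotientGroup.mk ⟨(c * o) ^ 2 ^ 1, pow_mem hco _⟩ : ↥X ⧸ oddCore ↥X) =
        QuotientGroup.mk ⟨c * o, hco⟩ * QuotientGroup.mk ⟨c * o, hco⟩ := by
      rw [← QuotientGroup.mk_mul]
      congr 1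
      apply Subtype.ext
      change (c * o) ^ 2 ^ 1 = (c * o) * (c * o)
      rw [pow_one, pow_two]
    rw [this, hmk]
    exact hxx
  obtain ⟨k, hk1, hk2⟩ := Lifting.exists_two_part (odd_card_core X) h2
  have hk3 : (c * o) ^ k ∈ X := pow_mem hco k
  rw [pow_one, pow_two] at hk1
  refine ⟨(c * o) ^ k, hk3, hk1, fun p hp => ?_, ?_⟩
  · have h4 : Commute p (c * o) := h1 p (subset_closure hp)
    exact (h4.pow_right k).eq
  · rw [← hmk, mk_eq_iff]
    have := inv_mem hk2
    convert this using 1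
    group

end lift

/-! ### the parity -/

section parity

variable {κ : Kind.{u}} {Λ : ∀ (K : Type u) [Group K], Set (MulAut K)} {G : Type u} [Group G]

variable (κ Λ) in
/-- `g` is even on the pair `P` -/
def ev (P : ParityPair.Pair G) (g : G) : Prop :=
  IsPair κ P.a P.L → ∀ h : g ∈ normalizer (P.L : Set G), act P.L ⟨g, h⟩ ∈ Λ (↥P.L ⧸ oddCore ↥P.L)

instance [Finite G] : Finite (ParityPair.Pair G) :=
  Finite.of_injective (fun P : ParityPair.Pair G => (P.a, P.L)) (by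
    intro P Q h
    exact Pair.ext' (congrArg Prod.fst h) (congrArg Prod.snd h))

theorem ev_iff {u g : G} {X : Subgroup G} (h : IsPair κ u X) (hg : g ∈ normalizer (X : Set G)) :
    ev κ Λ ⟨u, X⟩ g ↔ act X ⟨g, hg⟩ ∈ Λ (↥X ⧸ oddCore ↥X) :=
  ⟨fun h1 => h1 h hg, fun h1 _ _ => h1⟩

theorem isPair_of_cj {u g : G} {X : Subgroup G} (h : IsPair κ (g * u * g⁻¹) (cj g X)) :
    IsPair κ u X := by
  have h1 := h.cj g⁻¹
  rw [cj_inv_cj] at h1
  have e : g⁻¹ * (g * u * g⁻¹) * g⁻¹⁻¹ = u := by group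
  rwa [e] at h1

variable [Finite G]

theorem isParity (F : XFacts κ Λ) : IsParity (G := G) (ev κ Λ) := by
  constructor
  · intro P g h hg hh
    by_cases hp : IsPair κ P.a P.L
    · have hgN := (smul_eq_iff.mp hg).2
      have hhN := (smul_eq_iff.mp hh).2
      have e1 := ev_iff (Λ := Λ) hp (mul_mem hgN hhN)
      have e2 := ev_iff (Λ := Λ) hp hgN
      have e3 := ev_iff (Λ := Λ) hp hhN
      rw [act_mul hgN hhN, F.mul hp.kind] at e1
      change ev κ Λ ⟨P.a, P.L⟩ (g * h) ↔ (ev κ Λ ⟨P.a, P.L⟩ g ↔ ev κ Λ ⟨P.a, P.L⟩ h)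
      rw [e1, e2, e3]
    · have e : ∀ k : G, ev κ Λ P k := fun k h => absurd h hp
      exact ⟨fun _ => ⟨fun _ => e h, fun _ => e g⟩, fun _ => e (g * h)⟩
  · intro P g h hh
    by_cases hp : IsPair κ P.a P.L
    · have hhN := (smul_eq_iff.mp hh).2
      have e1 := ev_iff (Λ := Λ) hp hhN
      have e2 := ev_iff (Λ := Λ) (hp.cj g) (norm_cj hhN)
      rw [act_cj hhN, F.map] at e2
      change ev κ Λ ⟨g * P.a * g⁻¹, cj g P.L⟩ (g * h * g⁻¹) ↔ ev κ Λ ⟨P.a, P.L⟩ h
      rw [e1, e2]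
    · constructor
      · intro _ h1
        exact absurd h1 hp
      · intro _ h1
        exact absurd (isPair_of_cj h1) hp

end parity

/-! ### `x` is of type `c` -/

section typeC

variable {κ : Kind.{u}} {Λ : ∀ (K : Type u) [Group K], Set (MulAut K)} {G : Type u} [Group G]
  [Finite G]

theorem isC_of_triple (F : XFacts κ Λ) {x z : G} {L : Subgroup G} (T : IsTriple x z L)
    (hk : κ.P (↥L ⧸ oddCore ↥L)) : IsC (act L ⟨x, T.x_mem⟩) := by
  have hx2 := sq_of_order T.invx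
  obtain ⟨N, hN⟩ : ∃ N, N = core (centralizer ({x} : Set G)) ⊓ centralizer ({z} : Set G) := ⟨_, rfl⟩
  have hNL : N ≤ normalizer (L : Set G) := fun d hd => by
    rw [hN] at hd
    exact T.mem_normalizer_of_core hd.1 hd.2
  have hNx : ∀ d ∈ N, d * x = x * d := fun d hd => by
    rw [hN] at hd
    exact comm_c (core_le _ hd.1)
  refine F.unb hk _ ?_ ?_ ((N.subgroupOf (normalizer (L : Set G))).map (act L)) ?_ ?_ ?_ ?_
  · rw [← act_mul T.x_mem T.x_mem, act_eq_one_iff, hx2]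
    exact fixes_one L
  · rw [Ne, act_eq_one_iff]
    exact T.not_fixes
  · refine Odd.of_dvd_nat (odd_card_core (centralizer ({x} : Set G))) ?_
    refine (Subgroup.card_map_dvd _ _).trans ?_
    refine (card_comap_dvd_of_injective _ _ (subtype_injective _)).trans ?_
    rw [hN]
    exact card_dvd_of_le inf_le_left
  · intro h
    obtain ⟨d, hd, hdz, hf⟩ := T.bad
    apply hf
    have hdN : d ∈ N := by rw [hN]; exact ⟨hd, hdz⟩
    rw [← act_eq_one_iff (hNL hdN)]
    have h1 : act L ⟨d, hNL hdN⟩ ∈ (N.subgroupOf (normalizer (L : Set G))).map (act L) :=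
      ⟨⟨d, hNL hdN⟩, hdN, rfl⟩
    rwa [h, mem_bot] at h1
  · rintro _ ⟨⟨d, hdL⟩, hd, rfl⟩
    rw [← act_mul hdL T.x_mem, ← act_mul T.x_mem hdL]
    exact act_congr _ (hNx d hd)
  · intro k hk _ hδ
    obtain ⟨⟨d, hdL⟩, hd, rfl⟩ := hδ
    obtain ⟨a, haL, hax, rfl⟩ := FixLift.exists_lift T.x_mem (n := 1)
      (by rw [pow_one, pow_two, hx2]) (show k ∈ fixed (act L ⟨x, T.x_mem⟩) from hk)
    have h1 : MulAut.conj (QuotientGroup.mk ⟨a, haL⟩ : ↥L ⧸ oddCore ↥L) *
        act L ⟨d, hdL⟩ * (MulAut.conj (QuotientGroup.mk ⟨a, haL⟩ : ↥L ⧸ oddCore ↥L))⁻¹ =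
        act L ⟨a * d * a⁻¹, mul_mem (mul_mem (le_normalizer haL) hdL) (inv_mem (le_normalizer haL))⟩ := by
      rw [act_mul (mul_mem (le_normalizer haL) hdL) (inv_mem (le_normalizer haL)),
        act_mul (le_normalizer haL) hdL, act_inv (le_normalizer haL), act_of_mem haL]
    rw [h1]
    refine ⟨⟨a * d * a⁻¹, _⟩, ?_, rfl⟩
    change a * d * a⁻¹ ∈ N
    have hd' : d ∈ N := hd
    rw [hN] at hd' ⊢
    have haz : a ∈ centralizer ({z} : Set G) := T.comp.le haL
    exact ⟨conj_core (mem_c hax) hd'.1, (centralizer ({z} : Set G)).mul_mem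
      ((centralizer ({z} : Set G)).mul_mem haz hd'.2) ((centralizer ({z} : Set G)).inv_mem haz)⟩

end typeC

/-! ### the end -/

section fin

variable {κ : Kind.{u}} {Λ : ∀ (K : Type u) [Group K], Set (MulAut K)} {G : Type u} [Group G]
  [Finite G]

/-- equality of commuting involutions modulo the core -/
theorem eq_of_mk {X : Subgroup G} {a b : G} (ha : a ∈ X) (hb : b ∈ X) (haa : a * a = 1)
    (hbb : b * b = 1) (hab : a * b = b * a)
    (h : (QuotientGroup.mk ⟨a, ha⟩ : ↥X ⧸ oddCore ↥X) = QuotientGroup.mk ⟨b, hb⟩) : a = b :=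
  Lifting.eq_of_commute (odd_card_core X) (n := 1) (m := 1) (by rw [pow_one, pow_two, haa])
    (by rw [pow_one, pow_two, hbb]) hab ((mk_eq_iff ha hb).mp h)

omit [Finite G] in
/-- the unique pair over `u` is normalized by the elements commuting with `u` -/
theorem NZ.norm (W : NZ κ G) {u a : G} {X : Subgroup G} (h : IsPair κ u X) (ha : a * u = u * a) :
    a ∈ normalizer (X : Set G) := by
  have h1 := h.cj a
  rw [ha, mul_inv_cancel_right] at h1
  exact mem_normalizer_iff_cj.mpr (W.one h h1)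

/-- transport of the parity and of canonical involutions to the pairs over the elements of the vessel -/
theorem NZ.vessel (W : NZ κ G) (F : XFacts κ Λ) {x z w : G} {L : Subgroup G} (hp : IsPair κ z L)
    (hxL : x ∈ normalizer (L : Set G)) (hodd : act L ⟨x, hxL⟩ ∉ Λ (↥L ⧸ oddCore ↥L))
    (hw : w ∈ L) (hww : w * w = 1) (hw1 : w ≠ 1) (hf : Fixes w L) (hxw : x * w = w * x) :
    ∃ M, IsPair κ w M ∧ ¬ ev κ Λ ⟨w, M⟩ x ∧ ∀ (t : G) (ht : t ∈ L), t * t = 1 → t * w = w * t →
      Can (QuotientGroup.mk ⟨t, ht⟩ : ↥L ⧸ oddCore ↥L) →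
        ∃ ht' : t ∈ M, Can (QuotientGroup.mk ⟨t, ht'⟩ : ↥M ⧸ oddCore ↥M) := by
  obtain ⟨M, hM, -, hle, hs1, hs2, -⟩ := W.sett.vess hp hw hww hw1 hf
  have hxM := W.norm hM hxw
  have hxJ := mem_normalizer_cen hxL hxw
  obtain ⟨e1, he1, ha1⟩ := act_sup hs1 hxJ hxM
  obtain ⟨e2, he2, ha2⟩ := act_sup hs2 hxJ hxL
  refine ⟨M, hM, ?_, fun t ht htt htw hcan => ?_⟩
  · rw [ev_iff hM hxM, ← ha1, F.map, ← F.map e2, ha2]
    exact hodd
  · have htJ : t ∈ cen L w := mem_cen_of_sq ht htw htt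
    refine ⟨hle htJ, ?_⟩
    rw [← he1 t htJ (hle htJ), Can.map_iff, ← Can.map_iff e2, he2 t htJ ht]
    exact hcan

/-- **The `x`-END**: in the world NZ there is no triple `(x, z, L)` with `z ∈ L`. -/
theorem false_of_triple (F : XFacts κ Λ) (W : NZ κ G) (hG : NoSign G) {x z : G} {L : Subgroup G}
    (T : IsTriple x z L) (hp : IsPair κ z L) : False := by
  have hx2 := sq_of_order T.invx
  have hzx : z * x = x * z := T.comm
  have hφ := isC_of_triple F T hp.kind
  have hodd := F.odd hp.kind _ hφ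
  have hzc : (QuotientGroup.mk ⟨z, hp.mem⟩ : ↥L ⧸ oddCore ↥L) ∈ center (↥L ⧸ oddCore ↥L) :=
    (mk_mem_center_iff hp.mem).mpr (pair_fixes hp)
  obtain ⟨zb, hzb⟩ : ∃ zb : ↥L ⧸ oddCore ↥L, zb = QuotientGroup.mk ⟨z, hp.mem⟩ := ⟨_, rfl⟩
  have hmk1 : ∀ {t : G} (ht : t ∈ L), t * t = 1 → t ≠ 1 →
      (QuotientGroup.mk ⟨t, ht⟩ : ↥L ⧸ oddCore ↥L) ≠ 1 := fun ht htt ht1 h =>
    ht1 (eq_one_of_mem_core_sq ((mk_eq_one_iff ht).mp h) htt)
  have hzb1 : zb ≠ 1 := hzb ▸ hmk1 hp.mem hp.sq hp.ne_one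
  -- the second element of the centre
  obtain ⟨c, hc, hc1, hcz⟩ : ∃ c ∈ center (↥L ⧸ oddCore ↥L), c ≠ 1 ∧ c ≠ zb := by
    by_contra hcon
    push Not at hcon
    have h4 := W.sett.kl.card hp.kind
    have h5 : (Set.univ : Set ↥(center (↥L ⧸ oddCore ↥L))) ⊆ {1, ⟨zb, hzb ▸ hzc⟩} := by
      rintro ⟨x, hx⟩ -
      by_cases hx1 : x = 1
      · left; exact Subtype.ext hx1
      · right; exact Subtype.ext (hcon x hx hx1)
    have h6 := Set.ncard_le_ncard h5 (Set.toFinite _)
    rw [Set.ncard_univ, h4] at h6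
    have h7 := Set.ncard_insert_le (1 : ↥(center (↥L ⧸ oddCore ↥L))) {⟨zb, hzb ▸ hzc⟩}
    rw [Set.ncard_singleton] at h7
    omega
  have hcc := W.sett.kl.sq hp.kind c hc
  -- the vessel
  obtain ⟨a, haL, haa, hsa, hac⟩ := exists_lift_set (X := L) (s := {x}) (by rintro _ rfl; exact hx2)
    (by rintro _ rfl _ rfl; rfl) (by rintro _ rfl; exact T.x_mem) (x := c)
    (by rintro _ rfl; exact hφ.center c hc) hcc
  have hxa : x * a = a * x := hsa x rfl
  have haf : Fixes a L := (mk_mem_center_iff haL).mp (hac ▸ hc)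
  have haz : a * z = z * a := pair_comm hp haL
  have ha1 : a ≠ 1 := by
    rintro rfl
    exact hc1 (hac ▸ rfl)
  have hanz : a ≠ z := by
    rintro rfl
    exact hcz (by rw [hzb, ← hac])
  have hzaL : z * a ∈ L := L.mul_mem hp.mem haL
  have hza2 : z * a * (z * a) = 1 := by
    calc z * a * (z * a) = z * (a * z) * a := by group
      _ = (z * z) * (a * a) := by rw [haz]; group
      _ = 1 := by rw [hp.sq, haa, one_mul]
  have hza1 : z * a ≠ 1 := by
    intro h
    apply hanz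
    have h1 := eq_inv_of_mul_eq_one_right h
    rw [h1, inv_eq_of_mul_eq_one_left hp.sq]
  have hzaf : Fixes (z * a) L := fixes_mul (pair_fixes hp) haf
  have hxza : x * (z * a) = z * a * x := by
    rw [← mul_assoc, ← hzx, mul_assoc, hxa, ← mul_assoc]
  -- the centre
  have hcenter : ∀ y ∈ center (↥L ⧸ oddCore ↥L), y = 1 ∨ y = QuotientGroup.mk ⟨z, hp.mem⟩ ∨
      y = QuotientGroup.mk ⟨a, haL⟩ ∨ y = QuotientGroup.mk ⟨z * a, hzaL⟩ := by
    intro y hy
    by_contra hcon
    push Not at hcon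
    obtain ⟨h0, h1, h2, h3⟩ := hcon
    have h4 := W.sett.kl.card hp.kind
    rw [← hzb] at h1
    rw [hac] at h2
    have hmul : (QuotientGroup.mk ⟨z * a, hzaL⟩ : ↥L ⧸ oddCore ↥L) = zb * c := by
      rw [hzb, ← hac]; rfl
    rw [hmul] at h3
    have h5 : ({1, zb, c, zb * c, y} : Set (↥L ⧸ oddCore ↥L)) ⊆
        ((center (↥L ⧸ oddCore ↥L) : Subgroup _) : Set (↥L ⧸ oddCore ↥L)) := by
      rintro _ (rfl | rfl | rfl | rfl | rfl)
      · exact one_mem _
      · rw [hzb]; exact hzc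
      · exact hc
      · exact mul_mem (hzb ▸ hzc) hc
      · exact hy
    have h6 := Set.ncard_le_ncard h5 (Set.toFinite _)
    have hzbc : zb * c ≠ 1 := by
      rw [← hmul]; exact hmk1 hzaL hza2 hza1
    have h7 : ({1, zb, c, zb * c, y} : Set (↥L ⧸ oddCore ↥L)).ncard = 5 := by
      rw [Set.ncard_insert_of_notMem, Set.ncard_insert_of_notMem, Set.ncard_insert_of_notMem,
        Set.ncard_insert_of_notMem, Set.ncard_singleton]
      · simpa using fun h => h3 h.symm
      · simp only [Set.mem_insert_iff, Set.mem_singleton_iff, not_or]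
        exact ⟨fun h => hzb1 (by simpa using h.symm), fun h => h2 h.symm⟩
      · simp only [Set.mem_insert_iff, Set.mem_singleton_iff, not_or]
        exact ⟨fun h => hcz h.symm, fun h => hc1 (by simpa using h.symm), fun h => h1 h.symm⟩
      · simp only [Set.mem_insert_iff, Set.mem_singleton_iff, not_or]
        exact ⟨fun h => hzb1 h.symm, fun h => hc1 h.symm, fun h => hzbc h.symm, fun h => h0 h.symm⟩
    rw [h7] at h6
    have h8 : ((center (↥L ⧸ oddCore ↥L) : Subgroup _) : Set (↥L ⧸ oddCore ↥L)).ncard = 4 := by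
      rw [← h4]; exact (Nat.card_coe_set_eq _).symm
    rw [h8] at h6
    omega
  -- the pairs over the vessel
  obtain ⟨Ma, hMa, hMao, hMac⟩ := W.vessel F hp T.x_mem hodd haL haa ha1 haf hxa
  obtain ⟨Mc, hMc, hMco, hMcc⟩ := W.vessel F hp T.x_mem hodd hzaL hza2 hza1 hzaf hxza
  -- the pairs over canonical involutions of `L`
  have heven : ∀ {b : G} {Y : Subgroup G} (hbL : b ∈ L),
      Can (QuotientGroup.mk ⟨b, hbL⟩ : ↥L ⧸ oddCore ↥L) → IsPair κ b Y → x * b = b * x → a * b = b * a →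
        ev κ Λ ⟨b, Y⟩ x := by
    intro b Y hbL hbcanL hY hxb hab
    have hb2 := hY.sq
    have hbz : b * z = z * b := pair_comm hp hbL
    obtain ⟨hbMa, hbMac⟩ := hMac b hbL hb2 hab.symm hbcanL
    have hbza : b * (z * a) = z * a * b := by rw [← mul_assoc, hbz, mul_assoc, ← hab, ← mul_assoc]
    obtain ⟨hbMc, hbMcc⟩ := hMcc b hbL hb2 hbza hbcanL
    obtain ⟨Y₁, hY₁, hzY⟩ := W.canP hp b hbL hb2 hbcanL
    rw [W.one hY hY₁] at hzY
    obtain ⟨Y', hY', haY⟩ := W.canP hMa b hbMa hb2 hbMac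
    rw [W.one hY hY'] at haY
    have hback : ∀ {v : G} {X : Subgroup G} (hv : IsPair κ v X) (hvY : v ∈ Y) (hbX : b ∈ X),
        Can (QuotientGroup.mk ⟨b, hbX⟩ : ↥X ⧸ oddCore ↥X) →
          Can (QuotientGroup.mk ⟨v, hvY⟩ : ↥Y ⧸ oddCore ↥Y) := by
      intro v X hv hvY hbX hcan
      rcases W.tri hY hv (pair_comm hv hbX) with h | ⟨_, h⟩ | ⟨hvn, y, hy, hne⟩
      · exfalso
        have h1 := typeZero_symm' hY hv (pair_comm hv hbX) h
        exact hcan.1.2 ((mk_mem_center_iff hbX).mpr h1)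
      · exact h
      · exfalso
        apply hne
        have h1 : act Y ⟨v, hvn⟩ = MulAut.conj (QuotientGroup.mk ⟨v, hvY⟩) := act_of_mem hvY
        rw [h1, MulAut.conj_apply, mem_center_iff.mp hy, mul_assoc, mul_inv_cancel, mul_one]
    have hzYc := hback hp hzY hbL hbcanL
    have haYc := hback hMa haY hbMa hbMac
    have hzaYc := hback hMc (Y.mul_mem hzY haY) hbMc hbMcc
    have hxY := W.norm hY hxb
    rw [ev_iff hY hxY]
    by_contra hno
    refine F.four hY.kind _ hno ?_ (QuotientGroup.mk ⟨z, hzY⟩) (QuotientGroup.mk ⟨a, haY⟩) hzYc haYc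
      hzaYc ?_ ?_ ?_
    · rw [← act_mul hxY hxY, act_eq_one_iff, hx2]
      exact fixes_one Y
    · change (QuotientGroup.mk ⟨z * a, Y.mul_mem hzY haY⟩ : ↥Y ⧸ oddCore ↥Y) =
        QuotientGroup.mk ⟨a * z, Y.mul_mem haY hzY⟩
      congr 1
      exact Subtype.ext haz.symm
    · rw [act_mk hxY hzY]
      congr 1
      exact Subtype.ext (by
        change x * z * x⁻¹ = z
        rw [← hzx, mul_inv_cancel_right])
    · rw [act_mk hxY haY]
      congr 1
      exact Subtype.ext (by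
        change x * a * x⁻¹ = a
        rw [hxa, mul_inv_cancel_right])
  -- the 2-group
  have hTs2 : ∀ t ∈ ({x, z, a} : Set G), t * t = 1 := by
    rintro _ (rfl | rfl | rfl)
    exacts [hx2, hp.sq, haa]
  have hTsc : ∀ t ∈ ({x, z, a} : Set G), ∀ t' ∈ ({x, z, a} : Set G), t * t' = t' * t := by
    rintro _ (rfl | rfl | rfl) _ (rfl | rfl | rfl)
    exacts [rfl, hzx.symm, hxa, hzx, rfl, haz.symm, hxa.symm, haz, rfl]
  have hTx : closure ({x, z, a} : Set G) ≤ centralizer ({x} : Set G) := by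
    rw [closure_le]
    intro t ht
    exact mem_c (hTsc t ht x (by simp))
  have hpar := even_card_fixed hG (isParity (G := G) F) hx2 (isPGroup_closure hTs2 hTsc) hTx
  -- the fixed odd points
  have hoddz : ¬ ev κ Λ ⟨z, L⟩ x := by
    rw [ev_iff hp T.x_mem]; exact hodd
  have hfixp : ∀ {u : G} {X : Subgroup G}, IsPair κ u X → (∀ t ∈ ({x, z, a} : Set G), t * u = u * t) →
      ∀ t ∈ closure ({x, z, a} : Set G), t • (⟨u, X⟩ : ParityPair.Pair G) = ⟨u, X⟩ := by
    intro u X hu hs t ht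
    have h1 : closure ({x, z, a} : Set G) ≤ centralizer ({u} : Set G) := by
      rw [closure_le]
      intro t ht
      exact mem_c (hs t ht)
    have h2 := comm_c (h1 ht)
    exact smul_eq_iff.mpr ⟨h2, W.norm hu h2⟩
  have hset : {P : ParityPair.Pair G | (x • P = P ∧ ¬ ev κ Λ P x) ∧
      ∀ t ∈ closure ({x, z, a} : Set G), t • P = P} = {⟨z, L⟩, ⟨a, Ma⟩, ⟨z * a, Mc⟩} := by
    ext P
    simp only [Set.mem_ofPred_eq, Set.mem_insert_iff, Set.mem_singleton_iff]
    constructor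
    · rintro ⟨⟨-, hno⟩, hfix⟩
      have hP : IsPair κ P.a P.L := by
        by_contra hno'
        exact hno fun h => absurd h hno'
      have hcomm : ∀ t ∈ ({x, z, a} : Set G), t * P.a = P.a * t := fun t ht =>
        (smul_eq_iff.mp (hfix t (subset_closure ht))).1
      have hxP := hcomm x (by simp)
      have hzP := hcomm z (by simp)
      have haP := hcomm a (by simp)
      have huniq : ∀ {w : G} {M : Subgroup G}, IsPair κ w M → P.a = w → P = ⟨w, M⟩ := by
        intro w M hM hw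
        refine Pair.ext' hw ?_
        subst hw
        exact W.one hM hP
      rcases W.tri hp hP hzP with h | ⟨hPL, h⟩ | ⟨hPn, y, hy, hne⟩
      · have hPL := W.ves hp hP hzP h
        have h1 := (mk_mem_center_iff hPL).mpr h
        rcases hcenter _ h1 with h2 | h2 | h2 | h2
        · exact absurd h2 (hmk1 hPL hP.sq hP.ne_one)
        · exact Or.inl (huniq hp (eq_of_mk hPL hp.mem hP.sq hp.sq hzP.symm h2))
        · exact Or.inr (Or.inl (huniq hMa (eq_of_mk hPL haL hP.sq haa haP.symm h2)))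
        · refine Or.inr (Or.inr (huniq hMc (eq_of_mk hPL hzaL hP.sq hza2 ?_ h2)))
          rw [← mul_assoc, ← hzP, mul_assoc, ← haP, mul_assoc]
      · exact absurd (heven hPL h hP hxP haP) hno
      · exfalso
        apply hne
        rcases hcenter y hy with rfl | rfl | rfl | rfl
        · exact map_one _
        · rw [act_mk hPn hp.mem]
          congr 1
          exact Subtype.ext (by
            change P.a * z * P.a⁻¹ = z
            rw [← hzP, mul_inv_cancel_right])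
        · rw [act_mk hPn haL]
          congr 1
          exact Subtype.ext (by
            change P.a * a * P.a⁻¹ = a
            rw [← haP, mul_inv_cancel_right])
        · rw [act_mk hPn hzaL]
          congr 1
          exact Subtype.ext (by
            change P.a * (z * a) * P.a⁻¹ = z * a
            rw [← mul_assoc, ← hzP, mul_assoc z, ← haP, ← mul_assoc, mul_inv_cancel_right])
    · rintro (rfl | rfl | rfl)
      · refine ⟨⟨smul_eq_iff.mpr ⟨hzx.symm, T.x_mem⟩, hoddz⟩, hfixp hp fun t ht => hTsc t ht z (by simp)⟩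
      · refine ⟨⟨smul_eq_iff.mpr ⟨hxa, W.norm hMa hxa⟩, hMao⟩,
          hfixp hMa fun t ht => hTsc t ht a (by simp)⟩
      · refine ⟨⟨smul_eq_iff.mpr ⟨hxza, W.norm hMc hxza⟩, hMco⟩, hfixp hMc fun t ht => ?_⟩
        rw [← mul_assoc, hTsc t ht z (by simp), mul_assoc, hTsc t ht a (by simp), ← mul_assoc]
  have hcard : Nat.card {P : ParityPair.Pair G // (x • P = P ∧ ¬ ev κ Λ P x) ∧
      ∀ t ∈ closure ({x, z, a} : Set G), t • P = P} = 3 := by
    have h1 : Nat.card {P : ParityPair.Pair G // (x • P = P ∧ ¬ ev κ Λ P x) ∧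
        ∀ t ∈ closure ({x, z, a} : Set G), t • P = P} =
        Set.ncard {P : ParityPair.Pair G | (x • P = P ∧ ¬ ev κ Λ P x) ∧
          ∀ t ∈ closure ({x, z, a} : Set G), t • P = P} := rfl
    rw [h1, hset, Set.ncard_insert_of_notMem, Set.ncard_insert_of_notMem, Set.ncard_singleton]
    · simp only [Set.mem_singleton_iff]
      intro h
      have h2 : a = z * a := congrArg ParityPair.Pair.a h
      exact hp.ne_one (right_eq_mul.mp h2)
    · simp only [Set.mem_insert_iff, Set.mem_singleton_iff, not_or]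
      refine ⟨fun h => ?_, fun h => ?_⟩
      · exact hanz (congrArg ParityPair.Pair.a h).symm
      · have h2 : z = z * a := congrArg ParityPair.Pair.a h
        exact ha1 (left_eq_mul.mp h2)
  rw [hcard] at hpar
  exact absurd hpar (by decide)

end fin

end Cfsg.Agent.UGT.I34.FourPar
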