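import Cfsg.Agent.UGT.I34.Zero
import Cfsg.Agent.UGT.SLCore
import Cfsg.Agent.SignalizersComponents.StandardTools

/-!
# Theorem I34, (5.6): world NZ (`D ∩ K_z = {z}`) with big pump-ups

`Rec D L Cc`: `D` the class of `z`, `L u` the intrinsic 2-component of `C(u)`, no pairs of type (0); `Cc u v`: `v` is of
type `c` on `L u`.  `BM d M`: `M` is a 2-component of `C(d)` all of whose involutions are in `D` and fixed by `d` (big
pump-up).  Then every `w ∈ D ∩ C(d)` is in `M` (`mem_of_BM`), hence `D₀ = {x ∈ T | x fixes L z and L e}` is strongly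
closed (`closed`), and S1173 gives a contradiction (`false_of`).  No information about `Aut(M / O(M))` is used.
-/

set_option autoImplicit false

open Cfsg Subgroup
open Cfsg.Agent.SignalizersComponents
open Cfsg.Agent.SignalizersComponents.IntrinsicBasic
open Cfsg.Agent.SignalizersComponents.PLayerAut
open Cfsg.Agent.TwoFusion
open Cfsg.Agent.Intrinsic Cfsg.Agent.Intrinsic.Basic Cfsg.Agent.Intrinsic.Cen Cfsg.Agent.Intrinsic.Diag
open Cfsg.Agent.Intrinsic.WZero (fixes_mul fixes_one fixes_inv fixSub mem_cent mem_fixSub)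
open scoped commutatorElement

namespace Cfsg.Agent.UGT.I34.NZRec

universe u

variable {G : Type u} [Group G]

/-- World W1 of Theorem I34 without pairs of type (0). -/
structure Rec (D : Set G) (L : G → Subgroup G) (Cc : G → G → Prop) : Prop where
  sq : ∀ u ∈ D, u * u = 1
  ne : ∀ u ∈ D, u ≠ 1
  conjD : ∀ u ∈ D, ∀ g : G, g * u * g⁻¹ ∈ D
  L_conj : ∀ u ∈ D, ∀ g : G, L (g * u * g⁻¹) = cj g (L u)
  comp : ∀ u ∈ D, IsComp (centralizer ({u} : Set G)) (L u)
  self_mem : ∀ u ∈ D, u ∈ L u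
  /-- all involutions of `L u` are in `D` -/
  invol : ∀ u ∈ D, ∀ t ∈ L u, t * t = 1 → t ≠ 1 → t ∈ D
  /-- (5.1) -/
  symI : ∀ u ∈ D, ∀ v ∈ D, v ∈ L u → u ∈ L v
  /-- NZ -/
  nz : ∀ u ∈ D, ∀ v ∈ D, v * u = u * v → Fixes v (L u) → v = u
  tri : ∀ u ∈ D, ∀ v ∈ D, v * u = u * v → v ≠ u → v ∈ L u ∨ Cc u v
  symC : ∀ u ∈ D, ∀ v ∈ D, v * u = u * v → Cc u v → Cc v u
  /-- a product of two automorphisms of type `c` is inner -/
  cc : ∀ u ∈ D, ∀ v ∈ D, ∀ w ∈ D, v * u = u * v → w * u = u * w → v * w = w * v → v * w ∈ D →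
    Cc u v → Cc u w → ¬ Cc u (v * w)
  /-- `C_{L u}(v, d)` contains an involution different from `u` -/
  exY : ∀ u ∈ D, ∀ v ∈ D, v * u = u * v → Cc u v → ∀ d : G, d * d = 1 → d * u = u * d → d * v = v * d →
    Fixes d (L u) → ∃ y ∈ L u, y * y = 1 ∧ y ≠ 1 ∧ y ≠ u ∧ y * v = v * y ∧ y * d = d * y

/-- `M` is a big 2-component of `C(d)`. -/
structure BM (D : Set G) (L : G → Subgroup G) (d : G) (M : Subgroup G) : Prop where
  comp : IsComp (centralizer ({d} : Set G)) M
  inD : ∀ a ∈ M, a * a = 1 → a ≠ 1 → a ∈ D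
  fix : ∀ a ∈ M, a * a = 1 → a ≠ 1 → Fixes d (L a)
  cle : ∀ a ∈ M, a * a = 1 → a ≠ 1 → cen (L a) d ≤ M
  two : ∀ a ∈ M, a * a = 1 → a ≠ 1 → ∃ b ∈ M, b * b = 1 ∧ b ≠ 1 ∧ b ≠ a ∧ b * a = a * b

variable {D : Set G} {L : G → Subgroup G} {Cc : G → G → Prop}

theorem Rec.conj_eq (R : Rec D L Cc) {a w : G} (ha : a ∈ D) (hw : w * a = a * w) : cj w (L a) = L a := by
  rw [← R.L_conj a ha w, hw, mul_inv_cancel_right]

theorem Rec.mem_normalizer (R : Rec D L Cc) {a w : G} (ha : a ∈ D) (hw : w * a = a * w) :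
    w ∈ normalizer (L a : Set G) := mem_normalizer_iff_cj.mpr (R.conj_eq ha hw)

theorem sq_conj {a : G} (h : a * a = 1) (g : G) : g * a * g⁻¹ * (g * a * g⁻¹) = 1 := by
  calc g * a * g⁻¹ * (g * a * g⁻¹) = g * (a * a) * g⁻¹ := by group
    _ = 1 := by rw [h]; group

theorem ne_conj {a : G} (h : a ≠ 1) (g : G) : g * a * g⁻¹ ≠ 1 := by
  intro h1
  apply h
  calc a = g⁻¹ * (g * a * g⁻¹) * g := by group
    _ = 1 := by rw [h1]; group

theorem BM.conj (R : Rec D L Cc) {d : G} {M : Subgroup G} (B : BM D L d M) (g : G) :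
    BM D L (g * d * g⁻¹) (cj g M) := by
  have key : ∀ a ∈ cj g M, a * a = 1 → a ≠ 1 → g⁻¹ * a * g ∈ M ∧ g⁻¹ * a * g * (g⁻¹ * a * g) = 1 ∧
      g⁻¹ * a * g ≠ 1 ∧ a = g * (g⁻¹ * a * g) * g⁻¹ := by
    intro a ha haa ha1
    refine ⟨mem_cj.mp ha, ?_, ?_, by group⟩
    · have := sq_conj haa g⁻¹
      rwa [inv_inv] at this
    · have := ne_conj ha1 g⁻¹
      rwa [inv_inv] at this
  refine ⟨?_, ?_, ?_, ?_, ?_⟩
  · have h := B.comp.cj g
    rwa [cj_centralizer] at h
  · intro a ha haa ha1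
    obtain ⟨h1, h2, h3, h4⟩ := key a ha haa ha1
    rw [h4]
    exact R.conjD _ (B.inD _ h1 h2 h3) g
  · intro a ha haa ha1
    obtain ⟨h1, h2, h3, h4⟩ := key a ha haa ha1
    rw [h4, R.L_conj _ (B.inD _ h1 h2 h3)]
    exact (B.fix _ h1 h2 h3).cj g
  · intro a ha haa ha1
    obtain ⟨h1, h2, h3, h4⟩ := key a ha haa ha1
    rw [h4, R.L_conj _ (B.inD _ h1 h2 h3), ← cj_cen]
    exact Subgroup.map_mono (B.cle _ h1 h2 h3)
  · intro a ha haa ha1
    obtain ⟨h1, h2, h3, h4⟩ := key a ha haa ha1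
    obtain ⟨b, hb, hbb, hb1, hba, hc⟩ := B.two _ h1 h2 h3
    refine ⟨g * b * g⁻¹, conj_mem_cj hb, sq_conj hbb g, ne_conj hb1 g, ?_, ?_⟩
    · intro h
      apply hba
      calc b = g⁻¹ * (g * b * g⁻¹) * g := by group
        _ = _ := by rw [h]
    · calc g * b * g⁻¹ * a = g * (b * (g⁻¹ * a * g)) * g⁻¹ := by group
        _ = g * (g⁻¹ * a * g * b) * g⁻¹ := by rw [hc]
        _ = _ := by group

variable [Finite G]

/-- an element of `C(a, d)` fixing the big component fixes `L a` -/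
theorem BM.fixL (R : Rec D L Cc) {d : G} {M : Subgroup G} (B : BM D L d M) (hd : d * d = 1) {a w : G}
    (ha : a ∈ M) (haa : a * a = 1) (ha1 : a ≠ 1) (hwa : w * a = a * w) (hwd : w * d = d * w)
    (hw : Fixes w M) : Fixes w (L a) := by
  have haD := B.inD a ha haa ha1
  have hda : d * a = a * d := (mem_centralizer_singleton_iff.mp (B.comp.le ha)).symm
  have hdC : d ∈ centralizer ({a} : Set G) := mem_cent.mpr hda
  obtain ⟨h1, h2⟩ := isComp_cen (R.comp a haD) hdC hd (B.fix a ha haa ha1)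
  have hwL := R.mem_normalizer haD hwa
  have hwJ : w ∈ normalizer (cen (L a) d : Set G) := mem_normalizer_cen hwL hwd
  refine (fixes_iff_of_sup h2 hwJ hwL).mp ⟨hwJ, fun j hj => ?_⟩
  have hjM := B.cle a ha haa ha1 hj
  have h3 : ⁅w, j⁆ ∈ core M := hw.2 j hjM
  have h4 : ⁅w, j⁆ ∈ cen (L a) d := by
    rw [commutatorElement_def]
    exact mul_mem ((mem_normalizer_iff.mp hwJ j).mp hj) (inv_mem hj)
  have h5 : cen (L a) d ⊓ core M ≤ core (cen (L a) d) := by
    refine le_core inf_le_left ?_ (Odd.of_dvd_nat (odd_card_core M) (card_dvd_of_le inf_le_right))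
    intro x hx
    have e1 : x ∈ normalizer (cen (L a) d : Set G) := le_normalizer hx
    have e2 : x ∈ normalizer (core M : Set G) := le_normalizer_core M (B.cle a ha haa ha1 hx)
    rw [mem_normalizer_iff_cj] at e1 e2 ⊢
    rw [cj_inf, e1, e2]
  exact h5 ⟨h4, h3⟩

/-- no element of `D ∩ C(d)` fixes the big component -/
theorem BM.not_fixes (R : Rec D L Cc) {d : G} {M : Subgroup G} (B : BM D L d M) (hd : d * d = 1) {w : G}
    (hw : w ∈ D) (hwd : w * d = d * w) (hf : Fixes w M) : False := by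
  have h2 : Fact (Nat.Prime 2) := ⟨Nat.prime_two⟩
  have hww := R.sq w hw
  obtain ⟨t, ht⟩ := exists_prime_orderOf_dvd_card' (G := ↥M) 2 B.comp.even
  have htt : (t : G) * t = 1 := by
    have h3 : t * t = 1 := by rw [← pow_two, ← ht, pow_orderOf_eq_one]
    exact congrArg Subtype.val h3
  have ht1 : (t : G) ≠ 1 := by
    intro h
    have h3 : t = 1 := Subtype.ext h
    rw [h3, orderOf_one] at ht
    omega
  have hwp : IsPGroup 2 (zpowers w) := SL.two_isPGroup hww
  -- an involution of `t O(M)` commuting with `w`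
  obtain ⟨a, hta, haa, haw⟩ := SL.exists_fixed_involution (odd_card_core M) hwp htt
    (fun x hx => conj_mem_core (le_normalizer t.2) hx)
    (fun x hx y hy => conj_mem_core ((zpowers_le.mpr hf.1) hx) hy)
    (fun x hx => by
      have h3 : Fixes x M := mem_fixSub.mp ((zpowers_le.mpr (mem_fixSub.mpr hf)) hx)
      have h4 := h3.2 t t.2
      have h5 : (t : G) * (x * t * x⁻¹) = t * ⁅x, (t : G)⁆ * (t : G)⁻¹ := by
        rw [commutatorElement_def]
        have : (t : G)⁻¹ = t := inv_eq_of_mul_eq_one_left htt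
        calc (t : G) * (x * t * x⁻¹) = t * (x * t * x⁻¹) * ((t : G)⁻¹ * (t : G)⁻¹) := by
              rw [this, htt, mul_one]
          _ = _ := by group
      rw [h5]
      exact conj_mem_core (le_normalizer t.2) h4)
  have haM : a ∈ M := by
    have h3 : a = (t : G)⁻¹ * (t * a) := by group
    rw [h3]
    exact M.mul_mem (M.inv_mem t.2) (core_le M hta)
  have ha1 : a ≠ 1 := by
    rintro rfl
    rw [mul_one] at hta
    exact ht1 (eq_one_of_mem_core_sq hta htt)
  have hwa : w * a = a * w := haw w (mem_zpowers w)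
  -- `w` equals every involution of `M` commuting with it
  have key : ∀ b ∈ M, b * b = 1 → b ≠ 1 → w * b = b * w → w = b := by
    intro b hb hbb hb1 hwb
    exact R.nz b (B.inD b hb hbb hb1) w hw hwb (B.fixL R hd hb hbb hb1 hwb hwd hf)
  have h3 := key a haM haa ha1 hwa
  obtain ⟨b, hb, hbb, hb1, hba, hc⟩ := B.two a haM haa ha1
  have h4 := key b hb hbb hb1 (by rw [h3]; exact hc.symm)
  exact hba (by rw [← h4, h3])

/-- **every element of `D ∩ C(d)` is in the big component** -/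
theorem BM.mem (R : Rec D L Cc) {d : G} {M : Subgroup G} (B : BM D L d M) (hd : d * d = 1) {w : G}
    (hw : w ∈ D) (hwd : w * d = d * w) : w ∈ M := by
  have h2 : Fact (Nat.Prime 2) := ⟨Nat.prime_two⟩
  have hww := R.sq w hw
  have hwC : w ∈ centralizer ({d} : Set G) := mem_cent.mpr hwd
  -- `w` normalises `M`
  have hwM : w ∈ normalizer (M : Set G) := by
    rw [mem_normalizer_iff_cj]
    by_contra hne
    have hM' := isComp_cj_of_mem B.comp hwC
    obtain ⟨t, ht⟩ := exists_prime_orderOf_dvd_card' (G := ↥M) 2 B.comp.even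
    have htt : (t : G) * t = 1 := by
      have h3 : t * t = 1 := by rw [← pow_two, ← ht, pow_orderOf_eq_one]
      exact congrArg Subtype.val h3
    have ht1 : (t : G) ≠ 1 := by
      intro h
      have h3 : t = 1 := Subtype.ext h
      rw [h3, orderOf_one] at ht
      omega
    have h3 := R.conjD t (B.inD t t.2 htt ht1) w
    have h4 : w * t * w⁻¹ ∈ cj w M := conj_mem_cj t.2
    exact B.not_fixes R hd h3 (mem_centralizer_singleton_iff.mp (hM'.le h4))
      (B.comp.fixes_of_mem hM' (Ne.symm hne) h4)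
  -- an involution of `M` commuting with `w`
  obtain ⟨a, haM, haa, ha1, hwa⟩ : ∃ a ∈ M, a * a = 1 ∧ a ≠ 1 ∧ w * a = a * w := by
    obtain ⟨a, ha, ha2, hwa⟩ := StandardTools.exists_involution_commute
      (even_iff_two_dvd.mpr B.comp.even) hww hwM
    refine ⟨a, ha, by rw [← pow_two, ← ha2, pow_orderOf_eq_one], ?_, hwa⟩
    rintro rfl
    rw [orderOf_one] at ha2
    omega
  have haD := B.inD a haM haa ha1
  -- elements of `L b` commuting with `d` are in `M`
  have inM : ∀ b ∈ M, b * b = 1 → b ≠ 1 → ∀ x ∈ L b, x * x = 1 → x * d = d * x → x ∈ M := by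
    intro b hb hbb hb1 x hx hxx hxd
    exact B.cle b hb hbb hb1 (mem_cen_of_sq hx hxd hxx)
  by_cases hwa' : w = a
  · rw [hwa']; exact haM
  rcases R.tri a haD w hw hwa hwa' with h | h
  · exact inM a haM haa ha1 w h hww hwd
  have hda : d * a = a * d := (mem_centralizer_singleton_iff.mp (B.comp.le haM)).symm
  obtain ⟨y, hyL, hyy, hy1, hya, hyw, hyd⟩ := R.exY a haD w hw hwa h d hd hda hwd.symm (B.fix a haM haa ha1)
  have hyM := inM a haM haa ha1 y hyL hyy hyd
  have hyD := B.inD y hyM hyy hy1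
  have hya' : y * a = a * y := mem_centralizer_singleton_iff.mp ((R.comp a haD).le hyL)
  have hayM : a * y ∈ M := M.mul_mem haM hyM
  have hay2 : a * y * (a * y) = 1 := by
    calc a * y * (a * y) = a * (y * a) * y := by group
      _ = (a * a) * (y * y) := by rw [hya']; group
      _ = 1 := by rw [haa, hyy, one_mul]
  have hay1 : a * y ≠ 1 := by
    intro h3
    apply hya
    have h4 : a⁻¹ = a := inv_eq_of_mul_eq_one_left haa
    rw [← h4]
    exact (inv_eq_of_mul_eq_one_right h3).symm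
  have hayw : w * (a * y) = a * y * w := by
    calc w * (a * y) = w * a * y := by group
      _ = a * (w * y) := by rw [hwa]; group
      _ = a * (y * w) := by rw [← hyw]
      _ = _ := by group
  by_cases hwy' : w = y
  · rw [hwy']; exact hyM
  by_cases hway' : w = a * y
  · rw [hway']; exact hayM
  rcases R.tri y hyD w hw hyw.symm hwy' with h3 | h3
  · exact inM y hyM hyy hy1 w h3 hww hwd
  have hayD := B.inD _ hayM hay2 hay1
  rcases R.tri (a * y) hayD w hw hayw hway' with h4 | h4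
  · exact inM _ hayM hay2 hay1 w h4 hww hwd
  exfalso
  exact R.cc w hw a haD y hyD hwa.symm hyw hya'.symm hayD (R.symC a haD w hw hwa h)
    (R.symC y hyD w hw hyw.symm h3) (R.symC _ hayD w hw hayw h4)

/-- a strongly closed subgroup cannot act trivially on a 2-component (`h1173` = statement S1173 for `G`) -/
theorem false_of_closed [IsSimpleGroup G] {H X A : Subgroup G} (hXC : IsComp H X) (T : Sylow 2 G)
    (hA : IsStronglyClosed A (T : Subgroup G)) (hfix : ∀ a ∈ A, Fixes a X) {u : G} (huA : u ∈ A) (hu1 : u ≠ 1)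
    (h1173 : ∀ (S : Sylow 2 G) (T : Subgroup G), IsStronglyClosed T (S : Subgroup G) →
      ((⨅ n : ℕ, derivedSeries ↥(centralizer (T : Set G)) n).map
        (centralizer (T : Set G)).subtype).Normal) : False := by
  have hp2 : Fact (Nat.Prime 2) := ⟨Nat.prime_two⟩
  have hn := h1173 T A hA
  rw [CentResidual.map_iInf_derivedSeries] at hn
  have hA2 : IsPGroup 2 A := T.isPGroup'.to_le hA.1
  have hodd := odd_card_core X
  have hAn : A ≤ normalizer (core X : Set G) := fun a ha =>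
    normalizer_le_normalizer_core X (hfix a ha).1
  rcases hn.eq_bot_or_eq_top with hb | ht
  · -- `C_G(A)` is solvable
    set C : Subgroup G := X ⊓ centralizer (A : Set G) with hC
    have hcov : C ⊔ core X = X := by
      refine sup_of_exists inf_le_left fun x hx => ?_
      obtain ⟨o, ho, hc⟩ := Lifting.exists_commute_group hodd hA2 hAn (m := x) fun a ha =>
        (fixes_iff_conj.mp (hfix a ha)).2 x hx
      refine ⟨x * o, ⟨mul_mem hx (core_le X ho), ?_⟩, ?_⟩
      · exact mem_centralizer_iff.mpr hc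
      · rw [mul_inv_rev, mul_assoc, inv_mul_cancel, mul_one]
        exact inv_mem ho
    have hPC : CentResidual.PR C = ⊥ := by
      rw [eq_bot_iff, ← hb]
      exact CentResidual.PR_mono inf_le_right
    -- image of `C` in `X / O(X)`
    obtain ⟨π, hπ⟩ : ∃ π, π = QuotientGroup.mk' (oddCore ↥X) := ⟨_, rfl⟩
    have h1 : ((C.subgroupOf X).map π) = ⊤ := by
      rw [eq_top_iff]
      rintro q -
      obtain ⟨⟨x, hx⟩, rfl⟩ : ∃ x, π x = q := by rw [hπ]; exact QuotientGroup.mk'_surjective _ q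
      obtain ⟨j, hj, hjx⟩ := exists_mul_of_sup hcov hx
      refine ⟨⟨j, hj.1⟩, hj, ?_⟩
      rw [hπ]
      exact QuotientGroup.eq.mpr ((mem_core_iff (mul_mem (inv_mem hj.1) hx)).mp hjx)
    have h2 : CentResidual.PR (C.subgroupOf X) = ⊥ := by
      have h3 := CentResidual.map_subtype_PR X (C.subgroupOf X)
      rw [subgroupOf_map_subtype, inf_of_le_left (inf_le_left : C ≤ X), hPC] at h3
      exact (map_eq_bot_iff_of_injective _ X.subtype_injective).mp h3
    have h3 := CentResidual.map_PR π (C.subgroupOf X)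
    rw [h1, h2, Subgroup.map_bot] at h3
    have hq : IsQuasisimple (↥X ⧸ oddCore ↥X) := (Red.tc_iff.mp hXC.tc).2.2.2
    have h4 : (⊤ : Subgroup (↥X ⧸ oddCore ↥X)) ≤ ⁅(⊤ : Subgroup (↥X ⧸ oddCore ↥X)), ⊤⁆ := by
      have := hq.1.1
      rw [← _root_.commutator_def, this]
    rw [CentResidual.PR_eq_self h4] at h3
    have h5 : core X = X := by
      apply le_antisymm (core_le X)
      intro x hx
      rw [mem_core_iff hx, ← QuotientGroup.eq_one_iff, ← mem_bot, h3]
      exact mem_top _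
    exact hXC.not_odd hodd h5.ge
  · have hCtop : centralizer (A : Set G) = ⊤ := by
      rw [eq_top_iff, ← ht]
      exact CentResidual.PR_le _
    have huZ : u ∈ center G := by
      rw [mem_center_iff]
      intro g
      have hg : g ∈ centralizer (A : Set G) := by rw [hCtop]; trivial
      exact ((mem_centralizer_iff.1 hg) u huA).symm
    have hZn : (center G).Normal := inferInstance
    rcases hZn.eq_bot_or_eq_top with h1 | h1
    · rw [h1, mem_bot] at huZ
      exact hu1 huZ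
    · apply hXC.ne_bot
      rw [← hXC.perfect, eq_bot_iff, commutator_le]
      intro a _ b _
      rw [mem_bot, commutatorElement_eq_one_iff_mul_comm]
      have hb : b ∈ center G := by rw [h1]; trivial
      exact mem_center_iff.1 hb a

/-- `D₀ = {x ∈ T | x fixes L z and L e}` -/
def D0 (L : G → Subgroup G) (T : Subgroup G) (z e : G) : Subgroup G := T ⊓ (fixSub (L z) ⊓ fixSub (L e))

omit [Finite G] in
theorem mem_D0 {T : Subgroup G} {z e x : G} : x ∈ D0 L T z e ↔ x ∈ T ∧ Fixes x (L z) ∧ Fixes x (L e) := Iff.rfl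

/-- The Sylow group `T` of `C(z)` and the big pump-ups of the involutions of `D₀`. -/
structure Big (D : Set G) (L : G → Subgroup G) (T : Sylow 2 G) (z e : G) : Prop where
  zD : z ∈ D
  eL : e ∈ L z
  ee : e * e = 1
  e1 : e ≠ 1
  eT : e ∈ (T : Subgroup G)
  Tz : ∀ x ∈ (T : Subgroup G), x * z = z * x
  ne : ∃ x ∈ D0 L (T : Subgroup G) z e, x ≠ 1
  big : ∀ d ∈ D0 L (T : Subgroup G) z e, d * d = 1 → d ≠ 1 → ∃ M, BM D L d M ∧
    ∀ x ∈ D0 L (T : Subgroup G) z e, (∃ n : ℕ, x ^ n = d) → Fixes x M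

omit [Finite G] in
/-- a nontrivial 2-element has a power of order 2 -/
theorem exists_pow_inv {x : G} {k : ℕ} (hx : x ^ 2 ^ k = 1) (hx1 : x ≠ 1) :
    ∃ n : ℕ, x ^ n * x ^ n = 1 ∧ x ^ n ≠ 1 := by
  induction k with
  | zero => exact absurd (by simpa using hx) hx1
  | succ k ih =>
    by_cases h : x ^ 2 ^ k = 1
    · exact ih h
    · refine ⟨2 ^ k, ?_, h⟩
      rw [← pow_add, ← two_mul, ← pow_succ', hx]

/-- **`D₀` is strongly closed in `T`.** -/
theorem closed (R : Rec D L Cc) {T : Sylow 2 G} {z e : G} (B : Big D L T z e) :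
    IsStronglyClosed (D0 L (T : Subgroup G) z e) (T : Subgroup G) := by
  refine ⟨inf_le_left, fun x hx g hg => ?_⟩
  obtain ⟨hxT, hxz, hxe⟩ := mem_D0.mp hx
  by_cases hx1 : x = 1
  · rw [hx1, mul_one, mul_inv_cancel]; exact one_mem _
  obtain ⟨k, hk⟩ := T.isPGroup' ⟨x, hxT⟩
  have hk' : x ^ 2 ^ k = 1 := congrArg Subtype.val hk
  obtain ⟨n, hn, hn1⟩ := exists_pow_inv hk' hx1
  obtain ⟨M, BM0, hM⟩ := B.big (x ^ n) (pow_mem hx n) hn hn1
  have hf := hM x hx ⟨n, rfl⟩
  have BM1 := BM0.conj R g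
  have hf1 : Fixes (g * x * g⁻¹) (cj g M) := hf.cj g
  have hdd : g * x ^ n * g⁻¹ * (g * x ^ n * g⁻¹) = 1 := sq_conj hn g
  have hpow : g * x ^ n * g⁻¹ = (g * x * g⁻¹) ^ n := by rw [conj_pow]
  have hdT : g * x ^ n * g⁻¹ ∈ (T : Subgroup G) := by rw [hpow]; exact pow_mem hg n
  have hz1 := R.ne z B.zD
  have hzz := R.sq z B.zD
  have hzM : z ∈ cj g M := BM1.mem R hdd B.zD (B.Tz _ hdT).symm
  have hxd : g * x * g⁻¹ * (g * x ^ n * g⁻¹) = g * x ^ n * g⁻¹ * (g * x * g⁻¹) := by
    rw [hpow]; exact (pow_mul_comm' _ _).symm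
  have hfz : Fixes (g * x * g⁻¹) (L z) := BM1.fixL R hdd hzM hzz hz1 (B.Tz _ hg) hxd hf1
  -- elements of `T` fixing `L z` commute with `e`
  have hcomm : ∀ y ∈ (T : Subgroup G), Fixes y (L z) → y * e = e * y := by
    intro y hy hfy
    have h1 : ⁅y, e⁆ ∈ core (L z) := hfy.2 e B.eL
    have h2 : ⁅y, e⁆ ∈ (T : Subgroup G) := by
      rw [commutatorElement_def]
      exact mul_mem (mul_mem (mul_mem hy B.eT) (inv_mem hy)) (inv_mem B.eT)
    obtain ⟨j, hj⟩ := T.isPGroup' ⟨_, h2⟩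
    have h3 := eq_one_of_mem_core h1 (congrArg Subtype.val hj : ⁅y, e⁆ ^ 2 ^ j = 1)
    exact commutatorElement_eq_one_iff_mul_comm.mp h3
  have hxe' := hcomm _ hg hfz
  have hde : e * (g * x ^ n * g⁻¹) = g * x ^ n * g⁻¹ * e := by
    rw [hpow]
    exact ((Commute.pow_left (show Commute (g * x * g⁻¹) e from hxe') n).eq).symm
  have heM : e ∈ cj g M := BM1.cle z hzM hzz hz1 (mem_cen_of_sq B.eL hde B.ee)
  have hfe : Fixes (g * x * g⁻¹) (L e) := BM1.fixL R hdd heM B.ee B.e1 hxe' hxd hf1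
  exact mem_D0.mpr ⟨hg, hfz, hfe⟩

/-- **World NZ with big pump-ups does not exist.** -/
theorem false_of [IsSimpleGroup G] (R : Rec D L Cc) {T : Sylow 2 G} {z e : G} (B : Big D L T z e)
    (h1173 : ∀ (S : Sylow 2 G) (T : Subgroup G), IsStronglyClosed T (S : Subgroup G) →
      ((⨅ n : ℕ, derivedSeries ↥(centralizer (T : Set G)) n).map
        (centralizer (T : Set G)).subtype).Normal) : False := by
  obtain ⟨x, hx, hx1⟩ := B.ne
  exact false_of_closed (R.comp z B.zD) T (closed R B) (fun a ha => (mem_D0.mp ha).2.1) hx hx1 h1173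

end Cfsg.Agent.UGT.I34.NZRec
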