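import Cfsg.Agent.UGT.I34.FourTF
import Cfsg.Agent.UGT.I34.FourPar
import Cfsg.Agent.UGT.I34.FourBigDefs
import Cfsg.Agent.UGT.I34.HeP.Base
import Cfsg.Agent.UGT.I34.NZRec

/-!
# THEOREM I34, part [C] (`Z = 2²`): NZ implies no big pump-ups

`NB κ G`: the world in which every pair of type (0) is in a vessel, with the K-facts used.
`BM κ d M`: `M` is a big pump-up of a pair in `C(d)`; `Pt κ d M w Y`: `(w, Y)` is a pair, `w ∈ C(d)`, `d` fixes `Y` and
`cen Y d ≤ M`.

* (1) `BM.pt`: every pair `(w, Y)` with `w ∈ C(d)` is in `Pt κ d M w Y`;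
* (2) `BM.fixes`: commuting `d`, `d'` with big pump-ups `M`, `M'`: `d'` fixes `M`;
* (3) `BM.mul`: and `d d'` has a big pump-up;
* (4) `BM.comm`: `d` and `w` commute if they are in a common 2-group.
-/

set_option autoImplicit false

open Cfsg Subgroup
open Cfsg.Agent.SignalizersComponents Cfsg.Agent.Lib
open Cfsg.Agent.SignalizersComponents.IntrinsicBasic
open Cfsg.Agent.SignalizersComponents.PLayerAut
open Cfsg.Agent.Intrinsic
open Cfsg.Agent.Intrinsic.Basic hiding IsPair PQS Target IsPair.sq IsPair.ne_one IsPair.cj exists_pumpup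
open Cfsg.Agent.Intrinsic.Cen hiding pair_comm pair_mem_cen exists_pump pump_unique
open Cfsg.Agent.Intrinsic.Quot hiding Big isPair_quot small_or_big
open Cfsg.Agent.McLLyComp.Act hiding mk_eq_one_iff
open Cfsg.Agent.UGT.I34.Pair Cfsg.Agent.UGT.I34.KAut Cfsg.Agent.UGT.I34.Four
open Cfsg.Agent.UGT.I34.KF (NInv)
open Cfsg.Agent.UGT.I34.FourPar (exists_lift_set isPGroup_closure eq_of_mk)
open Cfsg.Agent.UGT.I34.HeP (HeX exists_core_comm exists_core_conj big_core_le)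
open scoped commutatorElement

namespace Cfsg.Agent.UGT.I34.FourBig

universe u

/-- The world NZ with its K-facts. -/
structure NB (κ : Kind.{u}) (G : Type u) [Group G] : Prop where
  sett : Sett κ G
  hex : HeX κ
  aut : HeAut κ
  kj : KJ κ
  one : ∀ {u : G} {X X' : Subgroup G}, IsPair κ u X → IsPair κ u X' → X' = X
  can : ∀ {u : G} {X : Subgroup G}, IsPair κ u X → ∀ (t : G) (ht : t ∈ X), t * t = 1 →
    Can (QuotientGroup.mk ⟨t, ht⟩ : ↥X ⧸ oddCore ↥X) → ∃ Y, IsPair κ t Y ∧ u ∈ Y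
  ves : ∀ {u v : G} {X Y : Subgroup G}, IsPair κ u X → IsPair κ v Y → u * v = v * u → Fixes v X →
    v ∈ X
  tri : ∀ {u v : G} {X Y : Subgroup G}, IsPair κ u X → IsPair κ v Y → u * v = v * u →
    Fixes v X ∨ (∃ hv : v ∈ X, Can (QuotientGroup.mk ⟨v, hv⟩ : ↥X ⧸ oddCore ↥X)) ∨
      ∃ (ho : IsOut v X) (ho' : IsOut u Y) (J : Subgroup (↥X ⧸ oddCore ↥X))
        (J' : Subgroup (↥Y ⧸ oddCore ↥Y)) (C : Subgroup G), TypeF (act X ⟨v, ho.1⟩) J ∧
          TypeF (act Y ⟨u, ho'.1⟩) J' ∧ Over u v X C J ∧ Over v u Y C J'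

/-- `M` is a big pump-up in `C(d)`. -/
structure BM (κ : Kind.{u}) {G : Type u} [Group G] (d : G) (M : Subgroup G) : Prop where
  dd : d * d = 1
  d1 : d ≠ 1
  comp : IsComp (centralizer ({d} : Set G)) M
  ex : ∃ u X, IsPair κ u X ∧ u * d = d * u ∧ Fixes d X ∧ cen X d ≤ M ∧ Big κ u (cen X d) M

/-- `(w, Y)` is a pair below `M`. -/
structure Pt (κ : Kind.{u}) {G : Type u} [Group G] (d : G) (M : Subgroup G) (w : G) (Y : Subgroup G) :
    Prop where
  pair : IsPair κ w Y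
  comm : w * d = d * w
  fix : Fixes d Y
  le : cen Y d ≤ M

section basic

variable {κ : Kind.{u}} {G : Type u} [Group G] {d e w t a x : G} {M N Y Z : Subgroup G}

theorem Pt.mem (P : Pt κ d M w Y) : w ∈ M := P.le (pair_mem_cen P.pair P.comm.symm)

/-- involutions of `Y` commuting with `d` are in `M` -/
theorem Pt.mem_of (P : Pt κ d M w Y) (ht : t ∈ Y) (htt : t * t = 1) (htd : t * d = d * t) : t ∈ M :=
  P.le (mem_cen_of_sq ht htd htt)

theorem NB.norm (W : NB κ G) (h : IsPair κ w Y) (ha : a * w = w * a) :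
    a ∈ normalizer (Y : Set G) := by
  have h1 := h.cj a
  rw [ha, mul_inv_cancel_right] at h1
  exact mem_normalizer_iff_cj.mpr (W.one h h1)

variable [Finite G]

omit [Finite G] in
theorem mem_ce {x y : G} (h : x * y = y * x) : x ∈ centralizer ({y} : Set G) :=
  mem_centralizer_singleton_iff.mpr h

theorem Pt.facts (P : Pt κ d M w Y) (hd : d * d = 1) :
    IsComp (centralizer ({w} : Set G) ⊓ centralizer ({d} : Set G)) (cen Y d) ∧
      cen Y d ⊔ core Y = Y ∧ κ.P (↥(cen Y d) ⧸ oddCore ↥(cen Y d)) := by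
  obtain ⟨h1, h2⟩ := isComp_cen P.pair.comp (mem_ce P.comm.symm) hd P.fix
  exact ⟨h1, h2, (kind_cen (κ := κ) P.pair.comp (mem_ce P.comm.symm) hd P.fix).mpr P.pair.kind⟩

/-- the configuration in `M / O(M)` -/
theorem big_config (hd : d * d = 1) (hM : IsComp (centralizer ({d} : Set G)) M) (P : Pt κ d M w Y)
    (hb : Big κ w (cen Y d) M) :
    κ.T (↥M ⧸ oddCore ↥M) (QuotientGroup.mk ⟨w, P.mem⟩) (qs M (cen Y d)) ∧
      IsPair κ (QuotientGroup.mk ⟨w, P.mem⟩ : ↥M ⧸ oddCore ↥M) (qs M (cen Y d)) := by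
  obtain ⟨h1, -, h3⟩ := P.facts hd
  rw [inf_comm] at h1
  obtain ⟨h4, h5, h6⟩ := Sett.big_pair hb P.pair.inv (pair_mem_cen P.pair P.comm.symm) h1 h3 hM P.le
  exact ⟨h5, h6⟩

omit [Finite G] in
theorem BM.exists_pt (B : BM κ d M) : ∃ u X, Pt κ d M u X ∧ Big κ u (cen X d) M := by
  obtain ⟨u, X, h1, h2, h3, h4, h5⟩ := B.ex
  exact ⟨u, X, ⟨h1, h2, h3, h4⟩, h5⟩

/-- `M / O(M)` has trivial centre -/
theorem BM.not_fixes (S : Sett κ G) (B : BM κ d M) (ha : a ∈ M) (haa : a * a = 1) (ha1 : a ≠ 1) :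
    ¬ Fixes a M := by
  obtain ⟨u, X, P, hb⟩ := B.exists_pt
  obtain ⟨h5, h6⟩ := big_config B.dd B.comp P hb
  intro hf
  have h1 : (QuotientGroup.mk ⟨a, ha⟩ : ↥M ⧸ oddCore ↥M) ∈ center (↥M ⧸ oddCore ↥M) :=
    (mk_mem_center_iff ha).mpr hf
  rw [S.he.center h5 h6, mem_bot, Cfsg.Agent.Intrinsic.Quot.mk_eq_one_iff] at h1
  exact ha1 (eq_one_of_mem_core_sq h1 haa)

/-- two 2-components of `C(d)` with a common involution are equal -/
theorem BM.eq_of_mem (S : Sett κ G) (B : BM κ d M) (hN : IsComp (centralizer ({d} : Set G)) N)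
    (ha : a ∈ M) (haN : a ∈ N) (haa : a * a = 1) (ha1 : a ≠ 1) : N = M := by
  by_contra hne
  exact B.not_fixes S ha haa ha1 (B.comp.fixes_of_mem hN (Ne.symm hne) haN)

/-- every pair below a big component is big -/
theorem BM.big (S : Sett κ G) (B : BM κ d M) (P : Pt κ d M w Y) : Big κ w (cen Y d) M := by
  obtain ⟨h1, -, h3⟩ := P.facts B.dd
  rw [inf_comm] at h1
  have hwJ := pair_mem_cen P.pair P.comm.symm
  rcases S.small_or_big B.dd B.d1 P.pair.inv hwJ h1 h3 B.comp P.le with h | h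
  · exfalso
    refine B.not_fixes S P.mem P.pair.sq P.pair.ne_one (Small.fixes h hwJ fun y hy => ?_)
    exact mem_ce (pair_comm P.pair (cen_le Y d hy))
  · exact h

/-- `x ∈ C(w, d)` fixing `M` fixes `Y` -/
theorem Pt.fixes (W : NB κ G) (P : Pt κ d M w Y) (hd : d * d = 1) (hxw : x * w = w * x)
    (hxd : x * d = d * x) (hx : Fixes x M) : Fixes x Y := by
  obtain ⟨-, h2, -⟩ := P.facts hd
  have hxY := W.norm P.pair hxw
  have hxJ := mem_normalizer_cen hxY hxd
  exact (fixes_iff_of_sup h2 hxJ hxY).mp (Four.fixes_of_le P.le hxJ hx)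

omit [Finite G] in
/-- conjugation by elements of `M` -/
theorem Pt.conj (hM : M ≤ centralizer ({d} : Set G)) (P : Pt κ d M w Y) {m : G} (hm : m ∈ M) :
    Pt κ d M (m * w * m⁻¹) (cj m Y) := by
  have hmd : m * d * m⁻¹ = d := by
    rw [mem_centralizer_singleton_iff.mp (hM hm), mul_inv_cancel_right]
  refine ⟨P.pair.cj m, ?_, ?_, ?_⟩
  · calc m * w * m⁻¹ * d = m * w * m⁻¹ * (m * d * m⁻¹) := by rw [hmd]
      _ = m * (w * d) * m⁻¹ := by group
      _ = m * (d * w) * m⁻¹ := by rw [P.comm]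
      _ = (m * d * m⁻¹) * (m * w * m⁻¹) := by group
      _ = _ := by rw [hmd]
  · have := P.fix.cj m
    rwa [hmd] at this
  · have h1 := cj_cen m Y d
    rw [hmd] at h1
    rw [← h1]
    calc cj m (cen Y d) ≤ cj m M := cj_mono P.le
      _ = M := cj_eq_self_of_mem hm

omit [Finite G] in
theorem Pt.congr (W : NB κ G) (P : Pt κ d M w Y) (h : IsPair κ w Z) : Pt κ d M w Z := by
  rw [W.one P.pair h]; exact P

end basic

section steps

variable {κ : Kind.{u}} {G : Type u} [Group G] [Finite G] {d e w t a b x i v : G}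
  {M N Y Z X M' : Subgroup G}

omit [Finite G] in
theorem not_fixes_of_can (ht : t ∈ Y) (h : Can (QuotientGroup.mk ⟨t, ht⟩ : ↥Y ⧸ oddCore ↥Y)) :
    ¬ Fixes t Y := fun hf => h.1.2 ((mk_mem_center_iff ht).mpr hf)

/-- canonical involutions of `Y` commuting with `d` -/
theorem Pt.can (W : NB κ G) (B : BM κ d M) (P : Pt κ d M w Y) (ht : t ∈ Y) (htt : t * t = 1)
    (hcan : Can (QuotientGroup.mk ⟨t, ht⟩ : ↥Y ⧸ oddCore ↥Y)) (htd : t * d = d * t)
    (hZ : IsPair κ t Z) : Pt κ d M t Z := by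
  obtain ⟨-, hs, -⟩ := P.facts B.dd
  obtain ⟨h5, h6⟩ := big_config B.dd B.comp P (B.big W.sett P)
  obtain ⟨e1, he1⟩ := exists_quotEquiv hs
  obtain ⟨e2, he2⟩ := exists_qs_equiv P.le
  have htJ : t ∈ cen Y d := mem_cen_of_sq ht htd htt
  have hcJ : Can (QuotientGroup.mk ⟨t, htJ⟩ : ↥(cen Y d) ⧸ oddCore ↥(cen Y d)) := by
    rw [← Can.map_iff e1, he1 t htJ ht]
    exact hcan
  have hcq := Can.map e2 hcJ
  rw [he2 t htJ] at hcq
  obtain ⟨g, hg, -⟩ := W.sett.he.can h5 h6 _ _ hcq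
  obtain ⟨⟨k, hk⟩, rfl⟩ := QuotientGroup.mk_surjective g
  have hkw : k * w * k⁻¹ ∈ M := M.mul_mem (M.mul_mem hk P.mem) (M.inv_mem hk)
  have htM : t ∈ M := P.le htJ
  obtain ⟨o, ho, h⟩ := exists_core_conj hkw htM (by
    calc k * w * k⁻¹ * (k * w * k⁻¹) = k * (w * w) * k⁻¹ := by group
      _ = 1 := by rw [P.pair.sq]; group) htt hg
  have hP := P.conj B.comp.le (M.mul_mem (core_le M ho) hk)
  have e : o * k * w * (o * k)⁻¹ = t := by rw [← h]; group
  rw [e] at hP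
  exact hP.congr W hZ

/-- (HE1): a pair below `M` commuting with `w` -/
theorem BM.exists_comm (W : NB κ G) (B : BM κ d M) (hw : w ∈ normalizer (M : Set G)) (hww : w * w = 1) :
    ∃ a Y, Pt κ d M a Y ∧ a * w = w * a := by
  obtain ⟨u, X, P, hb⟩ := B.exists_pt
  obtain ⟨h5, h6⟩ := big_config B.dd B.comp P hb
  obtain ⟨g, hg⟩ := W.hex.fix h5 h6 (act M ⟨w, hw⟩) (by
    rw [← act_mul hw hw, act_eq_one_iff, hww]
    exact fixes_one M)
  obtain ⟨⟨k, hk⟩, rfl⟩ := QuotientGroup.mk_surjective g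
  have hku : k * u * k⁻¹ ∈ M := M.mul_mem (M.mul_mem hk P.mem) (M.inv_mem hk)
  have h1 : act M ⟨w, hw⟩ (QuotientGroup.mk ⟨k * u * k⁻¹, hku⟩) = QuotientGroup.mk ⟨k * u * k⁻¹, hku⟩ := hg
  rw [act_mk hw hku] at h1
  have h2 := (mk_eq_iff hku (conj_mem hw hku)).mp h1.symm
  obtain ⟨o, ho, hc⟩ := exists_core_comm (n := 1) (by rw [pow_one, pow_two, hww]) hw (by
    calc k * u * k⁻¹ * (k * u * k⁻¹) = k * (u * u) * k⁻¹ := by group
      _ = 1 := by rw [P.pair.sq]; group) (le_normalizer hku) h2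
  have hP := P.conj B.comp.le (M.mul_mem (core_le M ho) hk)
  have e : o * k * u * (o * k)⁻¹ = o * (k * u * k⁻¹) * o⁻¹ := by group
  rw [e] at hP
  exact ⟨_, _, hP, hc.eq⟩

/-- `i` fixing `Y` and `Z` is big -/
theorem bm_of_two (W : NB κ G) (hP : IsPair κ a Y) (ht : t ∈ Y) (htt : t * t = 1) (hnf : ¬ Fixes t Y)
    (hZ : IsPair κ t Z) (haZ : a ∈ Z) (ii : i * i = 1) (i1 : i ≠ 1) (hia : i * a = a * i)
    (hit : i * t = t * i) (hfY : Fixes i Y) (hfZ : Fixes i Z) :
    ∃ N, BM κ i N ∧ Pt κ i N a Y := by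
  have hta : t * a = a * t := pair_comm hP ht
  obtain ⟨N, hN, hle, haN⟩ := exists_pump hP ii hia hfY
  obtain ⟨N', hN', hle', htN'⟩ := exists_pump hZ ii hit hfZ
  obtain ⟨hJ, hs⟩ := isComp_cen hP.comp (mem_ce hia) ii hfY
  obtain ⟨hJ', hs'⟩ := isComp_cen hZ.comp (mem_ce hit) ii hfZ
  have htJ : t ∈ cen Y i := mem_cen_of_sq ht hit.symm htt
  have haJ' : a ∈ cen Z i := mem_cen_of_sq haZ hia.symm hP.sq
  have heq : N = N' := by
    by_contra hne
    have h1 := hN.fixes_of_mem hN' hne htN'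
    have h2 := Four.fixes_of_le hle (le_normalizer htJ) h1
    exact hnf ((fixes_iff_of_sup hs (le_normalizer htJ) (le_normalizer ht)).mp h2)
  subst heq
  have hk := (kind_cen (κ := κ) hP.comp (mem_ce hia) ii hfY).mpr hP.kind
  rw [inf_comm] at hJ
  refine ⟨N, ⟨ii, i1, hN, a, Y, hP, hia.symm, hfY, hle, ?_⟩, ⟨hP, hia.symm, hfY, hle⟩⟩
  rcases W.sett.small_or_big ii i1 hP.inv (pair_mem_cen hP hia) hJ hk hN hle with h | h
  · exfalso
    have h1 : Fixes a N := Small.fixes h (pair_mem_cen hP hia) fun y hy =>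
      mem_ce (pair_comm hP (cen_le Y i hy))
    have h2 := Four.fixes_of_le hle' (le_normalizer haJ') h1
    have h3 := (fixes_iff_of_sup hs' (le_normalizer haJ') (le_normalizer haZ)).mp h2
    exact hnf (typeZero_symm' hZ hP hta h3)
  · exact h

/-- no involution of a pair fixes `M` -/
theorem BM.no_fix (W : NB κ G) (B : BM κ d M) (hb : IsPair κ b Z) (hbd : b * d = d * b)
    (hf : Fixes b M) : False := by
  obtain ⟨a, Y, P, hab⟩ := B.exists_comm W hf.1 hb.sq
  have h1 := P.fixes W B.dd hab.symm hbd hf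
  have h2 := W.ves P.pair hb hab h1
  exact B.not_fixes W.sett (P.mem_of h2 hb.sq hbd) hb.sq hb.ne_one hf

/-- a canonical involution of `Y` commuting with commuting involutions which fix `Y` -/
theorem exists_can (S : Sett κ G) (hP : IsPair κ a Y) {s : Set G} (h2 : ∀ p ∈ s, p * p = 1)
    (hc : ∀ p ∈ s, ∀ q ∈ s, p * q = q * p) (hf : ∀ p ∈ s, Fixes p Y) :
    ∃ t, ∃ ht : t ∈ Y, t * t = 1 ∧ (∀ p ∈ s, p * t = t * p) ∧
      Can (QuotientGroup.mk ⟨t, ht⟩ : ↥Y ⧸ oddCore ↥Y) := by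
  obtain ⟨tb, htb⟩ := S.kl.exCan hP.kind
  obtain ⟨t, ht, h3, h4, h5⟩ := exists_lift_set h2 hc (fun p hp => (hf p hp).1) (x := tb)
    (fun p hp => by rw [(act_eq_one_iff (hf p hp).1).mpr (hf p hp)]; rfl) htb.1.1
  exact ⟨t, ht, h3, h4, by rw [h5]; exact htb⟩

omit [Finite G] in
theorem ne_one_of_can (ht : t ∈ Y) (h : Can (QuotientGroup.mk ⟨t, ht⟩ : ↥Y ⧸ oddCore ↥Y)) :
    t ≠ 1 := by
  rintro rfl
  exact h.1.2 (one_mem _)

omit [Finite G] in
theorem mul_sq' {x y : G} (hx : x * x = 1) (hy : y * y = 1) (h : x * y = y * x) :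
    x * y * (x * y) = 1 := by
  calc x * y * (x * y) = x * (y * x) * y := by group
    _ = (x * x) * (y * y) := by rw [← h]; group
    _ = 1 := by rw [hx, hy, one_mul]

/-- **(1)**: every pair `(w, Y)` with `w ∈ C(d)` is below `M` -/
theorem BM.pt (W : NB κ G) (B : BM κ d M) (hw : IsPair κ w Y) (hwd : w * d = d * w) :
    Pt κ d M w Y := by
  have hwC := mem_ce hwd
  -- `w` normalises `M`
  have hwM : w ∈ normalizer (M : Set G) := by
    rw [mem_normalizer_iff_cj]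
    by_contra hne
    have hM' := Diag.isComp_cj_of_mem B.comp hwC
    obtain ⟨u, X, P, -⟩ := B.exists_pt
    refine B.no_fix W (P.pair.cj w) ?_ (B.comp.fixes_of_mem hM' (Ne.symm hne) (conj_mem_cj P.mem))
    have h1 := mem_centralizer_singleton_iff.mp (hM'.le (conj_mem_cj P.mem))
    exact h1
  obtain ⟨a, Ya, P, haw⟩ := B.exists_comm W hwM hw.sq
  rcases W.tri P.pair hw haw with h | ⟨hwY, hcan⟩ | ⟨ho, ho', J, J', C, hJ, hJ', hC, hC'⟩
  · -- the vessel
    have hwY := W.ves P.pair hw haw h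
    obtain ⟨Mw, hMw, -, hle, hs1, hs2, hfix⟩ := W.sett.vess P.pair hwY hw.sq hw.ne_one h
    have hYM := W.one hw hMw
    subst hYM
    have hdY : Fixes d Mw := (hfix d hwd.symm P.fix.1).mpr P.fix
    obtain ⟨t, ht, htt, hts, htc⟩ := exists_can W.sett P.pair (s := {d, w})
      (by rintro _ (rfl | rfl); exacts [B.dd, hw.sq])
      (by rintro _ (rfl | rfl) _ (rfl | rfl); exacts [rfl, hwd.symm, hwd, rfl])
      (by rintro _ (rfl | rfl); exacts [P.fix, h])
    have hdt : d * t = t * d := hts d (Or.inl rfl)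
    have hwt : w * t = t * w := hts w (Or.inr rfl)
    obtain ⟨N, hN, hNle, -⟩ := exists_pump hw B.dd hwd.symm hdY
    have htY : t ∈ Mw := hle (mem_cen_of_sq ht hwt.symm htt)
    have htN : t ∈ N := hNle (mem_cen_of_sq htY hdt.symm htt)
    have hNM := B.eq_of_mem W.sett hN (P.mem_of ht htt hdt.symm) htN htt (ne_one_of_can ht htc)
    subst hNM
    exact ⟨hw, hwd, hdY, hNle⟩
  · exact P.can W B hwY hw.sq hcan hwd hw
  · -- type `f`
    have hdw : d * w = w * d := hwd.symm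
    have hda : d * a = a * d := P.comm.symm
    have hdY : d ∈ normalizer (Y : Set G) := W.norm hw hdw
    have hdfix := fixes_iff_conj.mp P.fix
    -- `d` normalises `C`
    have hCd : ∀ c ∈ C, d * c * d⁻¹ ∈ C := by
      have h1 : C ≤ cj d⁻¹ C := by
        refine hC.comp.le_of_two fun k hk n hn => ?_
        rw [mem_cj, inv_inv]
        obtain ⟨hkX, hkJ⟩ := hC.map k hk
        have hkw : k * w = w * k := mem_centralizer_singleton_iff.mp (hC.comp.le hk).2
        refine hC.mem _ (conj_mem P.fix.1 hkX) ?_ ?_ n ?_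
        · calc d * k * d⁻¹ * w = d * k * (d⁻¹ * w) := by group
            _ = d * k * (w * d⁻¹) := by
              rw [show d⁻¹ * w = w * d⁻¹ by rw [inv_mul_eq_iff_eq_mul, ← mul_assoc, hdw, mul_inv_cancel_right]]
            _ = d * (k * w) * d⁻¹ := by group
            _ = d * w * k * d⁻¹ := by rw [hkw]; group
            _ = w * (d * k * d⁻¹) := by rw [hdw]; group
        · have h2 : (QuotientGroup.mk ⟨d * k * d⁻¹, conj_mem P.fix.1 hkX⟩ : ↥Ya ⧸ oddCore ↥Ya) =
              QuotientGroup.mk ⟨k, hkX⟩ := ((mk_eq_iff hkX (conj_mem P.fix.1 hkX)).mpr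
                (hdfix.2 k hkX)).symm
          rw [h2]; exact hkJ
        · rw [conj_pow, hn, mul_one, mul_inv_cancel]
      intro c hc
      have h2 := mem_cj.mp (h1 hc)
      rwa [inv_inv] at h2
    have hCdn : d ∈ normalizer (C : Set G) := by
      rw [mem_normalizer_iff]
      intro k
      refine ⟨hCd k, fun h => ?_⟩
      have h1 := hCd _ h
      have h2 : d * (d * k * d⁻¹) * d⁻¹ = k := by
        have hdi : d⁻¹ = d := inv_eq_of_mul_eq_one_left B.dd
        rw [hdi]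
        calc d * (d * k * d) * d = (d * d) * k * (d * d) := by group
          _ = k := by rw [B.dd, one_mul, mul_one]
      rwa [h2] at h1
    have hCN : C ≤ normalizer (Ya : Set G) := hC.le.trans le_normalizer
    have hdc : ∀ c ∈ C, c⁻¹ * (d * c * d⁻¹) ∈ core C := fun c hc =>
      WOne.inf_core_le hCN ⟨C.mul_mem (C.inv_mem hc) (hCd c hc), hdfix.2 c (hC.le hc)⟩
    -- an involution of `C` commuting with `d`
    obtain ⟨c, hcC, hc2, hc1, hcd⟩ : ∃ c ∈ C, c * c = 1 ∧ c ≠ 1 ∧ c * d = d * c := by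
      obtain ⟨w0, hw0, -, hw02, hw01, -⟩ := hC.exists_inv hw.sq ho.1 hJ.fg
      obtain ⟨o, ho1, hoc⟩ := exists_core_comm (n := 1) (by rw [pow_one, pow_two, B.dd]) hCdn hw02
        (le_normalizer hw0) (hdc w0 hw0)
      refine ⟨o * w0 * o⁻¹, C.mul_mem (C.mul_mem (core_le C ho1) hw0) (C.inv_mem (core_le C ho1)), ?_,
        ?_, hoc.eq⟩
      · calc o * w0 * o⁻¹ * (o * w0 * o⁻¹) = o * (w0 * w0) * o⁻¹ := by group
          _ = 1 := by rw [hw02]; group
      · intro h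
        apply hw01
        calc w0 = o⁻¹ * (o * w0 * o⁻¹) * o := by group
          _ = 1 := by rw [h]; group
    obtain ⟨hcYa, hcJ⟩ := hC.map c hcC
    have hcnf : ¬ Fixes c Ya := fun hf =>
      (hJ.noncan _ hcJ (mk_sq_one hcYa hc2) (mk_ne_one' hcYa hc2 hc1)).1.2 ((mk_mem_center_iff hcYa).mpr hf)
    have hcY : c ∈ Y := hC'.le hcC
    have hca : c * a = a * c := pair_comm P.pair hcYa
    -- the action of `d` on `Y`
    have hψ : ∀ j ∈ J', act Y ⟨d, hdY⟩ j = j := by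
      intro j hj
      obtain ⟨k, hkC, hkY, rfl⟩ := hC'.surj j hj
      rw [act_mk hdY hkY]
      exact ((mk_eq_iff hkY (conj_mem hdY hkY)).mpr (hC'.core (hdc k hkC))).symm
    rcases W.kj.cent hw.kind _ J' hJ' _ hψ with h1 | h1
    · have hdY' : Fixes d Y := (act_eq_one_iff hdY).mp h1
      obtain ⟨N, hN, hNle, -⟩ := exists_pump hw B.dd hdw hdY'
      have hNM := B.eq_of_mem W.sett hN (P.mem_of hcYa hc2 hcd) (hNle (mem_cen_of_sq hcY hcd hc2)) hc2 hc1
      subst hNM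
      exact ⟨hw, hwd, hdY', hNle⟩
    · exfalso
      obtain ⟨e, he⟩ : ∃ e, e = d * a := ⟨_, rfl⟩
      have hee : e * e = 1 := by rw [he]; exact mul_sq' B.dd P.pair.sq hda
      have he1 : e ≠ 1 := by
        intro h
        rw [he] at h
        have h2 : a = d := by
          rw [← inv_eq_of_mul_eq_one_left B.dd]
          exact eq_inv_of_mul_eq_one_right h
        refine B.not_fixes W.sett P.mem P.pair.sq P.pair.ne_one (Four.fixes_of_le_cent ?_)
        rw [h2]; exact B.comp.le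
      have hea : e * a = a * e := by rw [he, ← mul_assoc, ← hda]
      have hew : e * w = w * e := by
        rw [he]
        calc d * a * w = d * (a * w) := by group
          _ = d * w * a := by rw [haw]; group
          _ = w * (d * a) := by rw [hdw]; group
      have hec : c * e = e * c := by
        rw [he]
        calc c * (d * a) = (c * d) * a := by group
          _ = d * (c * a) := by rw [hcd]; group
          _ = d * a * c := by rw [hca]; group
      have heYa : Fixes e Ya := by rw [he]; exact fixes_mul P.fix (pair_fixes P.pair)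
      have heY : Fixes e Y := by
        subst he
        rw [← act_eq_one_iff (mul_mem hdY ho'.1), act_mul hdY ho'.1, h1, ← act_mul ho'.1 ho'.1,
          act_eq_one_iff, P.pair.sq]
        exact fixes_one Y
      obtain ⟨N, hN, hNle, haN⟩ := exists_pump P.pair hee hea heYa
      obtain ⟨N', hN', hNle', hwN'⟩ := exists_pump hw hee hew heY
      obtain ⟨hJa, hsa⟩ := isComp_cen P.pair.comp (mem_ce hea) hee heYa
      obtain ⟨hJw, -⟩ := isComp_cen hw.comp (mem_ce hew) hee heY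
      have hcJa : c ∈ cen Ya e := mem_cen_of_sq hcYa hec hc2
      have heq : N = N' := by
        by_contra hne
        have h2 := hN.fixes_of_mem hN' hne (hNle' (mem_cen_of_sq hcY hec hc2))
        have h3 := Four.fixes_of_le hNle (le_normalizer hcJa) h2
        exact hcnf ((fixes_iff_of_sup hsa (le_normalizer hcJa) (le_normalizer hcYa)).mp h3)
      subst heq
      have hka := (kind_cen (κ := κ) P.pair.comp (mem_ce hea) hee heYa).mpr P.pair.kind
      have hkw := (kind_cen (κ := κ) hw.comp (mem_ce hew) hee heY).mpr hw.kind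
      rw [inf_comm] at hJa hJw
      have haJ := pair_mem_cen P.pair hea
      have hwJ := pair_mem_cen hw hew
      rcases W.sett.small_or_big hee he1 P.pair.inv haJ hJa hka hN hNle with h2 | h2
      · have haf : Fixes a N := Small.fixes h2 haJ fun y hy => mem_ce (pair_comm P.pair (cen_le Ya e hy))
        rcases W.sett.small_or_big hee he1 hw.inv hwJ hJw hkw hN hNle' with h3 | h3
        · have hwf : Fixes w N := Small.fixes h3 hwJ fun y hy => mem_ce (pair_comm hw (cen_le Y e hy))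
          have hwn := mem_normalizer_cen ho.1 hew.symm
          have h4 := Four.fixes_of_le hNle hwn hwf
          exact ho.not_fixes ((fixes_iff_of_sup hsa hwn ho.1).mp h4)
        · have B' : BM κ e N := ⟨hee, he1, hN, w, Y, hw, hew.symm, heY, hNle', h3⟩
          exact B'.not_fixes W.sett haN P.pair.sq P.pair.ne_one haf
      · have B' : BM κ e N := ⟨hee, he1, hN, a, Ya, P.pair, hea.symm, heYa, hNle, h2⟩
        have P' : Pt κ e N a Ya := ⟨P.pair, hea.symm, heYa, hNle⟩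
        have hde : d * e = e * d := by
          rw [he, mul_assoc, ← hda]
        obtain ⟨t, ht, htt, hts, htc⟩ := exists_can W.sett P.pair (s := {d, e})
          (by rintro _ (rfl | rfl); exacts [B.dd, hee])
          (by rintro _ (rfl | rfl) _ (rfl | rfl); exacts [rfl, hde, hde.symm, rfl])
          (by rintro _ (rfl | rfl); exacts [P.fix, heYa])
        have hdt : d * t = t * d := hts d (Or.inl rfl)
        have het : e * t = t * e := hts e (Or.inr rfl)
        obtain ⟨Z, hZ, -⟩ := W.can P.pair t ht htt htc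
        have h3 := (P.can W B ht htt htc hdt.symm hZ).fix
        have h4 := (P'.can W B' ht htt htc het.symm hZ).fix
        have h5 : Fixes a Z := by
          have := fixes_mul h3 h4
          rwa [he, ← mul_assoc, B.dd, one_mul] at this
        exact not_fixes_of_can ht htc (typeZero_symm' hZ P.pair (pair_comm P.pair ht) h5)

/-- an element of `C(d, u, t)` fixing the components of `u` and `t` fixes `M` -/
theorem BM.fixes_of (W : NB κ G) (B : BM κ d M) (P : Pt κ d M a X) (ht : t ∈ X) (htt : t * t = 1)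
    (hcan : Can (QuotientGroup.mk ⟨t, ht⟩ : ↥X ⧸ oddCore ↥X)) (htd : t * d = d * t)
    (hZ : IsPair κ t Z) (hxd : x * d = d * x) (hxt : x * t = t * x)
    (hfX : Fixes x X) (hfZ : Fixes x Z) : Fixes x M := by
  obtain ⟨hJ, hs, -⟩ := P.facts B.dd
  have hxJ := mem_normalizer_cen hfX.1 hxd
  have hxM : x ∈ normalizer (M : Set G) := by
    rw [mem_normalizer_iff_cj]
    refine hJ.unique (Diag.isComp_cj_of_mem B.comp (mem_ce hxd)) B.comp ?_ P.le
    rw [← mem_normalizer_iff_cj.mp hxJ]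
    exact cj_mono P.le
  obtain ⟨h5, h6⟩ := big_config B.dd B.comp P (B.big W.sett P)
  have hcore := big_core_le W.sett.he P.le h5 h6
  have hfJ := fixes_iff_conj.mp ((fixes_iff_of_sup hs hxJ hfX.1).mpr hfX)
  obtain ⟨c, hc, hcl, hφ⟩ := W.aut.aut h5 h6 (act M ⟨x, hxM⟩) (by
    rintro _ ⟨⟨j, hjM⟩, hj, rfl⟩
    change act M ⟨x, hxM⟩ (QuotientGroup.mk ⟨j, hjM⟩) = QuotientGroup.mk ⟨j, hjM⟩
    rw [act_mk hxM hjM]
    exact ((mk_eq_iff hjM (conj_mem hxM hjM)).mpr (hcore (hfJ.2 j hj))).symm)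
  obtain ⟨⟨j, hjM⟩, hj, rfl⟩ := hc
  have hjJ : j ∈ cen X d := hj
  have hjX : j ∈ X := cen_le X d hjJ
  have hJM : cen X d ≤ normalizer (M : Set G) := P.le.trans le_normalizer
  have hJX : cen X d ≤ normalizer (X : Set G) := (cen_le X d).trans le_normalizer
  have hjf : Fixes j (cen X d) := by
    refine fixes_iff_conj.mpr ⟨le_normalizer hjJ, fun y hy => WOne.inf_core_le hJM ⟨?_, ?_⟩⟩
    · exact (cen X d).mul_mem ((cen X d).inv_mem hy) (conj_mem (le_normalizer hjJ) hy)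
    · change y⁻¹ * (j * y * j⁻¹) ∈ core M
      rw [← mk_comm_iff (P.le hy) hjM]
      exact (hcl _ ⟨⟨y, P.le hy⟩, hy, rfl⟩).symm
  have hjfX : Fixes j X := (fixes_iff_of_sup hs (le_normalizer hjJ) (le_normalizer hjX)).mp hjf
  have hjc : (QuotientGroup.mk ⟨j, hjX⟩ : ↥X ⧸ oddCore ↥X) ∈ center (↥X ⧸ oddCore ↥X) :=
    (mk_mem_center_iff hjX).mpr hjfX
  -- the lift `v`
  obtain ⟨v, hvX, hvv, hvs, hvj⟩ := exists_lift_set (X := X) (s := {d, t})
    (by rintro _ (rfl | rfl); exacts [B.dd, htt])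
    (by rintro _ (rfl | rfl) _ (rfl | rfl); exacts [rfl, htd.symm, htd, rfl])
    (by rintro _ (rfl | rfl); exacts [P.fix.1, le_normalizer ht])
    (x := QuotientGroup.mk ⟨j, hjX⟩) (by
      rintro _ (rfl | rfl)
      · rw [(act_eq_one_iff P.fix.1).mpr P.fix]; rfl
      · rw [act_of_mem ht, MulAut.conj_apply, mem_center_iff.mp hjc, mul_inv_cancel_right])
    (W.sett.kl.sq P.pair.kind _ hjc)
  have hdv : d * v = v * d := hvs d (Or.inl rfl)
  have htv : t * v = v * t := hvs t (Or.inr rfl)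
  have hvJ : v ∈ cen X d := mem_cen_of_sq hvX hdv.symm hvv
  have hvM : v ∈ M := P.le hvJ
  have hvjM : (QuotientGroup.mk ⟨v, hvM⟩ : ↥M ⧸ oddCore ↥M) = QuotientGroup.mk ⟨j, hjM⟩ :=
    (mk_eq_iff hvM hjM).mpr (hcore (WOne.inf_core_le hJX
      ⟨(cen X d).mul_mem ((cen X d).inv_mem hvJ) hjJ, (mk_eq_iff hvX hjX).mp hvj⟩))
  have hact : act M ⟨x, hxM⟩ = MulAut.conj (QuotientGroup.mk ⟨v, hvM⟩) := by
    rw [hvjM]
    apply MulEquiv.ext
    intro y
    rw [hφ y, MulAut.conj_apply]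
    rfl
  by_cases hv1 : v = 1
  · rw [← act_eq_one_iff hxM, hact]
    have h1 : (QuotientGroup.mk ⟨v, hvM⟩ : ↥M ⧸ oddCore ↥M) = 1 := by
      rw [Cfsg.Agent.Intrinsic.Quot.mk_eq_one_iff, hv1]
      exact one_mem _
    rw [h1, map_one]
  exfalso
  have hvf : Fixes v X := (mk_mem_center_iff hvX).mp (hvj ▸ hjc)
  obtain ⟨Mv, hMv, -, -, -, -, hfix⟩ := W.sett.vess P.pair hvX hvv hv1 hvf
  have hvn := le_normalizer hvM
  have h1 : Fixes (v⁻¹ * x) M := by
    rw [← act_eq_one_iff (mul_mem (inv_mem hvn) hxM), act_mul (inv_mem hvn) hxM, act_inv hvn, hact,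
      act_of_mem hvM, inv_mul_cancel]
  have hPZ := P.can W B ht htt hcan htd hZ
  have hvi : v⁻¹ = v := inv_eq_of_mul_eq_one_left hvv
  have h2 := hPZ.fixes W B.dd (x := v⁻¹ * x) (by
    rw [hvi, mul_assoc, hxt, ← mul_assoc, ← htv, mul_assoc]) (by
    rw [hvi, mul_assoc, hxd, ← mul_assoc, ← hdv, mul_assoc]) h1
  have h3 : Fixes v Z := by
    have := fixes_mul hfZ (fixes_inv h2)
    have e : x * (v⁻¹ * x)⁻¹ = v := by group
    rwa [e] at this
  have h4 := typeZero_symm' hZ hMv htv h3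
  exact not_fixes_of_can ht hcan ((hfix t htv (le_normalizer ht)).mp h4)

/-- the data used in (2) and (3) -/
theorem BM.two (W : NB κ G) (B : BM κ d M) (B' : BM κ e N) (hde : d * e = e * d) :
    ∃ a Y t Z, Pt κ d M a Y ∧ Pt κ e N a Y ∧ Pt κ d M t Z ∧ Pt κ e N t Z ∧ t * t = 1 ∧ a ∈ Z ∧
      ∃ ht : t ∈ Y, Can (QuotientGroup.mk ⟨t, ht⟩ : ↥Y ⧸ oddCore ↥Y) := by
  have heC := mem_ce hde.symm
  have heM : e ∈ normalizer (M : Set G) := by
    rw [mem_normalizer_iff_cj]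
    by_contra hne
    have hM' := Diag.isComp_cj_of_mem B.comp heC
    obtain ⟨u, X, P, -⟩ := B.exists_pt
    exact B.no_fix W (P.pair.cj e) (mem_centralizer_singleton_iff.mp (hM'.le (conj_mem_cj P.mem)))
      (B.comp.fixes_of_mem hM' (Ne.symm hne) (conj_mem_cj P.mem))
  obtain ⟨a, Y, P, hae⟩ := B.exists_comm W heM B'.dd
  have P' := B'.pt W P.pair hae
  obtain ⟨t, ht, htt, hts, htc⟩ := exists_can W.sett P.pair (s := {d, e})
    (by rintro _ (rfl | rfl); exacts [B.dd, B'.dd])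
    (by rintro _ (rfl | rfl) _ (rfl | rfl); exacts [rfl, hde, hde.symm, rfl])
    (by rintro _ (rfl | rfl); exacts [P.fix, P'.fix])
  have hdt : d * t = t * d := hts d (Or.inl rfl)
  have het : e * t = t * e := hts e (Or.inr rfl)
  obtain ⟨Z, hZ, haZ⟩ := W.can P.pair t ht htt htc
  exact ⟨a, Y, t, Z, P, P', P.can W B ht htt htc hdt.symm hZ, P'.can W B' ht htt htc het.symm hZ, htt,
    haZ, ht, htc⟩

/-- **(2)** commuting big elements fix the big components of each other -/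
theorem BM.fixes (W : NB κ G) (B : BM κ d M) (B' : BM κ e N) (hde : d * e = e * d) : Fixes e M := by
  obtain ⟨a, Y, t, Z, P, P', Q, Q', htt, -, ht, htc⟩ := B.two W B' hde
  exact B.fixes_of W P ht htt htc Q.comm Q.pair hde.symm Q'.comm.symm P'.fix Q'.fix

/-- **(3)** -/
theorem BM.mul (W : NB κ G) (B : BM κ d M) (B' : BM κ e N) (hde : d * e = e * d) (hne : d ≠ e) :
    ∃ K, BM κ (d * e) K := by
  obtain ⟨a, Y, t, Z, P, P', Q, Q', htt, haZ, ht, htc⟩ := B.two W B' hde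
  obtain ⟨K, hK, -⟩ := bm_of_two W P.pair ht htt (not_fixes_of_can ht htc) Q.pair haZ
    (mul_sq' B.dd B'.dd hde) (fun h => hne (by
      rw [← inv_eq_of_mul_eq_one_left B'.dd]
      exact eq_inv_of_mul_eq_one_left h)) (by
      rw [mul_assoc, ← P'.comm, ← mul_assoc, ← P.comm, mul_assoc]) (by
      rw [mul_assoc, ← Q'.comm, ← mul_assoc, ← Q.comm, mul_assoc]) (fixes_mul P.fix P'.fix)
    (fixes_mul Q.fix Q'.fix)
  exact ⟨K, hK⟩

omit [Finite G] in
/-- two non-commuting involutions generating a dihedral 2-group -/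
theorem exists_dih {d w : G} (hd : d * d = 1) (hw : w * w = 1) (hne : d * w ≠ w * d) {k : ℕ}
    (hk : (d * w) ^ 2 ^ k = 1) : ∃ s, s * s ≠ 1 ∧ s * s * (s * s) = 1 ∧ s * d * s⁻¹ = d * (s * s) ∧
      s * w * s⁻¹ = w * (s * s) ∧ s * s * d = d * (s * s) ∧ s * s * w = w * (s * s) := by
  classical
  have hdi : d⁻¹ = d := inv_eq_of_mul_eq_one_left hd
  have hwi : w⁻¹ = w := inv_eq_of_mul_eq_one_left hw
  have hex : ∃ k : ℕ, (d * w) ^ 2 ^ k = 1 := ⟨k, hk⟩
  have hm := Nat.find_spec hex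
  obtain ⟨m, hmm⟩ : ∃ m, m = Nat.find hex := ⟨_, rfl⟩
  rw [← hmm] at hm
  have hr2 : (d * w) * (d * w) ≠ 1 := by
    intro h
    apply hne
    calc d * w = (d * w)⁻¹ := eq_inv_of_mul_eq_one_left h
      _ = w * d := by rw [mul_inv_rev, hdi, hwi]
  have hm2 : 2 ≤ m := by
    by_contra hlt
    have h1 : (d * w) ^ 2 ^ 1 = 1 := by
      have : m ≤ 1 := by omega
      calc (d * w) ^ 2 ^ 1 = ((d * w) ^ 2 ^ m) ^ 2 ^ (1 - m) := by
            rw [← pow_mul, ← pow_add, Nat.add_sub_cancel' this]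
        _ = 1 := by rw [hm, one_pow]
    rw [pow_one, pow_two] at h1
    exact hr2 h1
  obtain ⟨n, rfl⟩ : ∃ n, m = n + 2 := ⟨m - 2, by omega⟩
  obtain ⟨s, hs⟩ : ∃ s, s = (d * w) ^ 2 ^ n := ⟨_, rfl⟩
  have hss : s * s = (d * w) ^ 2 ^ (n + 1) := by
    rw [hs, ← pow_add, ← two_mul, ← pow_succ']
  have hss1 : s * s ≠ 1 := by
    rw [hss]
    intro h
    have h1 := Nat.find_min' hex h
    omega
  have hs4 : s * s * (s * s) = 1 := by
    rw [hss, ← pow_add, ← two_mul, ← pow_succ']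
    exact hm
  have hds : d * s * d⁻¹ = s⁻¹ := by
    rw [hs, ← conj_pow, ← inv_pow]
    congr 1
    rw [mul_inv_rev, hwi, hdi]
    calc d * (d * w) * d = (d * d) * w * d := by group
      _ = w * d := by rw [hd, one_mul]
  have hws : w * s * w⁻¹ = s⁻¹ := by
    rw [hs, ← conj_pow, ← inv_pow]
    congr 1
    rw [mul_inv_rev, hwi, hdi]
    calc w * (d * w) * w = w * d * (w * w) := by group
      _ = w * d := by rw [hw, mul_one]
  have hsi : s⁻¹ * s⁻¹ = s * s := by
    have : (s * s)⁻¹ = s * s := inv_eq_of_mul_eq_one_left hs4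
    rw [← mul_inv_rev, this]
  refine ⟨s, hss1, hs4, ?_, ?_, ?_, ?_⟩
  · have h1 : s * d = d * s⁻¹ := by
      rw [← hds, hdi]
      calc s * d = (d * d) * s * d := by rw [hd, one_mul]
        _ = _ := by group
    rw [h1, mul_assoc, hsi]
  · have h1 : s * w = w * s⁻¹ := by
      rw [← hws, hwi]
      calc s * w = (w * w) * s * w := by rw [hw, one_mul]
        _ = _ := by group
    rw [h1, mul_assoc, hsi]
  · have h1 : s * d = d * s⁻¹ := by
      rw [← hds, hdi]
      calc s * d = (d * d) * s * d := by rw [hd, one_mul]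
        _ = _ := by group
    have h2 : s * s * d = d * (s⁻¹ * s⁻¹) := by rw [mul_assoc, h1, ← mul_assoc, h1, mul_assoc]
    rw [h2, hsi]
  · have h1 : s * w = w * s⁻¹ := by
      rw [← hws, hwi]
      calc s * w = (w * w) * s * w := by rw [hw, one_mul]
        _ = _ := by group
    have h2 : s * s * w = w * (s⁻¹ * s⁻¹) := by rw [mul_assoc, h1, ← mul_assoc, h1, mul_assoc]
    rw [h2, hsi]

omit [Finite G] in
theorem comm_conj {x y : G} (h : x * y = y * x) (g : G) :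
    g * x * g⁻¹ * (g * y * g⁻¹) = g * y * g⁻¹ * (g * x * g⁻¹) := by
  calc g * x * g⁻¹ * (g * y * g⁻¹) = g * (x * y) * g⁻¹ := by group
    _ = g * (y * x) * g⁻¹ := by rw [h]
    _ = _ := by group

omit [Finite G] in
theorem sq_conj' {x : G} (h : x * x = 1) (g : G) : g * x * g⁻¹ * (g * x * g⁻¹) = 1 := by
  calc g * x * g⁻¹ * (g * x * g⁻¹) = g * (x * x) * g⁻¹ := by group
    _ = 1 := by rw [h]; group

omit [Finite G] in
theorem ne_conj {x : G} (h : x ≠ 1) (g : G) : g * x * g⁻¹ ≠ 1 := fun h1 =>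
  h (by calc x = g⁻¹ * (g * x * g⁻¹) * g := by group
          _ = 1 := by rw [h1]; group)

omit [Finite G] in
theorem not_fixes_conj (h : ¬ Fixes t Y) (g : G) :
    ¬ Fixes (g * t * g⁻¹) (IntrinsicBasic.cj g Y) := by
  intro hf
  have h1 := hf.cj g⁻¹
  rw [cj_inv_cj] at h1
  apply h
  have e : g⁻¹ * (g * t * g⁻¹) * g⁻¹⁻¹ = t := by group
  rwa [e] at h1

/-- big pump-ups are closed under conjugation -/
theorem BM.cj (W : NB κ G) (B : BM κ d M) (g : G) : BM κ (g * d * g⁻¹) (IntrinsicBasic.cj g M) := by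
  obtain ⟨a, Y, P, -⟩ := B.exists_pt
  obtain ⟨t, ht, htt, hts, htc⟩ := exists_can W.sett P.pair (s := {d})
    (by rintro _ rfl; exact B.dd) (by rintro _ rfl _ rfl; rfl) (by rintro _ rfl; exact P.fix)
  have hdt : d * t = t * d := hts d rfl
  obtain ⟨Z, hZ, haZ⟩ := W.can P.pair t ht htt htc
  have Q := P.can W B ht htt htc hdt.symm hZ
  obtain ⟨N, hN, PN⟩ := bm_of_two W (P.pair.cj g) (conj_mem_cj ht) (sq_conj' htt g)
    (not_fixes_conj (not_fixes_of_can ht htc) g) (hZ.cj g) (conj_mem_cj haZ) (sq_conj' B.dd g)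
    (ne_conj B.d1 g) (comm_conj P.comm.symm g) (comm_conj hdt g) (P.fix.cj g) (Q.fix.cj g)
  have hM : IsComp (centralizer ({g * d * g⁻¹} : Set G)) (IntrinsicBasic.cj g M) := by
    have := B.comp.cj g
    rwa [cj_centralizer] at this
  obtain ⟨hJ, -⟩ := PN.facts hN.dd
  have h : IntrinsicBasic.cj g M = N := by
    refine hJ.unique hM hN.comp ?_ PN.le
    rw [← cj_cen]
    exact cj_mono P.le
  rw [h]
  exact hN

/-- **(4)** `d` and `w` commute if they are in a common 2-group -/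
theorem BM.comm (W : NB κ G) (B : BM κ d M) (hw : IsPair κ w Y) {k : ℕ} (hk : (d * w) ^ 2 ^ k = 1) :
    d * w = w * d := by
  by_contra hne
  obtain ⟨s, h1, h2, h3, h4, h5, h6⟩ := exists_dih B.dd hw.sq hne hk
  obtain ⟨i, hi⟩ : ∃ i, i = s * s := ⟨_, rfl⟩
  rw [← hi] at h1 h2 h3 h4 h5 h6
  have B1 := B.cj W s
  rw [h3] at B1
  have hw1 := hw.cj s
  rw [h4] at hw1
  obtain ⟨N, hN⟩ := B.mul W B1 (by rw [mul_assoc, h5]) (by
    intro h
    exact h1 (left_eq_mul.mp h))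
  have e1 : d * (d * i) = i := by rw [← mul_assoc, B.dd, one_mul]
  rw [e1] at hN
  have P1 := hN.pt W hw h6.symm
  have P2 := hN.pt W hw1 (by rw [mul_assoc, ← mul_assoc i, h6, mul_assoc])
  have hiN : i ∈ N := by
    have := N.mul_mem P1.mem P2.mem
    rwa [← mul_assoc, hw.sq, one_mul] at this
  exact hN.not_fixes W.sett hiN h2 h1 (Four.fixes_of_le_cent hN.comp.le)

/-! ### (5) the strongly closed subgroup -/

omit [Finite G] in
/-- the elements of `T` which commute with the pairs in `T` and fix their components -/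
def AT (κ : Kind.{u}) {G : Type u} [Group G] (T : Subgroup G) : Subgroup G where
  carrier := {x | x ∈ T ∧ ∀ w ∈ T, ∀ Y, IsPair κ w Y → x * w = w * x ∧ Fixes x Y}
  one_mem' := ⟨one_mem _, fun w _ Y _ => ⟨by rw [one_mul, mul_one], fixes_one Y⟩⟩
  mul_mem' := fun {x y} hx hy => ⟨mul_mem hx.1 hy.1, fun w hw Y hY =>
    ⟨by rw [mul_assoc, (hy.2 w hw Y hY).1, ← mul_assoc, (hx.2 w hw Y hY).1, mul_assoc],
      fixes_mul (hx.2 w hw Y hY).2 (hy.2 w hw Y hY).2⟩⟩
  inv_mem' := fun {x} hx => ⟨inv_mem hx.1, fun w hw Y hY =>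
    ⟨by rw [inv_mul_eq_iff_eq_mul, ← mul_assoc, (hx.2 w hw Y hY).1, mul_inv_cancel_right],
      fixes_inv (hx.2 w hw Y hY).2⟩⟩

omit [Finite G] in
theorem mem_AT {T : Subgroup G} {x : G} :
    x ∈ AT κ T ↔ x ∈ T ∧ ∀ w ∈ T, ∀ Y, IsPair κ w Y → x * w = w * x ∧ Fixes x Y := Iff.rfl

theorem closed_AT (W : NB κ G) (T : Sylow 2 G) {u : G} (hu : IsPair κ u X) (huT : u ∈ (T : Subgroup G))
    (htT : t ∈ (T : Subgroup G)) (ht : t ∈ X) (htt : t * t = 1)
    (hcan : Can (QuotientGroup.mk ⟨t, ht⟩ : ↥X ⧸ oddCore ↥X)) :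
    IsStronglyClosed (AT κ (T : Subgroup G)) (T : Subgroup G) := by
  refine ⟨fun x hx => hx.1, fun x hx g hg => ?_⟩
  obtain ⟨hxT, hxA⟩ := mem_AT.mp hx
  by_cases hx1 : x = 1
  · rw [hx1, mul_one, mul_inv_cancel]; exact one_mem _
  obtain ⟨k, hk⟩ := T.isPGroup' ⟨x, hxT⟩
  have hk' : x ^ 2 ^ k = 1 := congrArg Subtype.val hk
  obtain ⟨n, hn, hn1⟩ := NZRec.exists_pow_inv hk' hx1
  obtain ⟨-, hdA⟩ := mem_AT.mp (pow_mem hx n)
  obtain ⟨Z, hZ, huZ⟩ := W.can hu t ht htt hcan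
  obtain ⟨hxu, hfX⟩ := hxA u huT X hu
  obtain ⟨hxt, hfZ⟩ := hxA t htT Z hZ
  obtain ⟨hdu, hdX⟩ := hdA u huT X hu
  obtain ⟨hdt, hdZ⟩ := hdA t htT Z hZ
  obtain ⟨N, B, P⟩ := bm_of_two W hu ht htt (not_fixes_of_can ht hcan) hZ huZ hn hn1 hdu hdt hdX hdZ
  have hf := B.fixes_of W P ht htt hcan hdt.symm hZ (pow_mul_comm' _ _).symm hxt hfX hfZ
  have B1 := B.cj W g
  have hf1 := hf.cj g
  have hpow : g * x ^ n * g⁻¹ = (g * x * g⁻¹) ^ n := by rw [conj_pow]
  have hdT : g * x ^ n * g⁻¹ ∈ (T : Subgroup G) := by rw [hpow]; exact pow_mem hg n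
  refine mem_AT.mpr ⟨hg, fun w hwT Y hw => ?_⟩
  obtain ⟨j, hj⟩ := T.isPGroup' ⟨_, mul_mem hdT hwT⟩
  have hdw := B1.comm W hw (congrArg Subtype.val hj : (g * x ^ n * g⁻¹ * w) ^ 2 ^ j = 1)
  have Q := B1.pt W hw hdw.symm
  have h1 : ⁅g * x * g⁻¹, w⁆ ∈ core (IntrinsicBasic.cj g N) := hf1.2 w Q.mem
  have h2 : ⁅g * x * g⁻¹, w⁆ ∈ (T : Subgroup G) := by
    rw [commutatorElement_def]
    exact mul_mem (mul_mem (mul_mem hg hwT) (inv_mem hg)) (inv_mem hwT)
  obtain ⟨l, hl⟩ := T.isPGroup' ⟨_, h2⟩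
  have h3 := eq_one_of_mem_core h1 (congrArg Subtype.val hl : ⁅g * x * g⁻¹, w⁆ ^ 2 ^ l = 1)
  have h4 := commutatorElement_eq_one_iff_mul_comm.mp h3
  refine ⟨h4, Q.fixes W B1.dd h4 ?_ hf1⟩
  rw [hpow]; exact (pow_mul_comm' _ _).symm

/-- **no big pump-ups** -/
theorem false_of_bm [IsSimpleGroup G] (W : NB κ G)
    (h1173 : ∀ (S : Sylow 2 G) (T : Subgroup G), IsStronglyClosed T (S : Subgroup G) →
      ((⨅ n : ℕ, derivedSeries ↥(centralizer (T : Set G)) n).map
        (centralizer (T : Set G)).subtype).Normal) (B : BM κ d M) : False := by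
  have hp2 : Fact (Nat.Prime 2) := ⟨Nat.prime_two⟩
  obtain ⟨u, X, P, -⟩ := B.exists_pt
  obtain ⟨t, ht, htt, hts, htc⟩ := exists_can W.sett P.pair (s := {d})
    (by rintro _ rfl; exact B.dd) (by rintro _ rfl _ rfl; rfl) (by rintro _ rfl; exact P.fix)
  have hdt : d * t = t * d := hts d rfl
  have htu : t * u = u * t := pair_comm P.pair ht
  have hp := FourPar.isPGroup_closure (s := {d, u, t})
    (by rintro _ (rfl | rfl | rfl); exacts [B.dd, P.pair.sq, htt])
    (by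
      rintro _ (rfl | rfl | rfl) _ (rfl | rfl | rfl)
      exacts [rfl, P.comm.symm, hdt, P.comm, rfl, htu.symm, hdt.symm, htu, rfl])
  obtain ⟨T, hT⟩ := hp.exists_le_sylow
  have hdT : d ∈ (T : Subgroup G) := hT (subset_closure (Or.inl rfl))
  have huT : u ∈ (T : Subgroup G) := hT (subset_closure (Or.inr (Or.inl rfl)))
  have htT : t ∈ (T : Subgroup G) := hT (subset_closure (Or.inr (Or.inr rfl)))
  refine NZRec.false_of_closed P.pair.comp T (closed_AT W T P.pair huT htT ht htt htc)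
    (fun x hx => ((mem_AT.mp hx).2 u huT X P.pair).2) (u := d) (mem_AT.mpr ⟨hdT, fun w hwT Y hw => ?_⟩)
    B.d1 h1173
  obtain ⟨j, hj⟩ := T.isPGroup' ⟨_, mul_mem hdT hwT⟩
  have hdw := B.comm W hw (congrArg Subtype.val hj : (d * w) ^ 2 ^ j = 1)
  exact ⟨hdw, (B.pt W hw hdw.symm).fix⟩

/-- **NZ implies no BIG** -/
theorem no_big [IsSimpleGroup G] (W : NB κ G)
    (h1173 : ∀ (S : Sylow 2 G) (T : Subgroup G), IsStronglyClosed T (S : Subgroup G) →
      ((⨅ n : ℕ, derivedSeries ↥(centralizer (T : Set G)) n).map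
        (centralizer (T : Set G)).subtype).Normal) {u y : G} (hu : IsPair κ u X) (hyy : y * y = 1)
    (hy1 : y ≠ 1) (hyu : y * u = u * y) (hf : Fixes y X)
    (hM : IsComp (centralizer ({y} : Set G)) M) (hle : cen X y ≤ M) : ¬ Big κ u (cen X y) M := fun hb =>
  false_of_bm W h1173 (⟨hyy, hy1, hM, u, X, hu, hyu.symm, hf, hle, hb⟩ : BM κ y M)

end steps

end Cfsg.Agent.UGT.I34.FourBig
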