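import Cfsg.Agent.UGT.I34.FourDefs
import Cfsg.Agent.Intrinsic.Diag

/-!
# THEOREM I34, part [C]: (3F)

* `fixes_of_inner`: a 2-component `E ≤ L₂(H')` as large as the 2-component `Y` of `H'`, commuting with `u`, where `u`
  does not fix `Y`, fixes `Y`;
* `typeF`: if `v` moves some `X` with `(u, X)` a pair then `u` moves all `Y` with `(v, Y)` a pair.
-/

set_option autoImplicit false

open Cfsg Subgroup
open Cfsg.Agent.SignalizersComponents Cfsg.Agent.Lib
open Cfsg.Agent.SignalizersComponents.IntrinsicBasic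
open Cfsg.Agent.SignalizersComponents.PLayerAut
open Cfsg.Agent.Intrinsic.Basic hiding IsPair PQS Target IsPair.sq IsPair.ne_one IsPair.cj
open Cfsg.Agent.Intrinsic.Cen hiding pair_comm pair_mem_cen exists_pump pump_unique
open Cfsg.Agent.Intrinsic.Quot hiding Big isPair_quot small_or_big
open Cfsg.Agent.McLLyComp.Act hiding mk_eq_one_iff
open Cfsg.Agent.Intrinsic.Diag
open Cfsg.Agent.UGT.I34.Pair Cfsg.Agent.UGT.I34.KAut
open Cfsg.Agent.UGT.I34.KF (NInv)
open scoped commutatorElement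

namespace Cfsg.Agent.UGT.I34.Four

universe u

/-! ### algebra -/

/-- an automorphism of a perfect group commuting with all inner automorphisms is trivial -/
theorem eq_one_of_comm_inn {K : Type*} [Group K] (hK : Group.IsPerfect K) {φ : MulAut K}
    (h : ∀ k : K, φ * MulAut.conj k = MulAut.conj k * φ) : φ = 1 := by
  have hz : ∀ k : K, k⁻¹ * φ k ∈ center K := by
    intro k
    have h1 : MulAut.conj (φ k) = MulAut.conj k := by
      have h2 : φ * MulAut.conj k * φ⁻¹ = MulAut.conj (φ k) := by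
        apply MulEquiv.ext
        intro x
        change φ (k * φ⁻¹ x * k⁻¹) = φ k * x * (φ k)⁻¹
        rw [map_mul, map_mul, map_inv]
        have : φ (φ⁻¹ x) = x := φ.apply_symm_apply x
        rw [this]
      rw [← h2, h k, mul_inv_cancel_right]
    rw [mem_center_iff]
    intro x
    have h3 := DFunLike.congr_fun h1 x
    change φ k * x * (φ k)⁻¹ = k * x * k⁻¹ at h3
    calc x * (k⁻¹ * φ k) = k⁻¹ * (k * x * k⁻¹) * φ k := by group
      _ = k⁻¹ * (φ k * x * (φ k)⁻¹) * φ k := by rw [h3]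
      _ = k⁻¹ * φ k * x := by group
  have h4 : (⊤ : Subgroup K) ≤ fixed φ := by
    have hp : commutator K = ⊤ := hK.commutator_eq_top
    rw [← hp, _root_.commutator_def, commutator_le]
    intro a _ b _
    rw [mem_fixed, map_commutatorElement]
    obtain ⟨c, hc⟩ : ∃ c, c = a⁻¹ * φ a := ⟨_, rfl⟩
    obtain ⟨d, hd⟩ : ∃ d, d = b⁻¹ * φ b := ⟨_, rfl⟩
    have hc1 := mem_center_iff.mp (hz a)
    have hd1 := mem_center_iff.mp (hz b)
    rw [← hc] at hc1
    rw [← hd] at hd1
    have ea : φ a = a * c := by rw [hc]; group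
    have eb : φ b = b * d := by rw [hd]; group
    rw [ea, eb, commutatorElement_def, commutatorElement_def]
    calc a * c * (b * d) * (a * c)⁻¹ * (b * d)⁻¹ = a * (c * b) * (d * c⁻¹) * a⁻¹ * d⁻¹ * b⁻¹ := by group
      _ = a * (b * c) * (c⁻¹ * d) * a⁻¹ * d⁻¹ * b⁻¹ := by rw [← hc1 b, ← hd1 c⁻¹]
      _ = a * b * (d * a⁻¹) * d⁻¹ * b⁻¹ := by group
      _ = a * b * (a⁻¹ * d) * d⁻¹ * b⁻¹ := by rw [← hd1 a⁻¹]
      _ = a * b * a⁻¹ * b⁻¹ := by group
  apply MulEquiv.ext
  intro x
  exact h4 (mem_top x)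

section inner

variable {G : Type*} [Group G] [Finite G]

/-- elements of `L₂(H)` act on the 2-components of `H` as inner automorphisms -/
theorem exists_of_mem_L2 {H Y : Subgroup G} (hY : IsComp H Y) {e : G} (he : e ∈ L2 H) :
    ∃ y ∈ Y, Fixes (y⁻¹ * e) Y := by
  have h1 := hY.L2_le_sup he
  have hle : Y ≤ normalizer (cenMod H Y : Set G) ∨ cenMod H Y ≤ normalizer (Y : Set G) :=
    Or.inr hY.tc.cenMod_le_normalizer
  have h2 : e ∈ ((Y ⊔ cenMod H Y : Subgroup G) : Set G) := h1
  rw [Subgroup.coe_mul_of_right_le_normalizer_left _ _ hY.tc.cenMod_le_normalizer] at h2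
  obtain ⟨y, hy, c, hc, rfl⟩ := h2
  refine ⟨y, hy, ?_⟩
  have h3 : y⁻¹ * ((fun x1 x2 => x1 * x2) y c) = c := by
    change y⁻¹ * (y * c) = c
    rw [inv_mul_cancel_left]
  rw [h3]
  exact (hY.fixes_iff (cenMod_le H Y hc)).mpr hc

/-- the homomorphism `E → Aut(Y / O(Y))` for `E ≤ N(Y)` -/
noncomputable def actOn {E Y : Subgroup G} (h : E ≤ normalizer (Y : Set G)) :
    ↥E →* MulAut (Bar Y) := (act Y).comp (inclusion h)

omit [Finite G] in
theorem actOn_eq_one_iff {E Y : Subgroup G} (h : E ≤ normalizer (Y : Set G)) {e : G} (he : e ∈ E) :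
    actOn h ⟨e, he⟩ = 1 ↔ Fixes e Y := act_eq_one_iff (h he)

/-- A 2-component `E` of `H`, at least as large as the 2-component `Y` modulo the centres, which acts as inner
automorphisms on `Y / O(Y)` and commutes with an element `u` not fixing `Y`, fixes `Y`. -/
theorem fixes_of_inner {H H' E Y : Subgroup G} (hE : IsComp H E) (hY : IsComp H' Y)
    (hc : Nat.card (Bar Y ⧸ center (Bar Y)) ≤ Nat.card (Bar E ⧸ center (Bar E)))
    (hin : ∀ e ∈ E, ∃ y ∈ Y, Fixes (y⁻¹ * e) Y) {u : G} (hu : u ∈ normalizer (Y : Set G))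
    (hcomm : ∀ e ∈ E, u * e = e * u) (hnf : ¬ Fixes u Y) : ∀ e ∈ E, Fixes e Y := by
  have hEN : E ≤ normalizer (Y : Set G) := by
    intro e he
    obtain ⟨y, hy, hf⟩ := hin e he
    have := mul_mem (le_normalizer hy) hf.1
    rwa [mul_inv_cancel_left] at this
  set α := actOn hEN with hα
  have hαin : ∀ e : ↥E, α e ∈ Inn (Bar Y) := by
    rintro ⟨e, he⟩
    exact (isInn_iff.mpr (hin e he)).2
  have hperfE : ⁅E, E⁆ = E := hE.perfect
  have hperf : commutator ↥E = ⊤ := (isPerfect_iff.mpr hperfE).commutator_eq_top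
  have hqE := quasisimple_quot hE
  have hqY := quasisimple_quot hY
  have hsE := hqE.2
  set q : ↥E →* (Bar E ⧸ center (Bar E)) :=
    (QuotientGroup.mk' (center (Bar E))).comp (QuotientGroup.mk' (oddCore ↥E)) with hq
  have hqs : Function.Surjective q :=
    (QuotientGroup.mk'_surjective _).comp (QuotientGroup.mk'_surjective _)
  have hqk : ∀ e : ↥E, q e = 1 ↔ (QuotientGroup.mk e : Bar E) ∈ center (Bar E) := fun e =>
    QuotientGroup.eq_one_iff _
  have hn : (α.ker.map q).Normal := Subgroup.Normal.map inferInstance _ hqs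
  rcases hn.eq_bot_or_eq_top with hb | ht
  · -- the image is `Inn`
    exfalso
    apply hnf
    have h1 : α.ker ≤ q.ker := by rwa [Subgroup.map_eq_bot_iff] at hb
    have h2 : Nat.card (Bar E ⧸ center (Bar E)) ≤ Nat.card α.range := by
      have e1 : Nat.card (Bar E ⧸ center (Bar E)) = q.ker.index := by
        rw [Subgroup.index_ker, MonoidHom.range_eq_top.mpr hqs]
        exact (Nat.card_congr Subgroup.topEquiv.toEquiv).symm
      have e2 : Nat.card α.range = α.ker.index := (Subgroup.index_ker α).symm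
      rw [e1, e2]
      exact Nat.le_of_dvd (Nat.pos_of_ne_zero Subgroup.index_ne_zero_of_finite)
        (Subgroup.index_dvd_of_le h1)
    have h3 : Nat.card (Inn (Bar Y)) = Nat.card (Bar Y ⧸ center (Bar Y)) := by
      have e1 : (MulAut.conj : Bar Y →* MulAut (Bar Y)).ker = center (Bar Y) := by
        ext x
        rw [MonoidHom.mem_ker, mem_center_iff]
        constructor
        · intro h g
          have h2 := DFunLike.congr_fun h g
          change x * g * x⁻¹ = g at h2
          have h3 : x * g * x⁻¹ * x = x * g := by group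
          rw [h2] at h3
          exact h3
        · intro h
          apply MulEquiv.ext
          intro g
          change x * g * x⁻¹ = g
          rw [← h g, mul_inv_cancel_right]
      rw [← Nat.card_congr (QuotientGroup.quotientKerEquivRange (MulAut.conj : Bar Y →* MulAut (Bar Y))).toEquiv,
        e1]
    have h4 : α.range ≤ Inn (Bar Y) := by
      rintro _ ⟨e, rfl⟩
      exact hαin e
    have h5 : α.range = Inn (Bar Y) := by
      apply Subgroup.eq_of_le_of_card_ge h4
      rw [h3]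
      exact hc.trans h2
    have h6 : act Y ⟨u, hu⟩ = 1 := by
      apply eq_one_of_comm_inn hqY.1
      intro k
      have h7 : MulAut.conj k ∈ α.range := by rw [h5]; exact ⟨k, rfl⟩
      obtain ⟨⟨e, he⟩, hek⟩ := h7
      rw [← hek]
      change act Y ⟨u, hu⟩ * act Y ⟨e, hEN he⟩ = act Y ⟨e, hEN he⟩ * act Y ⟨u, hu⟩
      rw [← act_mul hu (hEN he), ← act_mul (hEN he) hu]
      exact act_congr _ (hcomm e he)
    exact (act_eq_one_iff hu).mp h6
  · -- the image has odd order
    have hrange : α.range ≤ (oddCore ↥E).map α := by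
      rw [MonoidHom.range_eq_map, ← hperf, _root_.commutator_def, map_commutator, commutator_le]
      have key : ∀ e : ↥E, ∃ e' : ↥E, (QuotientGroup.mk e' : Bar E) ∈ center (Bar E) ∧ α e = α e' := by
        intro e
        have h1 : q e ∈ α.ker.map q := by rw [ht]; exact mem_top _
        obtain ⟨n, hn, hne⟩ := h1
        refine ⟨n⁻¹ * e, ?_, ?_⟩
        · rw [← hqk, map_mul, map_inv, hne, inv_mul_cancel]
        · rw [map_mul, map_inv, MonoidHom.mem_ker.mp hn, inv_one, one_mul]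
      rintro _ ⟨e, -, rfl⟩ _ ⟨f, -, rfl⟩
      obtain ⟨e', he1, he2⟩ := key e
      obtain ⟨f', hf1, hf2⟩ := key f
      rw [he2, hf2, ← map_commutatorElement]
      refine ⟨⁅e', f'⁆, ?_, rfl⟩
      have h1 : (QuotientGroup.mk ⁅e', f'⁆ : Bar E) = 1 := by
        have h2 : (QuotientGroup.mk ⁅e', f'⁆ : Bar E) =
            ⁅(QuotientGroup.mk e' : Bar E), (QuotientGroup.mk f' : Bar E)⁆ := rfl
        rw [h2, commutatorElement_eq_one_iff_mul_comm]
        exact (mem_center_iff.mp hf1 _)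
      exact (QuotientGroup.eq_one_iff _).mp h1
    have hodd : Odd (Nat.card ↥((oddCore ↥E).map α)) := by
      have h1 : Odd (Nat.card (oddCore ↥E)) := by
        have h2 : (Nat.card (oddCore ↥E)).Coprime 2 := Cores.pPrimeCore_coprime 2
        exact Nat.coprime_two_right.mp h2
      exact Odd.of_dvd_nat h1 (Subgroup.card_map_dvd _ _)
    have h3 : E ≤ α.ker.map E.subtype := by
      apply hE.le_of_two
      intro k hk n hn
      refine ⟨⟨k, hk⟩, ?_, rfl⟩
      rw [SetLike.mem_coe, MonoidHom.mem_ker]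
      apply Cfsg.Agent.Intrinsic.Lifting.eq_one_of_odd hodd (hrange ⟨_, rfl⟩) (n := n)
      rw [← map_pow]
      have : (⟨k, hk⟩ : ↥E) ^ 2 ^ n = 1 := Subtype.ext hn
      rw [this, map_one]
    intro e he
    obtain ⟨⟨e', he'⟩, h4, h5⟩ := h3 he
    have h6 : e' = e := h5
    subst h6
    exact (actOn_eq_one_iff hEN he').mp h4

end inner

/-! ### the action on the centre -/

/-- an automorphism fixing three elements of a centre of order four acts trivially on it -/
theorem fixed_center {K : Type*} [Group K] [Finite K] (h4 : Nat.card (center K) = 4) {φ : MulAut K}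
    {a b : K} (ha : a ∈ center K) (hb : b ∈ center K) (ha1 : a ≠ 1) (hb1 : b ≠ 1) (hab : a ≠ b)
    (hφa : φ a = a) (hφb : φ b = b) : ∀ z ∈ center K, φ z = z := by
  have hle : fixed φ ⊓ center K ≤ center K := inf_le_right
  have h1 : Nat.card ↥(fixed φ ⊓ center K) ∣ 4 := by
    rw [← h4]; exact Subgroup.card_dvd_of_le hle
  have ha' : a ∈ fixed φ ⊓ center K := ⟨hφa, ha⟩
  have hb' : b ∈ fixed φ ⊓ center K := ⟨hφb, hb⟩
  have h2 : Nat.card ↥(fixed φ ⊓ center K) ≠ 1 := by
    intro h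
    rw [Subgroup.card_eq_one] at h
    rw [h, mem_bot] at ha'
    exact ha1 ha'
  have h3 : Nat.card ↥(fixed φ ⊓ center K) ≠ 2 := by
    intro h
    obtain ⟨w, -, hw⟩ := (Nat.card_eq_two_iff' (1 : ↥(fixed φ ⊓ center K))).mp h
    have e1 := hw ⟨a, ha'⟩ (fun h => ha1 (congrArg Subtype.val h))
    have e2 := hw ⟨b, hb'⟩ (fun h => hb1 (congrArg Subtype.val h))
    exact hab (congrArg Subtype.val (e1.trans e2.symm))
  have h5 : Nat.card ↥(fixed φ ⊓ center K) = 4 := by
    have h6 : Nat.card ↥(fixed φ ⊓ center K) ∣ 2 ^ 2 := h1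
    obtain ⟨k, hk, h7⟩ := (Nat.dvd_prime_pow Nat.prime_two).mp h6
    interval_cases k <;> simp_all
  have h6 : fixed φ ⊓ center K = center K := Subgroup.eq_of_le_of_card_ge hle (by rw [h4, h5])
  intro z hz
  rw [← h6] at hz
  exact hz.1

/-- `u` moves the centre of `Y / O(Y)` -/
def MovesZ {G : Type*} [Group G] (u : G) (Y : Subgroup G) : Prop :=
  ∃ w ∈ Y, Fixes w Y ∧ ⁅u, w⁆ ∉ core Y

section moves

variable {G : Type*} [Group G] {u : G} {J Y : Subgroup G}

theorem MovesZ.not_fixes (h : MovesZ u Y) : ¬ Fixes u Y := by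
  obtain ⟨w, hw, -, h1⟩ := h
  exact fun hf => h1 (hf.2 w hw)

theorem commutator_mem {w : G} (hu : u ∈ normalizer (Y : Set G)) (hw : w ∈ Y) : ⁅u, w⁆ ∈ Y := by
  rw [commutatorElement_def]
  exact mul_mem (conj_mem hu hw) (inv_mem hw)

theorem fixes_core {c : G} (hc : c ∈ core Y) : Fixes c Y := by
  rw [fixes_iff_conj]
  have hcY := core_le Y hc
  refine ⟨le_normalizer hcY, fun y hy => ?_⟩
  have h1 := conj_mem_core (x := y⁻¹) (le_normalizer (Y.inv_mem hy)) hc
  have h2 : y⁻¹ * (c * y * c⁻¹) = (y⁻¹ * c * (y⁻¹)⁻¹) * c⁻¹ := by group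
  rw [h2]
  exact mul_mem h1 (inv_mem hc)

variable [Finite G]

theorem movesZ_of_sup (hs : J ⊔ core Y = Y) (huJ : u ∈ normalizer (J : Set G))
    (huY : u ∈ normalizer (Y : Set G)) : MovesZ u J ↔ MovesZ u Y := by
  have hJ : J ≤ Y := by rw [← hs]; exact le_sup_left
  constructor
  · rintro ⟨w, hw, h1, h2⟩
    refine ⟨w, hJ hw, (fixes_iff_of_sup hs (le_normalizer hw) (le_normalizer (hJ hw))).mp h1,
      fun h => h2 ?_⟩
    rw [core_of_sup hs]
    exact ⟨commutator_mem huJ hw, h⟩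
  · rintro ⟨w, hw, h1, h2⟩
    obtain ⟨j, hj, hc⟩ := exists_mul_of_sup hs hw
    obtain ⟨c, hc'⟩ : ∃ c, c = j⁻¹ * w := ⟨_, rfl⟩
    rw [← hc'] at hc
    have hw' : w = j * c := by rw [hc']; group
    have h3 : Fixes j Y := by
      have : j = w * c⁻¹ := by rw [hw']; group
      rw [this]
      exact fixes_mul h1 (fixes_inv (fixes_core hc))
    refine ⟨j, hj, (fixes_iff_of_sup hs (le_normalizer hj) (le_normalizer (hJ hj))).mpr h3,
      fun h => h2 ?_⟩
    have h4 := core_le_of_sup hs h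
    have h5 : ⁅u, c⁆ ∈ core Y := by
      rw [commutatorElement_def]
      exact mul_mem (conj_mem_core huY hc) (inv_mem hc)
    have h6 : ⁅u, w⁆ = ⁅u, j⁆ * (j * ⁅u, c⁆ * j⁻¹) := by
      rw [hw', commutatorElement_def, commutatorElement_def, commutatorElement_def]; group
    rw [h6]
    exact mul_mem h4 (conj_mem_core (le_normalizer (hJ hj)) h5)

end moves

/-- an element moving the centre fixes only one involution of it -/
theorem eq_of_movesZ {κ : Kind.{u}} (hkl : Klein κ) {G : Type u} [Group G] [Finite G] {u a b : G}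
    {N : Subgroup G} (hk : κ.P (Bar N)) (hu : u ∈ normalizer (N : Set G)) (hm : MovesZ u N)
    (ha : a ∈ N) (hb : b ∈ N) (haa : a * a = 1) (hbb : b * b = 1) (ha1 : a ≠ 1) (hb1 : b ≠ 1)
    (hfa : Fixes a N) (hfb : Fixes b N) (hab : a * b = b * a) (hua : u * a = a * u)
    (hub : u * b = b * u) : a = b := by
  by_contra hne
  obtain ⟨w, hw, hfw, h1⟩ := hm
  have hsim : ∀ {c : G} (hc : c ∈ N), c * c = 1 → c ≠ 1 → (QuotientGroup.mk ⟨c, hc⟩ : Bar N) ≠ 1 := by
    intro c hc hcc hc1 h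
    rw [Cfsg.Agent.Intrinsic.Quot.mk_eq_one_iff] at h
    exact hc1 (eq_one_of_mem_core_sq h hcc)
  have hfix : ∀ {c : G} (hc : c ∈ N), u * c = c * u → act N ⟨u, hu⟩ (QuotientGroup.mk ⟨c, hc⟩) =
      QuotientGroup.mk ⟨c, hc⟩ := by
    intro c hc huc
    rw [act_mk hu hc]
    congr 1
    apply Subtype.ext
    change u * c * u⁻¹ = c
    rw [huc, mul_inv_cancel_right]
  have h2 := fixed_center (hkl.card hk) (φ := act N ⟨u, hu⟩) ((mk_mem_center_iff ha).mpr hfa)
    ((mk_mem_center_iff hb).mpr hfb) (hsim ha haa ha1) (hsim hb hbb hb1) (by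
      intro h
      rw [Cfsg.Agent.Intrinsic.Quot.mk_eq_mk_iff'] at h
      exact hne (Cfsg.Agent.Intrinsic.Lifting.eq_of_commute (odd_card_core N) (n := 1) (m := 1)
        (by rw [pow_one, pow_two, haa]) (by rw [pow_one, pow_two, hbb]) hab h))
    (hfix ha hua) (hfix hb hub) _ ((mk_mem_center_iff hw).mpr hfw)
  apply h1
  rw [act_mk hu hw, Cfsg.Agent.Intrinsic.Quot.mk_eq_mk_iff'] at h2
  have h3 := conj_mem_core (x := w) (le_normalizer hw) (inv_mem h2)
  have h4 := conj_mem_core (x := u * w * u⁻¹) (le_normalizer (conj_mem hu hw)) h2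
  rw [commutatorElement_def]
  convert inv_mem h4 using 1
  group

section world

variable {κ : Kind.{u}} {G : Type u} [Group G] [Finite G] {u v : G} {X Y : Subgroup G}

theorem card_center_quot (hkl : Klein κ) {A B : Type u} [Group A] [Group B] [Finite A] [Finite B]
    (hA : κ.P A) (hB : κ.P B) : Nat.card (A ⧸ center A) = Nat.card (B ⧸ center B) := by
  have h1 := κ.card_eq hA hB
  rw [Subgroup.card_eq_card_quotient_mul_card_subgroup (center A),
    Subgroup.card_eq_card_quotient_mul_card_subgroup (center B), hkl.card hA, hkl.card hB] at h1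
  omega

/-- the diagonal fixes the pairs over `v` -/
theorem diag_fixes (hkl : Klein κ) (hX : IsPair κ u X) (hY : IsPair κ v Y) (huv : u * v = v * u)
    (hmove : cj v X ≠ X) (hu : u ∈ normalizer (Y : Set G)) (hnf : ¬ Fixes u Y) :
    ∀ d ∈ diag (centralizer ({u} : Set G)) X v, Fixes d Y := by
  have hvCu : v ∈ centralizer ({u} : Set G) := mem_centralizer_singleton_iff.mpr huv.symm
  have huCv : u ∈ centralizer ({v} : Set G) := mem_centralizer_singleton_iff.mpr huv
  obtain ⟨hE, -, -, -, f, hf, -, -⟩ := exists_diag hX.comp hvCu hY.sq hmove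
  have hE2 : IsComp (centralizer ({v} : Set G) ⊓ centralizer ({u} : Set G))
      (diag (centralizer ({u} : Set G)) X v) := by rw [inf_comm]; exact hE
  have hL2 := isComp_le_L2 huCv hX.sq hE2
  obtain ⟨j⟩ := exists_quot_center_of_surjective (quasisimple_quot hX.comp) (quasisimple_quot hE) f hf
  refine fixes_of_inner hE hY.comp ?_ (fun e he => exists_of_mem_L2 hY.comp (hL2 he)) hu
    (fun e he => (mem_centralizer_singleton_iff.mp (hE.le he).1).symm) hnf
  rw [card_center_quot hkl hY.kind hX.kind, Nat.card_congr j.toEquiv]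

/-- **The main step of (3F), case `f`, `g`.** -/
theorem lemB (S : Sett κ G) (hX : IsPair κ u X) (hY : IsPair κ v Y) (huv : u * v = v * u)
    (hmove : cj v X ≠ X) (hu : u ∈ normalizer (Y : Set G)) (hz : MovesZ u Y) {x : G} (hxX : x ∈ X)
    (hx2 : x * x = 1) (hxv : x * (v * x * v⁻¹) = (v * x * v⁻¹) * x) (hne : x * (v * x * v⁻¹) ≠ 1)
    {R : Subgroup G} (hR : IsComp (centralizer ({x} : Set G)) R) (huR : u ∈ R) : ¬ Fixes u R := by
  intro hfR
  have hnf := hz.not_fixes
  have hvCu : v ∈ centralizer ({u} : Set G) := mem_centralizer_singleton_iff.mpr huv.symm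
  have huCv : u ∈ centralizer ({v} : Set G) := mem_centralizer_singleton_iff.mpr huv
  have hv2 := hY.sq
  have hu2 := hX.sq
  have hvi : v⁻¹ = v := inv_eq_of_mul_eq_one_left hv2
  have hxi : x⁻¹ = x := inv_eq_of_mul_eq_one_left hx2
  have hxu' : x * u = u * x := pair_comm hX hxX
  have huxi : u * x * u⁻¹ = x := by rw [← hxu', mul_inv_cancel_right]
  obtain ⟨e, he⟩ : ∃ e, e = x * (v * x * v⁻¹) := ⟨_, rfl⟩
  have he1 : e ≠ 1 := by rw [he]; exact hne
  have hxvx : x * v * x⁻¹ = v * e := by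
    rw [he, hxv, hxi, hvi]
    calc x * v * x = (v * v) * x * v * x := by rw [hv2, one_mul]
      _ = _ := by group
  have hev : e * v = v * e := by
    rw [← hxvx, he, hxi, mul_assoc, inv_mul_cancel_right, mul_assoc]
  have hex : e * x = x * e := by
    rw [he]
    nth_rewrite 1 [hxv]
    rw [mul_assoc, hx2, mul_one, ← mul_assoc, hx2, one_mul]
  have hee : e * e = 1 := by
    calc e * e = (x * (v * x * v⁻¹)) * ((v * x * v⁻¹) * x) := by rw [← hxv, ← he]
      _ = x * v * (x * x) * v⁻¹ * x := by group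
      _ = 1 := by rw [hx2, mul_one, mul_inv_cancel_right, hx2]
  have heu : e * u = u * e := by
    rw [he]
    calc x * (v * x * v⁻¹) * u = x * v * x * (v⁻¹ * u) := by group
      _ = x * v * x * (u * v⁻¹) := by rw [hvi, huv]
      _ = x * v * (x * u) * v⁻¹ := by group
      _ = x * (v * u) * x * v⁻¹ := by rw [hxu']; group
      _ = x * (u * v) * x * v⁻¹ := by rw [huv]
      _ = (x * u) * v * x * v⁻¹ := by group
      _ = u * (x * (v * x * v⁻¹)) := by rw [hxu']; group
  have hX2 : IsComp (centralizer ({u} : Set G)) (cj v X) := isComp_cj_of_mem hX.comp hvCu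
  have hx1 : x ≠ 1 := by
    rintro rfl
    apply hne
    group
  have hxo := order_two hx2 hx1
  have heo := order_two hee he1
  have heCu : e ∈ centralizer ({u} : Set G) := mem_centralizer_singleton_iff.mpr heu
  have heCv : e ∈ centralizer ({v} : Set G) := mem_centralizer_singleton_iff.mpr hev
  have huCe : u ∈ centralizer ({e} : Set G) := mem_centralizer_singleton_iff.mpr heu.symm
  have hvCe : v ∈ centralizer ({e} : Set G) := mem_centralizer_singleton_iff.mpr hev.symm
  have hxCe : x ∈ centralizer ({e} : Set G) := mem_centralizer_singleton_iff.mpr hex.symm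
  have huCx : u ∈ centralizer ({x} : Set G) := mem_centralizer_singleton_iff.mpr hxu'.symm
  -- `e` lies in the diagonal
  have heE : e ∈ diag (centralizer ({u} : Set G)) X v :=
    mem_diag heCu hev hxX (by rw [← he, inv_mul_cancel]; exact one_mem _) (n := 1)
      (by rw [pow_one, pow_two]; exact hee)
  have hfe : Fixes e Y := diag_fixes S.kl hX hY huv hmove hu hnf e heE
  -- the pump-up in `C(e)`
  obtain ⟨N, hN, hJN, hvN⟩ := exists_pump hY hee hev hfe
  obtain ⟨hJ, hJsup⟩ := isComp_cen hY.comp heCv hee hfe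
  have hJk := (kind_cen (κ := κ) hY.comp heCv hee hfe).mpr hY.kind
  have hvJ : v ∈ cen Y e := pair_mem_cen hY hev
  have hJ2 : IsComp (centralizer ({e} : Set G) ⊓ centralizer ({v} : Set G)) (cen Y e) := by
    rw [inf_comm]; exact hJ
  have huJ : u ∈ normalizer (cen Y e : Set G) := mem_normalizer_cen hu heu.symm
  have huN : u ∈ normalizer (N : Set G) := by
    rw [mem_normalizer_iff_cj] at huJ ⊢
    refine hJ2.unique (isComp_cj_of_mem hN huCe) hN ?_ hJN
    rw [← huJ]
    exact cj_mono hJN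
  have hsb := S.small_or_big hee he1 hY.inv hvJ hJ2 hJk hN hJN
  -- facts on a small `N`
  have hsmz : Small (cen Y e) N → MovesZ u N := fun hs =>
    (movesZ_of_sup hs huJ huN).mp ((movesZ_of_sup hJsup huJ hu).mpr hz)
  have hveN2 : v * e ∈ cj x N := by
    rw [← hxvx]; exact conj_mem_cj hvN
  have hve2 : (v * e) * (v * e) = 1 := by
    calc (v * e) * (v * e) = v * (e * v) * e := by group
      _ = (v * v) * (e * e) := by rw [hev]; group
      _ = 1 := by rw [hv2, hee, one_mul]
  have hfeN : Fixes e N := fixes_of_le_cent hN.le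
  -- `N ≠ N^x`
  have hN12 : cj x N ≠ N := by
    intro h
    rw [h] at hveN2
    have heN : e ∈ N := by
      have := N.mul_mem (N.inv_mem hvN) hveN2
      rwa [inv_mul_cancel_left] at this
    have hs : Small (cen Y e) N := by
      rcases hsb with h1 | h1
      · exact h1
      · exact absurd hfeN (S.big_not_fixes h1 hY.inv hvJ hJ2 hJk hN hJN heN hee he1)
    have hfv : Fixes v N := hs.fixes hvJ fun y hy =>
      mem_centralizer_singleton_iff.mpr (pair_comm hY (cen_le Y e hy))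
    have h2 : v = e := eq_of_movesZ S.kl (kind_of_small hs hJk) huN (hsmz hs) hvN heN hv2 hee
      hY.ne_one he1 hfv hfeN hev.symm huv heu.symm
    -- but `e` normalizes `X`
    apply hmove
    rw [h2]
    have h3 : e ∈ normalizer (X : Set G) := by
      rw [he]
      refine mul_mem (le_normalizer hxX) ?_
      exact (hX.comp.fixes_of_mem hX2 (Ne.symm hmove) (conj_mem_cj hxX)).1
    exact mem_normalizer_iff_cj.mp h3
  -- `N` is small
  have hN2 : IsComp (centralizer ({e} : Set G)) (cj x N) := isComp_cj_of_mem hN hxCe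
  have hfv : Fixes v N := by
    have h1 : Fixes (v * e) N := hN.fixes_of_mem hN2 (Ne.symm hN12) hveN2
    exact (fixes_mul_iff_left hfeN).mp h1
  have hs : Small (cen Y e) N := by
    rcases hsb with h1 | h1
    · exact h1
    · exact absurd hfv (S.big_not_fixes h1 hY.inv hvJ hJ2 hJk hN hJN hvN hv2 hY.ne_one)
  -- the diagonal of `N N ^ x`
  obtain ⟨hG, -, -, hGcore, -⟩ := exists_diag hN hxCe hx2 hN12
  have hvxv : v * (x * v * x⁻¹) = e := by rw [hxvx, ← mul_assoc, hv2, one_mul]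
  have heG : e ∈ diag (centralizer ({e} : Set G)) N x :=
    mem_diag (mem_centralizer_singleton_iff.mpr rfl) hex hvN
      (by rw [hvxv, inv_mul_cancel]; exact one_mem _) (n := 1)
      (by rw [pow_one, pow_two]; exact hee)
  have hG2 : IsComp (centralizer ({x} : Set G) ⊓ centralizer ({e} : Set G))
      (diag (centralizer ({e} : Set G)) N x) := by rw [inf_comm]; exact hG
  obtain ⟨R1, hR1, hGR⟩ := exists_pumpup hee heG hG2
  have hcjN2 : cj u (cj x N) = cj x N := by
    rw [← cj_mul, ← hxu', cj_mul, mem_normalizer_iff_cj.mp huN]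
  have huG : u ∈ normalizer (diag (centralizer ({e} : Set G)) N x : Set G) := by
    rw [mem_normalizer_iff_cj, cj_diag, cj_eq_self_of_mem huCe, huxi, mem_normalizer_iff_cj.mp huN]
  have hfR1 : Fixes u R1 := by
    by_cases h : R1 = R
    · rw [h]; exact hfR
    · exact hR1.fixes_of_mem hR h huR
  have hfG := fixes_of_le hGR huG hfR1
  have hfN : Fixes u N := by
    refine fixes_of_comm_diag hN hxCe hx2 hN12 huCe huN (mem_normalizer_iff_cj.mpr hcjN2)
      fun m hm => ?_
    have h1 := hfG.2 m hm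
    rw [hGcore] at h1
    exact h1.2
  exact (hsmz hs).not_fixes hfN

end world

/-! ### lifting -/

section lift

variable {G : Type*} [Group G] [Finite G]

/-- An involution modulo the odd group `N`, centralised modulo `N` by the 2-group `P`, lifts to an involution
centralised by `P`. -/
theorem exists_inv_group {N P : Subgroup G} (hN : Odd (Nat.card N)) (hP : IsPGroup 2 P)
    (hPN : P ≤ normalizer (N : Set G)) {w : G} (hwN : w ∈ normalizer (N : Set G)) (hw : w * w ∈ N)
    (h : ∀ a ∈ P, w⁻¹ * (a * w * a⁻¹) ∈ N) :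
    ∃ u ∈ normalizer (N : Set G), u * u = 1 ∧ w⁻¹ * u ∈ N ∧ ∀ a ∈ P, a * u = u * a := by
  obtain ⟨o, ho, hc⟩ := Cfsg.Agent.Intrinsic.Lifting.exists_commute_group hN hP hPN (m := w) h
  have h1 : (w * o) ^ 2 ^ 1 ∈ N := by
    have e : (w * o) ^ 2 ^ 1 = (w * w) * (w⁻¹ * o * w) * o := by
      rw [pow_one, pow_two]; group
    rw [e]
    refine mul_mem (mul_mem hw ?_) ho
    have := (mem_normalizer_iff.mp (inv_mem hwN) o).mp ho
    rwa [inv_inv] at this
  obtain ⟨k, hk1, hk2⟩ := Cfsg.Agent.Intrinsic.Lifting.exists_two_part hN h1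
  have hm : w⁻¹ * (w * o) ^ k ∈ N := by
    have : w⁻¹ * (w * o) ^ k = o * ((w * o)⁻¹ * (w * o) ^ k) := by group
    rw [this]
    exact mul_mem ho hk2
  refine ⟨(w * o) ^ k, ?_, ?_, hm, fun a ha => ?_⟩
  · have : (w * o) ^ k = w * (w⁻¹ * (w * o) ^ k) := by group
    rw [this]
    exact mul_mem hwN (le_normalizer hm)
  · rw [← pow_two]; rw [pow_one] at hk1; exact hk1
  · exact ((show Commute a (w * o) from hc a ha).pow_right k).eq

/-- an involution of `X / O(X)` lifts to an involution of `X` -/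
theorem exists_inv_lift {X : Subgroup G} {c : Bar X} (hc : c * c = 1) :
    ∃ (x : G) (hx : x ∈ X), x * x = 1 ∧ (QuotientGroup.mk ⟨x, hx⟩ : Bar X) = c := by
  obtain ⟨⟨y, hy⟩, rfl⟩ := QuotientGroup.mk_surjective c
  have h1 : y * y ∈ core X := by
    rw [← Cfsg.Agent.Intrinsic.Quot.mk_eq_one_iff (X.mul_mem hy hy)]
    exact hc
  obtain ⟨x, -, hx1, hx2, -⟩ := exists_inv_group (odd_card_core X) (P := ⊥) IsPGroup.of_bot bot_le
    (le_normalizer_core X hy) h1 (fun a ha => by
      rw [mem_bot] at ha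
      rw [ha, one_mul, inv_one, mul_one, inv_mul_cancel]
      exact one_mem _)
  have hx : x ∈ X := by
    have : x = y * (y⁻¹ * x) := by group
    rw [this]
    exact mul_mem hy (core_le X hx2)
  exact ⟨x, hx, hx1, ((Cfsg.Agent.Intrinsic.Quot.mk_eq_mk_iff' hy hx).mpr hx2).symm⟩

end lift

section world

variable {κ : Kind.{u}} {G : Type u} [Group G] [Finite G] {u v : G} {X Y : Subgroup G}

/-- `v` centralises the involutions of `X` central modulo `O(X)` which commute with their `v`-conjugates -/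
theorem lemC (S : Sett κ G) (hX : IsPair κ u X) (hY : IsPair κ v Y) (huv : u * v = v * u)
    (hmove : cj v X ≠ X) (hu : u ∈ normalizer (Y : Set G)) (hz : MovesZ u Y) {w : G} (hw : w ∈ X)
    (hww : w * w = 1) (hw1 : w ≠ 1) (hf : Fixes w X)
    (hwv : w * (v * w * v⁻¹) = (v * w * v⁻¹) * w) : v * w * v⁻¹ = w := by
  by_contra hne
  have hne' : w * (v * w * v⁻¹) ≠ 1 := by
    intro h
    apply hne
    rw [← inv_eq_of_mul_eq_one_right h, inv_eq_of_mul_eq_one_left hww]
  have hwu := pair_comm hX hw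
  obtain ⟨M, hM, huM, hle, hs, -, -⟩ := S.vess hX hw hww hw1 hf
  refine lemB S hX hY huv hmove hu hz hw hww hwv hne' hM.comp huM ?_
  exact Small.fixes hs (pair_mem_cen hX hwu) fun y hy =>
    mem_centralizer_singleton_iff.mpr (pair_comm hX (cen_le X w hy))

theorem lemD (S : Sett κ G) (hX : IsPair κ u X) (hY : IsPair κ v Y) (huv : u * v = v * u)
    (hmove : cj v X ≠ X) (hu : u ∈ normalizer (Y : Set G)) (hz : MovesZ u Y) {x : G} (hxX : x ∈ X)
    (hx2 : x * x = 1) (hxv : x * (v * x * v⁻¹) = (v * x * v⁻¹) * x) (hnx : ¬ Fixes x X) {t : G}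
    (ht : t ∈ cj v X) (htt : t * t = 1) (htx : t * x = x * t)
    (hcan : Can (QuotientGroup.mk ⟨t, ht⟩ : Bar (cj v X))) :
    ∃ F, IsPair κ t F ∧ u ∈ F ∧ Fixes x F := by
  have hvCu : v ∈ centralizer ({u} : Set G) := mem_centralizer_singleton_iff.mpr huv.symm
  have hX2p : IsPair κ u (cj v X) := by
    have := hX.cj v
    rwa [← huv, mul_inv_cancel_right] at this
  have hxi : x⁻¹ = x := inv_eq_of_mul_eq_one_left hx2
  have hxu : x * u = u * x := pair_comm hX hxX
  have hxCu : x ∈ centralizer ({u} : Set G) := mem_centralizer_singleton_iff.mpr hxu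
  have hne : x * (v * x * v⁻¹) ≠ 1 := by
    intro h
    apply hnx
    have h1 : v * x * v⁻¹ = x := by rw [← inv_eq_of_mul_eq_one_right h, hxi]
    have h2 : x ∈ cj v X := by
      have := conj_mem_cj (g := v) hxX
      rwa [h1] at this
    exact hX.comp.fixes_of_mem hX2p.comp (Ne.symm hmove) h2
  have hx1 : x ≠ 1 := by
    rintro rfl
    exact hnx (fixes_one X)
  have hfx : Fixes x (cj v X) := hX2p.comp.fixes_of_mem hX.comp hmove hxX
  obtain ⟨R, hR, hJR, huR⟩ := exists_pump hX2p hx2 hxu hfx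
  have hnf := lemB S hX hY huv hmove hu hz hxX hx2 hxv hne hR huR
  obtain ⟨hJ, hJsup⟩ := isComp_cen hX2p.comp hxCu hx2 hfx
  have hJk := (kind_cen (κ := κ) hX2p.comp hxCu hx2 hfx).mpr hX2p.kind
  have huJ : u ∈ cen (cj v X) x := pair_mem_cen hX2p hxu
  have hJ2 : IsComp (centralizer ({x} : Set G) ⊓ centralizer ({u} : Set G)) (cen (cj v X) x) := by
    rw [inf_comm]; exact hJ
  have hbig : Big κ u (cen (cj v X) x) R := by
    rcases S.small_or_big hx2 hx1 hX.inv huJ hJ2 hJk hR hJR with h | h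
    · exact absurd (h.fixes huJ fun y hy =>
        mem_centralizer_singleton_iff.mpr (pair_comm hX2p (cen_le _ x hy))) hnf
    · exact h
  obtain ⟨huR', hT, hp⟩ := Sett.big_pair hbig hX.inv huJ hJ2 hJk hR hJR
  have htJ : t ∈ cen (cj v X) x := mem_cen_of_sq ht htx htt
  have htR : t ∈ R := hJR htJ
  have htu : t * u = u * t := pair_comm hX2p ht
  -- `t` is canonical
  obtain ⟨e1, he1⟩ := exists_quotEquiv hJsup
  obtain ⟨e2, he2⟩ := exists_qs_equiv hJR
  have hc1 : Can (QuotientGroup.mk ⟨t, htJ⟩ : Bar (cen (cj v X) x)) := by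
    rw [← Can.map_iff e1, he1 t htJ ht]
    exact hcan
  have hc2 := hc1.map e2
  rw [he2 t htJ] at hc2
  obtain ⟨gb, hg1, hg2⟩ := S.he.can hT hp _ _ hc2
  obtain ⟨⟨g₁, hg₁⟩, rfl⟩ := QuotientGroup.mk_surjective gb
  have hgu : g₁ * u * g₁⁻¹ ∈ R := R.mul_mem (R.mul_mem hg₁ huR) (R.inv_mem hg₁)
  have h1 : (g₁ * u * g₁⁻¹)⁻¹ * t ∈ core R :=
    (Cfsg.Agent.Intrinsic.Quot.mk_eq_mk_iff' hgu htR).mp hg1
  obtain ⟨o, ho, h2⟩ := Cfsg.Agent.Intrinsic.Lifting.exists_conj_eq (odd_card_core R)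
    (v := g₁ * u * g₁⁻¹) (v' := t) (n := 1) (m := 1)
    (by rw [pow_one, pow_two, show g₁ * u * g₁⁻¹ * (g₁ * u * g₁⁻¹) = g₁ * (u * u) * g₁⁻¹ by group,
      hX.sq]; group)
    (by rw [pow_one, pow_two, htt]) (le_normalizer_core R hgu) h1
  have hoR := core_le R ho
  obtain ⟨g, hg⟩ : ∃ g, g = o * g₁ := ⟨_, rfl⟩
  have hgR : g ∈ R := by rw [hg]; exact R.mul_mem hoR hg₁
  have hgt : g * u * g⁻¹ = t := by rw [← h2, hg]; group
  have hgx : g * x = x * g := mem_centralizer_singleton_iff.mp (hR.le hgR)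
  -- `u ∈ J ^ g`
  have h3 : (QuotientGroup.mk ⟨g₁⁻¹ * u * g₁, R.mul_mem (R.mul_mem (R.inv_mem hg₁) huR) hg₁⟩ :
      Bar R) ∈ qs R (cen (cj v X) x) := mem_cj.mp hg2
  obtain ⟨j, ⟨hjJ, -⟩, hj⟩ := (mem_qs _).mp h3
  have h4 : j⁻¹ * (g⁻¹ * u * g) ∈ core R := by
    have e : j⁻¹ * (g⁻¹ * u * g) = (j⁻¹ * (g₁⁻¹ * u * g₁)) * (g₁⁻¹ * (u⁻¹ * o⁻¹ * u * o) * g₁) := by
      rw [hg]; group
    rw [e]
    refine mul_mem hj ?_
    have h5 : u⁻¹ * o⁻¹ * u * o ∈ core R := by
      have := conj_mem_core (x := u⁻¹) (le_normalizer (R.inv_mem huR)) (inv_mem ho)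
      rw [inv_inv] at this
      exact mul_mem this ho
    have := conj_mem_core (x := g₁⁻¹) (le_normalizer (R.inv_mem hg₁)) h5
    rwa [inv_inv] at this
  have hgug : g⁻¹ * u * g * u = u * (g⁻¹ * u * g) := by
    -- `u` commutes with `t = g u g⁻¹`
    have h5 : g⁻¹ * t * g = u := by rw [← hgt]; group
    have h6 : g⁻¹ * (u * t) * g = g⁻¹ * (t * u) * g := by rw [htu]
    calc g⁻¹ * u * g * u = g⁻¹ * u * g * (g⁻¹ * t * g) := by rw [h5]
      _ = g⁻¹ * (u * t) * g := by group
      _ = g⁻¹ * (t * u) * g := h6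
      _ = (g⁻¹ * t * g) * (g⁻¹ * u * g) := by group
      _ = _ := by rw [h5]
  have hguR : g⁻¹ * u * g ∈ R := R.mul_mem (R.mul_mem (R.inv_mem hgR) huR) hgR
  have hguC : g⁻¹ * u * g ∈ centralizer ({u} : Set G) := mem_centralizer_singleton_iff.mpr hgug
  have hJR' := isComp_inf hJ2 hR hJR
  have hguJ : g⁻¹ * u * g ∈ cen (cj v X) x := by
    refine hJR'.mem_of_two (n := 1) hjJ ?_ ?_
    · refine le_core (N := core R ⊓ centralizer ({u} : Set G)) (inf_le_inf_right _ (core_le R)) ?_
        (Odd.of_dvd_nat (odd_card_core R) (card_dvd_of_le inf_le_left)) ⟨h4, ?_⟩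
      · intro a ha
        rw [mem_normalizer_iff_cj, cj_inf, cj_eq_self_of_mem ha.2,
          mem_normalizer_iff_cj.mp (le_normalizer_core R ha.1)]
      · exact Subgroup.mul_mem _ (Subgroup.inv_mem _ (hJR'.le hjJ).2) hguC
    · rw [pow_one, pow_two, show g⁻¹ * u * g * (g⁻¹ * u * g) = g⁻¹ * (u * u) * g by group, hX.sq]
      group
  refine ⟨cj g (cj v X), ?_, ?_, ?_⟩
  · have := hX2p.cj g
    rwa [hgt] at this
  · rw [mem_cj]
    exact cen_le _ x hguJ
  · have := hfx.cj g
    rwa [hgx, mul_inv_cancel_right] at this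

end world

/-! ### auxiliary results -/

section aux

variable {G : Type*} [Group G]

theorem exists_other {K : Type*} [Group K] [Finite K] (h4 : Nat.card (center K) = 4) (a : K) :
    ∃ c ∈ center K, c ≠ 1 ∧ c ≠ a := by
  by_contra h
  push Not at h
  have h1 : (center K : Set K) ⊆ {1, a} := by
    intro c hc
    by_cases hc1 : c = 1
    · exact Or.inl hc1
    · exact Or.inr (h c hc hc1)
  have h2 := Set.ncard_le_ncard h1 (Set.toFinite _)
  have h3 : ({1, a} : Set K).ncard ≤ 2 := Set.ncard_insert_le 1 {a} |>.trans (by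
    rw [Set.ncard_singleton])
  have h4' : (center K : Set K).ncard = 4 := h4
  omega

theorem isPGroup_zpowers_of_sq {a : G} (ha : a * a = 1) : IsPGroup 2 (zpowers a) := by
  rintro ⟨_, n, rfl⟩
  refine ⟨1, Subtype.ext ?_⟩
  change (a ^ n) ^ 2 ^ 1 = 1
  rw [pow_one, ← zpow_natCast, ← zpow_mul, mul_comm, zpow_mul, zpow_natCast, pow_two, ha, one_zpow]

theorem zpowers_le_normalizer_of_comm {a b : G} (h : a * b = b * a) :
    zpowers a ≤ normalizer (zpowers b : Set G) := by
  rw [zpowers_le, mem_normalizer_iff_cj, cj_def, MonoidHom.map_zpowers]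
  congr 1
  change a * b * a⁻¹ = b
  rw [h, mul_inv_cancel_right]

/-- the 2-group generated by two commuting involutions and an involution swapping them -/
theorem isPGroup_swap {x v : G} (hx : x * x = 1) (hv : v * v = 1)
    (hxv : x * (v * x * v⁻¹) = (v * x * v⁻¹) * x) :
    IsPGroup 2 ↥((zpowers x ⊔ zpowers (v * x * v⁻¹)) ⊔ zpowers v) := by
  have ht : (v * x * v⁻¹) * (v * x * v⁻¹) = 1 := by
    rw [show (v * x * v⁻¹) * (v * x * v⁻¹) = v * (x * x) * v⁻¹ by group, hx]; group
  refine IsPGroup.to_sup_of_normal_left' (IsPGroup.to_sup_of_normal_right' (isPGroup_zpowers_of_sq hx)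
    (isPGroup_zpowers_of_sq ht) (zpowers_le_normalizer_of_comm hxv)) (isPGroup_zpowers_of_sq hv) ?_
  rw [zpowers_le, mem_normalizer_iff_cj, cj_def, Subgroup.map_sup, MonoidHom.map_zpowers,
    MonoidHom.map_zpowers, sup_comm]
  have e1 : (MulAut.conj v).toMonoidHom (v * x * v⁻¹) = x := by
    change v * (v * x * v⁻¹) * v⁻¹ = x
    have hvi : v⁻¹ = v := inv_eq_of_mul_eq_one_left hv
    rw [hvi]
    calc v * (v * x * v) * v = (v * v) * x * (v * v) := by group
      _ = x := by rw [hv, one_mul, mul_one]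
  rw [e1]
  rfl

/-- the elements of `H` commuting with `w` modulo `O(H)` -/
def cmod (H : Subgroup G) {w : G} (hw : w ∈ H) : Subgroup G :=
  ((centralizer ({(QuotientGroup.mk' (oddCore ↥H)) ⟨w, hw⟩} : Set (↥H ⧸ oddCore ↥H))).comap
    (QuotientGroup.mk' (oddCore ↥H))).map H.subtype

theorem mem_cmod {H : Subgroup G} {w a : G} (hw : w ∈ H) :
    a ∈ cmod H hw ↔ ∃ _ : a ∈ H, w⁻¹ * (a * w * a⁻¹) ∈ core H := by
  have key : ∀ ha : a ∈ H, (⟨a, ha⟩ : ↥H) ∈ (centralizer
      ({(QuotientGroup.mk' (oddCore ↥H)) ⟨w, hw⟩} : Set (↥H ⧸ oddCore ↥H))).comap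
        (QuotientGroup.mk' (oddCore ↥H)) ↔ w⁻¹ * (a * w * a⁻¹) ∈ core H := by
    intro ha
    rw [mem_comap, mem_centralizer_singleton_iff, ← commutator_mem_core_iff ha hw]
    have h1 : ⁅a, w⁆ = w * (w⁻¹ * (a * w * a⁻¹)) * w⁻¹ := by
      rw [commutatorElement_def]; group
    have h2 : w⁻¹ * (a * w * a⁻¹) = w⁻¹ * ⁅a, w⁆ * (w⁻¹)⁻¹ := by
      rw [commutatorElement_def]; group
    constructor
    · intro h
      rw [h2]
      exact conj_mem_core (le_normalizer (H.inv_mem hw)) h
    · intro h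
      rw [h1]
      exact conj_mem_core (le_normalizer hw) h
  constructor
  · rintro ⟨⟨a', ha'⟩, h, rfl⟩
    exact ⟨ha', (key ha').mp h⟩
  · rintro ⟨ha, h⟩
    exact ⟨⟨a, ha⟩, (key ha).mpr h, rfl⟩

end aux

section world

variable {κ : Kind.{u}} {G : Type u} [Group G] [Finite G] {u v : G} {X Y : Subgroup G}

theorem mk_eq_of_core {H X : Subgroup G} (hX : IsComp H X) {x y : G} (hx : x ∈ X) (hy : y ∈ X)
    (h : x⁻¹ * y ∈ core H) : (QuotientGroup.mk ⟨x, hx⟩ : Bar X) = QuotientGroup.mk ⟨y, hy⟩ := by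
  rw [Cfsg.Agent.Intrinsic.Quot.mk_eq_mk_iff', hX.core_eq]
  exact ⟨X.mul_mem (X.inv_mem hx) hy, h⟩

theorem caseB (S : Sett κ G) (hX : IsPair κ u X) (hY : IsPair κ v Y) (huv : u * v = v * u)
    (hmove : cj v X ≠ X) (hu : u ∈ normalizer (Y : Set G)) (hz : MovesZ u Y) : False := by
  have hvCu : v ∈ centralizer ({u} : Set G) := mem_centralizer_singleton_iff.mpr huv.symm
  have hv2 := hY.sq
  have hu2 := hX.sq
  have hX2p : IsPair κ u (cj v X) := by
    have := hX.cj v
    rwa [← huv, mul_inv_cancel_right] at this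
  -- the canonical involution `x`
  obtain ⟨c, hc⟩ := S.kl.exCan hX.kind
  obtain ⟨x0, hx0, hx02, hx0c⟩ := exists_inv_lift hc.1.1
  obtain ⟨x, hxX, hx2, hx0x, hxv⟩ := exists_comm_swap hX.comp hvCu hv2 hmove hx0 hx02
  have hmkx : (QuotientGroup.mk ⟨x, hxX⟩ : Bar X) = c := by
    rw [← hx0c]; exact (mk_eq_of_core hX.comp hx0 hxX hx0x).symm
  have hxcan : Can (QuotientGroup.mk ⟨x, hxX⟩ : Bar X) := by rw [hmkx]; exact hc
  have hnx : ¬ Fixes x X := fun h => hxcan.1.2 ((mk_mem_center_iff hxX).mpr h)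
  -- the conjugate `t`
  obtain ⟨t, ht⟩ : ∃ t, t = v * x * v⁻¹ := ⟨_, rfl⟩
  have htX : t ∈ cj v X := by rw [ht]; exact conj_mem_cj hxX
  have htt : t * t = 1 := by
    rw [ht, show (v * x * v⁻¹) * (v * x * v⁻¹) = v * (x * x) * v⁻¹ by group, hx2]; group
  have htcan : Can (QuotientGroup.mk ⟨t, htX⟩ : Bar (cj v X)) := by
    have h1 := hxcan.map (cjQuot v X)
    have h2 : cjQuot v X (QuotientGroup.mk ⟨x, hxX⟩) = QuotientGroup.mk ⟨t, htX⟩ := by
      subst ht; rfl
    rwa [h2] at h1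
  have hnt : ¬ Fixes t (cj v X) := fun h => htcan.1.2 ((mk_mem_center_iff htX).mpr h)
  have hxt : x * t = t * x := by rw [ht]; exact hxv
  have htu : t * u = u * t := pair_comm hX2p htX
  -- the central involution `w`
  obtain ⟨c', hc', hc1, hcu⟩ := exists_other (S.kl.card hX.kind) (QuotientGroup.mk ⟨u, hX.mem⟩)
  obtain ⟨w0, hw0, hw02, hw0c⟩ := exists_inv_lift (S.kl.sq hX.kind c' hc')
  obtain ⟨w, hwX, hw2, hw0w, hwv⟩ := exists_comm_swap hX.comp hvCu hv2 hmove hw0 hw02
  have hmkw : (QuotientGroup.mk ⟨w, hwX⟩ : Bar X) = c' := by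
    rw [← hw0c]; exact (mk_eq_of_core hX.comp hw0 hwX hw0w).symm
  have hw1 : w ≠ 1 := by
    rintro rfl
    apply hc1
    rw [← hmkw]; rfl
  have hfw : Fixes w X := (mk_mem_center_iff hwX).mp (by rw [hmkw]; exact hc')
  have hvw : v * w * v⁻¹ = w := lemC S hX hY huv hmove hu hz hwX hw2 hw1 hfw hwv
  -- `w` can be chosen to commute with `x`, `t`, `v`
  have hN := odd_card_core (centralizer ({u} : Set G))
  set P := (zpowers x ⊔ zpowers t) ⊔ zpowers v with hP
  have hPP : IsPGroup 2 ↥P := by rw [hP, ht]; exact isPGroup_swap hx2 hv2 hxv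
  have hwC : w ∈ centralizer ({u} : Set G) := hX.comp.le hwX
  have hxC : x ∈ centralizer ({u} : Set G) := hX.comp.le hxX
  have htC : t ∈ centralizer ({u} : Set G) := hX2p.comp.le htX
  have hPc : P ≤ cmod (centralizer ({u} : Set G)) hwC := by
    rw [hP]
    refine sup_le (sup_le ?_ ?_) ?_
    · rw [zpowers_le, mem_cmod]
      refine ⟨hxC, ?_⟩
      have h1 := (fixes_inv hfw).2 x hxX
      have h2 : w⁻¹ * (x * w * x⁻¹) = ⁅w⁻¹, x⁆ := by rw [commutatorElement_def]; group
      rw [h2]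
      exact hX.comp.core_le_core h1
    · rw [zpowers_le, mem_cmod]
      refine ⟨htC, ?_⟩
      have h1 := (fixes_iff_conj.mp (hX.comp.fixes_of_mem hX2p.comp (Ne.symm hmove) htX)).2 w hwX
      exact hX.comp.core_le_core h1
    · rw [zpowers_le, mem_cmod]
      refine ⟨hvCu, ?_⟩
      rw [hvw, inv_mul_cancel]
      exact one_mem _
  have hPC : P ≤ centralizer ({u} : Set G) := fun a ha => ((mem_cmod hwC).mp (hPc ha)).1
  obtain ⟨w1, -, hw12, hww1, hw1P⟩ := exists_inv_group hN hPP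
    (hPC.trans (le_normalizer_core _)) (le_normalizer_core _ hwC) (by rw [hw2]; exact one_mem _)
    (fun a ha => ((mem_cmod hwC).mp (hPc ha)).2)
  have hw1X : w1 ∈ X := hX.comp.mem_of_two (n := 1) hwX hww1 (by rw [pow_one, pow_two]; exact hw12)
  have hmkw1 : (QuotientGroup.mk ⟨w1, hw1X⟩ : Bar X) = c' := by
    rw [← hmkw]; exact (mk_eq_of_core hX.comp hwX hw1X hww1).symm
  have hw11 : w1 ≠ 1 := by
    rintro rfl
    apply hc1
    rw [← hmkw1]; rfl
  have hfw1 : Fixes w1 X := (mk_mem_center_iff hw1X).mp (by rw [hmkw1]; exact hc')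
  have hxP : x ∈ P := by rw [hP]; exact mem_sup_left (mem_sup_left (mem_zpowers x))
  have htP : t ∈ P := by rw [hP]; exact mem_sup_left (mem_sup_right (mem_zpowers t))
  have hvP : v ∈ P := by rw [hP]; exact mem_sup_right (mem_zpowers v)
  have hxw := hw1P x hxP
  have htw := hw1P t htP
  have hvw1 : v * w1 * v⁻¹ = w1 := by rw [hw1P v hvP, mul_inv_cancel_right]
  have hw1X2 : w1 ∈ cj v X := by
    have := conj_mem_cj (g := v) hw1X
    rwa [hvw1] at this
  have hfw12 : Fixes w1 (cj v X) := by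
    have := hfw1.cj v
    rwa [hvw1] at this
  -- the two big pump-ups
  obtain ⟨F, hF, huF, hxF⟩ := lemD S hX hY huv hmove hu hz hxX hx2 hxv hnx htX htt hxt.symm htcan
  have hx'X : x * w1 ∈ X := X.mul_mem hxX hw1X
  have hx'2 : x * w1 * (x * w1) = 1 := by
    calc x * w1 * (x * w1) = x * (w1 * x) * w1 := by group
      _ = (x * x) * (w1 * w1) := by rw [← hxw]; group
      _ = 1 := by rw [hx2, hw12, one_mul]
  have hvx' : v * (x * w1) * v⁻¹ = t * w1 := by
    rw [ht]
    calc v * (x * w1) * v⁻¹ = v * x * v⁻¹ * (v * w1 * v⁻¹) := by group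
      _ = _ := by rw [hvw1]
  have hx'v : x * w1 * (v * (x * w1) * v⁻¹) = (v * (x * w1) * v⁻¹) * (x * w1) := by
    rw [hvx']
    calc x * w1 * (t * w1) = x * (w1 * t) * w1 := by group
      _ = x * (t * w1) * w1 := by rw [htw]
      _ = (x * t) * (w1 * w1) := by group
      _ = (t * x) * (w1 * w1) := by rw [hxt]
      _ = t * (x * w1) * w1 := by group
      _ = t * (w1 * x) * w1 := by rw [hxw]
      _ = t * w1 * (x * w1) := by group
  have hnx' : ¬ Fixes (x * w1) X := fun h => hnx ((fixes_mul_iff_left hfw1).mp h)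
  have htx' : t * (x * w1) = x * w1 * t := by
    calc t * (x * w1) = (t * x) * w1 := by group
      _ = x * (t * w1) := by rw [← hxt]; group
      _ = x * (w1 * t) := by rw [htw]
      _ = _ := by group
  obtain ⟨F', hF', huF', hxF'⟩ := lemD S hX hY huv hmove hu hz hx'X hx'2 hx'v hnx' htX htt htx' htcan
  by_cases hFF : F = F'
  · subst hFF
    have h1 : Fixes w1 F := (fixes_mul_iff_right hxF).mp hxF'
    obtain ⟨M, hM, -, -, -, -, hiff⟩ := S.vess hX2p hw1X2 hw12 hw11 hfw12
    have h2 : Fixes t M := typeZero_symm' hF hM htw h1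
    exact hnt ((hiff t htw (le_normalizer htX)).mp h2)
  · have h1 : Fixes u F' := hF'.comp.fixes_of_mem hF.comp (Ne.symm hFF) huF
    exact hnt (typeZero_symm' hF' hX2p htu h1)

end world

section world

variable {κ : Kind.{u}} {G : Type u} [Group G] [Finite G] {u v : G} {X Y : Subgroup G}

theorem caseA (S : Sett κ G) (hX : IsPair κ u X) (hY : IsPair κ v Y) (huv : u * v = v * u)
    (hmove : cj v X ≠ X) (hu : u ∈ normalizer (Y : Set G)) (hnf : ¬ Fixes u Y)
    (hz : ¬ MovesZ u Y) : False := by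
  have hvCu : v ∈ centralizer ({u} : Set G) := mem_centralizer_singleton_iff.mpr huv.symm
  have huCv : u ∈ centralizer ({v} : Set G) := mem_centralizer_singleton_iff.mpr huv
  have hv2 := hY.sq
  have hu2 := hX.sq
  have hX2 : IsComp (centralizer ({u} : Set G)) (cj v X) := isComp_cj_of_mem hX.comp hvCu
  -- a central involution `w ≠ v` commuting with `u`
  obtain ⟨c, hc, hc1, hcv⟩ := exists_other (S.kl.card hY.kind) (QuotientGroup.mk ⟨v, hY.mem⟩)
  obtain ⟨w0, hw0, hw02, hw0c⟩ := exists_inv_lift (S.kl.sq hY.kind c hc)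
  have hfw0 : Fixes w0 Y := (mk_mem_center_iff hw0).mp (by rw [hw0c]; exact hc)
  have huw0 : ⁅u, w0⁆ ∈ core Y := by
    by_contra h
    exact hz ⟨w0, hw0, hfw0, h⟩
  obtain ⟨w, -, hw2, hw0w, hwP⟩ := exists_inv_group (odd_card_core Y) (isPGroup_zpowers_of_sq hu2)
    (by
      rw [zpowers_le]
      exact normalizer_le_normalizer_core Y hu)
    (le_normalizer_core Y hw0) (w := w0) (by rw [hw02]; exact one_mem _) (fun a ha => by
      obtain ⟨n, rfl⟩ := ha
      have h1 : ∀ n : ℤ, u ^ n = 1 ∨ u ^ n = u := by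
        intro n
        rcases Int.even_or_odd' n with ⟨k, hk | hk⟩
        · left
          rw [hk, zpow_mul, zpow_ofNat, pow_two, hu2, one_zpow]
        · right
          rw [hk, zpow_add, zpow_mul, zpow_ofNat, pow_two, hu2, one_zpow, one_mul, zpow_one]
      rcases h1 n with h | h
      · change w0⁻¹ * (u ^ n * w0 * (u ^ n)⁻¹) ∈ _
        rw [h, one_mul, inv_one, mul_one, inv_mul_cancel]
        exact one_mem _
      · change w0⁻¹ * (u ^ n * w0 * (u ^ n)⁻¹) ∈ _
        rw [h]
        have h2 := conj_mem_core (x := w0⁻¹) (le_normalizer (Y.inv_mem hw0)) huw0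
        convert h2 using 1
        rw [commutatorElement_def]; group)
  have hwY : w ∈ Y := hY.comp.mem_of_two (n := 1) hw0 (hY.comp.core_le_core hw0w)
    (by rw [pow_one, pow_two]; exact hw2)
  have hmkw : (QuotientGroup.mk ⟨w, hwY⟩ : Bar Y) = c := by
    rw [← hw0c]
    exact ((Cfsg.Agent.Intrinsic.Quot.mk_eq_mk_iff' hw0 hwY).mpr hw0w).symm
  have huw : u * w = w * u := hwP u (mem_zpowers u)
  have hwv : w * v = v * w := pair_comm hY hwY
  have hw1 : w ≠ 1 := by
    rintro rfl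
    apply hc1
    rw [← hmkw]; rfl
  have hwv' : w ≠ v := by
    rintro rfl
    exact hcv hmkw.symm
  have hfw : Fixes w Y := (mk_mem_center_iff hwY).mp (by rw [hmkw]; exact hc)
  -- the diagonal
  obtain ⟨hE, -, -, hEcore, -⟩ := exists_diag hX.comp hvCu hv2 hmove
  have hEf := diag_fixes S.kl hX hY huv hmove hu hnf
  -- involutions `w'` of `Y` fixing `Y` and commuting with `u` fix the diagonal
  have hfD : ∀ w' ∈ Y, u * w' = w' * u → Fixes w' (diag (centralizer ({u} : Set G)) X v) := by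
    intro w' hw' huw'
    have hwH : w' ∈ centralizer ({u} : Set G) ⊓ centralizer ({v} : Set G) :=
      ⟨mem_centralizer_singleton_iff.mpr huw'.symm, hY.comp.le hw'⟩
    rw [hE.fixes_iff hwH, mem_cenMod hE.le]
    refine ⟨hwH, fun d hd => ?_⟩
    have h1 : ⁅d, w'⁆ ∈ core Y := (hEf d hd).2 w' hw'
    have h2 : ⁅d, w'⁆ ∈ core (centralizer ({v} : Set G)) := hY.comp.core_le_core h1
    have hdH := hE.le hd
    have h3 : ⁅d, w'⁆ ∈ core (centralizer ({u} : Set G) ⊓ centralizer ({v} : Set G)) := by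
      refine le_core (N := core (centralizer ({v} : Set G)) ⊓ centralizer ({u} : Set G))
        (by rw [inf_comm]; exact inf_le_inf_left _ (core_le _)) ?_
        (Odd.of_dvd_nat (odd_card_core _) (card_dvd_of_le inf_le_left)) ⟨h2, ?_⟩
      · intro a ha
        rw [mem_normalizer_iff_cj, cj_inf, cj_eq_self_of_mem ha.1,
          mem_normalizer_iff_cj.mp (le_normalizer_core _ ha.2)]
      · rw [commutatorElement_def]
        exact Subgroup.mul_mem _ (Subgroup.mul_mem _ (Subgroup.mul_mem _ hdH.1 hwH.1)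
          (Subgroup.inv_mem _ hdH.1)) (Subgroup.inv_mem _ hwH.1)
    have h5 : d⁻¹ * (w' * d * w'⁻¹) = d⁻¹ * ⁅d, w'⁆⁻¹ * (d⁻¹)⁻¹ := by
      rw [commutatorElement_def]; group
    rw [h5]
    exact conj_mem_core (le_normalizer (Subgroup.inv_mem _ hdH)) (inv_mem h3)
  -- `w` permutes `X`, `X^v`
  have hwC : w ∈ centralizer ({u} : Set G) := mem_centralizer_singleton_iff.mpr huw.symm
  have hwX : cj w X = X ∨ cj w X = cj v X := by
    by_contra h
    push Not at h
    have h1 : cj w (diag (centralizer ({u} : Set G)) X v) = diag (centralizer ({u} : Set G)) X v :=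
      mem_normalizer_iff_cj.mp (hfD w hwY huw).1
    rw [cj_diag, cj_eq_self_of_mem hwC, hwv, mul_inv_cancel_right] at h1
    refine diag_ne hX.comp hvCu hv2 hmove (isComp_cj_of_mem hX.comp hwC) ?_ h.1 h.2 h1
    intro h2
    rw [← cj_mul, ← hwv, cj_mul] at h2
    exact hmove (cj_injective w h2)
  -- some `w'` normalizes `X`
  obtain ⟨w', hw'Y, hw'2, hw'1, huw', hw'v, hfw', hw'X⟩ : ∃ w' ∈ Y, w' * w' = 1 ∧ w' ≠ 1 ∧
      u * w' = w' * u ∧ w' * v = v * w' ∧ Fixes w' Y ∧ cj w' X = X := by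
    rcases hwX with h | h
    · exact ⟨w, hwY, hw2, hw1, huw, hwv, hfw, h⟩
    · refine ⟨w * v, Y.mul_mem hwY hY.mem, ?_, ?_, ?_, ?_, fixes_mul hfw (pair_fixes hY), ?_⟩
      · calc w * v * (w * v) = w * (v * w) * v := by group
          _ = (w * w) * (v * v) := by rw [← hwv]; group
          _ = 1 := by rw [hw2, hv2, one_mul]
      · intro h1
        apply hwv'
        rw [eq_inv_of_mul_eq_one_left h1, inv_eq_of_mul_eq_one_left hv2]
      · calc u * (w * v) = (u * w) * v := by group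
          _ = w * (u * v) := by rw [huw]; group
          _ = w * v * u := by rw [huv]; group
      · rw [mul_assoc, ← mul_assoc v w v, ← hwv, mul_assoc]
      · rw [cj_mul, ← h, ← cj_mul, hw2, cj_one]
  have hw'C : w' ∈ centralizer ({u} : Set G) := mem_centralizer_singleton_iff.mpr huw'.symm
  have hw'vX : cj w' (cj v X) = cj v X := by
    rw [← cj_mul, hw'v, cj_mul, hw'X]
  have hfX : Fixes w' X := by
    refine fixes_of_comm_diag hX.comp hvCu hv2 hmove hw'C (mem_normalizer_iff_cj.mpr hw'X)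
      (mem_normalizer_iff_cj.mpr hw'vX) fun m hm => ?_
    have h1 := (hfD w' hw'Y huw').2 m hm
    rw [hEcore] at h1
    exact h1.2
  obtain ⟨M, hM, -, -, -, -, hiff⟩ := S.vess hY hw'Y hw'2 hw'1 hfw'
  exact hnf ((hiff u huw' hu).mp (typeZero_symm' hX hM huw' hfX))

/-- **(3F)** -/
theorem typeF (S : Sett κ G) (hX : IsPair κ u X) (hY : IsPair κ v Y) (huv : u * v = v * u)
    (hmove : cj v X ≠ X) : cj u Y ≠ Y := by
  intro h
  have hu : u ∈ normalizer (Y : Set G) := mem_normalizer_iff_cj.mpr h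
  have hnf : ¬ Fixes u Y := fun hf =>
    hmove (mem_normalizer_iff_cj.mp (typeZero_symm' hY hX huv.symm hf).1)
  by_cases hz : MovesZ u Y
  · exact caseB S hX hY huv hmove hu hz
  · exact caseA S hX hY huv hmove hu hnf hz

end world

end Cfsg.Agent.UGT.I34.Four
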