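import Cfsg.Agent.UGT.I34.KAut
import Cfsg.Agent.Intrinsic.TypeGOne

/-!
# THEOREM I34, part [C] (`Z = 2²`), (3.G)(i)

Pairs of one kind `κ` (all pairs, no fixed class); `Omega_u = {X | IsPair κ u X}`.
If `v` moves `X ∈ Omega_u` then the two diagonals `C_{X X^v}(v)^∞`, `C_{X' X'^u}(u)^∞` coincide.
The quotient of the diagonal by its core is of kind `κ` or of kind `κ₂` (field `quot`).
-/

set_option autoImplicit false

open Cfsg Subgroup
open Cfsg.Agent.SignalizersComponents Cfsg.Agent.Lib
open Cfsg.Agent.SignalizersComponents.IntrinsicBasic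
open Cfsg.Agent.Intrinsic.Basic hiding IsPair PQS Target IsPair.sq IsPair.ne_one IsPair.cj
open Cfsg.Agent.Intrinsic.Cen hiding pair_comm pair_mem_cen exists_pump pump_unique
open Cfsg.Agent.Intrinsic.Quot hiding Big small_or_big isPair_quot
open Cfsg.Agent.Intrinsic.Diag
open Cfsg.Agent.McLLyComp.Act (act_eq_one_iff act_of_mem fixes_mul fixes_inv)
open Cfsg.Agent.UGT.I34.Pair Cfsg.Agent.UGT.I34.KAut
open scoped commutatorElement

namespace Cfsg.Agent.UGT.I34.FourG

universe u

section general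

variable {G : Type u} [Group G]

theorem order_two {x : G} (hx2 : x * x = 1) (hx1 : x ≠ 1) : orderOf x = 2 :=
  orderOf_eq_prime (by rw [pow_two]; exact hx2) hx1

theorem fixes_self {κ : Kind.{u}} {u : G} {X : Subgroup G} (h : IsPair κ u X) : Fixes u X := by
  rw [fixes_iff_conj]
  refine ⟨le_normalizer h.mem, fun y hy => ?_⟩
  have : u * y * u⁻¹ = y := by rw [← pair_comm h hy, mul_inv_cancel_right]
  rw [this, inv_mul_cancel]
  exact one_mem _

theorem mk_mem_center {M : Subgroup G} {a : G} (ha : a ∈ M) (hf : Fixes a M) :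
    (QuotientGroup.mk ⟨a, ha⟩ : ↥M ⧸ oddCore ↥M) ∈ center (↥M ⧸ oddCore ↥M) := by
  rw [mem_center_iff]
  intro x
  obtain ⟨⟨x, hx⟩, rfl⟩ := QuotientGroup.mk_surjective x
  rw [mk_comm_iff]
  exact (fixes_iff_conj.mp hf).2 x hx

theorem fixes_of_mk_mem_center {M : Subgroup G} {a : G} (ha : a ∈ M)
    (h : (QuotientGroup.mk ⟨a, ha⟩ : ↥M ⧸ oddCore ↥M) ∈ center (↥M ⧸ oddCore ↥M)) : Fixes a M := by
  rw [fixes_iff_conj]
  refine ⟨le_normalizer ha, fun y hy => ?_⟩
  rw [← mk_comm_iff hy ha]
  exact mem_center_iff.mp h _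

/-- an element commuting with a quasisimple group modulo its centre is central -/
theorem mem_center_of_comm {K : Type u} [Group K] (hK : IsQuasisimple K) {x : K}
    (h : ∀ y, ⁅x, y⁆ ∈ center K) : x ∈ center K := by
  have hs := hK.2
  have h1 : (QuotientGroup.mk x : K ⧸ center K) ∈ center (K ⧸ center K) := by
    rw [mem_center_iff]
    intro y
    obtain ⟨y, rfl⟩ := QuotientGroup.mk_surjective y
    have h2 : (QuotientGroup.mk ⁅x, y⁆ : K ⧸ center K) = 1 := (QuotientGroup.eq_one_iff _).mpr (h y)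
    have h3 : ⁅(QuotientGroup.mk x : K ⧸ center K), (QuotientGroup.mk y : K ⧸ center K)⁆ = 1 := h2
    exact (commutatorElement_eq_one_iff_mul_comm.mp h3).symm
  rcases (inferInstance : (center (K ⧸ center K)).Normal).eq_bot_or_eq_top with h2 | h2
  · rw [h2, mem_bot, QuotientGroup.eq_one_iff] at h1
    exact h1
  · exfalso
    have h3 : ⁅(⊤ : Subgroup K), (⊤ : Subgroup K)⁆ ≤ center K := by
      rw [commutator_le]
      intro a _ b _
      rw [← QuotientGroup.eq_one_iff]
      change ⁅(QuotientGroup.mk a : K ⧸ center K), (QuotientGroup.mk b : K ⧸ center K)⁆ = 1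
      rw [commutatorElement_eq_one_iff_mul_comm]
      have h4 : (QuotientGroup.mk b : K ⧸ center K) ∈ center (K ⧸ center K) := by
        rw [h2]; exact mem_top _
      exact mem_center_iff.mp h4 _
    have h4 : ⁅(⊤ : Subgroup K), (⊤ : Subgroup K)⁆ = ⊤ := by
      have := hK.1.1
      rwa [_root_.commutator_def] at this
    rw [h4, top_le_iff] at h3
    obtain ⟨a, ha⟩ := exists_ne (1 : K ⧸ center K)
    obtain ⟨a, rfl⟩ := QuotientGroup.mk_surjective a
    exact ha ((QuotientGroup.eq_one_iff _).mpr (by rw [h3]; exact mem_top _))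

variable [Finite G]

theorem card_lt_of_comp {x : G} (hx : centralizer ({x} : Set G) ≠ ⊤) {R : Subgroup G}
    (hR : R ≤ centralizer ({x} : Set G)) : Nat.card R < Nat.card G := by
  have h1 : R ≠ ⊤ := by
    intro h
    apply hx
    rw [eq_top_iff, ← h]
    exact hR
  rcases (Subgroup.card_le_card_group R).lt_or_eq with h | h
  · exact h
  · exact absurd (Subgroup.eq_top_of_card_eq R h) h1

/-- 2-elements of `M` commuting with `e` and congruent to elements of `E` lie in `E` -/
theorem mem_of_comm_two' {M E : Subgroup G} {e : G} (hE : IsComp (M ⊓ centralizer ({e} : Set G)) E)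
    {a j : G} (hj : j ∈ E) (hc : j⁻¹ * a ∈ core M) (hae : a * e = e * a) {n : ℕ}
    (hn : a ^ 2 ^ n = 1) : a ∈ E := by
  have hjc := (hE.le hj).2
  have hac : a ∈ centralizer ({e} : Set G) := mem_centralizer_singleton_iff.mpr hae
  have h1 : core M ⊓ centralizer ({e} : Set G) ≤ core (M ⊓ centralizer ({e} : Set G)) := by
    refine le_core (inf_le_inf_right _ (Cfsg.Agent.Intrinsic.Basic.core_le M)) ?_
      (Odd.of_dvd_nat (odd_card_core M) (card_dvd_of_le inf_le_left))
    intro x hx
    have e1 : x ∈ normalizer (core M : Set G) := le_normalizer_core M hx.1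
    rw [mem_normalizer_iff_cj] at e1 ⊢
    rw [cj_inf, e1, cj_eq_self_of_mem hx.2]
  exact hE.mem_of_two hj (h1 ⟨hc, mul_mem ((centralizer ({e} : Set G)).inv_mem hjc) hac⟩) hn

end general

section

variable {κ κ₂ : Kind.{u}} {G : Type u} [Group G] [Finite G]

/-- the exceptional configurations have only one 2-component of `C(z)` -/
def OneC (κ : Kind.{u}) : Prop :=
  ∀ (Y : Type u) [Group Y] [Finite Y] (z : Y) (L L' : Subgroup Y), κ.T Y z L → IsPair κ z L →
    IsComp (centralizer ({z} : Set Y)) L' → L' = L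

/-- `E` is the only 2-component of `C(x) ∩ C(e)` below its pump-up in `C(x)`. -/
theorem unique_in_pump (hN : PQS κ (Nat.card G)) (hone : OneC κ) {x e : G}
    (hx : centralizer ({x} : Set G) ≠ ⊤) (he : orderOf e = 2)
    {E R E' : Subgroup G} (heE : e ∈ E)
    (hE : IsComp (centralizer ({x} : Set G) ⊓ centralizer ({e} : Set G)) E)
    (hk : κ.P (↥E ⧸ oddCore ↥E))
    (hR : IsComp (centralizer ({x} : Set G)) R) (hER : E ≤ R)
    (hE' : IsComp (centralizer ({x} : Set G) ⊓ centralizer ({e} : Set G)) E') (hE'R : E' ≤ R) :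
    E' = E := by
  have hEi := isComp_inf hE hR hER
  have hE'i := isComp_inf hE' hR hE'R
  have he2 : e * e = 1 := by rw [← pow_two, ← he, pow_orderOf_eq_one]
  have key : ∀ k ∈ E', ∃ j ∈ E, j⁻¹ * k ∈ core R := by
    rcases small_or_big hN he heE hE hk hR hER (card_lt_of_comp hx hR.le) with h | ⟨hu, h⟩
    · exact fun k hk => exists_mul_of_sup h (hE'R hk)
    · intro k hkE
      have he1 : e ≠ 1 := by
        rintro rfl
        simp at he
      have h1 := hone _ _ _ (qs R E') h (isPair_quot he2 he1 heE hu hEi hk)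
        (IsComp.of_tc (Cfsg.Agent.Intrinsic.PumpUp.tc_image hu he2 hE'i.tc))
      have h2 : (QuotientGroup.mk ⟨k, hE'R hkE⟩ : ↥R ⧸ oddCore ↥R) ∈ qs R E := by
        rw [← h1]
        exact (mem_qs (hE'R hkE)).mpr ⟨k, ⟨hkE, hE'R hkE⟩, by simp⟩
      obtain ⟨j, hj, hjk⟩ := (mem_qs (hE'R hkE)).mp h2
      exact ⟨j, hj.1, hjk⟩
  apply hE'.eq_of_le hE
  apply hE'.le_of_two
  intro k hk m hm
  obtain ⟨j, hj, hjk⟩ := key k hk
  exact mem_of_comm_two' hEi hj hjk (mem_centralizer_singleton_iff.mp (hE'.le hk).2) hm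

/-- hypotheses of (3.G)(i) -/
structure GHyp (κ κ₂ : Kind.{u}) (G : Type u) [Group G] : Prop where
  ih : PQS κ (Nat.card G)
  ih₂ : PQS κ₂ (Nat.card G)
  one : OneC κ
  one₂ : OneC κ₂
  cent : ∀ x : G, orderOf x = 2 → centralizer ({x} : Set G) ≠ ⊤
  /-- (3.F) -/
  typeF : ∀ (u v : G) (X X' : Subgroup G), IsPair κ u X → IsPair κ v X' → u ≠ v → u * v = v * u →
    cj v X ≠ X → cj u X' ≠ X'
  /-- proper central quotients -/
  quot : ∀ {K B : Type u} [Group K] [Finite K] [Group B] [Finite B], κ.P K → ∀ f : K →* B,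
    Function.Surjective f → f.ker ≤ center K → f.ker ≠ center K → κ.P B ∨ κ₂.P B

/-- **(3.G)(i)** -/
theorem diag_eq (H : GHyp κ κ₂ G) {u v : G} {X X' : Subgroup G} (hne : u ≠ v)
    (huv : u * v = v * u) (hpu : IsPair κ u X) (hpv : IsPair κ v X') (hmove : cj v X ≠ X) {x : G}
    (hxX : x ∈ X) (hx2 : x * x = 1) (hxf : ¬ Fixes x X)
    (hxv : x * (v * x * v⁻¹) = (v * x * v⁻¹) * x) :
    diag (centralizer ({u} : Set G)) X v = diag (centralizer ({v} : Set G)) X' u := by
  by_contra hEE
  have hmove' := H.typeF u v X X' hpu hpv hne huv hmove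
  have hvCu : v ∈ centralizer ({u} : Set G) := mem_centralizer_singleton_iff.mpr huv.symm
  have huCv : u ∈ centralizer ({v} : Set G) := mem_centralizer_singleton_iff.mpr huv
  have hv2 := hpv.sq
  have hu2 := hpu.sq
  have hvi : v⁻¹ = v := inv_eq_of_mul_eq_one_left hv2
  have hui : u⁻¹ = u := inv_eq_of_mul_eq_one_left hu2
  have hxi : x⁻¹ = x := inv_eq_of_mul_eq_one_left hx2
  have hxu' : x * u = u * x := pair_comm hpu hxX
  have huvi : u * v * u⁻¹ = v := by rw [huv, mul_inv_cancel_right]
  have huxi : u * x * u⁻¹ = x := by rw [← hxu', mul_inv_cancel_right]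
  have hx1 : x ≠ 1 := by
    rintro rfl
    exact hxf (Cfsg.Agent.McLLyComp.Act.fixes_one X)
  -- the element `e`
  obtain ⟨e, he⟩ : ∃ e, e = x * (v * x * v⁻¹) := ⟨_, rfl⟩
  have hxvx : x * v * x⁻¹ = v * e := by
    rw [he, hxv, hxi, hvi]
    calc x * v * x = (v * v) * x * v * x := by rw [hv2, one_mul]
      _ = _ := by group
  have hev : e * v = v * e := by
    rw [← hxvx, he, hxi, mul_assoc, inv_mul_cancel_right, mul_assoc]
  have hex : e * x = x * e := by
    rw [he]
    nth_rewrite 1 [hxv]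
    rw [mul_assoc, hx2, mul_one, ← mul_assoc, hx2, one_mul]
  have hee : e * e = 1 := by
    calc e * e = (x * (v * x * v⁻¹)) * ((v * x * v⁻¹) * x) := by rw [← hxv, ← he]
      _ = x * v * (x * x) * v⁻¹ * x := by group
      _ = 1 := by rw [hx2, mul_one, mul_inv_cancel_right, hx2]
  have heu : e * u = u * e := by
    rw [he]
    calc x * (v * x * v⁻¹) * u = x * v * x * (v⁻¹ * u) := by group
      _ = x * v * x * (u * v⁻¹) := by rw [hvi, huv]
      _ = x * v * (x * u) * v⁻¹ := by group
      _ = x * (v * u) * x * v⁻¹ := by rw [hxu']; group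
      _ = x * (u * v) * x * v⁻¹ := by rw [huv]
      _ = (x * u) * v * x * v⁻¹ := by group
      _ = u * (x * (v * x * v⁻¹)) := by rw [hxu']; group
  have huei : u * e * u⁻¹ = e := by rw [← heu, mul_inv_cancel_right]
  have hX2 : IsComp (centralizer ({u} : Set G)) (cj v X) := isComp_cj_of_mem hpu.comp hvCu
  have he1 : e ≠ 1 := by
    intro h
    rw [he] at h
    have h1 : v * x * v⁻¹ = x := by
      have := inv_eq_of_mul_eq_one_right h
      rw [← this, hxi]
    have h2 : x ∈ cj v X := by
      have := conj_mem_cj (g := v) hxX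
      rwa [h1] at this
    exact hxf (hpu.comp.fixes_of_mem hX2 (Ne.symm hmove) h2)
  have hxo := order_two hx2 hx1
  have heo := order_two hee he1
  have heCu : e ∈ centralizer ({u} : Set G) := mem_centralizer_singleton_iff.mpr heu
  have heCv : e ∈ centralizer ({v} : Set G) := mem_centralizer_singleton_iff.mpr hev
  have huCe : u ∈ centralizer ({e} : Set G) := mem_centralizer_singleton_iff.mpr heu.symm
  have hvCe : v ∈ centralizer ({e} : Set G) := mem_centralizer_singleton_iff.mpr hev.symm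
  have hxCe : x ∈ centralizer ({e} : Set G) := mem_centralizer_singleton_iff.mpr hex.symm
  have hxCu : x ∈ centralizer ({u} : Set G) := mem_centralizer_singleton_iff.mpr hxu'
  have huCx : u ∈ centralizer ({x} : Set G) := mem_centralizer_singleton_iff.mpr hxu'.symm
  -- the two diagonals
  obtain ⟨hE, -, -, hEcore, fE, -, hfEk, hfE1, -⟩ := exists_diag hpu.comp hvCu hv2 hmove
  obtain ⟨hE', -, -, hE'core, -⟩ := exists_diag hpv.comp huCv hu2 hmove'
  have hE2 : IsComp (centralizer ({v} : Set G) ⊓ centralizer ({u} : Set G))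
      (diag (centralizer ({u} : Set G)) X v) := by rw [inf_comm]; exact hE
  have heE : e ∈ diag (centralizer ({u} : Set G)) X v :=
    mem_diag heCu hev hxX (by rw [← he, inv_mul_cancel]; exact one_mem _) (n := 1)
      (by rw [pow_one, pow_two]; exact hee)
  have hL2 := isComp_le_L2 huCv hu2 hE2
  have hfm : ∀ m ∈ diag (centralizer ({u} : Set G)) X v, Fixes m X' := by
    intro m hm
    refine fixes_of_comm_diag hpv.comp huCv hu2 hmove' (hE2.le hm).1
      (hpv.comp.L2_le_normalizer (hL2 hm))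
      ((isComp_cj_of_mem hpv.comp huCv).L2_le_normalizer (hL2 hm)) fun m' hm' => ?_
    have h1 := hE2.comm_le_core hE' hEE (commutator_mem_commutator hm hm')
    have h2 := h1.2
    rw [hE'core] at h2
    exact h2.2
  have hfe : Fixes e X' := hfm e heE
  -- the pump-up in `C(e)`
  obtain ⟨N, hN, hJN, hvN⟩ := exists_pump hpv hee hev hfe
  obtain ⟨hJ, hJsup⟩ := isComp_cen hpv.comp heCv hee hfe
  have hJcov := (kind_cen (κ := κ) hpv.comp heCv hee hfe).mpr hpv.kind
  have hvJ : v ∈ cen X' e := pair_mem_cen hpv hev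
  have hJ2 : IsComp (centralizer ({e} : Set G) ⊓ centralizer ({v} : Set G)) (cen X' e) := by
    rw [inf_comm]; exact hJ
  have hN3 : IsComp (centralizer ({e} : Set G)) (cj u N) := isComp_cj_of_mem hN huCe
  have hN13 : cj u N ≠ N := by
    intro h
    have h1 : IsComp (centralizer ({e} : Set G) ⊓ centralizer ({v} : Set G)) (cj u (cen X' e)) :=
      isComp_cj_of_mem hJ2 ⟨huCe, huCv⟩
    have h2 : cj u (cen X' e) ≤ N := by
      have := cj_mono (g := u) hJN
      rwa [h] at this
    have h3 := unique_in_pump H.ih H.one (H.cent e heo) hpv.inv hvJ hJ2 hJcov hN hJN h1 h2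
    apply hmove'
    refine hJ.unique (isComp_cj_of_mem hpv.comp huCv) hpv.comp ?_ (cen_le X' e)
    rw [← h3]
    exact cj_mono (cen_le X' e)
  have hvN3 : v ∈ cj u N := by
    have := conj_mem_cj (g := u) hvN
    rwa [huvi] at this
  have hfv : Fixes v N := hN.fixes_of_mem hN3 (Ne.symm hN13) hvN3
  have hJcen : cen X' e = cen N v := by
    apply hJ2.eq_of_le (isComp_cen hN hvCe hv2 hfv).1
    apply hJ2.le_of_two
    intro k hk m hm
    exact mem_cen (hJN hk) (mem_centralizer_singleton_iff.mp (hJ2.le hk).2) hm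
  have hcovN : κ.P (↥N ⧸ oddCore ↥N) := by
    rw [← kind_cen hN hvCe hv2 hfv, ← hJcen]
    exact hJcov
  -- `e` does not lie in `N`
  have heN : e ∉ N := by
    intro heN
    have h1 : e ∈ X' := by
      apply cen_le X' e
      rw [hJcen]
      exact mem_cen_of_sq heN hev hee
    apply hxf
    -- `e` is central in the diagonal
    have h2 : ∀ m ∈ diag (centralizer ({u} : Set G)) X v, ⁅m, e⁆ ∈ core X' := fun m hm =>
      (hfm m hm).2 e h1
    have h3 : (diag (centralizer ({u} : Set G)) X v) ⊓ core (centralizer ({v} : Set G)) ≤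
        core (diag (centralizer ({u} : Set G)) X v) := by
      refine le_core inf_le_left ?_ (Odd.of_dvd_nat (odd_card_core _) (card_dvd_of_le inf_le_right))
      intro j hj
      have e2 : j ∈ normalizer (core (centralizer ({v} : Set G)) : Set G) :=
        le_normalizer_core _ (hE2.le hj).1
      rw [mem_normalizer_iff_cj] at e2 ⊢
      rw [cj_inf, e2, cj_eq_self_of_mem hj]
    have h4 : (QuotientGroup.mk ⟨e, heE⟩ : ↥(diag (centralizer ({u} : Set G)) X v) ⧸
        oddCore ↥(diag (centralizer ({u} : Set G)) X v)) ∈ center _ := by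
      rw [mem_center_iff]
      intro q
      obtain ⟨⟨q, hq⟩, rfl⟩ := QuotientGroup.mk_surjective q
      have h5 : ⁅q, e⁆ ∈ core (diag (centralizer ({u} : Set G)) X v) := by
        apply h3
        refine ⟨?_, hpv.comp.core_le_core (h2 q hq)⟩
        rw [commutatorElement_def]
        exact Subgroup.mul_mem _ (Subgroup.mul_mem _ (Subgroup.mul_mem _ hq heE) (Subgroup.inv_mem _ hq)) (Subgroup.inv_mem _ heE)
      have h6 : (QuotientGroup.mk (⁅(⟨q, hq⟩ : ↥(diag (centralizer ({u} : Set G)) X v)),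
          ⟨e, heE⟩⁆) : ↥(diag (centralizer ({u} : Set G)) X v) ⧸
          oddCore ↥(diag (centralizer ({u} : Set G)) X v)) = 1 := by
        refine (mk_eq_one_iff (M := diag (centralizer ({u} : Set G)) X v) (x := ⁅q, e⁆) ?_).mpr h5
      exact commutatorElement_eq_one_iff_mul_comm.mp h6
    have h5 : fE (QuotientGroup.mk ⟨x, hxX⟩) = QuotientGroup.mk ⟨e, heE⟩ :=
      hfE1 ⟨x, hxX⟩ ⟨e, heE⟩ (by
        change e⁻¹ * (x * (v * x * v⁻¹)) ∈ _
        rw [← he, inv_mul_cancel]; exact one_mem _)
    rw [← h5] at h4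
    apply fixes_of_mk_mem_center hxX
    apply mem_center_of_comm (quasisimple_quot hpu.comp)
    intro y
    apply hfEk
    rw [MonoidHom.mem_ker, map_commutatorElement, commutatorElement_eq_one_iff_mul_comm]
    exact (mem_center_iff.mp h4 _).symm
  -- `v e` lies in `N ^ x`
  have hve2 : (v * e) * (v * e) = 1 := by
    calc (v * e) * (v * e) = v * (e * v) * e := by group
      _ = (v * v) * (e * e) := by rw [hev]; group
      _ = 1 := by rw [hv2, hee, one_mul]
  have hveN2 : v * e ∈ cj x N := by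
    rw [← hxvx]; exact conj_mem_cj hvN
  have hN12 : cj x N ≠ N := by
    intro h
    rw [h] at hveN2
    apply heN
    have := mul_mem (inv_mem hvN) hveN2
    rwa [inv_mul_cancel_left] at this
  have hN32 : cj u N ≠ cj x N := by
    intro h
    rw [← h] at hveN2
    apply heN
    have h1 := mul_mem (inv_mem hvN3) hveN2
    rw [inv_mul_cancel_left] at h1
    have h2 := mem_cj.mp h1
    have h3 : u⁻¹ * e * u = e := by rw [mul_assoc, heu, inv_mul_cancel_left]
    rwa [h3] at h2
  -- the diagonal of `N N ^ x`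
  obtain ⟨hG, -, -, -, f, hfsurj, hfker, -, hfone⟩ := exists_diag hN hxCe hx2 hN12
  have hvxv : v * (x * v * x⁻¹) = e := by rw [hxvx, ← mul_assoc, hv2, one_mul]
  have heG : e ∈ diag (centralizer ({e} : Set G)) N x :=
    mem_diag (mem_centralizer_singleton_iff.mpr rfl) hex hvN
      (by rw [hvxv, inv_mul_cancel]; exact one_mem _) (n := 1)
      (by rw [pow_one, pow_two]; exact hee)
  have hfv1 : f (QuotientGroup.mk ⟨v, hvN⟩) ≠ 1 := by
    intro h
    have h1 := (hfone ⟨v, hvN⟩).mp h
    change v * (x * v * x⁻¹) ∈ _ at h1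
    rw [hvxv] at h1
    exact he1 (eq_one_of_mem_core_sq h1 hee)
  have hfkne : f.ker ≠ center (↥N ⧸ oddCore ↥N) := by
    intro h
    apply hfv1
    rw [← MonoidHom.mem_ker, h]
    exact mk_mem_center hvN hfv
  have hG2 : IsComp (centralizer ({x} : Set G) ⊓ centralizer ({e} : Set G))
      (diag (centralizer ({e} : Set G)) N x) := by rw [inf_comm]; exact hG
  have hGcov := H.quot hcovN f hfsurj hfker hfkne
  -- its pump-up in `C(x)`
  obtain ⟨R, hR, hGR⟩ := exists_pumpup hee heG hG2
  have hcjG : cj u (diag (centralizer ({e} : Set G)) N x) =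
      diag (centralizer ({e} : Set G)) (cj u N) x := by
    rw [cj_diag, cj_eq_self_of_mem huCe, huxi]
  have hRu : cj u R ≠ R := by
    intro h
    have h1 : IsComp (centralizer ({x} : Set G) ⊓ centralizer ({e} : Set G))
        (cj u (diag (centralizer ({e} : Set G)) N x)) := isComp_cj_of_mem hG2 ⟨huCx, huCe⟩
    have h2 : cj u (diag (centralizer ({e} : Set G)) N x) ≤ R := by
      have := cj_mono (g := u) hGR
      rwa [h] at this
    have h3 : cj u (diag (centralizer ({e} : Set G)) N x) =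
        diag (centralizer ({e} : Set G)) N x := by
      rcases hGcov with hc | hc
      · exact unique_in_pump H.ih H.one (H.cent x hxo) heo heG hG2 hc hR hGR h1 h2
      · exact unique_in_pump H.ih₂ H.one₂ (H.cent x hxo) heo heG hG2 hc hR hGR h1 h2
    rw [hcjG] at h3
    refine diag_ne hN hxCe hx2 hN12 hN3 ?_ hN13 hN32 h3
    intro h4
    rw [← cj_mul, hxu', cj_mul] at h4
    exact hN12 (cj_injective u h4)
  -- but `u` normalizes `R`
  apply hRu
  have hX2p : IsPair κ u (cj v X) := by
    have := hpu.cj v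
    rwa [← huv, mul_inv_cancel_right] at this
  have hfx : Fixes x (cj v X) := hX2.fixes_of_mem hpu.comp hmove hxX
  have h5 := (isComp_cen hX2 hxCu hx2 hfx).1
  rw [inf_comm] at h5
  have h6 := isComp_le_L2 huCx hu2 h5
  exact mem_normalizer_iff_cj.mp (hR.L2_le_normalizer (h6 (pair_mem_cen hX2p hxu')))

end

end Cfsg.Agent.UGT.I34.FourG
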