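import Cfsg.Agent.UGT.I34.FourC
import Cfsg.Agent.Intrinsic.TypeF

/-!
# THEOREM I34, part [C] (`Z = 2²`): type `g` does not occur; type `f`, first part

`FG φ J`: the common part of `TypeF`, `TypeG`.

* `World.out_symm`: `v` outer on `X ∈ Ω_u` implies `u` outer on `X' ∈ Ω_v`;
* `World.fixes_of_ne`: a 2-component `E` of `C(u, v)` different from `C_{X'}(u)^∞` centralizes `X' / O(X')`;
* `World.no_typeG`;
* `World.typeF_symm`: type `f` is symmetric, `|Ω_u| = 1`, `X` contains noncentral involutions of pairs.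
-/

set_option autoImplicit false

open Cfsg Subgroup
open Cfsg.Agent.SignalizersComponents Cfsg.Agent.Lib
open Cfsg.Agent.SignalizersComponents.IntrinsicBasic
open Cfsg.Agent.Intrinsic
open Cfsg.Agent.Intrinsic.Basic hiding IsPair PQS Target IsPair.sq IsPair.ne_one IsPair.cj
open Cfsg.Agent.Intrinsic.Cen hiding pair_comm pair_mem_cen exists_pump pump_unique
open Cfsg.Agent.McLLyComp.Act
open Cfsg.Agent.UGT.I34.Pair Cfsg.Agent.UGT.I34.KAut Cfsg.Agent.UGT.I34.FixLift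
open Cfsg.Agent.UGT.I34.KF (NInv)
open scoped commutatorElement

namespace Cfsg.Agent.UGT.I34.Four

universe u

/-- the common part of the types `f` and `g` -/
structure FG {K : Type*} [Group K] (φ : MulAut K) (J : Subgroup K) : Prop where
  sq : φ * φ = 1
  out : φ ∉ Inn K
  center : ∃ z ∈ center K, φ z ≠ z
  shift : ∀ z ∈ Subgroup.center K, φ z = z → ∃ h, φ h = h * z
  le : J ≤ fixed φ
  comp : IsComponent (J.subgroupOf (fixed φ))
  even : 2 ∣ Nat.card J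
  core : oddCore ↥J = ⊥
  ninv : ∀ w ∈ J, w * w = 1 → w ≠ 1 → NInv w
  inv : ∃ w ∈ J, w * w = 1 ∧ w ≠ 1 ∧ ∃ h, φ h = h * w
  cent : ∀ A : Subgroup (MulAut K), A ≤ Inn K → ⁅A, A⁆ = A → (∀ a ∈ A, a * φ = φ * a) →
    (∀ a ∈ A, ∀ j ∈ J, a j = j) → A = ⊥

theorem TypeF.fg {K : Type*} [Group K] {φ : MulAut K} {J : Subgroup K} (h : TypeF φ J) : FG φ J :=
  ⟨h.sq, h.out, h.center, h.shift, h.le, h.comp, h.even, h.core,
    fun w hw h2 h1 => (h.noncan w hw h2 h1).1, h.inv, h.cent⟩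

theorem TypeG.fg {K : Type*} [Group K] {φ : MulAut K} {J : Subgroup K} (h : TypeG φ J) : FG φ J :=
  ⟨h.sq, h.out, h.center, h.shift, h.le, h.comp, h.even, h.core,
    fun w hw h2 h1 => (h.can w hw h2 h1).1, h.inv, h.cent⟩

section

variable {κ : Kind.{u}} {G : Type u} [Group G] {u v a b : G} {X X' E C : Subgroup G}

theorem isInn_mul_left (hf : Fixes a X) (h : IsInn (a * b) X) : IsInn b X := by
  obtain ⟨h1, h2⟩ := h
  have hb : b ∈ normalizer (X : Set G) := by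
    have := mul_mem (inv_mem hf.1) h1
    rwa [inv_mul_cancel_left] at this
  refine ⟨hb, ?_⟩
  have h3 : act X ⟨a * b, h1⟩ = act X ⟨b, hb⟩ := by
    rw [act_mul hf.1 hb, (act_eq_one_iff hf.1).mpr hf, one_mul]
  rw [← h3]; exact h2

theorem isOut_mul_left (hf : Fixes a X) (h : IsOut b X) : IsOut (a * b) X := by
  have hab : a * b ∈ normalizer (X : Set G) := mul_mem hf.1 h.1
  rcases isInn_or_isOut hab with h1 | h1
  · exact absurd (isInn_mul_left hf h1) h.not_inn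
  · exact h1

/-- the 2-component `C` of `C(u) ∩ C(v)` over the component `J` of the fixed points of `v` on `X / O(X)` -/
structure Over (u v : G) (X C : Subgroup G) (J : Subgroup (↥X ⧸ oddCore ↥X)) : Prop where
  comp : IsComp (centralizer ({u} : Set G) ⊓ centralizer ({v} : Set G)) C
  le : C ≤ X
  map : ∀ a ∈ C, ∃ h : a ∈ X, (QuotientGroup.mk ⟨a, h⟩ : ↥X ⧸ oddCore ↥X) ∈ J
  surj : ∀ x ∈ J, ∃ a ∈ C, ∃ h : a ∈ X, (QuotientGroup.mk ⟨a, h⟩ : ↥X ⧸ oddCore ↥X) = x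
  mem : ∀ a (h : a ∈ X), a * v = v * a → (QuotientGroup.mk ⟨a, h⟩ : ↥X ⧸ oddCore ↥X) ∈ J →
    ∀ k : ℕ, a ^ 2 ^ k = 1 → a ∈ C
  core : core C ≤ core X

variable [Finite G]

theorem exists_over (hu : IsPair κ u X) (hvv : v * v = 1) (hn : v ∈ normalizer (X : Set G))
    {J : Subgroup (↥X ⧸ oddCore ↥X)} (hJ : FG (act X ⟨v, hn⟩) J) : ∃ C, Over u v X C J := by
  obtain ⟨C, h1, h2, h3, h4, -, h6⟩ := exists_comp hn (n := 1) (by rw [pow_one, pow_two, hvv])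
    hJ.le hJ.comp hJ.even
  have hSM : X ⊓ centralizer ({v} : Set G) ≤ centralizer ({u} : Set G) ⊓ centralizer ({v} : Set G) :=
    inf_le_inf_right _ hu.comp.le
  refine ⟨C, h1.extend hSM ?_, h1.le.trans inf_le_left, h2, h3, h4, h6 hJ.core⟩
  exact TypeF.subnormal_inf hu.comp inf_le_left inf_le_right

/-- lifting an involution of `J` with the shift property -/
theorem Over.exists_inv {J : Subgroup (↥X ⧸ oddCore ↥X)} (hC : Over u v X C J) (hvv : v * v = 1)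
    (hn : v ∈ normalizer (X : Set G)) (hJ : FG (act X ⟨v, hn⟩) J) :
    ∃ w ∈ C, ∃ hX : w ∈ X, w * w = 1 ∧ w ≠ 1 ∧ w * v = v * w ∧
      (QuotientGroup.mk ⟨w, hX⟩ : ↥X ⧸ oddCore ↥X) ∈ J ∧
      ∃ h, act X ⟨v, hn⟩ h = h * (QuotientGroup.mk ⟨w, hX⟩ : ↥X ⧸ oddCore ↥X) := by
  obtain ⟨w, hwJ, hww, hw1, h, hh⟩ := hJ.inv
  obtain ⟨w, hX, hwv, hw2, rfl⟩ := exists_lift_two hn (n := 1) (by rw [pow_one, pow_two, hvv])
    (hJ.le hwJ) (m := 1) (by rw [pow_one, pow_two, hww])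
  refine ⟨w, hC.mem w hX hwv hwJ 1 hw2, hX, by rw [← hw2, pow_one, pow_two], ?_, hwv, hwJ, h, hh⟩
  rintro rfl
  exact hw1 rfl

/-- **a 2-component `E ≠ C'` of `C(v) ∩ C(u)` fixes `X'`** -/
theorem Over.fixes_of_ne {J : Subgroup (↥X' ⧸ oddCore ↥X')} (hC : Over v u X' C J)
    (hu : IsPair κ u X) (hv : IsPair κ v X') (hvu : v * u = u * v)
    (hn : u ∈ normalizer (X' : Set G)) (hJ : FG (act X' ⟨u, hn⟩) J)
    (hE : IsComp (centralizer ({v} : Set G) ⊓ centralizer ({u} : Set G)) E) (hne : E ≠ C) :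
    ∀ a ∈ E, Fixes a X' := by
  have huC : u ∈ centralizer ({v} : Set G) := mem_centralizer_singleton_iff.mpr hvu.symm
  have hEL := isComp_le_L2 huC hu.sq hE
  have hEN : E ≤ normalizer (X' : Set G) := hEL.trans hv.comp.L2_le_normalizer
  obtain ⟨A, hA⟩ : ∃ A, A = (E.subgroupOf (normalizer (X' : Set G))).map (act X') := ⟨_, rfl⟩
  have hAI : A ≤ Inn (↥X' ⧸ oddCore ↥X') := by
    rw [hA]
    rintro _ ⟨⟨a, haN⟩, ha, rfl⟩
    have ha' : a ∈ E := ha
    obtain ⟨k, hk, hc⟩ := IntrinsicBalance.sup_form hv.comp.tc (hv.comp.L2_le_sup (hEL ha'))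
    have hf : Fixes (k⁻¹ * a) X' := (hv.comp.fixes_iff ((mem_cenMod hv.comp.le).mp hc).1).mpr hc
    exact (isInn_iff.mpr ⟨k, hk, hf⟩).2
  have hAp : ⁅A, A⁆ = A := by
    rw [hA, ← map_commutator]
    congr 1
    apply map_injective (normalizer (X' : Set G)).subtype_injective
    rw [map_commutator, subgroupOf_map_subtype, inf_of_le_left hEN, hE.perfect]
  have hAc : ∀ a ∈ A, a * act X' ⟨u, hn⟩ = act X' ⟨u, hn⟩ * a := by
    rw [hA]
    rintro _ ⟨⟨a, haN⟩, ha, rfl⟩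
    have ha' : a ∈ E := ha
    rw [← map_mul, ← map_mul]
    congr 1
    exact Subtype.ext (mem_centralizer_singleton_iff.mp (hE.le ha').2)
  have hA1 : A = ⊥ := by
    refine hJ.cent A hAI hAp hAc ?_
    rw [hA]
    rintro _ ⟨⟨a, haN⟩, ha, rfl⟩ j hj
    have ha' : a ∈ E := ha
    obtain ⟨j, hjC, hjY, rfl⟩ := hC.surj j hj
    have h1 := (hC.comp.fixes_of_mem hE hne.symm ha').2 j hjC
    have h2 := hC.core h1
    rw [act_mk haN hjY, eq_comm, mk_eq_iff]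
    have h3 := conj_mem_core (x := j⁻¹) (le_normalizer (inv_mem hjY)) h2
    have h4 : j⁻¹ * ⁅a, j⁆ * j⁻¹⁻¹ = j⁻¹ * (a * j * a⁻¹) := by
      rw [commutatorElement_def]; group
    rwa [h4] at h3
  intro a ha
  rw [← act_eq_one_iff (hEN ha)]
  have h1 : act X' ⟨a, hEN ha⟩ ∈ A := by rw [hA]; exact ⟨⟨a, hEN ha⟩, ha, rfl⟩
  rw [hA1, mem_bot] at h1
  exact h1

namespace World

variable (W : World κ G)
include W

theorem out_symm (hu : IsPair κ u X) (hv : IsPair κ v X') (hvu : v * u = u * v) (ho : IsOut v X) :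
    IsOut u X' := by
  have hn : u ∈ normalizer (X' : Set G) := mem_normalizer_iff_cj.mpr (W.no2 v u X' X hv hu hvu)
  rcases isInn_or_isOut hn with hi | ho'
  · exfalso
    by_cases hf : Fixes u X'
    · exact ho.not_fixes (typeZero_symm' hv hu hvu hf)
    · exact ho.not_inn (W.ti v u X' X hv hu hvu hi hf).2.1
  · exact ho'

/-- outer elements have type `f` or `g` -/
theorem exists_fg (hu : IsPair κ u X) (hv : IsPair κ v X') (hvu : v * u = u * v) (ho : IsOut v X) :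
    (∃ J, TypeF (act X ⟨v, ho.1⟩) J) ∨ ∃ J, TypeG (act X ⟨v, ho.1⟩) J := by
  rcases W.out hu.kind _ (ho.out hv.sq).sq (ho.out hv.sq).out with h | h | h
  · exact (W.no_typeC hu hv ho.1 hvu h).elim
  · exact Or.inl h
  · exact Or.inr h

theorem exists_fg' (hu : IsPair κ u X) (hv : IsPair κ v X') (hvu : v * u = u * v) (ho : IsOut v X) :
    ∃ J, FG (act X ⟨v, ho.1⟩) J := by
  rcases W.exists_fg hu hv hvu ho with ⟨J, h⟩ | ⟨J, h⟩
  · exact ⟨J, h.fg⟩
  · exact ⟨J, h.fg⟩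

omit [Finite G] W in
theorem not_fixes_of_ninv {w c : G} (hw : w ∈ X) (hc : c ∈ X) (hcf : Fixes c X)
    (h : NInv (QuotientGroup.mk ⟨w, hw⟩ : ↥X ⧸ oddCore ↥X)) : ¬ Fixes (w * c) X := by
  intro hf
  apply h.2
  rw [mk_mem_center_iff hw]
  exact (fixes_mul_iff_left hcf).mp hf

/-- `v` outer on `X`, `w ∈ C_X(v)^∞` an involution fixing `X'` with the shift property: `w u` is the involution of a
pair -/
theorem exists_pair_mul (hu : IsPair κ u X) (hv : IsPair κ v X') (hvu : v * u = u * v)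
    (ho : IsOut v X) {J : Subgroup (↥X ⧸ oddCore ↥X)} (hJ : FG (act X ⟨v, ho.1⟩) J) {w : G}
    (hwX : w ∈ X) (hww : w * w = 1) (hwv : w * v = v * w) (hwf : Fixes w X')
    (hh : ∃ h, act X ⟨v, ho.1⟩ h = h * (QuotientGroup.mk ⟨w, hwX⟩ : ↥X ⧸ oddCore ↥X)) :
    ∃ Y, IsPair κ (w * u) Y := by
  have hwu : w * u = u * w := pair_comm hu hwX
  have huf : act X ⟨v, ho.1⟩ (QuotientGroup.mk ⟨u, hu.mem⟩) = QuotientGroup.mk ⟨u, hu.mem⟩ := by
    rw [act_mk ho.1 hu.mem]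
    congr 1
    exact Subtype.ext (by
      change v * u * v⁻¹ = u
      rw [hvu, mul_inv_cancel_right])
  obtain ⟨h1, hh1⟩ := hJ.shift _ (pair_mk_center hu) huf
  obtain ⟨h0, hh0⟩ := hh
  have hsh : act X ⟨v, ho.1⟩ (h1 * h0) = (h1 * h0) * QuotientGroup.mk ⟨w * u, mul_mem hwX hu.mem⟩ := by
    rw [map_mul, hh1, hh0]
    have h2 := mem_center_iff.mp (pair_mk_center hu) (h0 * (QuotientGroup.mk ⟨w, hwX⟩ : ↥X ⧸ oddCore ↥X))
    have h3 : (QuotientGroup.mk ⟨w * u, mul_mem hwX hu.mem⟩ : ↥X ⧸ oddCore ↥X) =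
        QuotientGroup.mk ⟨w, hwX⟩ * QuotientGroup.mk ⟨u, hu.mem⟩ := rfl
    rw [h3]
    calc h1 * QuotientGroup.mk ⟨u, hu.mem⟩ * (h0 * QuotientGroup.mk ⟨w, hwX⟩) =
        h1 * (QuotientGroup.mk ⟨u, hu.mem⟩ * (h0 * QuotientGroup.mk ⟨w, hwX⟩)) := by group
      _ = h1 * ((h0 * QuotientGroup.mk ⟨w, hwX⟩) * QuotientGroup.mk ⟨u, hu.mem⟩) := by rw [h2]
      _ = _ := by group
  have hwuu : (w * u) * (w * u) = 1 := by
    calc (w * u) * (w * u) = w * (u * w) * u := by group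
      _ = (w * w) * (u * u) := by rw [← hwu]; group
      _ = 1 := by rw [hww, hu.sq, one_mul]
  have hwuv : (w * u) * v = v * (w * u) := by rw [mul_assoc, ← hvu, ← mul_assoc, hwv, mul_assoc]
  obtain ⟨g, -, hg⟩ := exists_conj_mul ho.1 hv.sq (mul_mem hwX hu.mem) hwuu hwuv hsh
  have hy := pair_conj hv hg
  -- `y = v (w u)` acts on `X'` as `u`
  have hoy : IsOut (v * (w * u)) X' :=
    isOut_mul_left (pair_fixes hv) (isOut_mul_left hwf (W.out_symm hu hv hvu ho))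
  have hyv : (v * (w * u)) * v = v * (v * (w * u)) := by rw [mul_assoc, hwuv]
  obtain ⟨g', -, hg'⟩ := W.shift_out hv hy hyv hoy
  have h4 : v * (w * u) * v = w * u := by rw [mul_assoc, hwuv, ← mul_assoc, hv.sq, one_mul]
  rw [h4] at hg'
  exact ⟨_, pair_conj hy hg'⟩

/-- **no type `g`** -/
theorem no_typeG (hu : IsPair κ u X) (hv : IsPair κ v X') (hvu : v * u = u * v)
    (hn : v ∈ normalizer (X : Set G)) {J : Subgroup (↥X ⧸ oddCore ↥X)}
    (hg : TypeG (act X ⟨v, hn⟩) J) : False := by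
  have ho : IsOut v X := ⟨hn, hg.out⟩
  have ho' := W.out_symm hu hv hvu ho
  obtain ⟨J', hJ'⟩ := W.exists_fg' hv hu hvu.symm ho'
  obtain ⟨C, hC⟩ := exists_over hu hv.sq hn hg.fg
  obtain ⟨C', hC'⟩ := exists_over hv hu.sq ho'.1 hJ'
  have hucen := pair_mk_center hu
  have hu1 := mk_ne_one' hu.mem hu.sq hu.ne_one
  -- noncanonical elements `w u`
  have hno : ∀ w (hwC : w ∈ C), w * w = 1 → w ≠ 1 → ∀ Y, ¬ IsPair κ (w * u) Y := by
    intro w hwC hww hw1 Y hY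
    obtain ⟨hwX, hwJ⟩ := hC.map w hwC
    have hcan := hg.can _ hwJ (mk_sq_one hwX hww) (mk_ne_one' hwX hww hw1)
    refine W.not_D hu (mul_mem hwX hu.mem) ?_ (not_fixes_of_ninv hwX hu.mem (pair_fixes hu) hcan.1) hY
    intro h
    exact hu1 (W.canU hu.kind _ _ hcan hucen h)
  by_cases hCC : C = C'
  · subst hCC
    obtain ⟨w, hwC, hwX', hww, hw1, hwu, -, h, hh⟩ := hC'.exists_inv hu.sq ho'.1 hJ'
    obtain ⟨g, -, hgg⟩ := exists_conj_mul ho'.1 hu.sq hwX' hww hwu hh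
    have h1 := pair_conj hu hgg
    rw [← hwu] at h1
    exact hno w hwC hww hw1 _ h1
  · have hfix := hC'.fixes_of_ne hu hv hvu ho'.1 hJ' (E := C) (by rw [inf_comm]; exact hC.comp) hCC
    obtain ⟨w, hwC, hwX, hww, hw1, hwv, -, hh⟩ := hC.exists_inv hv.sq hn hg.fg
    obtain ⟨Y, hY⟩ := W.exists_pair_mul hu hv hvu ho hg.fg hwX hww hwv (hfix w hwC) hh
    exact hno w hwC hww hw1 Y hY

/-- outer elements have type `f` -/
theorem exists_typeF (hu : IsPair κ u X) (hv : IsPair κ v X') (hvu : v * u = u * v) (ho : IsOut v X) :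
    ∃ J, TypeF (act X ⟨v, ho.1⟩) J := by
  rcases W.exists_fg hu hv hvu ho with h | ⟨J, h⟩
  · exact h
  · exact (W.no_typeG hu hv hvu ho.1 h).elim

/-- **type `f`, first part**: `X` contains a noncentral involution of a pair; `|Ω_u| = 1` -/
theorem typeF_first (hu : IsPair κ u X) (hv : IsPair κ v X') (hvu : v * u = u * v) (ho : IsOut v X) :
    (∃ c ∈ X, (∃ Y, IsPair κ c Y) ∧ ¬ Fixes c X) ∧ ∀ Y, IsPair κ u Y → Y = X := by
  have ho' := W.out_symm hu hv hvu ho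
  obtain ⟨J, hJ⟩ := W.exists_typeF hu hv hvu ho
  obtain ⟨J', hJ'⟩ := W.exists_fg' hv hu hvu.symm ho'
  obtain ⟨C, hC⟩ := exists_over hu hv.sq ho.1 hJ.fg
  obtain ⟨C', hC'⟩ := exists_over hv hu.sq ho'.1 hJ'
  have h1 : ∃ c ∈ X, (∃ Y, IsPair κ c Y) ∧ ¬ Fixes c X := by
    by_cases hCC : C = C'
    · subst hCC
      obtain ⟨w, hwC, hwX', hww, hw1, hwu, -, h, hh⟩ := hC'.exists_inv hu.sq ho'.1 hJ'
      obtain ⟨g, -, hgg⟩ := exists_conj_mul ho'.1 hu.sq hwX' hww hwu hh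
      have h1 := pair_conj hu hgg
      rw [← hwu] at h1
      obtain ⟨hwX, hwJ⟩ := hC.map w hwC
      exact ⟨w * u, mul_mem hwX hu.mem, ⟨_, h1⟩, not_fixes_of_ninv hwX hu.mem (pair_fixes hu)
        (hJ.noncan _ hwJ (mk_sq_one hwX hww) (mk_ne_one' hwX hww hw1)).1⟩
    · have hfix := hC'.fixes_of_ne hu hv hvu ho'.1 hJ' (E := C) (by rw [inf_comm]; exact hC.comp) hCC
      obtain ⟨w, hwC, hwX, hww, hw1, hwv, hwJ, hh⟩ := hC.exists_inv hv.sq ho.1 hJ.fg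
      obtain ⟨Y, hY⟩ := W.exists_pair_mul hu hv hvu ho hJ.fg hwX hww hwv (hfix w hwC) hh
      exact ⟨w * u, mul_mem hwX hu.mem, ⟨_, hY⟩, not_fixes_of_ninv hwX hu.mem (pair_fixes hu)
        (hJ.noncan _ hwJ (mk_sq_one hwX hww) (mk_ne_one' hwX hww hw1)).1⟩
  refine ⟨h1, ?_⟩
  obtain ⟨c, hc, ⟨Y, hY⟩, hcf⟩ := h1
  exact (W.ti u c X Y hu hY (pair_comm hu hc).symm (isInn_of_mem hc) hcf).2.2

end World

end

end Cfsg.Agent.UGT.I34.Four
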