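import Cfsg.Agent.UGT.I34.FourCount
import Cfsg.Agent.Intrinsic.TypeGTwo

/-!
# THEOREM I34, part [C] (`Z = 2²`), (3.G): type (2) does not occur

`no_type_two`: `(u, X)`, `(v, X')` pairs of kind `κ`, `u ≠ v` commute; then `v` normalizes `X`.
-/

set_option autoImplicit false

open Cfsg Subgroup
open Cfsg.Agent.SignalizersComponents Cfsg.Agent.Lib
open Cfsg.Agent.SignalizersComponents.IntrinsicBasic
open Cfsg.Agent.Intrinsic (Lifting.exists_two_part)
open Cfsg.Agent.Intrinsic.Basic hiding IsPair PQS Target IsPair.sq IsPair.ne_one IsPair.cj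
open Cfsg.Agent.Intrinsic.Cen hiding pair_comm pair_mem_cen exists_pump pump_unique
open Cfsg.Agent.Intrinsic.Quot hiding Big small_or_big isPair_quot
open Cfsg.Agent.Intrinsic.Diag
open Cfsg.Agent.McLLyComp.Act (act act_mk act_mul act_inv act_eq_one_iff act_of_mem fixes_mul fixes_inv conj_mem)
open Cfsg.Agent.UGT.I34.Pair Cfsg.Agent.UGT.I34.KAut
open Cfsg.Agent.Intrinsic.TypeGTwo (swap_facts)
open scoped commutatorElement

namespace Cfsg.Agent.UGT.I34.FourG

universe u

variable {κ κ₂ : Kind.{u}} {G : Type u} [Group G] [Finite G]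

theorem exists_x (K : KCount κ) {u v : G} {X : Subgroup G} (hp : IsPair κ u X)
    (hv : v * v = 1) (huv : u * v = v * u) (hmove : cj v X ≠ X) :
    ∃ x ∈ X, x * x = 1 ∧ ¬ Fixes x X ∧ x * (v * x * v⁻¹) = (v * x * v⁻¹) * x := by
  have hvC : v ∈ centralizer ({u} : Set G) := mem_centralizer_singleton_iff.mpr huv.symm
  obtain ⟨t, ht2, htc⟩ := K.inv hp.kind
  obtain ⟨⟨c, hc⟩, rfl⟩ := QuotientGroup.mk_surjective t
  have hc2 : c ^ 2 ^ 1 ∈ core X := by
    rw [pow_one, pow_two, ← mk_eq_one_iff (X.mul_mem hc hc)]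
    exact ht2
  obtain ⟨k, hk1, hk2⟩ := Lifting.exists_two_part (odd_card_core X) hc2
  have hx0 : c ^ k ∈ X := X.pow_mem hc k
  have hx02 : c ^ k * c ^ k = 1 := by
    rw [pow_one, pow_two] at hk1; exact hk1
  obtain ⟨x, hxX, hx2, hx0x, hxv⟩ := exists_comm_swap hp.comp hvC hv hmove hx0 hx02
  refine ⟨x, hxX, hx2, fun hf => htc ?_, hxv⟩
  have hmk : (QuotientGroup.mk ⟨x, hxX⟩ : ↥X ⧸ oddCore ↥X) = QuotientGroup.mk ⟨c, hc⟩ := by
    have e1 : (QuotientGroup.mk ⟨c, hc⟩ : ↥X ⧸ oddCore ↥X) = QuotientGroup.mk ⟨c ^ k, hx0⟩ :=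
      (mk_eq_mk_iff' hc hx0).mpr hk2
    have e2 : (QuotientGroup.mk ⟨c ^ k, hx0⟩ : ↥X ⧸ oddCore ↥X) = QuotientGroup.mk ⟨x, hxX⟩ := by
      rw [mk_eq_mk_iff' hx0 hxX, hp.comp.core_eq]
      exact ⟨X.mul_mem (X.inv_mem hx0) hxX, hx0x⟩
    rw [e1, e2]
  rw [← hmk]
  exact mk_mem_center hxX hf

/-- elements of the diagonal over central elements are central and conversely -/
theorem mk_mem_center_diag {u v : G} {X : Subgroup G} (hp : IsPair κ u X) (hv : v * v = 1)
    (huv : u * v = v * u) (hmove : cj v X ≠ X) {k m : G} (hk : k ∈ X)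
    (hm : m ∈ diag (centralizer ({u} : Set G)) X v)
    (hkm : m⁻¹ * (k * (v * k * v⁻¹)) ∈ core (centralizer ({u} : Set G))) :
    (QuotientGroup.mk ⟨m, hm⟩ : ↥(diag (centralizer ({u} : Set G)) X v) ⧸
      oddCore ↥(diag (centralizer ({u} : Set G)) X v)) ∈ center _ ↔ Fixes k X := by
  have hvC : v ∈ centralizer ({u} : Set G) := mem_centralizer_singleton_iff.mpr huv.symm
  obtain ⟨-, -, -, -, f, hfs, hfk, hf1, -⟩ := exists_diag hp.comp hvC hv hmove
  have h1 : f (QuotientGroup.mk ⟨k, hk⟩) = QuotientGroup.mk ⟨m, hm⟩ := hf1 ⟨k, hk⟩ ⟨m, hm⟩ hkm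
  rw [← h1]
  constructor
  · intro h
    apply fixes_of_mk_mem_center hk
    apply mem_center_of_comm (quasisimple_quot hp.comp)
    intro y
    apply hfk
    rw [MonoidHom.mem_ker, map_commutatorElement, commutatorElement_eq_one_iff_mul_comm]
    exact (mem_center_iff.mp h _).symm
  · intro h
    have h2 := mk_mem_center hk h
    rw [mem_center_iff]
    intro y
    obtain ⟨y, rfl⟩ := hfs y
    rw [← map_mul, ← map_mul, mem_center_iff.mp h2 y]

/-- **(3.G)**: there are no pairs of type (2). -/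
theorem no_type_two (H : GHyp κ κ₂ G) (T : TCent κ) (K : KCount κ) {u v : G}
    {X X' : Subgroup G} (hpu : IsPair κ u X) (hpv : IsPair κ v X') (huv : u * v = v * u) :
    cj v X = X := by
  by_contra hmove
  have hne : u ≠ v := by
    rintro rfl
    exact hmove (cj_eq_self_of_mem hpu.mem)
  have hmove' := H.typeF u v X X' hpu hpv hne huv hmove
  have hvCu : v ∈ centralizer ({u} : Set G) := mem_centralizer_singleton_iff.mpr huv.symm
  have huCv : u ∈ centralizer ({v} : Set G) := mem_centralizer_singleton_iff.mpr huv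
  have hv2 := hpv.sq
  have hu2 := hpu.sq
  obtain ⟨x, hxX, hx2, hxf, hxv⟩ := exists_x K hpu hv2 huv hmove
  have hdiag := diag_eq H hne huv hpu hpv hmove hxX hx2 hxf hxv
  -- `Ω_v = {X', X' ^ u}`
  have htwo' : ∀ Y, IsPair κ v Y → Y = X' ∨ Y = cj u X' := by
    intro Y hY
    by_contra hYne
    push Not at hYne
    have hYmove : cj u Y ≠ Y := H.typeF u v X Y hpu hY hne huv hmove
    have h2 := diag_eq H hne huv hpu hY hmove hxX hx2 hxf hxv
    exact diag_ne hpv.comp huCv hu2 hmove' hY.comp hYmove hYne.1 hYne.2 (h2.symm.trans hdiag)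
  -- the element `e`
  obtain ⟨e, he⟩ : ∃ e, e = x * (v * x * v⁻¹) := ⟨_, rfl⟩
  obtain ⟨hxvx, hev, -, hee⟩ := swap_facts hx2 hv2 hxv he
  have hxu' : x * u = u * x := pair_comm hpu hxX
  have hvi : v⁻¹ = v := inv_eq_of_mul_eq_one_left hv2
  have hxi : x⁻¹ = x := inv_eq_of_mul_eq_one_left hx2
  have hxCu : x ∈ centralizer ({u} : Set G) := mem_centralizer_singleton_iff.mpr hxu'
  have heCu : e ∈ centralizer ({u} : Set G) := by
    rw [he]
    exact mul_mem hxCu (mul_mem (mul_mem hvCu hxCu) (inv_mem hvCu))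
  have heu : e * u = u * e := mem_centralizer_singleton_iff.mp heCu
  have heCv : e ∈ centralizer ({v} : Set G) := mem_centralizer_singleton_iff.mpr hev
  have hcore : e⁻¹ * (x * (v * x * v⁻¹)) ∈ core (centralizer ({u} : Set G)) := by
    rw [← he, inv_mul_cancel]; exact one_mem _
  have heE : e ∈ diag (centralizer ({u} : Set G)) X v :=
    mem_diag heCu hev hxX hcore (n := 1) (by rw [pow_one, pow_two]; exact hee)
  have hcen1 := (mk_mem_center_diag hpu hv2 huv hmove hxX heE hcore).not.mpr hxf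
  have heE' : e ∈ diag (centralizer ({v} : Set G)) X' u := hdiag ▸ heE
  have hcen2 : (QuotientGroup.mk ⟨e, heE'⟩ : ↥(diag (centralizer ({v} : Set G)) X' u) ⧸
      oddCore ↥(diag (centralizer ({v} : Set G)) X' u)) ∉ center _ := by
    have key : ∀ (E : Subgroup G) (h1 : E = diag (centralizer ({u} : Set G)) X v) (h2 : e ∈ E),
        (QuotientGroup.mk ⟨e, h2⟩ : ↥E ⧸ oddCore ↥E) ∉ center _ := by
      rintro E rfl h2
      exact hcen1
    exact key _ hdiag.symm heE'
  obtain ⟨hE', hE'm, -, -, -⟩ := exists_diag hpv.comp huCv hu2 hmove'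
  have hL2 := isComp_le_L2 huCv hu2 hE'
  have heX' : e ∈ normalizer (X' : Set G) := hpv.comp.L2_le_normalizer (hL2 heE')
  obtain ⟨a, haX', hae⟩ := hE'm e heE'
  have hfa : ¬ Fixes a X' := (mk_mem_center_diag hpv hu2 huv.symm hmove' haX' heE' hae).not.mp hcen2
  have haCv : a ∈ centralizer ({v} : Set G) := hpv.comp.le haX'
  have hfae : Fixes (a⁻¹ * (v * e)) X' := by
    have h1 := fixes_inv_mul hpv.comp huCv hmove' haX' heCv hae
    have h2 : a⁻¹ * (v * e) = (a⁻¹ * e) * v := by rw [← hev, mul_assoc]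
    rw [h2]
    exact fixes_mul h1 (fixes_self hpv)
  have hinn : IsInn (v * e) X' := isInn_iff.mpr ⟨a, haX', hfae⟩
  have hnfe : ¬ Fixes (v * e) X' := by
    intro hf
    apply hfa
    have h4 := fixes_mul hf (fixes_inv hfae)
    have h5 : v * e * (a⁻¹ * (v * e))⁻¹ = a := by group
    rwa [h5] at h4
  -- the same for `X' ^ u`
  have huve : u * (v * e) * u⁻¹ = v * e := by
    calc u * (v * e) * u⁻¹ = (u * v) * e * u⁻¹ := by group
      _ = v * (u * e) * u⁻¹ := by rw [huv]; group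
      _ = v * e := by rw [← heu]; group
  have hinn' : IsInn (v * e) (cj u X') := by
    have := IsInn.cj hinn u
    rwa [huve] at this
  have hnfe' : ¬ Fixes (v * e) (cj u X') := by
    intro h
    have h1 := h.cj u⁻¹
    rw [cj_inv_cj] at h1
    apply hnfe
    have h2 : u⁻¹ * (v * e) * u⁻¹⁻¹ = v * e := by
      nth_rewrite 1 [← huve]
      group
    rwa [h2] at h1
  -- the pairs over `v e`
  have hY : IsPair κ (v * e) (cj x X') := by
    rw [← hxvx]; exact hpv.cj x
  have hvee : x * (v * e) * x⁻¹ = v := by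
    rw [← hxvx, hxi]
    calc x * (x * v * x) * x = (x * x) * v * (x * x) := by group
      _ = v := by rw [hx2, one_mul, mul_one]
  have hall : ∀ Y, IsPair κ (v * e) Y → Y = cj x X' ∨ Y = cj x (cj u X') := by
    intro Y hY'
    have h1 : IsPair κ v (cj x Y) := by
      have := hY'.cj x
      rwa [hvee] at this
    have hxx : ∀ Z : Subgroup G, cj x (cj x Z) = Z := by
      intro Z
      rw [← cj_mul, hx2, cj_one]
    rcases htwo' _ h1 with h2 | h2
    · left; rw [← h2, hxx]
    · right; rw [← h2, hxx]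
  have hXu : IsPair κ v (cj u X') := by
    have := hpv.cj u
    rwa [huv, mul_inv_cancel_right] at this
  have hvn : Cfsg.Agent.UGT.I34.KAut.IsInn v (cj x X') := by
    have := IsInn.cj hinn x
    rwa [hvee] at this
  have hvf : ¬ Fixes v (cj x X') := by
    intro h
    have h1 := h.cj x
    rw [← cj_mul, hx2, cj_one, hxvx] at h1
    exact hnfe h1
  refine no_two H T K hpv hXu (Ne.symm hmove') hY hall ?_ hinn hnfe hinn' hnfe' hvn.1 hvf
  rw [mul_assoc, hev]

end Cfsg.Agent.UGT.I34.FourG
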