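import Cfsg.Agent.UGT.I34.KF

/-!
# THEOREM I34, part [A], section 5: the local theory

`R`: a 2-group (in use: a Sylow 2-subgroup of `C(z, e)`), `z`, `e` central involutions of `R`.
`Side R K z e`: `S = R ∩ L_z`, `j : S → K = L_z / O(L_z)` injective with image `C_K(e)`, `ρ : R → Aut(K)`.
`A : Side R K₁ z e`, `B : Side R K₂ e z`.

* `norm`: `N = S ∩ ker ρ_B` has order `≤ 4` (`≤ 2` for `4₂`), `N ∩ Y = {1, e}`
* `fix_two`: (5.2)
* `no_sq`: (5.4)
* `ker_card`: (5.5), first half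
-/

set_option autoImplicit false
set_option linter.unusedSectionVars false

open Cfsg Subgroup
open Cfsg.Agent.UGT.I34.KF
open scoped commutatorElement

namespace Cfsg.Agent.UGT.I34.Loc

/-! ### general facts -/

section gen

variable {K : Type*} [Group K] {t : K}

theorem conj_eq_one_iff {k : K} : MulAut.conj k = 1 ↔ k ∈ center K := by
  rw [mem_center_iff]
  constructor
  · intro h g
    have h1 := DFunLike.congr_fun h g
    rw [MulAut.conj_apply, MulAut.one_apply, mul_inv_eq_iff_eq_mul] at h1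
    exact h1.symm
  · intro h
    ext g
    rw [MulAut.conj_apply, MulAut.one_apply, ← h g, mul_inv_cancel_right]

theorem conj_eq_iff {a b : K} : MulAut.conj a = MulAut.conj b ↔ ∃ c ∈ center K, a = b * c := by
  constructor
  · intro h
    refine ⟨b⁻¹ * a, ?_, by group⟩
    rw [← conj_eq_one_iff, map_mul, map_inv, h, inv_mul_cancel]
  · rintro ⟨c, hc, rfl⟩
    rw [map_mul, conj_eq_one_iff.mpr hc, mul_one]

theorem map_center (φ : MulAut K) {c : K} (hc : c ∈ center K) : φ c ∈ center K := by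
  rw [mem_center_iff] at hc ⊢
  intro g
  have h := hc (φ.symm g)
  have h1 := congrArg φ h
  rw [map_mul, map_mul, MulEquiv.apply_symm_apply] at h1
  exact h1

theorem center_le_Y : center K ≤ Y t := by
  intro c hc
  have h := mem_center_iff.mp hc
  refine ⟨(h t).symm, fun b _ => ?_⟩
  rw [commutatorElement_def, ← h b, mul_assoc, mul_assoc, ← mul_assoc c, mul_inv_cancel, one_mul,
    mul_inv_cancel]
  exact one_mem _

theorem self_mem_Y : t ∈ Y t := by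
  refine ⟨rfl, fun b hb => ?_⟩
  rw [commutatorElement_def, ← hb, mul_assoc, mul_assoc, ← mul_assoc t, mul_inv_cancel, one_mul,
    mul_inv_cancel]
  exact one_mem _

theorem Y_map (φ : MulAut K) (hφ : φ t = t) {y : K} (hy : y ∈ Y t) : φ y ∈ Y t := by
  obtain ⟨h1, h2⟩ := hy
  refine ⟨?_, fun b hb => ?_⟩
  · have := congrArg φ h1
    rwa [map_mul, map_mul, hφ] at this
  · have h3 : φ.symm b * t = t * φ.symm b := by
      apply φ.injective
      rw [map_mul, map_mul, hφ, MulEquiv.apply_symm_apply, hb]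
    have h4 := map_center φ (h2 _ h3)
    rwa [map_commutatorElement, MulEquiv.apply_symm_apply] at h4

theorem Facts.Y_comm {τ : Bool} (F : Facts K τ) (ht : NInv t) {x y : K} (hx : x ∈ Y t) (hy : y ∈ Y t) :
    x * y = y * x := by
  by_cases h : ∀ c ∈ center K, x ≠ c ∧ x ≠ t * c
  · obtain ⟨c, hc, h1⟩ := F.Y_cases ht hx h hy
    have hc' := mem_center_iff.mp hc
    rcases h1 with rfl | rfl | rfl | rfl
    · exact hc' x
    · rw [← mul_assoc, hx.1, mul_assoc, hc' x, ← mul_assoc]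
    · rw [← mul_assoc, mul_assoc, mul_assoc, hc' x]
    · calc x * (t * x * c) = x * t * x * c := by group
        _ = t * x * (x * c) := by rw [hx.1]; group
        _ = t * x * (c * x) := by rw [hc' x]
        _ = t * x * c * x := by group
  · push Not at h
    obtain ⟨c, hc, h1⟩ := h
    have hc' := mem_center_iff.mp hc
    by_cases h2 : x = c
    · rw [h2]; exact (hc' y).symm
    · rw [h1 h2]
      calc t * c * y = t * (c * y) := by group
        _ = t * (y * c) := by rw [hc' y]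
        _ = t * y * c := by group
        _ = y * (t * c) := by rw [← hy.1]; group

theorem comm_center_sq {y b : K} (h : ⁅y, b⁆ ∈ center K) (hy : y * y = 1) : ⁅y, b⁆ * ⁅y, b⁆ = 1 := by
  have h1 := mem_center_iff.mp h
  have e1 : ⁅y * y, b⁆ = y * ⁅y, b⁆ * y⁻¹ * ⁅y, b⁆ := by
    rw [commutatorElement_def, commutatorElement_def]; group
  rw [h1 y, mul_inv_cancel_right, hy, commutatorElement_def, one_mul, inv_one, mul_one,
    mul_inv_cancel] at e1
  exact e1.symm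

/-- the central involution is `i * i` -/
theorem Facts.inv_eq [Finite K] {τ : Bool} (F : Facts K τ) {i c : K} (hi : orderOf i = 4) (hic : i ∈ center K)
    (hc : c ∈ center K) (hcc : c * c = 1) (hc1 : c ≠ 1) : c = i * i := by
  obtain ⟨i0, hi0, hz⟩ := F.exists_i
  rw [hz] at hc hic
  have key : ∀ {a : K}, a ∈ zpowers i0 → a * a = 1 → a ≠ 1 → a = i0 ^ 2 := by
    intro a ha haa ha1
    classical
    rw [mem_zpowers_iff_mem_range_orderOf, hi0] at ha
    simp only [Finset.mem_image, Finset.mem_range] at ha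
    obtain ⟨n, hn, rfl⟩ := ha
    have h2 : ∀ m : ℕ, i0 ^ m = 1 → 4 ∣ m := fun m hm => by
      rw [← hi0]; exact orderOf_dvd_of_pow_eq_one hm
    interval_cases n
    · exact absurd (pow_zero i0) ha1
    · rw [← pow_add] at haa
      have := h2 _ haa
      omega
    · rfl
    · rw [← pow_add] at haa
      have := h2 _ haa
      omega
  have hi4 : i ^ 4 = 1 := by rw [← hi, pow_orderOf_eq_one]
  rw [key hc hcc hc1, key (mul_mem hic hic) (by rw [← hi4]; simp only [pow_succ, pow_zero, one_mul, mul_assoc]) (fun h => by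
    have h1 := orderOf_dvd_of_pow_eq_one (show i ^ 2 = 1 by rw [pow_two, h])
    rw [hi] at h1
    omega)]

/-- an element of the centre whose square is `1` or which has the central involution as a power -/
theorem Facts.center_pow [Finite K] {τ : Bool} (F : Facts K τ) {c u : K} (hc : c ∈ center K) (hu : u ∈ center K)
    (huu : u * u = 1) (hu1 : u ≠ 1) (hc1 : c ≠ 1) : ∃ n : ℕ, c ^ n = u := by
  obtain ⟨i, hi, hz⟩ := F.exists_i
  have hic : i ∈ center K := by rw [hz]; exact mem_zpowers i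
  have hui := Facts.inv_eq F hi hic hu huu hu1
  rw [hz] at hc
  classical
  rw [mem_zpowers_iff_mem_range_orderOf, hi] at hc
  simp only [Finset.mem_image, Finset.mem_range] at hc
  obtain ⟨n, hn, rfl⟩ := hc
  have hi4 : i ^ 4 = 1 := by rw [← hi, pow_orderOf_eq_one]
  interval_cases n
  · exact absurd (pow_zero i) hc1
  · exact ⟨2, by rw [hui, pow_one, pow_two]⟩
  · exact ⟨1, by rw [hui, pow_one, pow_two]⟩
  · refine ⟨2, ?_⟩
    rw [hui, ← pow_mul, show 3 * 2 = 4 + 2 by rfl, pow_add, hi4, one_mul, pow_two]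

end gen

/-! ### sides -/

/-- One side of the configuration. -/
structure Side (R : Type*) [Group R] (K : Type*) [Group K] (z e : R) where
  /-- `R ∩ L_z` -/
  S : Subgroup R
  normal : S.Normal
  zS : z ∈ S
  eS : e ∈ S
  /-- the map to `L_z / O(L_z)` -/
  j : ↥S →* K
  inj : Function.Injective j
  jz : j ⟨z, zS⟩ ∈ center K
  je : NInv (j ⟨e, eS⟩)
  surj : ∀ k : K, k * j ⟨e, eS⟩ = j ⟨e, eS⟩ * k → ∃ s, j s = k
  /-- the action -/
  ρ : R →* MulAut K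
  ρ_j : ∀ (r : R) (s : ↥S), ρ r (j s) = j ⟨r * s * r⁻¹, normal.conj_mem s s.2 r⟩
  ρ_S : ∀ s : ↥S, ρ s = MulAut.conj (j s)

/-- The 2-group `R` with the central involutions `z ≠ e`. -/
structure Cen (R : Type*) [Group R] (z e : R) : Prop where
  two : IsPGroup 2 R
  cz : ∀ r : R, r * z = z * r
  ce : ∀ r : R, r * e = e * r
  zz : z * z = 1
  ee : e * e = 1
  z1 : z ≠ 1
  e1 : e ≠ 1
  ze : z ≠ e

namespace Cen

theorem symm {R : Type*} [Group R] {z e : R} (C : Cen R z e) : Cen R e z :=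
  ⟨C.two, C.ce, C.cz, C.ee, C.zz, C.e1, C.z1, C.ze.symm⟩

end Cen

namespace Side

section one

variable {R : Type*} [Group R] {K : Type*} [Group K] [Finite K] {z e : R} (A : Side R K z e)

/-- the noncentral involution `e` of `K` -/
def t : K := A.j ⟨e, A.eS⟩

theorem ht : NInv A.t := A.je

/-- the elements of `S` over `Y` -/
def Yr : Subgroup R := ((Y A.t).comap A.j).map A.S.subtype

theorem mem_Yr {y : R} : y ∈ A.Yr ↔ ∃ hy : y ∈ A.S, A.j ⟨y, hy⟩ ∈ Y A.t := by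
  constructor
  · rintro ⟨s, hs, rfl⟩
    exact ⟨s.2, hs⟩
  · rintro ⟨hy, h⟩
    exact ⟨⟨y, hy⟩, h, rfl⟩

theorem Yr_le : A.Yr ≤ A.S := fun _ hy => (A.mem_Yr.mp hy).1

theorem j_mul {a b : R} (ha : a ∈ A.S) (hb : b ∈ A.S) :
    A.j ⟨a * b, mul_mem ha hb⟩ = A.j ⟨a, ha⟩ * A.j ⟨b, hb⟩ := by
  rw [← map_mul]; rfl

theorem j_one (h : (1 : R) ∈ A.S := one_mem _) : A.j ⟨1, h⟩ = 1 := map_one A.j

theorem j_inj {a b : R} (ha : a ∈ A.S) (hb : b ∈ A.S) (h : A.j ⟨a, ha⟩ = A.j ⟨b, hb⟩) : a = b :=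
  congrArg Subtype.val (A.inj h)

theorem j_comm {a b : R} (ha : a ∈ A.S) (hb : b ∈ A.S) (h : ⁅a, b⁆ ∈ A.S) :
    A.j ⟨⁅a, b⁆, h⟩ = ⁅A.j ⟨a, ha⟩, A.j ⟨b, hb⟩⁆ := by
  rw [← map_commutatorElement]; rfl

theorem comm_mem {a b : R} (ha : a ∈ A.S) (hb : b ∈ A.S) : ⁅a, b⁆ ∈ A.S := by
  rw [commutatorElement_def]
  exact mul_mem (mul_mem (mul_mem ha hb) (inv_mem ha)) (inv_mem hb)

/-- elements of `S` commute with `e` -/
theorem j_t (C : Cen R z e) {s : R} (hs : s ∈ A.S) : A.j ⟨s, hs⟩ * A.t = A.t * A.j ⟨s, hs⟩ := by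
  rw [t, ← A.j_mul hs A.eS, ← A.j_mul A.eS hs]
  congr 1
  exact Subtype.ext (C.ce s)

theorem ρ_t (C : Cen R z e) (r : R) : A.ρ r A.t = A.t := by
  rw [t, A.ρ_j]
  congr 1
  apply Subtype.ext
  change r * e * r⁻¹ = e
  rw [C.ce, mul_inv_cancel_right]

theorem conj_Yr (C : Cen R z e) (r : R) {y : R} (hy : y ∈ A.Yr) : r * y * r⁻¹ ∈ A.Yr := by
  obtain ⟨hyS, h⟩ := A.mem_Yr.mp hy
  refine A.mem_Yr.mpr ⟨A.normal.conj_mem y hyS r, ?_⟩
  have := Y_map (A.ρ r) (A.ρ_t C r) h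
  rwa [A.ρ_j] at this

theorem mem_Yr_of_center {c : R} (hc : c ∈ A.S) (h : A.j ⟨c, hc⟩ ∈ center K) : c ∈ A.Yr :=
  A.mem_Yr.mpr ⟨hc, center_le_Y h⟩

theorem z_mem : z ∈ A.Yr := A.mem_Yr_of_center A.zS A.jz

theorem e_mem : e ∈ A.Yr := A.mem_Yr.mpr ⟨A.eS, self_mem_Y⟩

variable {τ : Bool} (F : Facts K τ) (C : Cen R z e)
include F C

theorem comm_Yr {a b : R} (ha : a ∈ A.S) (hb : b ∈ A.S) : ⁅a, b⁆ ∈ A.Yr := by
  refine A.mem_Yr.mpr ⟨A.comm_mem ha hb, ?_⟩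
  rw [A.j_comm ha hb]
  exact F.comm_Y A.ht (A.j_t C ha) (A.j_t C hb)

theorem sq_Yr {a : R} (ha : a ∈ A.S) : a * a ∈ A.Yr := by
  refine A.mem_Yr.mpr ⟨mul_mem ha ha, ?_⟩
  rw [A.j_mul ha ha]
  exact F.sq_Y A.ht (A.j_t C ha)

theorem jz_ne : A.j ⟨z, A.zS⟩ ≠ 1 := by
  rw [← A.j_one]
  exact fun h => C.z1 (A.j_inj A.zS (one_mem _) h)

theorem jzz : A.j ⟨z, A.zS⟩ * A.j ⟨z, A.zS⟩ = 1 := by
  rw [← A.j_mul A.zS A.zS, ← A.j_one]
  congr 1
  exact Subtype.ext C.zz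

/-- `Y ≤ Φ(S)` -/
theorem Yr_le_sq {y : R} (hy : y ∈ A.Yr) : y ∈ closure {s : R | ∃ x ∈ A.S, s = x * x} := by
  obtain ⟨hyS, h⟩ := A.mem_Yr.mp hy
  have h1 := F.Y_sq A.ht h
  have h2 : ∀ k ∈ closure {s : K | ∃ x, x * A.t = A.t * x ∧ s = x * x}, ∃ (s : R) (hs : s ∈ A.S),
      s ∈ closure {s : R | ∃ x ∈ A.S, s = x * x} ∧ A.j ⟨s, hs⟩ = k := by
    intro k hk
    induction hk using closure_induction with
    | mem k hk =>
      obtain ⟨x, hx, rfl⟩ := hk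
      obtain ⟨⟨s, hs⟩, hsx⟩ := A.surj x hx
      exact ⟨s * s, mul_mem hs hs, subset_closure ⟨s, hs, rfl⟩, by rw [A.j_mul hs hs, hsx]⟩
    | one => exact ⟨1, one_mem _, one_mem _, A.j_one⟩
    | mul a b _ _ ha hb =>
      obtain ⟨s, hs, h1, h2⟩ := ha
      obtain ⟨s', hs', h1', h2'⟩ := hb
      exact ⟨s * s', mul_mem hs hs', mul_mem h1 h1', by rw [A.j_mul hs hs', h2, h2']⟩
    | inv a _ ha =>
      obtain ⟨s, hs, h1, h2⟩ := ha
      refine ⟨s⁻¹, inv_mem hs, inv_mem h1, ?_⟩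
      rw [← h2, ← map_inv]; rfl
  obtain ⟨s, hs, h3, h4⟩ := h2 _ h1
  rwa [A.j_inj hs hyS h4] at h3

/-- involutions of `Y`: with `w ∉ ⟨z, e⟩` -/
theorem Yr_cases {w f : R} (hw : w ∈ A.Yr) (hww : w * w = 1) (h1 : w ≠ 1) (hz : w ≠ z) (he : w ≠ e)
    (hze : w ≠ e * z) (hf : f ∈ A.Yr) (hff : f * f = 1) :
    f = 1 ∨ f = z ∨ f = e ∨ f = e * z ∨ f = w ∨ f = w * z ∨ f = e * w ∨ f = e * w * z := by
  obtain ⟨hwS, hw'⟩ := A.mem_Yr.mp hw
  obtain ⟨hfS, hf'⟩ := A.mem_Yr.mp hf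
  obtain ⟨i, hi, hzi⟩ := F.exists_i
  have hic : i ∈ center K := by rw [hzi]; exact mem_zpowers i
  have hzi' := Facts.inv_eq F hi hic A.jz (A.jzz F C) (A.jz_ne F C)
  -- central elements with square `1`
  have hcen : ∀ c ∈ center K, c * c = 1 → c = A.j ⟨1, one_mem _⟩ ∨ c = A.j ⟨z, A.zS⟩ := by
    intro c hc hcc
    by_cases hc1 : c = 1
    · left; rw [hc1, A.j_one]
    · right; rw [hzi']; exact Facts.inv_eq F hi hic hc hcc hc1
  have hww' : A.j ⟨w, hwS⟩ * A.j ⟨w, hwS⟩ = 1 := by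
    rw [← A.j_mul hwS hwS, ← A.j_one]; congr 1; exact Subtype.ext hww
  have hff' : A.j ⟨f, hfS⟩ * A.j ⟨f, hfS⟩ = 1 := by
    rw [← A.j_mul hfS hfS, ← A.j_one]; congr 1; exact Subtype.ext hff
  have htt : A.t * A.t = 1 := A.ht.1
  have hwt := hw'.1
  obtain ⟨c, hc, h2⟩ := F.Y_cases A.ht hw' (by
    intro c hc
    have hc' := mem_center_iff.mp hc
    constructor
    · intro h
      rcases hcen c hc (by rw [← h]; exact hww') with h3 | h3
      · exact h1 (A.j_inj _ _ (h.trans h3))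
      · exact hz (A.j_inj _ _ (h.trans h3))
    · intro h
      have h4 : c * c = 1 := by
        have e1 : A.t * c * (A.t * c) = A.t * A.t * (c * c) := by
          calc A.t * c * (A.t * c) = A.t * (c * A.t) * c := by group
            _ = A.t * (A.t * c) * c := by rw [hc' A.t]
            _ = A.t * A.t * (c * c) := by group
        rw [← h, hww', htt, one_mul] at e1
        exact e1.symm
      rcases hcen c hc h4 with h3 | h3
      · apply he
        rw [h3, A.j_one, mul_one] at h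
        exact A.j_inj _ _ h
      · apply hze
        rw [h3, t, ← A.j_mul A.eS A.zS] at h
        exact A.j_inj _ _ h) hf'
  have hc' := mem_center_iff.mp hc
  have hcc : c * c = 1 := by
    have key : ∀ {a : K}, a * a = 1 → A.j ⟨f, hfS⟩ = a * c → c * c = 1 := by
      intro a haa h
      have e1 : a * c * (a * c) = a * a * (c * c) := by
        calc a * c * (a * c) = a * (c * a) * c := by group
          _ = a * (a * c) * c := by rw [hc' a]
          _ = a * a * (c * c) := by group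
      rw [← h, hff', haa, one_mul] at e1
      exact e1.symm
    rcases h2 with h | h | h | h
    · exact key (one_mul 1) (by rw [one_mul]; exact h)
    · exact key htt h
    · exact key hww' h
    · refine key (a := A.t * A.j ⟨w, hwS⟩) ?_ h
      calc A.t * A.j ⟨w, hwS⟩ * (A.t * A.j ⟨w, hwS⟩) = A.t * (A.j ⟨w, hwS⟩ * A.t) * A.j ⟨w, hwS⟩ := by group
        _ = A.t * (A.t * A.j ⟨w, hwS⟩) * A.j ⟨w, hwS⟩ := by rw [hwt]
        _ = (A.t * A.t) * (A.j ⟨w, hwS⟩ * A.j ⟨w, hwS⟩) := by group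
        _ = 1 := by rw [htt, hww', one_mul]
  rcases hcen c hc hcc with rfl | rfl
  · rw [A.j_one] at h2
    rcases h2 with h | h | h | h
    · left; rw [← A.j_one] at h; exact A.j_inj _ _ h
    · right; right; left; rw [mul_one] at h; exact A.j_inj _ _ h
    · right; right; right; right; left; rw [mul_one] at h; exact A.j_inj _ _ h
    · right; right; right; right; right; right; left
      rw [mul_one, t, ← A.j_mul A.eS hwS] at h; exact A.j_inj _ _ h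
  · rcases h2 with h | h | h | h
    · right; left; exact A.j_inj _ _ h
    · right; right; right; left
      rw [t, ← A.j_mul A.eS A.zS] at h; exact A.j_inj _ _ h
    · right; right; right; right; right; left
      rw [← A.j_mul hwS A.zS] at h; exact A.j_inj _ _ h
    · right; right; right; right; right; right; right
      rw [t, ← A.j_mul A.eS hwS, ← A.j_mul (mul_mem A.eS hwS) A.zS] at h; exact A.j_inj _ _ h

theorem Yr_comm {x y : R} (hx : x ∈ A.Yr) (hy : y ∈ A.Yr) : x * y = y * x := by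
  obtain ⟨hxS, hx'⟩ := A.mem_Yr.mp hx
  obtain ⟨hyS, hy'⟩ := A.mem_Yr.mp hy
  have h := Facts.Y_comm F A.ht hx' hy'
  rw [← A.j_mul hxS hyS, ← A.j_mul hyS hxS] at h
  exact A.j_inj _ _ h

/-- some `s ∈ S` moves some involution `w ∈ Y`: `[s, w] = z` -/
theorem exists_moved : ∃ s ∈ A.S, ∃ w ∈ A.Yr, w * w = 1 ∧ ⁅w, s⁆ = z ∧ w ≠ 1 ∧ w ≠ z ∧ w ≠ e ∧ w ≠ e * z := by
  obtain ⟨s, w, hs, hw, hww, hne⟩ := F.moved A.ht
  obtain ⟨⟨s, hsS⟩, rfl⟩ := A.surj s hs
  obtain ⟨⟨w, hwS⟩, rfl⟩ := A.surj w hw.1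
  have hww' : w * w = 1 := by
    rw [← A.j_mul hwS hwS, ← A.j_one] at hww
    exact A.j_inj _ _ hww
  have hne' : s * w ≠ w * s := fun h => hne (by
    rw [← A.j_mul hsS hwS, ← A.j_mul hwS hsS]; congr 1; exact Subtype.ext h)
  have h1 := comm_center_sq (hw.2 _ hs) hww
  have h2 : ⁅A.j ⟨w, hwS⟩, A.j ⟨s, hsS⟩⁆ ≠ 1 := by
    rw [Ne, commutatorElement_eq_one_iff_mul_comm]
    exact fun h => hne h.symm
  obtain ⟨i, hi, hzi⟩ := F.exists_i
  have hic : i ∈ center K := by rw [hzi]; exact mem_zpowers i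
  have h3 := (Facts.inv_eq F hi hic (hw.2 _ hs) h1 h2).trans
    (Facts.inv_eq F hi hic A.jz (A.jzz F C) (A.jz_ne F C)).symm
  rw [← A.j_comm hwS hsS (A.comm_mem hwS hsS)] at h3
  refine ⟨s, hsS, w, A.mem_Yr.mpr ⟨hwS, hw⟩, hww', A.j_inj _ _ h3, ?_, ?_, ?_, ?_⟩
  · rintro rfl; exact hne' (by rw [mul_one, one_mul])
  · rintro rfl; exact hne' (C.cz s)
  · rintro rfl; exact hne' (C.ce s)
  · rintro rfl; exact hne' (by rw [← mul_assoc, C.ce, mul_assoc, C.cz, ← mul_assoc])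

end one

section two

variable {R : Type*} [Group R] [Finite R] {K₁ K₂ : Type*} [Group K₁] [Group K₂] [Finite K₁] [Finite K₂]
  {z e : R} (A : Side R K₁ z e) (B : Side R K₂ e z) {τ : Bool}

/-- `N = S ∩ ker ρ_B` -/
def N : Subgroup R := A.S ⊓ B.ρ.ker

theorem mem_N {n : R} : n ∈ N A B ↔ n ∈ A.S ∧ B.ρ n = 1 := Iff.rfl

variable (C : Cen R z e)

include C in
/-- elements which are inner on `K₂` act as elements of `S'` -/
theorem exists_inner {r : R} {k : K₂} (h : B.ρ r = MulAut.conj k) :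
    ∃ (s : R) (hs : s ∈ B.S), B.j ⟨s, hs⟩ = k ∧ B.ρ s = B.ρ r := by
  have h1 := B.ρ_t C.symm r
  rw [h, MulAut.conj_apply, mul_inv_eq_iff_eq_mul] at h1
  obtain ⟨⟨s, hs⟩, hk⟩ := B.surj k h1
  refine ⟨s, hs, hk, ?_⟩
  have h2 := B.ρ_S ⟨s, hs⟩
  rw [hk] at h2
  exact h2.trans h.symm

include C in
theorem ρ_e : B.ρ e = 1 := by
  have h := B.ρ_S ⟨e, B.zS⟩
  rw [conj_eq_one_iff.mpr B.jz] at h
  exact h

include C in
theorem ρ_z_ne : B.ρ z ≠ 1 := by
  intro h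
  have h1 := B.ρ_S ⟨z, B.eS⟩
  have h2 : B.ρ ((⟨z, B.eS⟩ : ↥B.S) : R) = 1 := h
  rw [h2] at h1
  exact B.ht.2 (conj_eq_one_iff.mp h1.symm)

theorem ρ_z : B.ρ z = MulAut.conj B.t := B.ρ_S ⟨z, B.eS⟩

variable (F₁ : Facts K₁ τ) (F₂ : Facts K₂ τ)

include C F₁ F₂ in
/-- elements of `Y` are inner on `K₂` -/
theorem inner_of_Yr {y : R} (hy : y ∈ A.Yr) : ∃ k, B.ρ y = MulAut.conj k := by
  have h := A.Yr_le_sq F₁ C hy
  clear hy
  induction h using closure_induction with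
  | mem y hy =>
    obtain ⟨x, hx, rfl⟩ := hy
    obtain ⟨n, hn⟩ := C.two x
    rw [map_mul]
    exact F₂.sq_inner (B.ρ x) n (by rw [← map_pow, hn, map_one])
  | one => exact ⟨1, by rw [map_one, map_one]⟩
  | mul a b _ _ ha hb =>
    obtain ⟨k, hk⟩ := ha
    obtain ⟨l, hl⟩ := hb
    exact ⟨k * l, by rw [map_mul, hk, hl, map_mul]⟩
  | inv a _ ha =>
    obtain ⟨k, hk⟩ := ha
    exact ⟨k⁻¹, by rw [map_inv, hk, map_inv]⟩

include C in
theorem N_conj (r : R) {n : R} (hn : n ∈ N A B) : r * n * r⁻¹ ∈ N A B := by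
  obtain ⟨h1, h2⟩ := (mem_N A B).mp hn
  refine (mem_N A B).mpr ⟨A.normal.conj_mem n h1 r, ?_⟩
  rw [map_mul, map_mul, h2, mul_one, ← map_mul, mul_inv_cancel, map_one]

include C F₁ in
/-- **(5.1)** -/
theorem N_facts : Nat.card (N A B) ≤ 4 ∧ (τ = false → Nat.card (N A B) ≤ 2) ∧
    ∀ n ∈ N A B, n ∈ A.Yr → n = 1 ∨ n = e := by
  obtain ⟨N', hN'⟩ : ∃ N' : Subgroup K₁, N' = ((N A B).subgroupOf A.S).map A.j := ⟨_, rfl⟩
  have hmem : ∀ {k}, k ∈ N' ↔ ∃ (n : R) (hn : n ∈ A.S), n ∈ N A B ∧ A.j ⟨n, hn⟩ = k := by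
    intro k
    rw [hN']
    constructor
    · rintro ⟨⟨n, hn⟩, h, rfl⟩
      exact ⟨n, hn, h, rfl⟩
    · rintro ⟨n, hn, h, rfl⟩
      exact ⟨⟨n, hn⟩, h, rfl⟩
  have hcard : Nat.card N' = Nat.card (N A B) := by
    rw [hN', card_map_of_injective A.inj]
    exact Nat.card_congr (subgroupOfEquivOfLe inf_le_left).toEquiv
  have h := F₁.norm A.ht N' (hmem.mpr ⟨e, A.eS, (mem_N A B).mpr ⟨A.eS, ρ_e B C⟩, rfl⟩) (by
      intro k hk
      obtain ⟨n, hn, -, rfl⟩ := hmem.mp hk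
      exact A.j_t C hn) (by
      intro k hk b hb
      obtain ⟨n, hn, h1, rfl⟩ := hmem.mp hk
      obtain ⟨⟨s, hs⟩, rfl⟩ := A.surj b hb
      refine hmem.mpr ⟨s * n * s⁻¹, A.normal.conj_mem n hn s, N_conj A B C s h1, ?_⟩
      rw [← map_inv, ← map_mul, ← map_mul]
      rfl) (by
      intro k hk hkc
      obtain ⟨n, hn, h1, rfl⟩ := hmem.mp hk
      by_contra h2
      obtain ⟨m, hm⟩ := Facts.center_pow F₁ hkc A.jz (A.jzz F₁ C) (A.jz_ne F₁ C) h2
      have h3 : n ^ m = z := by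
        rw [← map_pow] at hm
        exact congrArg Subtype.val (A.inj hm)
      apply ρ_z_ne B C
      have h4 : B.ρ (n ^ m) = 1 := by rw [map_pow, ((mem_N A B).mp h1).2, one_pow]
      exact (congrArg B.ρ h3).symm.trans h4)
  rw [hcard] at h
  refine ⟨h.1, h.2.1, fun n hn hnY => ?_⟩
  obtain ⟨hnS, hnY'⟩ := A.mem_Yr.mp hnY
  rcases h.2.2 _ (hmem.mpr ⟨n, hnS, hn, rfl⟩) hnY' with h1 | h1
  · left; rw [← A.j_one] at h1; exact A.j_inj _ _ h1
  · right; exact A.j_inj _ _ h1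

include C F₁ in
theorem eq_of_ρ {a b : R} (ha : a ∈ A.Yr) (hb : b ∈ A.Yr) (h : B.ρ a = B.ρ b) : a = b ∨ a = e * b := by
  have h1 : a * b⁻¹ ∈ N A B := (mem_N A B).mpr ⟨A.Yr_le (mul_mem ha (inv_mem hb)), by
    rw [map_mul, map_inv, h, mul_inv_cancel]⟩
  rcases (N_facts A B C F₁).2.2 _ h1 (mul_mem ha (inv_mem hb)) with h2 | h2
  · left; rwa [mul_inv_eq_one] at h2
  · right; rwa [mul_inv_eq_iff_eq_mul] at h2

include C F₁ F₂ in
/-- **(5.1)**: `ρ(F) ≤ Ȳ'` -/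
theorem Y_image {w : R} (hw : w ∈ A.Yr) (hww : w * w = 1) (h1 : w ≠ 1) (hz : w ≠ z) (he : w ≠ e)
    (hze : w ≠ e * z) : ∃ (w' : R) (hw' : w' ∈ B.S), B.j ⟨w', hw'⟩ ∈ Y B.t ∧ B.ρ w' = B.ρ w ∧
      ∀ c ∈ center K₂, B.j ⟨w', hw'⟩ ≠ c ∧ B.j ⟨w', hw'⟩ ≠ B.t * c := by
  obtain ⟨k, hk⟩ := inner_of_Yr A B C F₁ F₂ hw
  obtain ⟨w', hw', hjw, hρ⟩ := exists_inner B C hk
  have hρk : B.ρ w' = MulAut.conj (B.j ⟨w', hw'⟩) := B.ρ_S ⟨w', hw'⟩
  have hex : ∀ c ∈ center K₂, B.j ⟨w', hw'⟩ ≠ c ∧ B.j ⟨w', hw'⟩ ≠ B.t * c := by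
    intro c hc
    constructor
    · intro h
      rw [h, conj_eq_one_iff.mpr hc, hρ] at hρk
      rcases (N_facts A B C F₁).2.2 _ ((mem_N A B).mpr ⟨A.Yr_le hw, hρk⟩) hw with h2 | h2
      · exact h1 h2
      · exact he h2
    · intro h
      rw [h, map_mul, conj_eq_one_iff.mpr hc, mul_one, ← ρ_z B, hρ] at hρk
      rcases eq_of_ρ A B C F₁ hw A.z_mem hρk with h2 | h2
      · exact hz h2
      · exact hze h2
  refine ⟨w', hw', F₂.four B.ht (B.j_t C.symm hw') ?_ hex ?_, hρ, hex⟩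
  · rw [← conj_eq_one_iff, map_mul, ← hρk, hρ, ← map_mul, hww, map_one]
  · intro b hb
    obtain ⟨⟨b', hb'⟩, rfl⟩ := B.surj b hb
    -- `f = [w, b']`
    obtain ⟨f, hf⟩ : ∃ f, f = ⁅w, b'⁆ := ⟨_, rfl⟩
    have hfe : f = w * (b' * w * b'⁻¹)⁻¹ := by rw [hf, commutatorElement_def]; group
    have hwb := A.conj_Yr C b' hw
    have hfY : f ∈ A.Yr := by rw [hfe]; exact mul_mem hw (inv_mem hwb)
    have hwb2 : b' * w * b'⁻¹ * (b' * w * b'⁻¹) = 1 := by
      rw [show b' * w * b'⁻¹ * (b' * w * b'⁻¹) = b' * (w * w) * b'⁻¹ by group, hww]; group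
    have hff : f * f = 1 := by
      rw [hfe, inv_eq_of_mul_eq_one_left hwb2]
      have hc := A.Yr_comm F₁ C hw hwb
      rw [mul_assoc, ← mul_assoc _ w, ← hc, mul_assoc w _ (b' * w * b'⁻¹), hwb2, mul_one, hww]
    have hρf : MulAut.conj ⁅B.j ⟨w', hw'⟩, B.j ⟨b', hb'⟩⁆ = B.ρ f := by
      rw [hf, map_commutatorElement, map_commutatorElement, ← hρ, hρk]
      congr 1
      exact (B.ρ_S ⟨b', hb'⟩).symm
    have hkey : ∀ (g : K₂) (r : R), B.ρ r = MulAut.conj g → f = r →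
        ∃ c ∈ center K₂, ⁅B.j ⟨w', hw'⟩, B.j ⟨b', hb'⟩⁆ = g * c := by
      intro g r hg hfr
      rw [hfr, hg] at hρf
      exact conj_eq_iff.mp hρf
    have hρw : B.ρ w = MulAut.conj (B.j ⟨w', hw'⟩) := hρ ▸ hρk
    have hρz := ρ_z B
    have hρe := ρ_e B C
    rcases A.Yr_cases F₁ C hw hww h1 hz he hze hfY hff with h | h | h | h | h | h | h | h
    · obtain ⟨c, hc, h2⟩ := hkey 1 1 (by rw [map_one, map_one]) h
      exact ⟨c, hc, Or.inl (by rw [h2, one_mul])⟩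
    · obtain ⟨c, hc, h2⟩ := hkey B.t z hρz h
      exact ⟨c, hc, Or.inr (Or.inl h2)⟩
    · obtain ⟨c, hc, h2⟩ := hkey 1 e (by rw [hρe, map_one]) h
      exact ⟨c, hc, Or.inl (by rw [h2, one_mul])⟩
    · obtain ⟨c, hc, h2⟩ := hkey B.t (e * z) (by rw [map_mul, hρe, one_mul, hρz]) h
      exact ⟨c, hc, Or.inr (Or.inl h2)⟩
    · obtain ⟨c, hc, h2⟩ := hkey (B.j ⟨w', hw'⟩) w hρw h
      exact ⟨c, hc, Or.inr (Or.inr (Or.inl h2))⟩
    · obtain ⟨c, hc, h2⟩ := hkey (B.t * B.j ⟨w', hw'⟩) (w * z) (by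
        rw [C.cz w, map_mul, hρz, hρw, ← map_mul]) h
      exact ⟨c, hc, Or.inr (Or.inr (Or.inr h2))⟩
    · obtain ⟨c, hc, h2⟩ := hkey (B.j ⟨w', hw'⟩) (e * w) (by rw [map_mul, hρe, one_mul, hρw]) h
      exact ⟨c, hc, Or.inr (Or.inr (Or.inl h2))⟩
    · obtain ⟨c, hc, h2⟩ := hkey (B.t * B.j ⟨w', hw'⟩) (e * w * z) (by
        rw [C.cz (e * w), map_mul, map_mul, hρe, one_mul, hρz, hρw, ← map_mul]) h
      exact ⟨c, hc, Or.inr (Or.inr (Or.inr h2))⟩

include C F₁ F₂ in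
/-- **(5.1)**: an element of `S` inner on `K₂` centralises `F` -/
theorem comm_of_inner {s f : R} (hs : s ∈ A.S) {k : K₂} (hk : B.ρ s = MulAut.conj k) (hf : f ∈ A.Yr)
    (hff : f * f = 1) : s * f = f * s := by
  by_cases h1 : f = 1
  · rw [h1, mul_one, one_mul]
  by_cases hz : f = z
  · rw [hz]; exact C.cz s
  by_cases he : f = e
  · rw [he]; exact C.ce s
  by_cases hze : f = e * z
  · rw [hze, ← mul_assoc, C.ce, mul_assoc, C.cz, ← mul_assoc]
  obtain ⟨f', hf', hY, hρ, -⟩ := Y_image A B C F₁ F₂ hf hff h1 hz he hze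
  obtain ⟨s', hs', hjs, hρs⟩ := exists_inner B C hk
  have h2 : ⁅f, s⁆ ∈ N A B := by
    refine (mem_N A B).mpr ⟨A.comm_mem (A.Yr_le hf) hs, ?_⟩
    rw [map_commutatorElement, ← hρ, hk, show B.ρ f' = MulAut.conj (B.j ⟨f', hf'⟩) from B.ρ_S ⟨f', hf'⟩,
      ← map_commutatorElement, conj_eq_one_iff]
    refine hY.2 k ?_
    rw [← hjs]
    exact B.j_t C.symm hs'
  have h3 : ⁅f, s⁆ ∈ A.Yr := A.comm_Yr F₁ C (A.Yr_le hf) hs
  have h4 : ⁅f, s⁆ ≠ e := by
    intro h4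
    obtain ⟨hfS, hfY⟩ := A.mem_Yr.mp hf
    have h5 := hfY.2 (A.j ⟨s, hs⟩) (A.j_t C hs)
    rw [← A.j_comm hfS hs (A.comm_mem hfS hs)] at h5
    have h6 : A.j ⟨⁅f, s⁆, A.comm_mem hfS hs⟩ = A.t := congrArg A.j (Subtype.ext h4)
    rw [h6] at h5
    exact A.ht.2 h5
  have h5 := ((N_facts A B C F₁).2.2 _ h2 h3).resolve_right h4
  rw [commutatorElement_eq_one_iff_mul_comm] at h5
  exact h5.symm

/-- elements of `R ∩ K_z` centralise `S` -/
theorem comm_S {x s : R} (hx : A.ρ x = 1) (hs : s ∈ A.S) : x * s = s * x := by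
  have h := A.ρ_j x ⟨s, hs⟩
  rw [hx, MulAut.one_apply] at h
  have h1 := A.j_inj hs (A.normal.conj_mem s hs x) h
  rw [eq_mul_inv_iff_mul_eq] at h1
  exact h1.symm

include C F₁ in
theorem exists_i : ∃ (i : R) (hi : i ∈ A.S), orderOf (A.j ⟨i, hi⟩) = 4 ∧ A.j ⟨i, hi⟩ ∈ center K₁ ∧
    i ∈ A.Yr ∧ i * i = z := by
  obtain ⟨i, hi, hz⟩ := F₁.exists_i
  have hic : i ∈ center K₁ := by rw [hz]; exact mem_zpowers i
  obtain ⟨⟨i', hi'⟩, rfl⟩ := A.surj i (mem_center_iff.mp hic _).symm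
  have h1 := Facts.inv_eq F₁ hi hic A.jz (A.jzz F₁ C) (A.jz_ne F₁ C)
  rw [← A.j_mul hi' hi'] at h1
  exact ⟨i', hi', hi, hic, A.mem_Yr_of_center hi' hic, (A.j_inj _ _ h1).symm⟩

include C F₁ F₂ in
/-- elements of `R ∩ K_z` are trivial on `Ȳ'` -/
theorem triv_Y {x : R} (hx : A.ρ x = 1) {y : K₂} (hy : y ∈ Y B.t) : ∃ c ∈ center K₂, B.ρ x y = y * c := by
  obtain ⟨s, hs, w, hw, hww, hsw, h1, hz, he, hze⟩ := A.exists_moved F₁ C
  obtain ⟨w', hw', hY, hρ, hex⟩ := Y_image A B C F₁ F₂ hw hww h1 hz he hze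
  -- `x` maps `w'` to `w' c`
  have hxw := comm_S A hx (A.Yr_le hw)
  have h2 : ∃ c ∈ center K₂, B.ρ x (B.j ⟨w', hw'⟩) = B.j ⟨w', hw'⟩ * c := by
    have hρw : B.ρ w = MulAut.conj (B.j ⟨w', hw'⟩) := by rw [← hρ]; exact B.ρ_S ⟨w', hw'⟩
    apply conj_eq_iff.mp
    have h3 : MulAut.conj (B.ρ x (B.j ⟨w', hw'⟩)) = B.ρ x * MulAut.conj (B.j ⟨w', hw'⟩) * (B.ρ x)⁻¹ := by
      ext g
      simp only [MulAut.mul_apply, MulAut.conj_apply, map_mul, MulAut.apply_inv_self, map_inv]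
    rw [h3, ← hρw, ← map_mul, hxw, map_mul, mul_inv_cancel_right]
  have hφt : B.ρ x B.t = B.t := B.ρ_t C.symm x
  have key : ∀ {a c d : K₂}, c ∈ center K₂ → d ∈ center K₂ → B.ρ x a = a * d →
      ∃ c' ∈ center K₂, B.ρ x (a * c) = a * c * c' := by
    intro a c d hc hd h
    refine ⟨c⁻¹ * (d * B.ρ x c), mul_mem (inv_mem hc) (mul_mem hd (map_center _ hc)), ?_⟩
    rw [map_mul, h]; group
  obtain ⟨d, hd, h3⟩ := h2
  obtain ⟨c, hc, h4⟩ := F₂.Y_cases B.ht hY hex hy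
  rcases h4 with h | h | h | h
  · obtain ⟨c', hc', h5⟩ := key (a := 1) hc (one_mem _) (by rw [map_one, mul_one])
    rw [one_mul] at h5
    exact ⟨c', hc', by rw [h, h5]⟩
  · obtain ⟨c', hc', h5⟩ := key hc (one_mem _) (by rw [hφt, mul_one])
    exact ⟨c', hc', by rw [h, h5]⟩
  · obtain ⟨c', hc', h5⟩ := key hc hd h3
    exact ⟨c', hc', by rw [h, h5]⟩
  · obtain ⟨c', hc', h5⟩ := key (a := B.t * B.j ⟨w', hw'⟩) hc hd (by rw [map_mul, hφt, h3, mul_assoc])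
    exact ⟨c', hc', by rw [h, h5]⟩

include C F₁ F₂ in
/-- **(5.2)**, local part -/
theorem fix_two {x : R} (hx : A.ρ x = 1) (hxx : x * x = 1) :
    B.ρ x = 1 ∨ B.ρ (x * z) = 1 ∨ ∀ k, B.ρ x ≠ MulAut.conj k := by
  by_cases hinn : ∃ k, B.ρ x = MulAut.conj k
  swap
  · right; right
    exact fun k hk => hinn ⟨k, hk⟩
  obtain ⟨b, hb⟩ := hinn
  obtain ⟨x', hx', hjb, -⟩ := exists_inner B C hb
  obtain ⟨i, hiS, -, hic, hiY, hii⟩ := exists_i A C F₁
  obtain ⟨k, hk⟩ := inner_of_Yr A B C F₁ F₂ hiY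
  obtain ⟨i', hi', hji, -⟩ := exists_inner B C hk
  obtain ⟨s, hs, w, hw, hww, hsw, h1, hz, he, hze⟩ := A.exists_moved F₁ C
  obtain ⟨w', hw', hY, hρ, hex⟩ := Y_image A B C F₁ F₂ hw hww h1 hz he hze
  have hbY : b ∈ Y B.t := by
    refine F₂.inner B.ht (j := k) ?_ ?_ ?_ ?_ ?_
    · rw [← hjb]; exact B.j_t C.symm hx'
    · rw [← conj_eq_one_iff, map_mul, ← hb, ← map_mul, hxx, map_one]
    · rw [← hji]; exact B.j_t C.symm hi'
    · apply conj_eq_iff.mp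
      rw [map_mul, ← hk, ← map_mul, hii, ρ_z B]
    · rw [← conj_eq_one_iff, map_commutatorElement, ← hb, ← hk, ← map_commutatorElement,
        commutatorElement_eq_one_iff_mul_comm.mpr (comm_S A hx hiS), map_one]
  have hρw : B.ρ w = MulAut.conj (B.j ⟨w', hw'⟩) := by rw [← hρ]; exact B.ρ_S ⟨w', hw'⟩
  have hne : ∀ y : R, (∀ r : R, r * y = y * r) → B.ρ x = B.ρ (w * y) → False := by
    intro y hy h
    have hxs := comm_S A hx hs
    have h2 : B.ρ ⁅w * y, s⁆ = 1 := by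
      rw [map_commutatorElement, ← h, ← map_commutatorElement,
        commutatorElement_eq_one_iff_mul_comm.mpr hxs, map_one]
    have h3 : ⁅w * y, s⁆ = ⁅w, s⁆ := by
      rw [commutatorElement_def, commutatorElement_def, mul_inv_rev]
      calc w * y * s * (y⁻¹ * w⁻¹) * s⁻¹ = w * (y * s) * y⁻¹ * w⁻¹ * s⁻¹ := by group
        _ = w * (s * y) * y⁻¹ * w⁻¹ * s⁻¹ := by rw [hy s]
        _ = _ := by group
    rw [h3] at h2
    exact ρ_z_ne B C ((congrArg B.ρ hsw).symm.trans h2)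
  obtain ⟨c, hc, h4⟩ := F₂.Y_cases B.ht hY hex hbY
  have hcc := conj_eq_one_iff.mpr hc
  rcases h4 with h | h | h | h
  · left; rw [hb, h, hcc]
  · right; left
    rw [map_mul, hb, h, map_mul, hcc, mul_one, ρ_z B, ← map_mul, B.ht.1, map_one]
  · exfalso
    refine hne 1 (fun r => by rw [mul_one, one_mul]) ?_
    rw [mul_one, hb, h, map_mul, hcc, mul_one, hρw]
  · exfalso
    refine hne z C.cz ?_
    rw [hb, h, map_mul, map_mul, hcc, mul_one, C.cz w, map_mul, ρ_z B, hρw]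

include B C F₁ F₂ in
/-- **(5.4)** -/
theorem no_sq {k i : R} (hk : A.ρ k = 1) (hi : i ∈ A.S) (hi4 : orderOf (A.j ⟨i, hi⟩) = 4)
    (hic : A.j ⟨i, hi⟩ ∈ center K₁) (hki : k * k = i) : False := by
  have hiY := A.mem_Yr_of_center hi hic
  have hii : i * i = z := by
    have h1 := Facts.inv_eq F₁ hi4 hic A.jz (A.jzz F₁ C) (A.jz_ne F₁ C)
    rw [← A.j_mul hi hi] at h1
    exact (A.j_inj _ _ h1).symm
  obtain ⟨κ, hκ⟩ : ∃ κ, κ = B.ρ k := ⟨_, rfl⟩
  have h4 : κ * κ * (κ * κ) = MulAut.conj B.t := by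
    rw [hκ, ← map_mul, hki, ← map_mul, hii, ρ_z B]
  have hle := F₂.eight B.ht κ (by rw [hκ]; exact B.ρ_t C.symm k)
    (fun y hy => by rw [hκ]; exact triv_Y A B C F₁ F₂ hk hy) h4
  -- the subgroup `{α | α t = t, α κ = κ α}`
  obtain ⟨H, hH⟩ : ∃ H : Subgroup (MulAut K₂), ∀ α, α ∈ H ↔ α B.t = B.t ∧ α * κ = κ * α := by
    refine ⟨MulAction.stabilizer (MulAut K₂) B.t ⊓ centralizer {κ}, fun α => ?_⟩
    rw [mem_inf, MulAction.mem_stabilizer_iff, mem_centralizer_singleton_iff]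
    rfl
  have hHcard : Nat.card H ≤ 32 := by
    refine le_trans (le_of_eq (Nat.card_congr ?_)) hle
    exact Equiv.subtypeEquivRight hH
  let f : ↥A.S →* MulAut K₂ := B.ρ.comp A.S.subtype
  have hfH : f.range ≤ H := by
    rintro _ ⟨⟨s, hs⟩, rfl⟩
    rw [hH]
    refine ⟨B.ρ_t C.symm s, ?_⟩
    change B.ρ s * κ = κ * B.ρ s
    rw [hκ, ← map_mul, ← map_mul, comm_S A hk hs]
  have hS : Nat.card A.S = 128 := by
    have h1 := F₁.card_C A.ht
    rw [← h1]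
    refine Nat.card_congr (Equiv.ofBijective (fun s : ↥A.S => (⟨A.j s, mem_centralizer_singleton_iff.mpr
      (A.j_t C s.2)⟩ : ↥(centralizer ({A.t} : Set K₁)))) ⟨fun a b h => A.inj (congrArg Subtype.val h), ?_⟩)
    rintro ⟨b, hb⟩
    obtain ⟨s, rfl⟩ := A.surj b (mem_centralizer_singleton_iff.mp hb)
    exact ⟨s, rfl⟩
  have hker : Nat.card f.ker = Nat.card (N A B) := by
    have h1 : f.ker.map A.S.subtype = N A B := by
      ext n
      rw [mem_N]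
      constructor
      · rintro ⟨⟨n, hn⟩, h, rfl⟩
        exact ⟨hn, h⟩
      · rintro ⟨hn, h⟩
        exact ⟨⟨n, hn⟩, h, rfl⟩
    rw [← h1, card_map_of_injective A.S.subtype_injective]
  have hN := (N_facts A B C F₁).1
  have hprod : Nat.card f.ker * Nat.card f.range = 128 := by
    rw [← hS, ← Nat.card_congr (QuotientGroup.quotientKerEquivRange f).toEquiv, mul_comm]
    exact (Subgroup.card_eq_card_quotient_mul_card_subgroup f.ker).symm
  have hr : f.range = H := by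
    apply Subgroup.eq_of_le_of_card_ge hfH
    have h1 : 0 < Nat.card f.ker := Nat.card_pos
    rw [hker] at h1 hprod
    by_contra hlt
    push Not at hlt
    have h2 : Nat.card f.range ≤ 31 := by omega
    have h3 : Nat.card (N A B) * Nat.card f.range ≤ 4 * 31 := Nat.mul_le_mul hN h2
    omega
  have hκH : κ ∈ H := by
    rw [hH]
    exact ⟨by rw [hκ]; exact B.ρ_t C.symm k, rfl⟩
  rw [← hr] at hκH
  obtain ⟨⟨s, hs⟩, hsκ⟩ := hκH
  have hsκ' : B.ρ s = B.ρ k := by rw [← hκ]; exact hsκ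
  have hcomm : ∀ x ∈ A.S, ⁅s, x⁆ = 1 ∨ ⁅s, x⁆ = e := by
    intro x hx
    refine (N_facts A B C F₁).2.2 _ ((mem_N A B).mpr ⟨A.comm_mem hs hx, ?_⟩) (A.comm_Yr F₁ C hs hx)
    rw [map_commutatorElement, hsκ', ← map_commutatorElement,
      commutatorElement_eq_one_iff_mul_comm.mpr (comm_S A hk hx), map_one]
  have hsq : s * s = i ∨ s * s = e * i := by
    refine eq_of_ρ A B C F₁ (A.sq_Yr F₁ C hs) hiY ?_
    rw [map_mul, hsκ', ← map_mul, hki]
  obtain ⟨h5, h6⟩ := F₁.noSq (t := A.t) (s := A.j ⟨s, hs⟩) A.ht hi4 hic (A.j_t C hs) (by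
    intro x hx
    obtain ⟨⟨x, hxS⟩, rfl⟩ := A.surj x hx
    rw [← A.j_comm hs hxS (A.comm_mem hs hxS)]
    rcases hcomm x hxS with h | h
    · left; rw [← A.j_one]; exact congrArg A.j (Subtype.ext h)
    · right; exact congrArg A.j (Subtype.ext h))
  rcases hsq with h | h
  · apply h5
    rw [← A.j_mul hs hs]
    exact congrArg A.j (Subtype.ext h)
  · apply h6
    rw [← A.j_mul hs hs, (mem_center_iff.mp hic A.t).symm, t, ← A.j_mul A.eS hi]
    exact congrArg A.j (Subtype.ext h)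

/-! ### (5.5), first half -/

include B C F₁ F₂ in
/-- `R ∩ K_z = ⟨i⟩` if it has a unique involution -/
theorem ker_le (hu : ∀ x : R, A.ρ x = 1 → x * x = 1 → x ≠ 1 → x = z) {x : R} (hx : A.ρ x = 1) :
    ∃ hx : x ∈ A.S, A.j ⟨x, hx⟩ ∈ center K₁ := by
  obtain ⟨i, hiS, hi4, hic, hiY, hii⟩ := exists_i A C F₁
  have hρi : A.ρ i = 1 := by
    have h := A.ρ_S ⟨i, hiS⟩
    rw [conj_eq_one_iff.mpr hic] at h
    exact h
  by_contra hcon
  -- an element `y` outside with square inside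
  obtain ⟨T, hT⟩ : ∃ T : Subgroup R, T = ((center K₁).comap A.j).map A.S.subtype := ⟨_, rfl⟩
  have hmem : ∀ {y}, y ∈ T ↔ ∃ hy : y ∈ A.S, A.j ⟨y, hy⟩ ∈ center K₁ := by
    intro y
    rw [hT]
    constructor
    · rintro ⟨s, hs, rfl⟩
      exact ⟨s.2, hs⟩
    · rintro ⟨hy, h⟩
      exact ⟨⟨y, hy⟩, h, rfl⟩
  rw [← hmem] at hcon
  obtain ⟨m, hm⟩ := C.two x
  classical
  have hex : ∃ k : ℕ, x ^ 2 ^ k ∈ T := ⟨m, by rw [hm]; exact one_mem _⟩
  obtain ⟨l, hl⟩ : ∃ l, Nat.find hex = l + 1 := by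
    refine Nat.exists_eq_succ_of_ne_zero fun h3 => ?_
    have h4 := Nat.find_spec hex
    rw [h3, pow_zero, pow_one] at h4
    exact hcon h4
  obtain ⟨y, hy⟩ : ∃ y, y = x ^ 2 ^ l := ⟨_, rfl⟩
  have hyT : y ∉ T := by rw [hy]; exact Nat.find_min hex (by omega)
  have hyyT : y * y ∈ T := by
    have h4 := Nat.find_spec hex
    rwa [hl, pow_succ, pow_mul, ← hy, pow_two] at h4
  have hρy : A.ρ y = 1 := by rw [hy, map_pow, hx, one_pow]
  have hone : (1 : R) ∈ T := one_mem _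
  have hzT : z ∈ T := hmem.mpr ⟨A.zS, A.jz⟩
  have hiT : i ∈ T := hmem.mpr ⟨hiS, hic⟩
  have hsq1 : ∀ a : R, A.ρ a = 1 → a * a = 1 → a ∈ T := by
    intro a ha haa
    by_cases ha1 : a = 1
    · rw [ha1]; exact hone
    · rw [hu a ha haa ha1]; exact hzT
  obtain ⟨hyyS, hyyc⟩ := hmem.mp hyyT
  by_cases h1 : y * y = 1
  · exact hyT (hsq1 y hρy h1)
  by_cases hsq : y * y * (y * y) = 1
  · -- `y * y = z`
    have h2 := hu (y * y) (by rw [map_mul, hρy, one_mul]) hsq h1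
    have hyi := comm_S A hρy hiS
    have h3 : y * i * (y * i) = 1 := by
      calc y * i * (y * i) = y * (i * y) * i := by group
        _ = y * (y * i) * i := by rw [hyi]
        _ = (y * y) * (i * i) := by group
        _ = z * z := by rw [h2, hii]
        _ = 1 := C.zz
    have h4 := hsq1 (y * i) (by rw [map_mul, hρy, hρi, one_mul]) h3
    apply hyT
    have h5 := T.mul_mem h4 (T.inv_mem hiT)
    rwa [mul_inv_cancel_right] at h5
  · -- `y * y` has order 4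
    refine no_sq A B C F₁ F₂ hρy hyyS ?_ hyyc rfl
    obtain ⟨i0, hi0, hz0⟩ := F₁.exists_i
    have h5 := hyyc
    rw [hz0, mem_zpowers_iff_mem_range_orderOf, hi0] at h5
    simp only [Finset.mem_image, Finset.mem_range] at h5
    obtain ⟨n, hn, hn'⟩ := h5
    have hne : A.j ⟨y * y, hyyS⟩ * A.j ⟨y * y, hyyS⟩ ≠ 1 := by
      rw [← A.j_mul hyyS hyyS, ← A.j_one]
      exact fun h => hsq (A.j_inj _ _ h)
    have hi04 : i0 ^ 4 = 1 := by rw [← hi0, pow_orderOf_eq_one]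
    rw [← hn'] at hne ⊢
    interval_cases n
    · rw [pow_zero, mul_one] at hne; exact absurd rfl hne
    · rw [pow_one, hi0]
    · rw [← pow_add, hi04] at hne; exact absurd rfl hne
    · rw [orderOf_pow' i0 (by norm_num), hi0]; norm_num

include C F₁ F₂ in
/-- **(5.5)**, first half: `R ∩ K_z` and `R ∩ K_e` have unique involutions: `|N| = 4` and `τ = true`. -/
theorem ker_card (hu : ∀ x : R, A.ρ x = 1 → x * x = 1 → x ≠ 1 → x = z)
    (hv : ∀ x : R, B.ρ x = 1 → x * x = 1 → x ≠ 1 → x = e) :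
    τ = true ∧ Nat.card (N A B) = 4 ∧ ∀ x, B.ρ x = 1 → x ∈ A.S := by
  obtain ⟨i, hiS, hi4, hic, hiY, hii⟩ := exists_i B C.symm F₂
  -- `i₂ ∈ S`
  have hi1 : i ∈ A.S := by
    obtain ⟨k, hk⟩ := inner_of_Yr B A C.symm F₂ F₁ hiY
    obtain ⟨s, hs, -, hρ⟩ := exists_inner A C.symm hk
    obtain ⟨h1, -⟩ := ker_le A B C F₁ F₂ hu (x := i * s⁻¹) (by rw [map_mul, map_inv, hρ, mul_inv_cancel])
    have h2 := mul_mem h1 hs
    rwa [inv_mul_cancel_right] at h2
  have hle : ∀ x, B.ρ x = 1 → x ∈ zpowers i := by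
    intro x hx
    obtain ⟨hxS, hxc⟩ := ker_le B A C.symm F₂ F₁ hv hx
    obtain ⟨i0, hi0, hz0⟩ := F₂.exists_i
    have hord : zpowers (B.j ⟨i, hiS⟩) = center K₂ := by
      apply Subgroup.eq_of_le_of_card_ge
      · rw [zpowers_le]; exact hic
      · rw [Nat.card_zpowers, hi4, hz0, Nat.card_zpowers, hi0]
    rw [← hord] at hxc
    obtain ⟨n, hn⟩ := mem_zpowers_iff.mp hxc
    rw [← map_zpow] at hn
    exact mem_zpowers_iff.mpr ⟨n, congrArg Subtype.val (B.inj hn)⟩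
  have hρi : B.ρ i = 1 := by
    have h := B.ρ_S ⟨i, hiS⟩
    rw [conj_eq_one_iff.mpr hic] at h
    exact h
  have hN : N A B = zpowers i := by
    apply le_antisymm
    · intro n hn
      exact hle n ((mem_N A B).mp hn).2
    · rw [zpowers_le]
      exact (mem_N A B).mpr ⟨hi1, hρi⟩
  have hoi : orderOf i = 4 := by
    rw [← hi4]
    have h1 := orderOf_injective B.j B.inj ⟨i, hiS⟩
    rw [h1, Subgroup.orderOf_mk]
  have hcard : Nat.card (N A B) = 4 := by rw [hN, Nat.card_zpowers, hoi]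
  refine ⟨?_, hcard, fun x hx => ?_⟩
  · by_contra hτ
    have h2 := (N_facts A B C F₁).2.1 (by simpa using hτ)
    omega
  · exact (zpowers_le.mpr hi1) (hle x hx)

end two

end Side

end Cfsg.Agent.UGT.I34.Loc
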