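import Cfsg.Agent.UGT.I34.WOne
import Cfsg.Agent.UGT.I34.Loc

/-!
# THEOREM I34, part [A]: the sides of the local configuration in the world W1

`R`: a 2-subgroup of `C(u, t)` of odd index, `t ≠ u` an involution of `L u`.
`sideOf : Side R (L u / O(L u)) u t`; `sideOf' : Side R (L t / O(L t)) t u`.
-/

set_option autoImplicit false

open Cfsg Subgroup
open Cfsg.Agent.SignalizersComponents Cfsg.Agent.Lib
open Cfsg.Agent.SignalizersComponents.IntrinsicBasic
open Cfsg.Agent.SignalizersComponents.PLayerAut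
open Cfsg.Agent.Intrinsic
open Cfsg.Agent.Intrinsic.Basic hiding IsPair PQS Target IsPair.sq IsPair.ne_one IsPair.cj
open Cfsg.Agent.Intrinsic.Cen hiding pair_comm pair_mem_cen exists_pump pump_unique
open Cfsg.Agent.Intrinsic.Quot hiding Big isPair_quot small_or_big
open Cfsg.Agent.McLLyComp.Act hiding mk_eq_one_iff
open Cfsg.Agent.UGT.I34.Pair Cfsg.Agent.UGT.I34.KF Cfsg.Agent.UGT.I34.Loc Cfsg.Agent.UGT.I34.WOne
open scoped commutatorElement

namespace Cfsg.Agent.UGT.I34.SideOf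

universe v

section syl

theorem relIndex_dvd {H : Type*} [Group H] [Finite H] (P X : Subgroup H) [X.Normal] :
    P.relIndex X ∣ P.index := by
  have h1 : X.relIndex P * P.index = (X ⊓ P).index := by
    rw [← inf_relIndex_right, relIndex_mul_index inf_le_right]
  have h2 : P.relIndex X * X.index = (X ⊓ P).index := by
    rw [← inf_relIndex_right, inf_comm, relIndex_mul_index inf_le_left]
  have h3 : X.relIndex P * (P ⊔ X).index = X.index := by
    rw [← relIndex_sup_right P X, relIndex_mul_index le_sup_right]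
  have h4 : X.relIndex P ≠ 0 := (FiniteIndex.index_ne_zero : (X.subgroupOf P).index ≠ 0)
  refine ⟨(P ⊔ X).index, Nat.eq_of_mul_eq_mul_left (Nat.pos_of_ne_zero h4) ?_⟩
  rw [h1, ← h2, ← h3]
  ring

/-- a normal section which is a 2-group is covered by a Sylow 2-subgroup -/
theorem exists_in_sylow {G : Type*} [Group G] [Finite G] {R H X : Subgroup G} (hRH : R ≤ H)
    (hodd : ¬ 2 ∣ R.relIndex H) (hXH : X ≤ H) (hn : ∀ h ∈ H, ∀ x ∈ X, h * x * h⁻¹ ∈ X)
    {Q : Type*} [Group Q] (f : ↥X →* Q) (hf : Function.Surjective f) (hQ : IsPGroup 2 Q) (q : Q) :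
    ∃ (x : G) (hx : x ∈ X), x ∈ R ∧ f ⟨x, hx⟩ = q := by
  have h2 : Fact (Nat.Prime 2) := ⟨Nat.prime_two⟩
  have hnorm : (X.subgroupOf H).Normal := ⟨fun x hx g => hn g g.2 x hx⟩
  have h3 : R.relIndex X ∣ R.relIndex H := by
    have := relIndex_dvd (R.subgroupOf H) (X.subgroupOf H)
    rwa [relIndex_subgroupOf hXH] at this
  have h4 : ((R.subgroupOf X).map f).index ∣ R.relIndex H :=
    (Subgroup.index_map_dvd _ hf).trans h3
  have hfin : Finite Q := Finite.of_surjective f hf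
  obtain ⟨k, hk⟩ := hQ.index ((R.subgroupOf X).map f)
  have h5 : (R.subgroupOf X).map f = ⊤ := by
    rw [← Subgroup.index_eq_one]
    rcases Nat.eq_zero_or_pos k with h6 | h6
    · rw [hk, h6, pow_zero]
    · exact absurd ((dvd_pow_self 2 h6.ne').trans (hk ▸ h4)) hodd
  have h6 : q ∈ (R.subgroupOf X).map f := by rw [h5]; trivial
  obtain ⟨⟨x, hx⟩, hxR, hxq⟩ := h6
  exact ⟨x, hx, hxR, hxq⟩

end syl

variable {G : Type v} [Group G] [Finite G] {κ : Kind.{v}} {τ : Bool} {D : Set G} {L : G → Subgroup G}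
  {u t x : G} {R : Subgroup G}

/-- The local configuration: `u ∈ D`, `t ≠ u` an involution of `L u`, `R` a 2-subgroup of `C(u, t)` of odd index. -/
structure Cfg (D : Set G) (L : G → Subgroup G) (u t : G) (R : Subgroup G) : Prop where
  hu : u ∈ D
  ht : t ∈ L u
  tt : t * t = 1
  t1 : t ≠ 1
  tu : t ≠ u
  two : IsPGroup 2 R
  le : R ≤ centralizer ({u} : Set G) ⊓ centralizer ({t} : Set G)
  odd : ¬ 2 ∣ R.relIndex (centralizer ({u} : Set G) ⊓ centralizer ({t} : Set G))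

namespace Cfg

theorem tD (c : Cfg D L u t R) (h : W1 κ τ D L) : t ∈ D := h.inv_mem c.hu c.ht c.tt c.t1

theorem symm (c : Cfg D L u t R) (h : W1 κ τ D L) : Cfg D L t u R where
  hu := c.tD h
  ht := h.mem_of_mem c.hu c.ht c.tt c.t1
  tt := h.sq c.hu
  t1 := h.ne_one c.hu
  tu := c.tu.symm
  two := c.two
  le := by rw [inf_comm]; exact c.le
  odd := by rw [inf_comm]; exact c.odd

omit [Finite G] in
theorem comm_u (c : Cfg D L u t R) {r : G} (hr : r ∈ R) : r * u = u * r :=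
  mem_centralizer_singleton_iff.mp (c.le hr).1

omit [Finite G] in
theorem comm_t (c : Cfg D L u t R) {r : G} (hr : r ∈ R) : r * t = t * r :=
  mem_centralizer_singleton_iff.mp (c.le hr).2

theorem norm (c : Cfg D L u t R) (h : W1 κ τ D L) {r : G} (hr : r ∈ R) : r ∈ normalizer (L u : Set G) :=
  h.norm c.hu (c.comm_u hr)

/-- central 2-elements of `C(u, t)` are in `R` -/
theorem mem_of_central (c : Cfg D L u t R) {y : G} (hy : y ∈ centralizer ({u} : Set G) ⊓ centralizer ({t} : Set G))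
    (hc : ∀ g ∈ centralizer ({u} : Set G) ⊓ centralizer ({t} : Set G), g * y = y * g) (hyy : y * y = 1) :
    y ∈ R := by
  have h2 : Fact (Nat.Prime 2) := ⟨Nat.prime_two⟩
  have hp : IsPGroup 2 ↥(zpowers y) := by
    rintro ⟨_, k, rfl⟩
    refine ⟨1, ?_⟩
    apply Subtype.ext
    change (y ^ k) ^ 2 ^ 1 = 1
    rw [pow_one, ← zpow_natCast, ← zpow_mul, mul_comm, zpow_mul, zpow_natCast, pow_two, hyy, one_zpow]
  obtain ⟨x, hx, hxR, hxy⟩ := exists_in_sylow (X := zpowers y) (Q := ↥(zpowers y)) c.le c.odd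
    (zpowers_le.mpr hy) (by
      intro g hg x hx
      obtain ⟨k, rfl⟩ := mem_zpowers_iff.mp hx
      have h3 : Commute g y := hc g hg
      rw [(h3.zpow_right k).eq, mul_inv_cancel_right]
      exact hx) (MonoidHom.id _) Function.surjective_id hp ⟨y, mem_zpowers y⟩
  have h3 : x = y := congrArg Subtype.val hxy
  rwa [← h3]

theorem uR (c : Cfg D L u t R) (h : W1 κ τ D L) : u ∈ R :=
  c.mem_of_central ⟨mem_centralizer_singleton_iff.mpr rfl, mem_centralizer_singleton_iff.mpr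
    (h.comm c.hu c.ht).symm⟩ (fun _ hg => mem_centralizer_singleton_iff.mp hg.1) (h.sq c.hu)

theorem tR (c : Cfg D L u t R) (h : W1 κ τ D L) : t ∈ R :=
  c.mem_of_central ⟨mem_centralizer_singleton_iff.mpr (h.comm c.hu c.ht),
    mem_centralizer_singleton_iff.mpr rfl⟩ (fun _ hg => mem_centralizer_singleton_iff.mp hg.2) c.tt

theorem cen (c : Cfg D L u t R) (h : W1 κ τ D L) : Cen ↥R ⟨u, c.uR h⟩ ⟨t, c.tR h⟩ where
  two := c.two
  cz r := Subtype.ext (c.comm_u r.2)
  ce r := Subtype.ext (c.comm_t r.2)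
  zz := Subtype.ext (h.sq c.hu)
  ee := Subtype.ext c.tt
  z1 := fun h' => h.ne_one c.hu (congrArg Subtype.val h')
  e1 := fun h' => c.t1 (congrArg Subtype.val h')
  ze := fun h' => c.tu.symm (congrArg Subtype.val h')

/-- the side `L u` of the configuration -/
noncomputable def side (c : Cfg D L u t R) (h : W1 κ τ D L) :
    Side ↥R (↥(L u) ⧸ oddCore ↥(L u)) ⟨u, c.uR h⟩ ⟨t, c.tR h⟩ where
  S := (L u).subgroupOf R
  normal := ⟨fun s hs r => (mem_normalizer_iff.mp (c.norm h r.2) s).mp hs⟩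
  zS := h.mem c.hu
  eS := c.ht
  j := { toFun := fun s => QuotientGroup.mk ⟨((s : ↥R) : G), s.2⟩
         map_one' := rfl
         map_mul' := fun _ _ => rfl }
  inj := by
    rw [injective_iff_map_eq_one]
    rintro ⟨⟨s, hsR⟩, hs⟩ hs1
    have h1 : s ∈ core (L u) := (Quot.mk_eq_one_iff (M := L u) (x := s) hs).mp hs1
    obtain ⟨n, hn⟩ := c.two ⟨s, hsR⟩
    have h2 : s = 1 := eq_one_of_mem_core h1 (congrArg Subtype.val hn)
    apply Subtype.ext
    exact Subtype.ext h2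
  jz := (W1.mk_center_iff (h.mem c.hu)).mpr (h.fixes_self c.hu)
  je := h.ninv c.hu c.ht c.tt c.t1 c.tu
  surj := by
    intro k hk
    have h2 : Fact (Nat.Prime 2) := ⟨Nat.prime_two⟩
    have hk' : k ∈ centralizer ({(QuotientGroup.mk ⟨t, c.ht⟩ : ↥(L u) ⧸ oddCore ↥(L u))} :
        Set (↥(L u) ⧸ oddCore ↥(L u))) := mem_centralizer_singleton_iff.mpr hk
    have hQ : IsPGroup 2 ↥(centralizer ({(QuotientGroup.mk ⟨t, c.ht⟩ : ↥(L u) ⧸ oddCore ↥(L u))} :
        Set (↥(L u) ⧸ oddCore ↥(L u)))) :=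
      IsPGroup.of_card (n := 7) (by rw [(h.facts c.hu).card_C (h.ninv c.hu c.ht c.tt c.t1 c.tu)]; norm_num)
    let f : ↥(L u ⊓ centralizer ({t} : Set G)) →*
        ↥(centralizer ({(QuotientGroup.mk ⟨t, c.ht⟩ : ↥(L u) ⧸ oddCore ↥(L u))} :
          Set (↥(L u) ⧸ oddCore ↥(L u)))) :=
      { toFun := fun x => ⟨QuotientGroup.mk ⟨x, x.2.1⟩, mem_centralizer_singleton_iff.mpr
          (congrArg QuotientGroup.mk (Subtype.ext (mem_centralizer_singleton_iff.mp x.2.2) :
            (⟨(x : G) * t, (L u).mul_mem x.2.1 c.ht⟩ : ↥(L u)) = ⟨t * x, (L u).mul_mem c.ht x.2.1⟩))⟩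
        map_one' := rfl
        map_mul' := fun _ _ => rfl }
    have hf : Function.Surjective f := by
      rintro ⟨y, hy⟩
      obtain ⟨⟨m, hm⟩, rfl⟩ := QuotientGroup.mk_surjective y
      have h3 := (mk_comm_iff hm c.ht).mp (mem_centralizer_singleton_iff.mp hy)
      obtain ⟨o, ho, h4⟩ := Lifting.exists_commute (odd_card_core (L u)) (n := 1)
        (by rw [pow_one, pow_two, c.tt]) (le_normalizer_core _ c.ht) h3
      have hmo : m * o ∈ L u := (L u).mul_mem hm (core_le _ ho)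
      refine ⟨⟨m * o, hmo, mem_centralizer_singleton_iff.mpr h4.symm⟩, Subtype.ext ?_⟩
      change (QuotientGroup.mk ⟨m * o, hmo⟩ : ↥(L u) ⧸ oddCore ↥(L u)) = QuotientGroup.mk ⟨m, hm⟩
      symm
      rw [mk_eq_mk_iff', inv_mul_cancel_left]
      exact ho
    obtain ⟨x, hx, hxR, hxk⟩ := exists_in_sylow (X := L u ⊓ centralizer ({t} : Set G)) c.le c.odd
      (inf_le_inf_right _ fun x hx => mem_centralizer_singleton_iff.mpr (h.comm c.hu hx)) (by
        intro g hg x hx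
        have h3 := h.norm c.hu (mem_centralizer_singleton_iff.mp hg.1)
        exact ⟨(mem_normalizer_iff.mp h3 x).mp hx.1, (centralizer ({t} : Set G)).mul_mem
          ((centralizer ({t} : Set G)).mul_mem hg.2 hx.2) ((centralizer ({t} : Set G)).inv_mem hg.2)⟩)
      f hf hQ ⟨k, hk'⟩
    exact ⟨⟨⟨x, hxR⟩, hx.1⟩, congrArg Subtype.val hxk⟩
  ρ := (act (L u)).comp (inclusion (fun r hr => c.norm h hr))
  ρ_j r s := rfl
  ρ_S s := by
    apply MulEquiv.ext
    intro x
    obtain ⟨⟨y, hy⟩, rfl⟩ := QuotientGroup.mk_surjective x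
    rfl

theorem side_ρ (c : Cfg D L u t R) (h : W1 κ τ D L) {r : G} (hr : r ∈ R) :
    (c.side h).ρ ⟨r, hr⟩ = act (L u) ⟨r, c.norm h hr⟩ := rfl

theorem side_ρ_eq_one_iff (c : Cfg D L u t R) (h : W1 κ τ D L) {r : G} (hr : r ∈ R) :
    (c.side h).ρ ⟨r, hr⟩ = 1 ↔ Fixes r (L u) := by
  rw [side_ρ, act_eq_one_iff]

/-- existence of `R` containing a given 2-subgroup -/
theorem exists_cfg (_h : W1 κ τ D L) (hu : u ∈ D) (ht : t ∈ L u) (tt : t * t = 1) (t1 : t ≠ 1) (tu : t ≠ u)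
    {V : Subgroup G} (hV : IsPGroup 2 V)
    (hVle : V ≤ centralizer ({u} : Set G) ⊓ centralizer ({t} : Set G)) : ∃ R, Cfg D L u t R ∧ V ≤ R := by
  have h2 : Fact (Nat.Prime 2) := ⟨Nat.prime_two⟩
  obtain ⟨H, hH⟩ : ∃ H, H = centralizer ({u} : Set G) ⊓ centralizer ({t} : Set G) := ⟨_, rfl⟩
  have hV' : IsPGroup 2 ↥(V.subgroupOf H) := hV.comap_of_injective H.subtype H.subtype_injective
  obtain ⟨P, hP⟩ := hV'.exists_le_sylow
  refine ⟨(P : Subgroup ↥H).map H.subtype, ⟨hu, ht, tt, t1, tu, P.2.map _, ?_, ?_⟩, ?_⟩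
  · rw [← hH]; exact map_subtype_le _
  · rw [← hH]
    have h3 : ((P : Subgroup ↥H).map H.subtype).relIndex H = (P : Subgroup ↥H).index := by
      rw [relIndex, ← comap_subtype, comap_map_eq_self_of_injective H.subtype_injective]
    rw [h3]
    exact P.not_dvd_index
  · intro x hx
    rw [← hH] at hVle
    exact ⟨⟨x, hVle hx⟩, hP hx, rfl⟩

end Cfg

end Cfsg.Agent.UGT.I34.SideOf
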