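import Cfsg.Agent.UGT.I34.FourF
import Cfsg.Agent.UGT.I34.FourKI
import Cfsg.Agent.UGT.I34.SideOf

/-!
# THEOREM I34, part [C]: (TYPE I)

`(u, X)`, `(v, Y)` commuting pairs, `v` acts on `X / O(X)` as a noncentral inner automorphism.
-/

set_option autoImplicit false

open Cfsg Subgroup
open Cfsg.Agent.SignalizersComponents Cfsg.Agent.Lib
open Cfsg.Agent.SignalizersComponents.IntrinsicBasic
open Cfsg.Agent.SignalizersComponents.PLayerAut
open Cfsg.Agent.Intrinsic.Basic hiding IsPair PQS Target IsPair.sq IsPair.ne_one IsPair.cj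
open Cfsg.Agent.Intrinsic.Cen hiding pair_comm pair_mem_cen exists_pump pump_unique
open Cfsg.Agent.Intrinsic.Quot hiding Big isPair_quot small_or_big
open Cfsg.Agent.McLLyComp.Act hiding mk_eq_one_iff
open Cfsg.Agent.UGT.I34.Pair Cfsg.Agent.UGT.I34.KAut
open Cfsg.Agent.UGT.I34.KF (NInv)
open Cfsg.Agent.UGT.I34.SideOf (exists_in_sylow)
open scoped commutatorElement

namespace Cfsg.Agent.UGT.I34.Four

universe u

/-! ### the groups `R ∩ X` -/

section bm

variable {G : Type*} [Group G] {R X Y : Subgroup G}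

/-- the map `R ∩ X → X / O(X)` -/
def bm (R X : Subgroup G) : ↥(R ⊓ X) →* Bar X where
  toFun x := QuotientGroup.mk ⟨x, x.2.2⟩
  map_one' := rfl
  map_mul' _ _ := rfl

/-- the elements of `R ∩ X` central in `X / O(X)` -/
def ZR (R X : Subgroup G) : Subgroup G := ((center (Bar X)).comap (bm R X)).map (R ⊓ X).subtype

theorem mem_ZR {x : G} : x ∈ ZR R X ↔ x ∈ R ∧ x ∈ X ∧ Fixes x X := by
  constructor
  · rintro ⟨⟨y, hy⟩, h, rfl⟩
    exact ⟨hy.1, hy.2, (mk_mem_center_iff hy.2).mp h⟩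
  · rintro ⟨h1, h2, h3⟩
    exact ⟨⟨x, h1, h2⟩, (mk_mem_center_iff h2).mpr h3, rfl⟩

theorem ZR_le_R : ZR R X ≤ R := fun _ h => (mem_ZR.mp h).1

theorem ZR_le : ZR R X ≤ X := fun _ h => (mem_ZR.mp h).2.1

/-- the action of `R ≤ N(X)` on `X / O(X)` -/
noncomputable def ra (h : R ≤ normalizer (X : Set G)) : ↥R →* MulAut (Bar X) :=
  (act X).comp (inclusion h)

theorem ra_eq_one_iff (h : R ≤ normalizer (X : Set G)) {r : G} (hr : r ∈ R) :
    ra h ⟨r, hr⟩ = 1 ↔ Fixes r X := act_eq_one_iff (h hr)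

theorem ra_mk (h : R ≤ normalizer (X : Set G)) {r x : G} (hr : r ∈ R) (hx : x ∈ X) :
    ra h ⟨r, hr⟩ (QuotientGroup.mk ⟨x, hx⟩) = QuotientGroup.mk ⟨r * x * r⁻¹, conj_mem (h hr) hx⟩ := rfl

theorem ra_of_mem (h : R ≤ normalizer (X : Set G)) {r : G} (hr : r ∈ R) (hx : r ∈ X) :
    ra h ⟨r, hr⟩ = MulAut.conj (QuotientGroup.mk ⟨r, hx⟩) := act_of_mem hx

theorem fixes_iff_ra (h : R ≤ normalizer (X : Set G)) {r s : G} (hr : r ∈ R) (hs : s ∈ R) :
    Fixes (r * s⁻¹) X ↔ ra h ⟨r, hr⟩ = ra h ⟨s, hs⟩ := (act_eq_iff (h hr) (h hs)).symm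

variable [Finite G]

theorem bm_injective (hR : IsPGroup 2 R) : Function.Injective (bm R X) := by
  rw [injective_iff_map_eq_one]
  rintro ⟨x, hx⟩ h
  have h1 : x ∈ core X := (Cfsg.Agent.Intrinsic.Quot.mk_eq_one_iff (M := X) (x := x) hx.2).mp h
  obtain ⟨n, hn⟩ := hR ⟨x, hx.1⟩
  exact Subtype.ext (eq_one_of_mem_core h1 (congrArg Subtype.val hn))

theorem eq_of_mk_eq (hR : IsPGroup 2 R) {x y : G} (hx : x ∈ R) (hy : y ∈ R) (hxX : x ∈ X) (hyX : y ∈ X)
    (h : (QuotientGroup.mk ⟨x, hxX⟩ : Bar X) = QuotientGroup.mk ⟨y, hyX⟩) : x = y := by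
  have h1 : (⟨x, hx, hxX⟩ : ↥(R ⊓ X)) = ⟨y, hy, hyX⟩ := bm_injective hR h
  exact congrArg Subtype.val h1

end bm

/-! ### (P) from inner involutions -/

section cover

variable {κ : Kind.{u}} {G : Type u} [Group G] {u v : G} {X Y R : Subgroup G}

/-- the elements commuting with `u`, `v` and normalizing `X`, `Y` -/
def HH (u v : G) (X Y : Subgroup G) : Subgroup G :=
  (centralizer ({u} : Set G) ⊓ normalizer (X : Set G)) ⊓ (centralizer ({v} : Set G) ⊓ normalizer (Y : Set G))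

theorem HH_comm (u v : G) (X Y : Subgroup G) : HH u v X Y = HH v u Y X := inf_comm _ _

theorem mem_HH {h : G} : h ∈ HH u v X Y ↔ (h * u = u * h ∧ h ∈ normalizer (X : Set G)) ∧
    h * v = v * h ∧ h ∈ normalizer (Y : Set G) := by
  unfold HH
  rw [mem_inf, mem_inf, mem_inf, mem_centralizer_singleton_iff, mem_centralizer_singleton_iff]

/-- no type (2) -/
def NT2 (κ : Kind.{u}) (G : Type u) [Group G] : Prop :=
  ∀ {u v : G} {X Y : Subgroup G}, IsPair κ u X → IsPair κ v Y → u * v = v * u → cj v X = X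

variable [Finite G]

/-- `v` acts as an involution of `X / O(X)` -/
theorem exists_t (hI : KI κ) (hX : IsPair κ u X) (hvv : v * v = 1) (inv : IsInn v X)
    (nfv : ¬ Fixes v X) : ∃ (h : v ∈ normalizer (X : Set G)) (t : Bar X), NInv t ∧
      act X ⟨v, h⟩ = MulAut.conj t := by
  obtain ⟨h, t, ht⟩ := inv
  have h1 : t ∉ center (Bar X) := by
    intro hc
    apply nfv
    rw [← act_eq_one_iff h, ← ht]
    apply MulEquiv.ext
    intro x
    change t * x * t⁻¹ = x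
    rw [← mem_center_iff.mp hc x, mul_inv_cancel_right]
  refine ⟨h, t, ⟨(hI hX.kind).sqz t ?_, h1⟩, ht.symm⟩
  have h2 : MulAut.conj (t * t) = 1 := by
    have h3 : act X ⟨v, h⟩ * act X ⟨v, h⟩ = 1 := by
      rw [← act_mul h h]
      have : (⟨v * v, mul_mem h h⟩ : ↥(normalizer (X : Set G))) = 1 := Subtype.ext hvv
      rw [this, map_one]
    rw [map_mul]
    have h4 : MulAut.conj t = act X ⟨v, h⟩ := ht
    rw [h4]; exact h3
  rw [mem_center_iff]
  intro x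
  have h3 := DFunLike.congr_fun h2 x
  change t * t * x * (t * t)⁻¹ = x at h3
  calc x * (t * t) = (t * t * x * (t * t)⁻¹) * (t * t) := by rw [h3]
    _ = t * t * x := by group

omit [Finite G] in
theorem mk_conj_act {v : G} (hv : v ∈ normalizer (X : Set G)) {g : G} (hg : g ∈ X) :
    (QuotientGroup.mk ⟨v * g * v⁻¹, conj_mem hv hg⟩ : Bar X) =
      act X ⟨v, hv⟩ (QuotientGroup.mk ⟨g, hg⟩) := rfl

/-- `C_X(v) ∩ N(Y)` covers the centraliser of `v` in `X / O(X)` -/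
theorem cover (hI : KI κ) (nt : NT2 κ G) (hX : IsPair κ u X) (hY : IsPair κ v Y)
    (hv : v ∈ normalizer (X : Set G)) {t : Bar X} (ht : NInv t)
    (hvt : act X ⟨v, hv⟩ = MulAut.conj t) : ∀ k ∈ centralizer ({t} : Set (Bar X)),
      ∃ (x : G) (hx : x ∈ X), x ∈ HH u v X Y ∧ (QuotientGroup.mk ⟨x, hx⟩ : Bar X) = k := by
  have hvv := hY.sq
  have hvi : v⁻¹ = v := inv_eq_of_mul_eq_one_left hvv
  have hti : t⁻¹ = t := inv_eq_of_mul_eq_one_left ht.1
  set M : Subgroup (Bar X) := ((X ⊓ HH u v X Y).subgroupOf X).map (QuotientGroup.mk' (oddCore ↥X)) with hM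
  have key : centralizer ({t} : Set (Bar X)) ≤ M := by
    refine ((hI hX.kind).gen ht).trans ((closure_le _).mpr ?_)
    rintro m ⟨g, hg, rfl⟩
    obtain ⟨⟨g0, hg0⟩, rfl⟩ := QuotientGroup.mk_surjective g
    obtain ⟨g, hgdef⟩ : ∃ g : Bar X, g = QuotientGroup.mk ⟨g0, hg0⟩ := ⟨_, rfl⟩
    have hg' : t * (g * t * g⁻¹) = g * t * g⁻¹ * t := by rw [hgdef]; exact hg
    obtain ⟨a, ha⟩ : ∃ a, a = g0 * v * g0⁻¹ := ⟨_, rfl⟩
    have haa : a * a = 1 := by
      rw [ha, show g0 * v * g0⁻¹ * (g0 * v * g0⁻¹) = g0 * (v * v) * g0⁻¹ by group, hvv]; group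
    have hai : a⁻¹ = a := inv_eq_of_mul_eq_one_left haa
    have haN : a ∈ normalizer (X : Set G) := by
      rw [ha]; exact mul_mem (mul_mem (le_normalizer hg0) hv) (inv_mem (le_normalizer hg0))
    have hva : v * a = (v * g0 * v⁻¹) * g0⁻¹ := by rw [ha, hvi]; group
    have hvaX : v * a ∈ X := by rw [hva]; exact X.mul_mem (conj_mem hv hg0) (X.inv_mem hg0)
    have hmk : (QuotientGroup.mk ⟨v * a, hvaX⟩ : Bar X) = t * (g * t * g⁻¹) := by
      have h1 : (QuotientGroup.mk ⟨v * a, hvaX⟩ : Bar X) =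
          (QuotientGroup.mk ⟨v * g0 * v⁻¹, conj_mem hv hg0⟩ : Bar X) * (QuotientGroup.mk ⟨g0, hg0⟩)⁻¹ := by
        change _ = (QuotientGroup.mk ((⟨v * g0 * v⁻¹, conj_mem hv hg0⟩ : ↥X) * (⟨g0, hg0⟩ : ↥X)⁻¹) : Bar X)
        congr 1
        exact Subtype.ext hva
      rw [h1, mk_conj_act hv hg0, hvt, ← hgdef, MulAut.conj_apply, hti]
      group
    have hts : (t * (g * t * g⁻¹)) * (t * (g * t * g⁻¹)) = 1 := by
      calc (t * (g * t * g⁻¹)) * (t * (g * t * g⁻¹)) = (t * (g * t * g⁻¹)) * (g * t * g⁻¹ * t) := by rw [hg']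
        _ = t * g * (t * t) * g⁻¹ * t := by group
        _ = 1 := by rw [ht.1, mul_one, mul_inv_cancel_right, ht.1]
    have hvava : (v * a) * (v * a) ∈ core X := by
      rw [← Cfsg.Agent.Intrinsic.Quot.mk_eq_one_iff (X.mul_mem hvaX hvaX)]
      change (QuotientGroup.mk ⟨v * a, hvaX⟩ : Bar X) * QuotientGroup.mk ⟨v * a, hvaX⟩ = 1
      rw [hmk, hts]
    have hcN := normalizer_le_normalizer_core X
    have h1 : a⁻¹ * (v * a * v⁻¹) ∈ core X := by
      have h2 := conj_mem_core (x := a) haN hvava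
      convert h2 using 1
      rw [hai, hvi, show a * (v * a * (v * a)) * a = a * (v * a * v) * (a * a) by group, haa, mul_one]
    obtain ⟨o, ho, ho1, ho2⟩ := Cfsg.Agent.Intrinsic.Lifting.exists_involution (odd_card_core X)
      (v := v) (x := a) (n := 1) (by rw [pow_one, pow_two, hvv]) (hcN hv) (hcN haN)
      (by rw [haa]; exact one_mem _) h1
    obtain ⟨o', ho', h3⟩ := Cfsg.Agent.Intrinsic.Lifting.exists_conj_eq (odd_card_core X) (v := a)
      (v' := a * o) (n := 1) (m := 1) (by rw [pow_one, pow_two, haa]) (by rw [pow_one, pow_two, ho1])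
      (hcN haN) (by rw [inv_mul_cancel_left]; exact ho)
    have hoX := core_le X ho
    have h4 : (o' * g0) * v * (o' * g0)⁻¹ = a * o := by rw [← h3, ha]; group
    have h5 : IsPair κ (a * o) (cj (o' * g0) Y) := by rw [← h4]; exact hY.cj _
    have h6 : cj (a * o) Y = Y := nt hY h5 ho2
    have hm : v * (a * o) ∈ X := by rw [← mul_assoc]; exact X.mul_mem hvaX hoX
    refine ⟨⟨v * (a * o), hm⟩, ⟨hm, mem_HH.mpr ⟨⟨pair_comm hX hm, le_normalizer hm⟩, ?_, ?_⟩⟩, ?_⟩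
    · change v * (a * o) * v = v * (v * (a * o))
      rw [mul_assoc, ← ho2]
    · exact mul_mem (le_normalizer hY.mem) (mem_normalizer_iff_cj.mpr h6)
    · rw [← hgdef, ← hmk]
      change (QuotientGroup.mk ⟨v * (a * o), hm⟩ : Bar X) = QuotientGroup.mk ⟨v * a, hvaX⟩
      symm
      rw [Cfsg.Agent.Intrinsic.Quot.mk_eq_mk_iff', ← mul_assoc v a o, inv_mul_cancel_left]
      exact ho
  intro k hk
  obtain ⟨⟨x, hx⟩, hx1, hx2⟩ := key hk
  exact ⟨x, hx, hx1.2, hx2⟩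

/-- the same with a 2-subgroup of odd index -/
theorem coverR (hI : KI κ) (nt : NT2 κ G) (hX : IsPair κ u X) (hY : IsPair κ v Y)
    (hv : v ∈ normalizer (X : Set G)) {t : Bar X} (ht : NInv t)
    (hvt : act X ⟨v, hv⟩ = MulAut.conj t) (le : R ≤ HH u v X Y)
    (odd : ¬ 2 ∣ R.relIndex (HH u v X Y)) : ∀ k ∈ centralizer ({t} : Set (Bar X)),
      ∃ (x : G) (hx : x ∈ X), x ∈ R ∧ (QuotientGroup.mk ⟨x, hx⟩ : Bar X) = k := by
  intro k hk
  have h2 : Fact (Nat.Prime 2) := ⟨Nat.prime_two⟩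
  have hQ : IsPGroup 2 ↥(centralizer ({t} : Set (Bar X))) :=
    IsPGroup.of_card (n := 8) (by rw [(hI hX.kind).card ht]; norm_num)
  have hmem : ∀ x : G, ∀ hx : x ∈ X, x ∈ HH u v X Y →
      (QuotientGroup.mk ⟨x, hx⟩ : Bar X) ∈ centralizer ({t} : Set (Bar X)) := by
    intro x hx hxH
    have h3 : v * x * v⁻¹ = x := by rw [← (mem_HH.mp hxH).2.1, mul_inv_cancel_right]
    have h4 : act X ⟨v, hv⟩ (QuotientGroup.mk ⟨x, hx⟩) = QuotientGroup.mk ⟨x, hx⟩ := by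
      rw [← mk_conj_act hv hx]
      congr 1
      exact Subtype.ext h3
    rw [hvt, MulAut.conj_apply] at h4
    rw [mem_centralizer_singleton_iff]
    nth_rewrite 1 [← h4]
    group
  let f : ↥(X ⊓ HH u v X Y) →* ↥(centralizer ({t} : Set (Bar X))) :=
    { toFun := fun x => ⟨QuotientGroup.mk ⟨x, x.2.1⟩, hmem x x.2.1 x.2.2⟩
      map_one' := rfl
      map_mul' := fun _ _ => rfl }
  have hf : Function.Surjective f := by
    rintro ⟨y, hy⟩
    obtain ⟨x, hx, hxH, hxy⟩ := cover hI nt hX hY hv ht hvt y hy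
    exact ⟨⟨x, hx, hxH⟩, Subtype.ext hxy⟩
  obtain ⟨x, hx, hxR, hxk⟩ := exists_in_sylow (X := X ⊓ HH u v X Y) le odd inf_le_right (by
    intro g hg x hx
    exact ⟨conj_mem (mem_HH.mp hg).1.2 hx.1, (HH u v X Y).mul_mem ((HH u v X Y).mul_mem hg hx.2)
      ((HH u v X Y).inv_mem hg)⟩) f hf hQ ⟨k, hk⟩
  exact ⟨x, hx.1, hxR, congrArg Subtype.val hxk⟩

end cover

/-! ### the symmetric configuration -/

/-- The symmetric local configuration of type I. -/
structure CI (κ : Kind.{u}) {G : Type u} [Group G] (u v : G) (X Y R : Subgroup G) (t : Bar X)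
    (t' : Bar Y) : Prop where
  hX : IsPair κ u X
  hY : IsPair κ v Y
  huv : u * v = v * u
  two : IsPGroup 2 R
  le : R ≤ HH u v X Y
  odd : ¬ 2 ∣ R.relIndex (HH u v X Y)
  tn : NInv t
  tn' : NInv t'
  nfv : ¬ Fixes v X
  nfu : ¬ Fixes u Y
  nv : v ∈ normalizer (X : Set G)
  nu : u ∈ normalizer (Y : Set G)
  hvt : act X ⟨v, nv⟩ = MulAut.conj t
  hut : act Y ⟨u, nu⟩ = MulAut.conj t'

theorem CI.symm {κ : Kind.{u}} {G : Type u} [Group G] {u v : G} {X Y R : Subgroup G} {t : Bar X}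
    {t' : Bar Y} (c : CI κ u v X Y R t t') : CI κ v u Y X R t' t where
  hX := c.hY
  hY := c.hX
  huv := c.huv.symm
  two := c.two
  le := by rw [HH_comm]; exact c.le
  odd := by rw [HH_comm]; exact c.odd
  tn := c.tn'
  tn' := c.tn
  nfv := c.nfu
  nfu := c.nfv
  nv := c.nu
  nu := c.nv
  hvt := c.hut
  hut := c.hvt

section ex

variable {κ : Kind.{u}} {G : Type u} [Group G] [Finite G] {u v : G} {X Y R : Subgroup G}

/-- central involutions of `HH` are in `R` -/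
theorem mem_R_of_central (le : R ≤ HH u v X Y) (odd : ¬ 2 ∣ R.relIndex (HH u v X Y)) {y : G}
    (hy : y ∈ HH u v X Y) (hc : ∀ g ∈ HH u v X Y, g * y = y * g) (hyy : y * y = 1) : y ∈ R := by
  have h2 : Fact (Nat.Prime 2) := ⟨Nat.prime_two⟩
  obtain ⟨x, hx, hxR, hxy⟩ := exists_in_sylow (X := zpowers y) (Q := ↥(zpowers y)) le odd
    (zpowers_le.mpr hy) (by
      intro g hg x hx
      obtain ⟨k, rfl⟩ := mem_zpowers_iff.mp hx
      have h3 : Commute g y := hc g hg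
      rw [(h3.zpow_right k).eq, mul_inv_cancel_right]
      exact hx) (MonoidHom.id _) Function.surjective_id (isPGroup_zpowers_of_sq hyy) ⟨y, mem_zpowers y⟩
  have h3 : x = y := congrArg Subtype.val hxy
  rwa [← h3]

/-- `u` acts on `Y / O(Y)` as an inner automorphism -/
theorem isInn_symm (hI : KI κ) (nt : NT2 κ G) (hX : IsPair κ u X) (hY : IsPair κ v Y)
    (huv : u * v = v * u) (hv : v ∈ normalizer (X : Set G)) {t : Bar X} (ht : NInv t)
    (hvt : act X ⟨v, hv⟩ = MulAut.conj t) (two : IsPGroup 2 R) (le : R ≤ HH u v X Y)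
    (odd : ¬ 2 ∣ R.relIndex (HH u v X Y)) : IsInn u Y := by
  have hu : u ∈ normalizer (Y : Set G) := mem_normalizer_iff_cj.mpr (nt hY hX huv.symm)
  have huR : u ∈ R := mem_R_of_central le odd
    (mem_HH.mpr ⟨⟨rfl, le_normalizer hX.mem⟩, huv, hu⟩) (fun g hg => (mem_HH.mp hg).1.1) hX.sq
  have hcov := coverR hI nt hX hY hv ht hvt le odd
  have hRY : R ⊓ X ≤ normalizer (Y : Set G) := fun x hx => (mem_HH.mp (le hx.1)).2.2
  -- `u` is in the commutator group of `R ∩ X`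
  have hu' : (⟨u, huR, hX.mem⟩ : ↥(R ⊓ X)) ∈ commutator ↥(R ⊓ X) := by
    have h1 : centralizer ({t} : Set (Bar X)) ≤ (bm R X).range := by
      intro k hk
      obtain ⟨x, hx, hxR, hxk⟩ := hcov k hk
      exact ⟨⟨x, hxR, hx⟩, hxk⟩
    have h2 : (QuotientGroup.mk ⟨u, hX.mem⟩ : Bar X) ∈ center (Bar X) :=
      (mk_mem_center_iff hX.mem).mpr (pair_fixes hX)
    have h3 := commutator_mono h1 h1 ((hI hX.kind).center_le ht h2)
    rw [MonoidHom.range_eq_map, ← map_commutator] at h3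
    obtain ⟨c, hc, hcu⟩ := h3
    have h4 : c = ⟨u, huR, hX.mem⟩ := bm_injective two hcu
    rw [← h4]
    exact hc
  have h5 : ra hRY ⟨u, huR, hX.mem⟩ ∈ commutator (MulAut (Bar Y)) := by
    have h6 : (commutator ↥(R ⊓ X)).map (ra hRY) ≤ commutator (MulAut (Bar Y)) := by
      rw [_root_.commutator_def, _root_.commutator_def, map_commutator]
      exact commutator_mono le_top le_top
    exact h6 ⟨_, hu', rfl⟩
  refine ⟨hu, (hI hY.kind).cinn _ h5 ?_⟩
  rw [← map_mul]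
  have : (⟨u, hu⟩ : ↥(normalizer (Y : Set G))) * ⟨u, hu⟩ = 1 := Subtype.ext hX.sq
  rw [this, map_one]

/-- the configuration exists -/
theorem exists_CI (hI : KI κ) (nt : NT2 κ G) (hX : IsPair κ u X) (hY : IsPair κ v Y)
    (huv : u * v = v * u) (inv : IsInn v X) (nfv : ¬ Fixes v X) (two : IsPGroup 2 R)
    (le : R ≤ HH u v X Y) (odd : ¬ 2 ∣ R.relIndex (HH u v X Y)) :
    ∃ (t : Bar X) (t' : Bar Y), CI κ u v X Y R t t' := by
  obtain ⟨hv, t, tn, hvt⟩ := exists_t hI hX hY.sq inv nfv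
  have nfu : ¬ Fixes u Y := fun h => nfv (typeZero_symm' hY hX huv.symm h)
  obtain ⟨hu, t', tn', hut⟩ := exists_t hI hY hX.sq
    (isInn_symm hI nt hX hY huv hv tn hvt two le odd) nfu
  exact ⟨t, t', hX, hY, huv, two, le, odd, tn, tn', nfv, nfu, hv, hu, hvt, hut⟩

/-- every 2-subgroup of `HH` lies in one of odd index -/
theorem exists_R {A : Subgroup G} (hA : IsPGroup 2 A) (hle : A ≤ HH u v X Y) :
    ∃ R, A ≤ R ∧ IsPGroup 2 R ∧ R ≤ HH u v X Y ∧ ¬ 2 ∣ R.relIndex (HH u v X Y) := by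
  have h2 : Fact (Nat.Prime 2) := ⟨Nat.prime_two⟩
  have hA' : IsPGroup 2 (A.subgroupOf (HH u v X Y)) := hA.comap_of_injective _ (subtype_injective _)
  obtain ⟨S, hS⟩ := hA'.exists_le_sylow
  refine ⟨(S : Subgroup ↥(HH u v X Y)).map (HH u v X Y).subtype, ?_, S.isPGroup'.map _,
    map_subtype_le _, ?_⟩
  · intro a ha
    exact ⟨⟨a, hle ha⟩, hS ha, rfl⟩
  · have h3 : ((S : Subgroup ↥(HH u v X Y)).map (HH u v X Y).subtype).relIndex (HH u v X Y) =
        (S : Subgroup ↥(HH u v X Y)).index := by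
      rw [relIndex]
      congr 1
      ext x
      simp [mem_subgroupOf]
    rw [h3]
    exact S.not_dvd_index

end ex

namespace CI

variable {κ : Kind.{u}} {G : Type u} [Group G] {u v : G} {X Y R : Subgroup G} {t : Bar X} {t' : Bar Y}

theorem comm_u (c : CI κ u v X Y R t t') {r : G} (hr : r ∈ R) : r * u = u * r := (mem_HH.mp (c.le hr)).1.1

theorem comm_v (c : CI κ u v X Y R t t') {r : G} (hr : r ∈ R) : r * v = v * r := (mem_HH.mp (c.le hr)).2.1

theorem nX (c : CI κ u v X Y R t t') : R ≤ normalizer (X : Set G) := fun _ hr => (mem_HH.mp (c.le hr)).1.2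

theorem nY (c : CI κ u v X Y R t t') : R ≤ normalizer (Y : Set G) := fun _ hr => (mem_HH.mp (c.le hr)).2.2

/-- the elements of `R` normalize the vessel -/
theorem conj_ZR (c : CI κ u v X Y R t t') {r w : G} (hr : r ∈ R) (hw : w ∈ ZR R Y) :
    r * w * r⁻¹ ∈ ZR R Y := by
  obtain ⟨h1, h2, h3⟩ := mem_ZR.mp hw
  exact mem_ZR.mpr ⟨R.mul_mem (R.mul_mem hr h1) (R.inv_mem hr), conj_mem (c.nY hr) h2,
    fixes_conj h3 (c.nY hr)⟩

/-- `R ∩ X` acts on `X / O(X)` as elements of `C(t)` -/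
theorem mk_mem (c : CI κ u v X Y R t t') {x : G} (hx : x ∈ R) (hxX : x ∈ X) :
    (QuotientGroup.mk ⟨x, hxX⟩ : Bar X) ∈ centralizer ({t} : Set (Bar X)) := by
  have h3 : v * x * v⁻¹ = x := by rw [← c.comm_v hx, mul_inv_cancel_right]
  have h4 : act X ⟨v, c.nv⟩ (QuotientGroup.mk ⟨x, hxX⟩) = QuotientGroup.mk ⟨x, hxX⟩ := by
    rw [← mk_conj_act c.nv hxX]
    congr 1
    exact Subtype.ext h3
  rw [c.hvt, MulAut.conj_apply] at h4
  rw [mem_centralizer_singleton_iff]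
  nth_rewrite 1 [← h4]
  group

variable [Finite G]

theorem uR (c : CI κ u v X Y R t t') : u ∈ R :=
  mem_R_of_central c.le c.odd (mem_HH.mpr ⟨⟨rfl, le_normalizer c.hX.mem⟩, c.huv, c.nu⟩)
    (fun _ hg => (mem_HH.mp hg).1.1) c.hX.sq

theorem vR (c : CI κ u v X Y R t t') : v ∈ R := c.symm.uR

theorem vZR (c : CI κ u v X Y R t t') : v ∈ ZR R Y := mem_ZR.mpr ⟨c.vR, c.hY.mem, pair_fixes c.hY⟩

theorem cov (hI : KI κ) (nt : NT2 κ G) (c : CI κ u v X Y R t t') :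
    ∀ k ∈ centralizer ({t} : Set (Bar X)), ∃ (x : G) (hx : x ∈ X), x ∈ R ∧
      (QuotientGroup.mk ⟨x, hx⟩ : Bar X) = k :=
  coverR hI nt c.hX c.hY c.nv c.tn c.hvt c.le c.odd

theorem sq_ZR (hkl : Klein κ) (c : CI κ u v X Y R t t') {w : G} (hw : w ∈ ZR R Y) : w * w = 1 := by
  obtain ⟨h1, h2, h3⟩ := mem_ZR.mp hw
  refine eq_of_mk_eq c.two (R.mul_mem h1 h1) (one_mem _) (Y.mul_mem h2 h2) (one_mem _) ?_
  exact hkl.sq c.hY.kind _ ((mk_mem_center_iff h2).mpr h3)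

/-- the vessel of `Y` acts faithfully on `X / O(X)` -/
theorem faithful (S : Sett κ G) (c : CI κ u v X Y R t t') {w : G} (hw : w ∈ ZR R Y)
    (hf : Fixes w X) : w = 1 := by
  by_contra h1
  obtain ⟨hwR, hwY, hwf⟩ := mem_ZR.mp hw
  obtain ⟨M, hM, -, -, -, -, hiff⟩ := S.vess c.hY hwY (c.sq_ZR S.kl hw) h1 hwf
  have huw : u * w = w * u := (c.comm_u hwR).symm
  exact c.nfu ((hiff u huw c.nu).mp (typeZero_symm' c.hX hM huw hf))

omit [Finite G] in
theorem center_le_cent {K : Type*} [Group K] (t : K) :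
    center K ≤ centralizer ({t} : Set K) := by
  intro z hz
  rw [mem_centralizer_singleton_iff]
  exact (mem_center_iff.mp hz t).symm

theorem card_ZR (S : Sett κ G) (hI : KI κ) (nt : NT2 κ G) (c : CI κ u v X Y R t t') :
    Nat.card (ZR R Y) = 4 := by
  have h1 : center (Bar Y) ≤ (bm R Y).range := by
    intro z hz
    obtain ⟨x, hx, hxR, hxz⟩ := c.symm.cov hI nt z (center_le_cent t' hz)
    exact ⟨⟨x, hxR, hx⟩, hxz⟩
  rw [ZR, Subgroup.card_map_of_injective (subtype_injective _),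
    ← Subgroup.card_map_of_injective (bm_injective (X := Y) c.two), Subgroup.map_comap_eq_self h1]
  exact S.kl.card c.hY.kind

/-- the group of automorphisms of `X / O(X)` induced by the vessel of `Y` -/
theorem four (S : Sett κ G) (hI : KI κ) (nt : NT2 κ G) (c : CI κ u v X Y R t t') (α : MulAut (Bar X)) :
    (∃ (w : G) (_ : w ∈ ZR R Y) (hwR : w ∈ R), ra c.nX ⟨w, hwR⟩ = α) ↔ ∃ d ∈ DZ t, α = MulAut.conj d := by
  have h0 : (∃ (w : G) (_ : w ∈ ZR R Y) (hwR : w ∈ R), ra c.nX ⟨w, hwR⟩ = α) ↔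
      α ∈ ((ZR R Y).subgroupOf R).map (ra c.nX) := by
    constructor
    · rintro ⟨w, hw, hwR, rfl⟩
      exact ⟨⟨w, hwR⟩, hw, rfl⟩
    · rintro ⟨⟨w, hwR⟩, hw, rfl⟩
      exact ⟨w, hw, hwR, rfl⟩
  rw [h0]
  apply (hI c.hX.kind).four c.tn
  · -- the order
    have hinj : ∀ x ∈ (ZR R Y).subgroupOf R, ra c.nX x = 1 → x = 1 := by
      rintro ⟨w, hwR⟩ hw h1
      exact Subtype.ext (c.faithful S hw ((ra_eq_one_iff c.nX hwR).mp h1))
    have h1 : Nat.card (((ZR R Y).subgroupOf R).map (ra c.nX)) = Nat.card ((ZR R Y).subgroupOf R) := by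
      refine (Nat.card_congr (Equiv.ofBijective
        (fun x : ↥((ZR R Y).subgroupOf R) => (⟨ra c.nX x, x, x.2, rfl⟩ :
          ↥(((ZR R Y).subgroupOf R).map (ra c.nX)))) ⟨?_, ?_⟩)).symm
      · intro x y hxy
        have h2 : ra c.nX x = ra c.nX y := congrArg Subtype.val hxy
        have h3 : ra c.nX ((x : ↥R) * (y : ↥R)⁻¹) = 1 := by rw [map_mul, map_inv, h2, mul_inv_cancel]
        have h4 := hinj _ (mul_mem x.2 (inv_mem y.2)) h3
        exact Subtype.ext (mul_inv_eq_one.mp h4)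
      · rintro ⟨_, x, hx, rfl⟩
        exact ⟨⟨x, hx⟩, rfl⟩
    rw [h1, Nat.card_congr (subgroupOfEquivOfLe ZR_le_R).toEquiv]
    exact c.card_ZR S hI nt
  · rintro _ ⟨⟨w, hwR⟩, hw, rfl⟩
    rw [← map_mul]
    have : (⟨w, hwR⟩ : ↥R) * ⟨w, hwR⟩ = 1 := Subtype.ext (c.sq_ZR S.kl hw)
    rw [this, map_one]
  · exact ⟨⟨v, c.vR⟩, c.vZR, c.hvt⟩
  · rintro x hx _ ⟨⟨w, hwR⟩, hw, rfl⟩
    obtain ⟨p, hpX, hpR, rfl⟩ := c.cov hI nt x hx
    have e1 : p * w * p⁻¹ ∈ R := R.mul_mem (R.mul_mem hpR hwR) (R.inv_mem hpR)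
    have e2 : (⟨p * w * p⁻¹, e1⟩ : ↥R) ∈ (ZR R Y).subgroupOf R := mem_subgroupOf.mpr (c.conj_ZR hpR hw)
    have e3 : ra c.nX ⟨p, hpR⟩ * ra c.nX ⟨w, hwR⟩ * (ra c.nX ⟨p, hpR⟩)⁻¹ = ra c.nX ⟨p * w * p⁻¹, e1⟩ := by
      rw [← map_inv, ← map_mul, ← map_mul]
      rfl
    rw [← ra_of_mem c.nX hpR hpX, e3]
    exact mem_map_of_mem _ e2

end CI

/-! ### the action of `R ∩ X` on `Y / O(Y)` -/

section algebra

theorem card_ker_mul_range {A B : Type*} [Group A] [Group B] (f : A →* B) :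
    Nat.card f.ker * Nat.card f.range = Nat.card A := by
  rw [← Subgroup.index_ker, Subgroup.card_mul_index]

theorem conj_ker {K : Type*} [Group K] {k : K} : MulAut.conj k = 1 ↔ k ∈ center K := by
  rw [mem_center_iff]
  constructor
  · intro h g
    have h1 := DFunLike.congr_fun h g
    change k * g * k⁻¹ = g at h1
    nth_rewrite 1 [← h1]
    group
  · intro h
    apply MulEquiv.ext
    intro x
    change k * x * k⁻¹ = x
    rw [← h x, mul_inv_cancel_right]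

theorem exists_center_of_comm {K : Type*} [Group K] {α : MulAut K} {d : K}
    (h : α * MulAut.conj d = MulAut.conj d * α) : ∃ z ∈ center K, α d = d * z := by
  refine ⟨d⁻¹ * α d, ?_, by group⟩
  have h2 : α * MulAut.conj d * α⁻¹ = MulAut.conj (α d) := by
    apply MulEquiv.ext
    intro x
    change α (d * α⁻¹ x * d⁻¹) = α d * x * (α d)⁻¹
    rw [map_mul, map_mul, map_inv]
    have : α (α⁻¹ x) = x := α.apply_symm_apply x
    rw [this]
  rw [← conj_ker, map_mul, map_inv, ← h2, h, mul_inv_cancel_right, inv_mul_cancel]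

theorem conj_comm_of_center {K : Type*} [Group K] {a b : K} (h : ⁅a, b⁆ ∈ center K) :
    MulAut.conj a * MulAut.conj b = MulAut.conj b * MulAut.conj a := by
  have h1 := conj_ker.mpr h
  rw [map_commutatorElement, commutatorElement_eq_one_iff_mul_comm] at h1
  exact h1

theorem center_of_conj_comm {K : Type*} [Group K] {a b : K}
    (h : MulAut.conj a * MulAut.conj b = MulAut.conj b * MulAut.conj a) : ⁅a, b⁆ ∈ center K := by
  rw [← conj_ker, map_commutatorElement, commutatorElement_eq_one_iff_mul_comm]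
  exact h

/-- the image of `C(t)` in `Inn K` has order 64 -/
theorem card_map_conj {K : Type*} [Group K] [Finite K] (h4 : Nat.card (center K) = 4) {t : K}
    (hT : Nat.card (centralizer ({t} : Set K)) = 256) :
    Nat.card ((centralizer ({t} : Set K)).map (MulAut.conj : K →* MulAut K)) = 64 := by
  set f : ↥(centralizer ({t} : Set K)) →* MulAut K :=
    (MulAut.conj : K →* MulAut K).comp (centralizer ({t} : Set K)).subtype with hf
  have h1 : f.range = (centralizer ({t} : Set K)).map (MulAut.conj : K →* MulAut K) := by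
    rw [hf, MonoidHom.range_comp, Subgroup.range_subtype]
  have h2 : f.ker = (center K).subgroupOf (centralizer ({t} : Set K)) := by
    ext x
    rw [MonoidHom.mem_ker, mem_subgroupOf]
    exact conj_ker
  have h3 := card_ker_mul_range f
  rw [h1, h2, Nat.card_congr (subgroupOfEquivOfLe (CI.center_le_cent t)).toEquiv, h4, hT] at h3
  omega

end algebra

section BB

variable {G : Type*} [Group G] {R X Y : Subgroup G}

/-- the elements of `R ∩ X` fixing `Y` -/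
def BB (R X Y : Subgroup G) : Subgroup G where
  carrier := {p | (p ∈ R ∧ p ∈ X) ∧ Fixes p Y}
  mul_mem' := fun ha hb => ⟨⟨R.mul_mem ha.1.1 hb.1.1, X.mul_mem ha.1.2 hb.1.2⟩, fixes_mul ha.2 hb.2⟩
  one_mem' := ⟨⟨R.one_mem, X.one_mem⟩, fixes_one Y⟩
  inv_mem' := fun ha => ⟨⟨R.inv_mem ha.1.1, X.inv_mem ha.1.2⟩, fixes_inv ha.2⟩

theorem mem_BB {p : G} : p ∈ BB R X Y ↔ (p ∈ R ∧ p ∈ X) ∧ Fixes p Y := Iff.rfl

/-- its image in `X / O(X)` -/
def BBb (R X Y : Subgroup G) : Subgroup (Bar X) := ((BB R X Y).subgroupOf (R ⊓ X)).map (bm R X)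

theorem mem_BBb {b : Bar X} : b ∈ BBb R X Y ↔
    ∃ (p : G) (_ : p ∈ R) (hpX : p ∈ X), Fixes p Y ∧ (QuotientGroup.mk ⟨p, hpX⟩ : Bar X) = b := by
  constructor
  · rintro ⟨⟨p, hp⟩, h, rfl⟩
    exact ⟨p, hp.1, hp.2, (mem_BB.mp h).2, rfl⟩
  · rintro ⟨p, hpR, hpX, hf, rfl⟩
    exact ⟨⟨p, hpR, hpX⟩, ⟨⟨hpR, hpX⟩, hf⟩, rfl⟩

theorem card_BBb [Finite G] (hR : IsPGroup 2 R) : Nat.card (BBb R X Y) = Nat.card (BB R X Y) := by
  rw [BBb, Subgroup.card_map_of_injective (bm_injective hR)]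
  exact Nat.card_congr (subgroupOfEquivOfLe fun _ h => (mem_BB.mp h).1).toEquiv

end BB

namespace CI

variable {κ : Kind.{u}} {G : Type u} [Group G] [Finite G] {u v : G} {X Y R : Subgroup G} {t : Bar X}
  {t' : Bar Y}

/-- `R ∩ X` centralises the vessel of `Y` -/
theorem comm_PV (S : Sett κ G) (hI : KI κ) (nt : NT2 κ G) (c : CI κ u v X Y R t t') {p w : G}
    (hp : p ∈ R) (hpX : p ∈ X) (hw : w ∈ ZR R Y) : p * w = w * p := by
  have hwR := ZR_le_R hw
  obtain ⟨d, hd, hdw⟩ := (c.four S hI nt _).mp ⟨w, hw, hwR, rfl⟩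
  have h1 : p * w * p⁻¹ * w⁻¹ ∈ ZR R Y := mul_mem (c.conj_ZR hp hw) (inv_mem hw)
  have h2 : ra c.nX ⟨p, hp⟩ * ra c.nX ⟨w, hwR⟩ = ra c.nX ⟨w, hwR⟩ * ra c.nX ⟨p, hp⟩ := by
    rw [ra_of_mem c.nX hp hpX, hdw]
    apply conj_comm_of_center
    have h3 : (QuotientGroup.mk ⟨p, hpX⟩ : Bar X) * d = d * QuotientGroup.mk ⟨p, hpX⟩ :=
      mem_centralizer_iff.mp hd.2 _ (c.mk_mem hp hpX)
    rw [commutatorElement_eq_one_iff_mul_comm.mpr h3]
    exact one_mem _
  have h4 : Fixes (p * w * p⁻¹ * w⁻¹) X := by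
    have e1 : p * w * p⁻¹ * w⁻¹ ∈ R := ZR_le_R h1
    rw [← ra_eq_one_iff c.nX e1]
    have e2 : ra c.nX ⟨p * w * p⁻¹ * w⁻¹, e1⟩ =
        ra c.nX ⟨p, hp⟩ * ra c.nX ⟨w, hwR⟩ * (ra c.nX ⟨p, hp⟩)⁻¹ * (ra c.nX ⟨w, hwR⟩)⁻¹ := by
      rw [← map_inv, ← map_inv, ← map_mul, ← map_mul, ← map_mul]
      rfl
    rw [e2, h2, mul_inv_cancel_right, mul_inv_cancel]
  have h5 := c.faithful S h1 h4
  calc p * w = (p * w * p⁻¹ * w⁻¹) * w * p := by group
    _ = w * p := by rw [h5, one_mul]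

/-- `R ∩ X` centralises its own vessel -/
theorem comm_PU (c : CI κ u v X Y R t t') {p w : G} (hp : p ∈ R) (hpX : p ∈ X) (hw : w ∈ ZR R X) :
    p * w = w * p := by
  obtain ⟨h1, h2, h3⟩ := mem_ZR.mp hw
  refine eq_of_mk_eq c.two (R.mul_mem hp h1) (R.mul_mem h1 hp) (X.mul_mem hpX h2) (X.mul_mem h2 hpX) ?_
  exact mem_center_iff.mp ((mk_mem_center_iff h2).mpr h3) (QuotientGroup.mk ⟨p, hpX⟩)

/-- **`R ∩ X` acts on `Y / O(Y)` as elements of `C(t')`.** -/
theorem act_P (S : Sett κ G) (hI : KI κ) (nt : NT2 κ G) (c : CI κ u v X Y R t t') {p : G}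
    (hp : p ∈ R) (hpX : p ∈ X) :
    ∃ q ∈ centralizer ({t'} : Set (Bar Y)), ra c.nY ⟨p, hp⟩ = MulAut.conj q := by
  apply (hI c.hY.kind).inn c.tn'
  · obtain ⟨n, hn⟩ := c.two ⟨p, hp⟩
    exact ⟨n, by rw [← map_pow, hn, map_one]⟩
  · intro z hz
    obtain ⟨w, hwY, hwR, rfl⟩ := c.symm.cov hI nt z (center_le_cent t' hz)
    have hw : w ∈ ZR R Y := mem_ZR.mpr ⟨hwR, hwY, (mk_mem_center_iff hwY).mp hz⟩
    rw [ra_mk c.nY hp hwY]
    congr 1
    apply Subtype.ext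
    change p * w * p⁻¹ = w
    rw [c.comm_PV S hI nt hp hpX hw, mul_inv_cancel_right]
  · intro d hd
    apply exists_center_of_comm
    obtain ⟨w, hw, hwR, hwd⟩ := (c.symm.four S hI nt (MulAut.conj d)).mpr ⟨d, hd, rfl⟩
    rw [← hwd]
    have h1 : (⟨p, hp⟩ : ↥R) * ⟨w, hwR⟩ = ⟨w, hwR⟩ * ⟨p, hp⟩ := Subtype.ext (c.comm_PU hp hpX hw)
    have h2 := congrArg (ra c.nY) h1
    rw [map_mul, map_mul] at h2
    exact h2

theorem card_P (hI : KI κ) (nt : NT2 κ G) (c : CI κ u v X Y R t t') :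
    Nat.card ↥(R ⊓ X) = 256 := by
  have h1 : (bm R X).range = centralizer ({t} : Set (Bar X)) := by
    apply le_antisymm
    · rintro _ ⟨⟨x, hx⟩, rfl⟩
      exact c.mk_mem hx.1 hx.2
    · intro k hk
      obtain ⟨x, hx, hxR, hxk⟩ := c.cov hI nt k hk
      exact ⟨⟨x, hxR, hx⟩, hxk⟩
  rw [← (hI c.hX.kind).card c.tn, ← h1]
  exact Nat.card_congr (Equiv.ofInjective _ (bm_injective c.two))

/-- the map `R ∩ X → Aut(Y / O(Y))` -/
noncomputable def fP (c : CI κ u v X Y R t t') : ↥(R ⊓ X) →* MulAut (Bar Y) :=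
  (ra c.nY).comp (inclusion inf_le_left)

omit [Finite G] in
theorem fP_apply (c : CI κ u v X Y R t t') {p : G} (hp : p ∈ R) (hpX : p ∈ X) :
    c.fP ⟨p, hp, hpX⟩ = ra c.nY ⟨p, hp⟩ := rfl

omit [Finite G] in
theorem ker_fP (c : CI κ u v X Y R t t') : Nat.card c.fP.ker = Nat.card (BB R X Y) := by
  have h1 : c.fP.ker = (BB R X Y).subgroupOf (R ⊓ X) := by
    ext ⟨p, hp⟩
    rw [MonoidHom.mem_ker, fP_apply c hp.1 hp.2, ra_eq_one_iff c.nY hp.1, mem_subgroupOf]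
    exact ⟨fun h => ⟨hp, h⟩, fun h => h.2⟩
  rw [h1]
  exact Nat.card_congr (subgroupOfEquivOfLe fun _ h => (mem_BB.mp h).1).toEquiv

theorem range_fP (S : Sett κ G) (hI : KI κ) (nt : NT2 κ G) (c : CI κ u v X Y R t t') :
    c.fP.range ≤ (centralizer ({t'} : Set (Bar Y))).map (MulAut.conj : Bar Y →* MulAut (Bar Y)) := by
  rintro _ ⟨⟨p, hp⟩, rfl⟩
  obtain ⟨q, hq, h1⟩ := c.act_P S hI nt hp.1 hp.2
  exact ⟨q, hq, h1.symm⟩

theorem card_range (hI : KI κ) (nt : NT2 κ G) (c : CI κ u v X Y R t t') :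
    Nat.card (BB R X Y) * Nat.card c.fP.range = 256 := by
  rw [← c.ker_fP, card_ker_mul_range, c.card_P hI nt]

theorem four_le (S : Sett κ G) (hI : KI κ) (nt : NT2 κ G) (c : CI κ u v X Y R t t') :
    4 ≤ Nat.card (BB R X Y) := by
  have h1 := c.card_range hI nt
  have h2 := Subgroup.card_le_of_le (c.range_fP S hI nt)
  rw [card_map_conj (S.kl.card c.hY.kind) ((hI c.hY.kind).card c.tn')] at h2
  by_contra h
  push Not at h
  have h3 : Nat.card (BB R X Y) ≤ 3 := by omega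
  have h4 := Nat.mul_le_mul h3 h2
  omega

/-- the fact (B) for `R ∩ X` -/
theorem nB (S : Sett κ G) (hI : KI κ) (nt : NT2 κ G) (c : CI κ u v X Y R t t') :
    (∀ d ∈ DZ t, ∃ b ∈ BBb R X Y, b ∈ DZ t ∧ ∃ z ∈ center (Bar X), d = b * z) ∧
      Nat.card (BB R X Y) ≤ 8 := by
  rw [← card_BBb c.two]
  apply (hI c.hX.kind).nB c.tn
  · intro b hb
    obtain ⟨p, hp, hpX, -, rfl⟩ := mem_BBb.mp hb
    exact c.mk_mem hp hpX
  · intro x hx b hb
    obtain ⟨y, hyX, hyR, rfl⟩ := c.cov hI nt x hx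
    obtain ⟨p, hp, hpX, hf, rfl⟩ := mem_BBb.mp hb
    exact mem_BBb.mpr ⟨y * p * y⁻¹, R.mul_mem (R.mul_mem hyR hp) (R.inv_mem hyR),
      X.mul_mem (X.mul_mem hyX hpX) (X.inv_mem hyX), fixes_conj hf (c.nY hyR), rfl⟩
  · intro b hb hz
    obtain ⟨p, hp, hpX, hf, rfl⟩ := mem_BBb.mp hb
    have h1 : p = 1 := c.symm.faithful S (mem_ZR.mpr ⟨hp, hpX, (mk_mem_center_iff hpX).mp hz⟩) hf
    subst h1
    rfl
  · rw [card_BBb c.two]
    exact c.four_le S hI nt

/-- **The vessel of `Y` lies in `X`.** -/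
theorem V_le_B (S : Sett κ G) (hI : KI κ) (nt : NT2 κ G) (c : CI κ u v X Y R t t') {w : G}
    (hw : w ∈ ZR R Y) : w ∈ BB R X Y := by
  obtain ⟨hwR, hwY, hwf⟩ := mem_ZR.mp hw
  obtain ⟨d, hd, hdw⟩ := (c.four S hI nt _).mp ⟨w, hw, hwR, rfl⟩
  obtain ⟨b, hb, hbD, z, hz, rfl⟩ := (c.nB S hI nt).1 d hd
  obtain ⟨p, hp, hpX, hpf, rfl⟩ := mem_BBb.mp hb
  have hpp : p * p = 1 := by
    refine eq_of_mk_eq c.two (R.mul_mem hp hp) (one_mem _) (X.mul_mem hpX hpX) (one_mem _) ?_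
    exact (hI c.hX.kind).sq_DZ c.tn _ hbD
  have hpi : p⁻¹ = p := inv_eq_of_mul_eq_one_left hpp
  have hww := c.sq_ZR S.kl hw
  have hpw := c.comm_PV S hI nt hp hpX hw
  have hact : ra c.nX ⟨w, hwR⟩ = ra c.nX ⟨p, hp⟩ := by
    rw [hdw, map_mul, conj_ker.mpr hz, mul_one, ra_of_mem c.nX hp hpX]
  obtain ⟨k, hk⟩ : ∃ k, k = w * p⁻¹ := ⟨_, rfl⟩
  have hkR : k ∈ R := by rw [hk]; exact R.mul_mem hwR (R.inv_mem hp)
  have hkX : Fixes k X := by rw [hk]; exact (fixes_iff_ra c.nX hwR hp).mpr hact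
  have hkY : Fixes k Y := by rw [hk]; exact fixes_mul hwf (fixes_inv hpf)
  have hkk : k * k = 1 := by
    rw [hk, hpi]
    calc w * p * (w * p) = w * (p * w) * p := by group
      _ = (w * w) * (p * p) := by rw [hpw]; group
      _ = 1 := by rw [hww, hpp, one_mul]
  by_cases hk1 : k = 1
  · have : w = p := by
      rw [hk] at hk1
      exact mul_inv_eq_one.mp hk1
    rw [this]
    exact ⟨⟨hp, hpX⟩, hpf⟩
  · exfalso
    have hku := c.comm_u hkR
    have hkv := c.comm_v hkR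
    have hkCu : k ∈ centralizer ({u} : Set G) := mem_centralizer_singleton_iff.mpr hku
    have hkCv : k ∈ centralizer ({v} : Set G) := mem_centralizer_singleton_iff.mpr hkv
    obtain ⟨M₁, hM₁, hle₁, huM⟩ := exists_pump c.hX hkk hku hkX
    obtain ⟨M₂, hM₂, hle₂, hvM⟩ := exists_pump c.hY hkk hkv hkY
    obtain ⟨hJ₁, hs₁⟩ := isComp_cen c.hX.comp hkCu hkk hkX
    obtain ⟨hJ₂, hs₂⟩ := isComp_cen c.hY.comp hkCv hkk hkY
    by_cases hMM : M₁ = M₂
    · subst hMM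
      have hwk : w * k = k * w := by
        rw [hk, hpi, hpw.symm]
        calc w * (p * w) = (w * p) * w := by group
          _ = (p * w) * w := by rw [hpw]
      have hpk : p * k = k * p := by
        rw [hk, hpi]
        calc p * (w * p) = (p * w) * p := by group
          _ = w * p * p := by rw [hpw]
      have hwM : w ∈ M₁ := hle₂ (mem_cen_of_sq hwY hwk hww)
      have hpM : p ∈ M₁ := hle₁ (mem_cen_of_sq hpX hpk hpp)
      have hkM : k ∈ M₁ := by rw [hk]; exact M₁.mul_mem hwM (M₁.inv_mem hpM)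
      have hJ' : IsComp (centralizer ({k} : Set G) ⊓ centralizer ({u} : Set G)) (cen X k) := by
        rw [inf_comm]; exact hJ₁
      have huJ := pair_mem_cen c.hX hku
      have hJk := (kind_cen (κ := κ) c.hX.comp hkCu hkk hkX).mpr c.hX.kind
      have hsm : Small (cen X k) M₁ := by
        rcases S.small_or_big hkk hk1 c.hX.inv huJ hJ' hJk hM₁ hle₁ with h | h
        · exact h
        · exact absurd (fixes_of_le_cent hM₁.le)
            (S.big_not_fixes h c.hX.inv huJ hJ' hJk hM₁ hle₁ hkM hkk hk1)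
      have hfu : Fixes u M₁ := hsm.fixes huJ fun y hy =>
        mem_centralizer_singleton_iff.mpr (pair_comm c.hX (cen_le X k hy))
      have huN : u ∈ normalizer (cen Y k : Set G) := mem_normalizer_cen c.nu hku.symm
      exact c.nfu ((fixes_iff_of_sup hs₂ huN c.nu).mp (fixes_of_le hle₂ huN hfu))
    · have hfv : Fixes v M₁ := hM₁.fixes_of_mem hM₂ hMM hvM
      have hvN : v ∈ normalizer (cen X k : Set G) := mem_normalizer_cen c.nv hkv.symm
      exact c.nfv ((fixes_iff_of_sup hs₁ hvN c.nv).mp (fixes_of_le hle₁ hvN hfv))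

theorem v_mem (S : Sett κ G) (hI : KI κ) (nt : NT2 κ G) (c : CI κ u v X Y R t t') : v ∈ X :=
  (c.V_le_B S hI nt c.vZR).1.2

/-- the only pair over `u` -/
theorem unique (S : Sett κ G) (hI : KI κ) (nt : NT2 κ G) (c : CI κ u v X Y R t t') {X₁ : Subgroup G}
    (h : IsPair κ u X₁) : X₁ = X := by
  by_contra hne
  have h1 : Fixes v X₁ := h.comp.fixes_of_mem c.hX.comp hne (c.v_mem S hI nt)
  exact c.nfv ((typeZero_indep h c.hX c.hY c.huv).mp h1)

/-- elements of `R` fixing `Y` commute with `R ∩ Y` -/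
theorem comm_BQ (c : CI κ u v X Y R t t') {p q : G} (hp : p ∈ R) (hpf : Fixes p Y) (hq : q ∈ R)
    (hqY : q ∈ Y) : p * q = q * p := by
  have h1 : ⁅p, q⁆ ∈ core Y := hpf.2 q hqY
  have h2 : ⁅p, q⁆ ∈ R := by
    rw [commutatorElement_def]
    exact R.mul_mem (R.mul_mem (R.mul_mem hp hq) (R.inv_mem hp)) (R.inv_mem hq)
  obtain ⟨n, hn⟩ := c.two ⟨_, h2⟩
  exact commutatorElement_eq_one_iff_mul_comm.mp (eq_one_of_mem_core h1 (congrArg Subtype.val hn))

/-- **`B ≤ Z(R ∩ X)`** -/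
theorem B_le_DZ (S : Sett κ G) (hI : KI κ) (nt : NT2 κ G) (c : CI κ u v X Y R t t') :
    BBb R X Y ≤ DZ t := by
  intro b hb
  by_contra hbD
  obtain ⟨p, hp, hpX, hpf, rfl⟩ := mem_BBb.mp hb
  obtain ⟨A, hA⟩ : ∃ A : Subgroup (Bar X), A = c.symm.fP.range.comap (MulAut.conj : Bar X →* _) ⊓
      centralizer ({t} : Set (Bar X)) := ⟨_, rfl⟩
  have h1 : Nat.card A ≤ 64 := by
    apply (hI c.hX.kind).cE c.tn _ (c.mk_mem hp hpX) hbD A (by rw [hA]; exact inf_le_right)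
    intro a ha
    rw [hA] at ha
    obtain ⟨⟨q, hq⟩, hqa⟩ := ha.1
    apply center_of_conj_comm
    rw [← ra_of_mem c.nX hp hpX]
    have h2 : ra c.nX ⟨q, hq.1⟩ = MulAut.conj a := hqa
    rw [← h2]
    have h3 : (⟨q, hq.1⟩ : ↥R) * ⟨p, hp⟩ = ⟨p, hp⟩ * ⟨q, hq.1⟩ :=
      Subtype.ext (c.comm_BQ hp hpf hq.1 hq.2).symm
    have h4 := congrArg (ra c.nX) h3
    rw [map_mul, map_mul] at h4
    exact h4
  -- the order of `A`
  have h2 : Nat.card A = 4 * Nat.card c.symm.fP.range := by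
    set g : ↥A →* MulAut (Bar X) := (MulAut.conj : Bar X →* MulAut (Bar X)).comp A.subtype with hg
    have hker : g.ker = (center (Bar X)).subgroupOf A := by
      ext x
      rw [MonoidHom.mem_ker, mem_subgroupOf]
      exact conj_ker
    have hcA : center (Bar X) ≤ A := by
      intro z hz
      rw [hA]
      refine ⟨?_, center_le_cent t hz⟩
      change MulAut.conj z ∈ c.symm.fP.range
      rw [conj_ker.mpr hz]
      exact one_mem _
    have hrange : g.range = c.symm.fP.range := by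
      apply le_antisymm
      · rintro _ ⟨⟨x, hx⟩, rfl⟩
        rw [hA] at hx
        exact hx.1
      · intro α hα
        obtain ⟨q, hq, hqa⟩ := c.symm.range_fP S hI nt hα
        refine ⟨⟨q, ?_⟩, hqa⟩
        rw [hA]
        refine ⟨?_, hq⟩
        change MulAut.conj q ∈ c.symm.fP.range
        rw [hqa]
        exact hα
    have h3 := card_ker_mul_range g
    rw [hker, hrange, Nat.card_congr (subgroupOfEquivOfLe hcA).toEquiv, S.kl.card c.hX.kind] at h3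
    exact h3.symm
  have h3 := c.symm.card_range hI nt
  have h4 := (c.symm.nB S hI nt).2
  have h5 : Nat.card c.symm.fP.range ≤ 16 := by omega
  have h6 := Nat.mul_le_mul h4 h5
  omega

theorem card_B (S : Sett κ G) (hI : KI κ) (nt : NT2 κ G) (c : CI κ u v X Y R t t') :
    Nat.card (BB R X Y) = 4 := by
  apply le_antisymm _ (c.four_le S hI nt)
  rw [← card_BBb c.two]
  have h0 : ∀ b ∈ BBb R X Y, b ∈ center (Bar X) → b = 1 := by
    intro b hb hz
    obtain ⟨p, hp, hpX, hf, rfl⟩ := mem_BBb.mp hb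
    have h1 : p = 1 := c.symm.faithful S (mem_ZR.mpr ⟨hp, hpX, (mk_mem_center_iff hpX).mp hz⟩) hf
    subst h1
    rfl
  have hcD : center (Bar X) ≤ DZ t := by
    intro z hz
    exact ⟨center_le_cent t hz, mem_centralizer_iff.mpr fun x _ => mem_center_iff.mp hz x⟩
  have h1 : Nat.card (↥(BBb R X Y) × ↥(center (Bar X))) ≤ Nat.card ↥(DZ t) := by
    refine Nat.card_le_card_of_injective (fun x : ↥(BBb R X Y) × ↥(center (Bar X)) =>
      (⟨(x.1 : Bar X) * x.2, (DZ t).mul_mem (c.B_le_DZ S hI nt x.1.2) (hcD x.2.2)⟩ : ↥(DZ t))) ?_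
    rintro ⟨⟨b, hb⟩, ⟨z, hz⟩⟩ ⟨⟨b', hb'⟩, ⟨z', hz'⟩⟩ h
    have h2 : b * z = b' * z' := congrArg Subtype.val h
    have h3 : b'⁻¹ * b = z' * z⁻¹ := by
      calc b'⁻¹ * b = b'⁻¹ * (b * z) * z⁻¹ := by group
        _ = z' * z⁻¹ := by rw [h2]; group
    have h4 : b'⁻¹ * b = 1 := h0 _ (mul_mem (inv_mem hb') hb) (by
      rw [h3]; exact mul_mem hz' (inv_mem hz))
    have h5 : b = b' := (inv_mul_eq_one.mp h4).symm
    subst h5
    have h6 := mul_left_cancel h2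
    subst h6
    rfl
  rw [Nat.card_prod, S.kl.card c.hX.kind, (hI c.hX.kind).card_DZ c.tn] at h1
  omega

/-- **The kernel of `R ∩ X` on `Y / O(Y)` is the vessel of `Y`.** -/
theorem B_eq_V (S : Sett κ G) (hI : KI κ) (nt : NT2 κ G) (c : CI κ u v X Y R t t') :
    BB R X Y = ZR R Y := by
  symm
  apply Subgroup.eq_of_le_of_card_ge (fun w hw => c.V_le_B S hI nt hw)
  rw [c.card_B S hI nt, c.card_ZR S hI nt]

/-- **`R ∩ X` induces `C(t')` on `Y / O(Y)`.** -/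
theorem range_eq (S : Sett κ G) (hI : KI κ) (nt : NT2 κ G) (c : CI κ u v X Y R t t') :
    c.fP.range = (centralizer ({t'} : Set (Bar Y))).map (MulAut.conj : Bar Y →* MulAut (Bar Y)) := by
  apply Subgroup.eq_of_le_of_card_ge (c.range_fP S hI nt)
  rw [card_map_conj (S.kl.card c.hY.kind) ((hI c.hY.kind).card c.tn')]
  have h1 := c.card_range hI nt
  rw [c.card_B S hI nt] at h1
  omega

end CI

/-! ### canonical involutions -/

section EE

variable {K K' : Type*} [Group K] [Group K']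

/-- the elements of `C(t')` inducing the automorphisms `f(E)` -/
def WE {t : K} (t' : K') (f : ↥(centralizer ({t} : Set K)) →* MulAut K') (E : Subgroup K) :
    Subgroup K' :=
  ((E.subgroupOf (centralizer ({t} : Set K))).map f).comap (MulAut.conj : K' →* MulAut K') ⊓
    centralizer ({t'} : Set K')

theorem mem_WE {t : K} {t' : K'} {f : ↥(centralizer ({t} : Set K)) →* MulAut K'} {E : Subgroup K}
    {x : K'} : x ∈ WE t' f E ↔ (∃ e : ↥(centralizer ({t} : Set K)), (e : K) ∈ E ∧ f e = MulAut.conj x) ∧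
      x ∈ centralizer ({t'} : Set K') := by
  constructor
  · rintro ⟨⟨e, he, h⟩, hx⟩
    exact ⟨⟨e, he, h⟩, hx⟩
  · rintro ⟨⟨e, he, h⟩, hx⟩
    exact ⟨⟨e, he, h⟩, hx⟩

theorem mem_of_map_eq {t : K} {f : ↥(centralizer ({t} : Set K)) →* MulAut K'} {E : Subgroup K}
    (hkD : ∀ x, f x = 1 → (x : K) ∈ E) {y e : ↥(centralizer ({t} : Set K))} (he : (e : K) ∈ E)
    (h : f e = f y) : (y : K) ∈ E := by
  have h1 : f (e⁻¹ * y) = 1 := by rw [map_mul, map_inv, h, inv_mul_cancel]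
  have h2 := E.mul_mem he (hkD _ h1)
  have h3 : (e : K) * ((e⁻¹ * y : ↥(centralizer ({t} : Set K))) : K) = y := by
    change (e : K) * ((e : K)⁻¹ * (y : K)) = y
    group
  rwa [h3] at h2

theorem card_WE (h4 : Nat.card (center K') = 4) {t : K} {t' : K'}
    {f : ↥(centralizer ({t} : Set K)) →* MulAut K'}
    (hr : f.range ≤ (centralizer ({t'} : Set K')).map (MulAut.conj : K' →* MulAut K')) {E : Subgroup K}
    (hET : E ≤ centralizer ({t} : Set K)) (hE : Nat.card E = 64) (hkD : ∀ x, f x = 1 → (x : K) ∈ E)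
    (hk4 : Nat.card f.ker = 4) : Nat.card (WE t' f E) = 64 := by
  set E' := E.subgroupOf (centralizer ({t} : Set K)) with hE'
  have hcE' : Nat.card E' = 64 := by rw [← hE]; exact Nat.card_congr (subgroupOfEquivOfLe hET).toEquiv
  -- the image of `E`
  set g : ↥E' →* MulAut K' := f.comp E'.subtype with hg
  have hgr : g.range = E'.map f := by rw [hg, MonoidHom.range_comp, Subgroup.range_subtype]
  have hkE : f.ker ≤ E' := fun x hx => mem_subgroupOf.mpr (hkD x hx)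
  have hgk : g.ker = f.ker.subgroupOf E' := by
    ext x
    rw [MonoidHom.mem_ker, mem_subgroupOf, MonoidHom.mem_ker]
    rfl
  have h1 := card_ker_mul_range g
  rw [hgk, hgr, Nat.card_congr (subgroupOfEquivOfLe hkE).toEquiv, hk4, hcE'] at h1
  -- the order of `WE`
  set c : ↥(WE t' f E) →* MulAut K' := (MulAut.conj : K' →* MulAut K').comp (WE t' f E).subtype with hc
  have hcZ : center K' ≤ WE t' f E := by
    intro z hz
    refine mem_WE.mpr ⟨⟨1, E.one_mem, ?_⟩, CI.center_le_cent t' hz⟩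
    rw [map_one, conj_ker.mpr hz]
  have hck : c.ker = (center K').subgroupOf (WE t' f E) := by
    ext x
    rw [MonoidHom.mem_ker, mem_subgroupOf]
    exact conj_ker
  have hcr : c.range = E'.map f := by
    apply le_antisymm
    · rintro _ ⟨⟨x, hx⟩, rfl⟩
      exact hx.1
    · rintro _ ⟨e, he, rfl⟩
      obtain ⟨q, hq, hqe⟩ := hr ⟨e, rfl⟩
      exact ⟨⟨q, mem_WE.mpr ⟨⟨e, he, hqe.symm⟩, hq⟩⟩, hqe⟩
  have h2 := card_ker_mul_range c
  rw [hck, hcr, Nat.card_congr (subgroupOfEquivOfLe hcZ).toEquiv, h4] at h2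
  omega

/-- Elements of `C(t)` inducing involutions are involutions. -/
theorem sq_eq_one_of_EE [Finite K] [Finite K'] (T : TFacts K) (T' : TFacts K') (h4 : Nat.card (center K') = 4) {t : K}
    {t' : K'} (tn : NInv t) (tn' : NInv t') (f : ↥(centralizer ({t} : Set K)) →* MulAut K')
    (hr : f.range ≤ (centralizer ({t'} : Set K')).map (MulAut.conj : K' →* MulAut K'))
    (hkD : ∀ x, f x = 1 → (x : K) ∈ DZ t) (hk4 : Nat.card f.ker = 4)
    (y : ↥(centralizer ({t} : Set K))) (hy : f (y * y) = 1) : (y : K) * y = 1 := by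
  obtain ⟨E₁, E₂, h1T, h2T, -, -, hD1, hD2, hne, c1, c2, s1, s2, -, -⟩ := T.EE tn
  obtain ⟨F₁, F₂, g1T, g2T, -, -, -, -, -, d1, d2, r1, r2, gsq, gW⟩ := T'.EE tn'
  have hk1 : ∀ x, f x = 1 → (x : K) ∈ E₁ := fun x hx => hD1 (hkD x hx)
  have hk2 : ∀ x, f x = 1 → (x : K) ∈ E₂ := fun x hx => hD2 (hkD x hx)
  have hW1 := card_WE h4 hr h1T c1 hk1 hk4
  have hW2 := card_WE h4 hr h2T c2 hk2 hk4
  have key : ∀ E : Subgroup K, (∀ x ∈ E, x * x = 1) → Nat.card (WE t' f E) = 64 →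
      WE t' f E = F₁ ∨ WE t' f E = F₂ := by
    intro E hsq hcard
    rcases gW (WE t' f E) inf_le_right (by
      intro x hx
      obtain ⟨⟨e, he, hex⟩, -⟩ := mem_WE.mp hx
      rw [← conj_ker, map_mul, ← hex, ← map_mul]
      have : e * e = 1 := Subtype.ext (hsq e he)
      rw [this, map_one]) with h | h
    · exact Or.inl (Subgroup.eq_of_le_of_card_ge h (by rw [d1, hcard]))
    · exact Or.inr (Subgroup.eq_of_le_of_card_ge h (by rw [d2, hcard]))
  have hWne : WE t' f E₁ ≠ WE t' f E₂ := by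
    intro h
    apply hne
    apply Subgroup.eq_of_le_of_card_ge _ (by rw [c1, c2])
    intro x hx
    obtain ⟨q, hq, hqx⟩ := hr ⟨⟨x, h1T hx⟩, rfl⟩
    have h5 : q ∈ WE t' f E₁ := mem_WE.mpr ⟨⟨⟨x, h1T hx⟩, hx, hqx.symm⟩, hq⟩
    rw [h] at h5
    obtain ⟨⟨e, he, heq⟩, -⟩ := mem_WE.mp h5
    exact mem_of_map_eq (y := ⟨x, h1T hx⟩) hk2 he (heq.trans hqx)
  obtain ⟨q, hq, hqy⟩ := hr ⟨y, rfl⟩
  have hqq : q * q ∈ center K' := by
    rw [← conj_ker, map_mul, hqy, ← map_mul]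
    exact hy
  have fin1 : q ∈ WE t' f E₁ → (y : K) * y = 1 := by
    intro h
    obtain ⟨⟨e, he, heq⟩, -⟩ := mem_WE.mp h
    exact s1 _ (mem_of_map_eq hk1 he (heq.trans hqy))
  have fin2 : q ∈ WE t' f E₂ → (y : K) * y = 1 := by
    intro h
    obtain ⟨⟨e, he, heq⟩, -⟩ := mem_WE.mp h
    exact s2 _ (mem_of_map_eq hk2 he (heq.trans hqy))
  have hF := gsq q hq hqq
  rcases key E₁ s1 hW1 with h1 | h1 <;> rcases key E₂ s2 hW2 with h2 | h2
  · exact absurd (h1.trans h2.symm) hWne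
  · rcases hF with h | h
    · exact fin1 (by rw [h1]; exact h)
    · exact fin2 (by rw [h2]; exact h)
  · rcases hF with h | h
    · exact fin2 (by rw [h2]; exact h)
    · exact fin1 (by rw [h1]; exact h)
  · exact absurd (h1.trans h2.symm) hWne

end EE

namespace CI

variable {κ : Kind.{u}} {G : Type u} [Group G] [Finite G] {u v : G} {X Y R : Subgroup G} {t : Bar X}
  {t' : Bar Y}

/-- `R ∩ X ≅ C(t)` -/
noncomputable def eP (hI : KI κ) (nt : NT2 κ G) (c : CI κ u v X Y R t t') :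
    ↥(R ⊓ X) ≃* ↥(centralizer ({t} : Set (Bar X))) :=
  MulEquiv.ofBijective ((bm R X).codRestrict _ fun x => c.mk_mem x.2.1 x.2.2)
    ⟨fun _ _ h => bm_injective c.two (congrArg Subtype.val h), fun ⟨k, hk⟩ => by
      obtain ⟨x, hx, hxR, hxk⟩ := c.cov hI nt k hk
      exact ⟨⟨x, hxR, hx⟩, Subtype.ext hxk⟩⟩

/-- **The elements of the vessel of `Y` are canonical involutions of `X / O(X)`.** -/
theorem can (S : Sett κ G) (hI : KI κ) (nt : NT2 κ G) (c : CI κ u v X Y R t t') {w : G}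
    (hw : w ∈ ZR R Y) (hw1 : w ≠ 1) (hwX : w ∈ X) : Can (QuotientGroup.mk ⟨w, hwX⟩ : Bar X) := by
  obtain ⟨hwR, hwY, hwf⟩ := mem_ZR.mp hw
  have hww := c.sq_ZR S.kl hw
  have hwB := c.V_le_B S hI nt hw
  have hwD : (QuotientGroup.mk ⟨w, hwX⟩ : Bar X) ∈ DZ t :=
    c.B_le_DZ S hI nt (mem_BBb.mpr ⟨w, hwR, hwX, hwf, rfl⟩)
  have hwc : (QuotientGroup.mk ⟨w, hwX⟩ : Bar X) ∉ center (Bar X) := fun h =>
    hw1 (c.faithful S hw ((mk_mem_center_iff hwX).mp h))
  have hn : NInv (QuotientGroup.mk ⟨w, hwX⟩ : Bar X) := by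
    refine ⟨?_, hwc⟩
    have h1 : (QuotientGroup.mk ⟨w, hwX⟩ : Bar X) * QuotientGroup.mk ⟨w, hwX⟩ =
        QuotientGroup.mk ⟨w * w, X.mul_mem hwX hwX⟩ := rfl
    rw [h1, Cfsg.Agent.Intrinsic.Quot.mk_eq_one_iff, hww]
    exact one_mem _
  refine ⟨hn, fun y hy => ?_⟩
  -- `C(w) = C(t)`
  have hCC : centralizer ({t} : Set (Bar X)) = centralizer ({(QuotientGroup.mk ⟨w, hwX⟩ : Bar X)} : Set (Bar X)) := by
    apply Subgroup.eq_of_le_of_card_ge
    · intro x hx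
      rw [mem_centralizer_singleton_iff]
      exact mem_centralizer_iff.mp hwD.2 x hx
    · rw [(hI c.hX.kind).card hn, (hI c.hX.kind).card c.tn]
  have hyT : y ∈ centralizer ({t} : Set (Bar X)) := by
    rw [hCC, mem_centralizer_singleton_iff, ← hy, mul_assoc]
  obtain ⟨e, he⟩ : ∃ e : ↥(R ⊓ X) ≃* ↥(centralizer ({t} : Set (Bar X))),
      ∀ (p : G) (hp : p ∈ R ⊓ X), ((e ⟨p, hp⟩ : ↥(centralizer ({t} : Set (Bar X)))) : Bar X) =
        QuotientGroup.mk ⟨p, hp.2⟩ := ⟨c.eP hI nt, fun _ _ => rfl⟩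
  have h1 := sq_eq_one_of_EE (hI c.hX.kind) (hI c.hY.kind) (S.kl.card c.hY.kind) c.tn c.tn'
    (c.fP.comp e.symm.toMonoidHom) ?_ ?_ ?_ ⟨y, hyT⟩ ?_
  · have h2 : y * y = 1 := h1
    rw [hy] at h2
    exact hwc (by rw [h2]; exact one_mem _)
  · rintro _ ⟨x, rfl⟩
    exact c.range_fP S hI nt ⟨_, rfl⟩
  · intro x hx
    obtain ⟨⟨p, hp⟩, rfl⟩ := e.surjective x
    have h2 : c.fP ⟨p, hp⟩ = 1 := by
      have h3 : c.fP (e.symm (e ⟨p, hp⟩)) = 1 := hx
      rwa [MulEquiv.symm_apply_apply] at h3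
    have h3 : Fixes p Y := (ra_eq_one_iff c.nY hp.1).mp h2
    rw [he p hp]
    exact c.B_le_DZ S hI nt (mem_BBb.mpr ⟨p, hp.1, hp.2, h3, rfl⟩)
  · have h2 : (c.fP.comp e.symm.toMonoidHom).ker = c.fP.ker.map e.toMonoidHom := by
      ext x
      rw [MonoidHom.mem_ker]
      constructor
      · intro h
        exact ⟨e.symm x, h, e.apply_symm_apply x⟩
      · rintro ⟨z, hz, rfl⟩
        change c.fP (e.symm (e z)) = 1
        rw [MulEquiv.symm_apply_apply]
        exact hz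
    rw [h2]
    have h3 : Nat.card ↥(c.fP.ker.map e.toMonoidHom) = Nat.card ↥(c.fP.ker) :=
      (Nat.card_congr (c.fP.ker.equivMapOfInjective e.toMonoidHom e.injective).toEquiv).symm
    rw [h3, c.ker_fP, c.card_B S hI nt]
  · have h2 : (⟨y, hyT⟩ : ↥(centralizer ({t} : Set (Bar X)))) * ⟨y, hyT⟩ = e ⟨w, hwR, hwX⟩ := by
      apply Subtype.ext
      rw [he w ⟨hwR, hwX⟩]
      exact hy
    rw [h2]
    change c.fP (e.symm (e ⟨w, hwR, hwX⟩)) = 1
    rw [MulEquiv.symm_apply_apply, fP_apply c hwR hwX, ra_eq_one_iff]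
    exact hwf

end CI

/-! ### (TYPE I) -/

section main

variable {κ : Kind.{u}} {G : Type u} [Group G] [Finite G] {u v : G} {X Y R : Subgroup G}

/-- **(TYPE I)** -/
theorem typeI (S : Sett κ G) (hI : KI κ) (nt : NT2 κ G) (hX : IsPair κ u X) (hY : IsPair κ v Y)
    (huv : u * v = v * u) (inv : IsInn v X) (nfv : ¬ Fixes v X) :
    (∃ h : v ∈ X, Can (QuotientGroup.mk ⟨v, h⟩ : Bar X)) ∧
    (∃ h : u ∈ Y, Can (QuotientGroup.mk ⟨u, h⟩ : Bar Y)) ∧ IsInn u Y ∧ ¬ Fixes u Y ∧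
    (∀ X₁, IsPair κ u X₁ → X₁ = X) ∧ ∀ Y₁, IsPair κ v Y₁ → Y₁ = Y := by
  obtain ⟨R, -, two, le, odd⟩ := exists_R (u := u) (v := v) (X := X) (Y := Y) (A := ⊥)
    IsPGroup.of_bot bot_le
  obtain ⟨t, t', c⟩ := exists_CI hI nt hX hY huv inv nfv two le odd
  have hv := c.v_mem S hI nt
  have hu := c.symm.v_mem S hI nt
  exact ⟨⟨hv, c.can S hI nt c.vZR hY.ne_one hv⟩, ⟨hu, c.symm.can S hI nt c.symm.vZR hX.ne_one hu⟩,
    ⟨c.nu, t', c.hut.symm⟩, c.nfu, fun _ h => c.unique S hI nt h, fun _ h => c.symm.unique S hI nt h⟩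

end main

end Cfsg.Agent.UGT.I34.Four
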