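import Cfsg.Agent.UGT.I34.FourTF
import Cfsg.Agent.UGT.I34.Zero

/-!
# THEOREM I34, part [C] (`Z = 2²`): every pair has a partner of type I

`T0 κ u X`: `(u, X)` is a pair such that all pairs `(v, Y)` with `v` commuting with `u` satisfy `Fixes v X`.

* `World.not_big`: the pump-ups of such pairs are small;
* `World.zero`: if there is such a pair then `Zero.World (T0 κ)`;
* `World.exists_typeI`: in a simple group every pair `(u, X)` has a partner `c ∈ X` of type I (by S1173).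
-/

set_option autoImplicit false

open Cfsg Subgroup
open Cfsg.Agent.SignalizersComponents Cfsg.Agent.Lib
open Cfsg.Agent.SignalizersComponents.IntrinsicBasic
open Cfsg.Agent.Intrinsic
open Cfsg.Agent.Intrinsic.Basic hiding IsPair PQS Target IsPair.sq IsPair.ne_one IsPair.cj exists_pumpup
open Cfsg.Agent.Intrinsic.Cen hiding pair_comm pair_mem_cen exists_pump pump_unique
open Cfsg.Agent.Intrinsic.Quot (Small qs mem_qs exists_qs_equiv)
open Cfsg.Agent.McLLyComp.Act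
open Cfsg.Agent.UGT.I34.Pair Cfsg.Agent.UGT.I34.KAut Cfsg.Agent.UGT.I34.FixLift
open Cfsg.Agent.UGT.I34.KF (NInv)
open scoped commutatorElement

namespace Cfsg.Agent.UGT.I34.Four

universe u

/-- `(u, X)` is a pair all of whose commuting pairs are of type (0) -/
def T0 (κ : Kind.{u}) {G : Type u} [Group G] (u : G) (X : Subgroup G) : Prop :=
  IsPair κ u X ∧ ∀ v Y, IsPair κ v Y → v * u = u * v → Fixes v X

section

variable {G : Type*} [Group G] [Finite G] {J M X : Subgroup G} {a u v : G}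

/-- an involution of `M = J O(M)` is conjugate under `O(M)` to an involution of `J` -/
theorem exists_inv_of_sup (hs : J ⊔ core M = M) (ha : a ∈ M) (haa : a * a = 1) :
    ∃ j ∈ J, j * j = 1 ∧ ∃ g ∈ core M, g * a * g⁻¹ = j := by
  have hJM : J ≤ M := by rw [← hs]; exact le_sup_left
  obtain ⟨j, hj, hja⟩ := exists_mul_of_sup hs ha
  have h1 : (QuotientGroup.mk ⟨j, hJM hj⟩ : ↥M ⧸ oddCore ↥M) = QuotientGroup.mk ⟨a, ha⟩ := by
    rw [mk_eq_iff]; exact hja
  have h2 : j ^ 2 ^ 1 ∈ core M := by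
    rw [← mk_eq_one_iff (pow_mem (hJM hj) _)]
    have : (QuotientGroup.mk ⟨j ^ 2 ^ 1, pow_mem (hJM hj) _⟩ : ↥M ⧸ oddCore ↥M) =
        QuotientGroup.mk ⟨j, hJM hj⟩ * QuotientGroup.mk ⟨j, hJM hj⟩ := by
      rw [← QuotientGroup.mk_mul]
      congr 1
      exact Subtype.ext (by
        change j ^ 2 ^ 1 = j * j
        rw [pow_one, pow_two])
    rw [this, h1, mk_sq_one ha haa]
  obtain ⟨k, hk1, hk2⟩ := Lifting.exists_two_part (odd_card_core M) h2
  have h3 : a⁻¹ * j ^ k ∈ core M := by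
    have : a⁻¹ * j ^ k = (j⁻¹ * a)⁻¹ * (j⁻¹ * j ^ k) := by group
    rw [this]
    exact mul_mem (inv_mem hja) hk2
  obtain ⟨g, hg, hg2⟩ := Lifting.exists_conj_eq (odd_card_core M) (n := 1) (m := 1)
    (by rw [pow_one, pow_two, haa]) hk1 (normalizer_le_normalizer_core M (le_normalizer ha)) h3
  exact ⟨j ^ k, pow_mem hj _, by rw [← pow_two, ← hk1, pow_one], g, hg, hg2⟩

/-- elements of `J` fix `J O(M)` if and only if they fix `J O(X)` -/
theorem fixes_iff_of_two (hsM : J ⊔ core M = M) (hsX : J ⊔ core X = X) (ha : a ∈ J) :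
    Fixes a M ↔ Fixes a X := by
  have hJM : J ≤ M := by rw [← hsM]; exact le_sup_left
  have hJX : J ≤ X := by rw [← hsX]; exact le_sup_left
  rw [← fixes_iff_of_sup hsM (le_normalizer ha) (le_normalizer (hJM ha)),
    fixes_iff_of_sup hsX (le_normalizer ha) (le_normalizer (hJX ha))]

omit [Finite G] in
theorem fixes_conj_iff {g : G} (hg : g ∈ M) : Fixes (g * a * g⁻¹) M ↔ Fixes a M := by
  constructor
  · intro h
    have h1 := h.cj g⁻¹
    rw [cj_eq_self_of_mem (inv_mem hg)] at h1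
    have : g⁻¹ * (g * a * g⁻¹) * g⁻¹⁻¹ = a := by group
    rwa [this] at h1
  · intro h
    have h1 := h.cj g
    rwa [cj_eq_self_of_mem hg] at h1

end

namespace World

variable {κ : Kind.{u}} {G : Type u} [Group G] [Finite G] {u v x a : G} {X Y M : Subgroup G}
variable (W : World κ G)
include W

/-- the pump-ups of the pairs in `T0` are small -/
theorem small_of_T0 (h : T0 κ u X) (hxx : x * x = 1) (hx1 : x ≠ 1) (hxu : x * u = u * x)
    (hf : Fixes x X) (hM : IsComp (centralizer ({x} : Set G)) M) (hle : cen X x ≤ M) :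
    Small (cen X x) M := by
  obtain ⟨hu, h0⟩ := h
  have hxC : x ∈ centralizer ({u} : Set G) := mem_centralizer_singleton_iff.mpr hxu
  obtain ⟨hJ, hs⟩ := isComp_cen hu.comp hxC hxx hf
  have hJ' : IsComp (centralizer ({x} : Set G) ⊓ centralizer ({u} : Set G)) (cen X x) := by
    rw [inf_comm]; exact hJ
  have hk := (kind_cen (κ := κ) hu.comp hxC hxx hf).mpr hu.kind
  have huJ := pair_mem_cen hu hxu
  rcases W.sett.small_or_big hxx hx1 hu.inv huJ hJ' hk hM hle with h1 | h1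
  · exact h1
  exfalso
  obtain ⟨huM, hT, hp⟩ := Sett.big_pair h1 hu.inv huJ hJ' hk hM hle
  obtain ⟨t, ht⟩ := W.sett.kl.exCan hp.kind
  obtain ⟨⟨t1, ht1⟩, rfl⟩ := QuotientGroup.mk_surjective t
  obtain ⟨g, hg, -⟩ := W.sett.he.can hT hp t1 ht1 ht
  obtain ⟨⟨m, hm⟩, rfl⟩ := QuotientGroup.mk_surjective t1
  obtain ⟨j0, hj0, hj0m⟩ := (mem_qs hm).mp ht1
  have hj0M : j0 ∈ M := hj0.2
  have hmk0 : (QuotientGroup.mk ⟨j0, hj0M⟩ : ↥M ⧸ oddCore ↥M) = QuotientGroup.mk ⟨m, hm⟩ :=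
    (mk_eq_iff hj0M hm).mpr hj0m
  -- an involution of `J`
  have h2 : j0 ^ 2 ^ 1 ∈ core M := by
    rw [← mk_eq_one_iff (pow_mem hj0M _)]
    have : (QuotientGroup.mk ⟨j0 ^ 2 ^ 1, pow_mem hj0M _⟩ : ↥M ⧸ oddCore ↥M) =
        QuotientGroup.mk ⟨j0, hj0M⟩ * QuotientGroup.mk ⟨j0, hj0M⟩ := by
      rw [← QuotientGroup.mk_mul]
      congr 1
      exact Subtype.ext (by
        change j0 ^ 2 ^ 1 = j0 * j0
        rw [pow_one, pow_two])
    rw [this, hmk0, ← hg]
    have h3 := mk_sq_one huM hu.sq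
    calc g * (QuotientGroup.mk ⟨u, huM⟩ : ↥M ⧸ oddCore ↥M) * g⁻¹ *
        (g * QuotientGroup.mk ⟨u, huM⟩ * g⁻¹) =
        g * (QuotientGroup.mk ⟨u, huM⟩ * QuotientGroup.mk ⟨u, huM⟩) * g⁻¹ := by group
      _ = 1 := by rw [h3]; group
  obtain ⟨k, hk1, hk2⟩ := Lifting.exists_two_part (odd_card_core M) h2
  obtain ⟨j, hj⟩ : ∃ j, j = j0 ^ k := ⟨_, rfl⟩
  have hjJ : j ∈ cen X x := hj ▸ pow_mem hj0.1 _
  have hjM : j ∈ M := hle hjJ
  rw [← hj] at hk1 hk2
  have hmk : (QuotientGroup.mk ⟨j, hjM⟩ : ↥M ⧸ oddCore ↥M) = QuotientGroup.mk ⟨m, hm⟩ := by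
    rw [← hmk0, eq_comm, mk_eq_iff]
    exact hk2
  -- conjugate to `u`
  obtain ⟨⟨g0, hg0⟩, rfl⟩ := QuotientGroup.mk_surjective g
  rw [← hmk] at hg
  have h3 : (g0 * u * g0⁻¹)⁻¹ * j ∈ core M := (mk_eq_iff (conj_mem (le_normalizer hg0) huM) hjM).mp hg
  obtain ⟨o, ho1, ho2⟩ := Lifting.exists_conj_eq (odd_card_core M) (n := 1) (m := 1)
    (by
      rw [pow_one, pow_two]
      calc g0 * u * g0⁻¹ * (g0 * u * g0⁻¹) = g0 * (u * u) * g0⁻¹ := by group
        _ = 1 := by rw [hu.sq]; group)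
    hk1
    (normalizer_le_normalizer_core M (mul_mem (mul_mem (le_normalizer hg0) (le_normalizer huM))
      (inv_mem (le_normalizer hg0)))) h3
  have hjc : (o * g0) * u * (o * g0)⁻¹ = j := by rw [← ho2]; group
  have hjp := pair_conj hu hjc
  have hjX : j ∈ X := cen_le X x hjJ
  have hjf := h0 j _ hjp (pair_comm hu hjX)
  have hjJf : Fixes j (cen X x) :=
    (fixes_iff_of_sup hs (le_normalizer hjJ) (le_normalizer hjX)).mpr hjf
  -- contradiction
  obtain ⟨e, he⟩ := exists_qs_equiv hle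
  have h4 := (mk_mem_center_iff hjJ).mpr hjJf
  have h5 : e (QuotientGroup.mk ⟨j, hjJ⟩) ∈ center (↥(qs M (cen X x)) ⧸ oddCore ↥(qs M (cen X x))) := by
    rw [mem_center_iff] at h4 ⊢
    intro y
    obtain ⟨y, rfl⟩ := e.surjective y
    rw [← map_mul, ← map_mul, h4 y]
  rw [he j hjJ] at h5
  have h6 : (⟨QuotientGroup.mk ⟨j, hle hjJ⟩, (mem_qs (hle hjJ)).mpr ⟨j, ⟨hjJ, hle hjJ⟩, by simp⟩⟩ :
      ↥(qs M (cen X x))) = ⟨QuotientGroup.mk ⟨m, hm⟩, ht1⟩ := Subtype.ext hmk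
  rw [h6] at h5
  exact ht.1.2 h5

/-- the small pump-up at `x ∈ M` -/
theorem T0_of_mem (h : T0 κ u X) (hxx : x * x = 1) (hx1 : x ≠ 1) (hxu : x * u = u * x)
    (hf : Fixes x X) (hM : IsComp (centralizer ({x} : Set G)) M) (hle : cen X x ≤ M)
    (hxM : x ∈ M) : T0 κ x M := by
  have hsm := W.small_of_T0 h hxx hx1 hxu hf hM hle
  obtain ⟨hu, h0⟩ := h
  have hxC : x ∈ centralizer ({u} : Set G) := mem_centralizer_singleton_iff.mpr hxu
  obtain ⟨hJ, hs⟩ := isComp_cen hu.comp hxC hxx hf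
  have hk := (kind_cen (κ := κ) hu.comp hxC hxx hf).mpr hu.kind
  have hx : IsPair κ x M := IsPair.of_small (Four.order_two hxx hx1) hsm hk hM hxM
  refine ⟨hx, fun v Y hv hvx => ?_⟩
  by_contra hnf
  obtain ⟨c, hc, ⟨Z, hZ⟩, hcan⟩ := W.exists_partner hx hv hvx.symm hnf
  obtain ⟨j, hj, hjj, g, hg, hgj⟩ := exists_inv_of_sup hsm hc hZ.sq
  have hjX : j ∈ X := cen_le X x hj
  have hjf := h0 j _ (pair_conj hZ hgj) (pair_comm hu hjX)
  have hjM : Fixes j M := (fixes_iff_of_two hsm hs hj).mpr hjf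
  rw [← hgj, fixes_conj_iff (core_le M hg)] at hjM
  exact hcan.1.2 ((mk_mem_center_iff hc).mpr hjM)

/-- **World `W0`** for `T0 κ` -/
theorem zero (h : ∃ u X, T0 κ (G := G) u X) : Zero.World (T0 κ (G := G)) where
  ex := h
  inv u X h := h.1.sq
  ne u X h := h.1.ne_one
  mem u X h := h.1.mem
  comp u X h := h.1.comp
  conj u X g h := by
    refine ⟨h.1.cj g, fun v Y hv hvu => ?_⟩
    have h1 := h.2 (g⁻¹ * v * g⁻¹⁻¹) _ (hv.cj g⁻¹) (by
      calc g⁻¹ * v * g⁻¹⁻¹ * u = g⁻¹ * (v * (g * u * g⁻¹)) * g := by group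
        _ = g⁻¹ * ((g * u * g⁻¹) * v) * g := by rw [hvu]
        _ = u * (g⁻¹ * v * g⁻¹⁻¹) := by group)
    have h2 := h1.cj g
    have : g * (g⁻¹ * v * g⁻¹⁻¹) * g⁻¹ = v := by group
    rwa [this] at h2
  type0 u X v Y h h' hc := h.2 v Y h'.1 hc
  pump u X x h hxx hx1 hxu hf := by
    obtain ⟨M, hM, hle, huM⟩ := exists_pump h.1 hxx hxu hf
    have hsm := W.small_of_T0 h hxx hx1 hxu hf hM hle
    have hxC : x ∈ centralizer ({u} : Set G) := mem_centralizer_singleton_iff.mpr hxu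
    obtain ⟨hJ, hs⟩ := isComp_cen h.1.comp hxC hxx hf
    refine ⟨M, hM, hle, huM, hsm.fixes (pair_mem_cen h.1 hxu) fun y hy =>
      mem_centralizer_singleton_iff.mpr (pair_comm h.1 (cen_le X x hy)),
      fun hxM => W.T0_of_mem h hxx hx1 hxu hf hM hle hxM, fun a ha haa ha1 haf => ?_⟩
    obtain ⟨j, hj, hjj, g, hg, hgj⟩ := exists_inv_of_sup hsm ha haa
    have hj1 : j ≠ 1 := by
      rintro rfl
      apply ha1
      have : a = g⁻¹ * (g * a * g⁻¹) * g := by group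
      rw [this, hgj]; group
    have hjM : Fixes j M := by rw [← hgj, fixes_conj_iff (core_le M hg)]; exact haf
    have hjX : j ∈ X := cen_le X x hj
    have hjf : Fixes j X := (fixes_iff_of_two hsm hs hj).mp hjM
    have hju : j * u = u * j := pair_comm h.1 hjX
    obtain ⟨N, hN, hleN, -⟩ := exists_pump h.1 hjj hju hjf
    have hjN : j ∈ N := hleN (mem_cen_of_sq hjX rfl hjj)
    have h1 := W.T0_of_mem h hjj hj1 hju hjf hN hleN hjN
    have h2 : g⁻¹ * j * g⁻¹⁻¹ = a := by rw [← hgj]; group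
    -- conjugation back
    refine ⟨cj g⁻¹ N, h2 ▸ h1.1.cj g⁻¹, fun v Y hv hva => ?_⟩
    have h3 := h1.2 (g * v * g⁻¹) _ (hv.cj g) (by
      rw [← hgj]
      calc g * v * g⁻¹ * (g * a * g⁻¹) = g * (v * a) * g⁻¹ := by group
        _ = g * (a * v) * g⁻¹ := by rw [hva]
        _ = g * a * g⁻¹ * (g * v * g⁻¹) := by group)
    have h4 := h3.cj g⁻¹
    have : g⁻¹ * (g * v * g⁻¹) * g⁻¹⁻¹ = v := by group
    rwa [this] at h4

/-- **every pair has a partner of type I** (`h1173` = statement S1173 for `G`) -/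
theorem exists_typeI [IsSimpleGroup G]
    (h1173 : ∀ (S : Sylow 2 G) (T : Subgroup G), IsStronglyClosed T (S : Subgroup G) →
      ((⨅ n : ℕ, derivedSeries ↥(centralizer (T : Set G)) n).map
        (centralizer (T : Set G)).subtype).Normal) (hu : IsPair κ u X) :
    ∃ c, ∃ hc : c ∈ X, (∃ Y, IsPair κ c Y) ∧
      Can (QuotientGroup.mk ⟨c, hc⟩ : ↥X ⧸ oddCore ↥X) := by
  by_contra hno
  refine (W.zero ⟨u, X, hu, fun v Y hv hvu => ?_⟩).false_of h1173
  by_contra hnf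
  exact hno (W.exists_partner hu hv hvu.symm hnf)

end World

end Cfsg.Agent.UGT.I34.Four
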