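import Cfsg.Agent.UGT.I34.HeRec
import Cfsg.Agent.UGT.I34.HeP.Base
import Cfsg.Agent.KFacts.He.InvolAut

/-!
# The record `HeX` (helper728)

`heX` : (HE1) of helper579 (`KFacts/He/InvolAut.lean`) and (HE2) of `KFacts/He/RecGraph.lean` in the form of
`UGT/I34/HeP/Base.lean`.
-/

set_option autoImplicit false

open Cfsg Subgroup
open Cfsg.Agent.UGT.I34.Pair Cfsg.Agent.UGT.I34.HeRec

namespace Cfsg.Agent.UGT.I34.HeRecX

universe u

/-- **The record `HeX`.** -/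
theorem heX {κ : Kind.{u}} (hκ : HeKind κ) : HeP.HeX κ where
  fix := fun {Y _ _ z L'} hT hp φ hφ => by
    obtain ⟨e, rfl, -⟩ := exists_pair_iso hκ hT hp
    obtain ⟨g, hg⟩ := Cfsg.Agent.KFacts.He.InvolAut.fix_of_iso e.symm φ
      (fun x => by rw [← MulAut.mul_apply, hφ]; rfl)
    refine ⟨e g, ?_⟩
    have h1 : e g * e (Cfsg.Agent.KFacts.He.Lv.gn .a) * (e g)⁻¹ =
        e.symm.symm (g * PresentedGroup.of Cfsg.Spor.He.Gen.a * g⁻¹) := by
      rw [← map_mul, ← map_inv, ← map_mul]; rfl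
    rw [h1]
    exact hg
  conn := fun {Y _ _ z L'} hT hp S hz h => conn hκ hT hp S hz h

end Cfsg.Agent.UGT.I34.HeRecX
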