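import Cfsg.Agent.UGT.I34.FourPar
import Cfsg.Agent.UGT.I34.FourKF
import Cfsg.Agent.UGT.Cov.KleinX

/-!
# THEOREM I34, part [C]: the record `FourPar.XFacts` for `2².L₃(4)`
-/

set_option autoImplicit false
set_option linter.constructorNameAsVariable false
set_option linter.unusedVariables false

namespace Cfsg.Agent.UGT.I34.KXOf

open Cfsg Subgroup
open Cfsg.Agent.Lib
open Cfsg.Agent.UGT.I34.Pair Cfsg.Agent.UGT.I34.KAut
open Cfsg.Agent.UGT.I34.Four (Can)
open Cfsg.Agent.UGT.I34.FourPar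
open Cfsg.Agent.SporadicA.FieldFour
open Cfsg.Agent.UGT.Cov.Klein hiding Can NInv
open Cfsg.Agent.UGT.Cov.Klein.Dat

universe u

variable {K : Type*} [Group K]

/-- an involutory automorphism of type `c` in coordinates -/
theorem isC_pure [Finite K] (A : Dat K) {φ : MulAut K} (h : IsC φ) : ∃ B : Dat K, B.IsTau (true, true, 0) φ := by
  obtain ⟨B, e, f, hef, ht⟩ := A.exists_pure h.sq (fun k hk => h.out ⟨k, hk.symm⟩)
  have hmv : ∀ hh : FGt e f, False := by
    intro hh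
    obtain ⟨z, hz, hz2⟩ := FourKF.center_move hh ht
    exact hz2 (h.center z hz)
  cases e <;> cases f
  · exact absurd rfl hef
  · exact absurd (Or.inr ⟨rfl, rfl⟩) hmv
  · exact absurd (Or.inl ⟨rfl, rfl⟩) hmv
  · exact ⟨B, ht⟩

theorem odd_c [Finite K] (A : Dat K) {φ : MulAut K} (h : IsC φ) : φ ∉ LamK K := by
  obtain ⟨B, hB⟩ := isC_pure A h
  rw [hB.mem_LamK]
  decide

theorem ex_c [Finite K] (A : Dat K) {φ : MulAut K} (h : IsC φ) : ∃ b, Can b ∧ φ b = b := by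
  obtain ⟨B, hB⟩ := isC_pure A h
  refine ⟨B.t, B.t_can, ?_⟩
  rw [B.t_eq]
  exact (hB.fix _).mpr (by decide)

theorem uniq_c' [Finite K] (A : Dat K) {φ : MulAut K} (h : IsC φ) {a b : K} (ha : Can a) (hb : Can b)
    (hfa : φ a = a) (hfb : φ b = b) (hab : a * b = b * a) : a = b := by
  obtain ⟨B, hB⟩ := isC_pure A h
  exact uniq_c hB ha hb hfa hfb hab

/-- the record `XFacts` -/
theorem xfacts {κ : Kind.{u}} (hκ : ∀ {K : Type u} [Group K] [Finite K], κ.P K → Nonempty (Dat K)) :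
    XFacts κ (fun K _ => (LamK K : Set (MulAut K))) where
  map e φ := LamK_congr e φ
  mul hK φ ψ := by
    obtain ⟨A⟩ := hκ hK
    exact LamK_mul A φ ψ
  unb hK φ h2 h1 Δ hodd hne hc hn := by
    obtain ⟨A⟩ := hκ hK
    obtain ⟨h3, h4⟩ := A.unb h2 Δ hodd hne hc hn
    exact ⟨h2, h3, h4⟩
  odd hK φ h := by
    obtain ⟨A⟩ := hκ hK
    exact odd_c A h
  four hK φ hφ h2 a b ha hb hab hcom hfa hfb := by
    obtain ⟨A⟩ := hκ hK
    exact A.four_fix hφ h2 ha hb hab hcom hfa hfb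

end Cfsg.Agent.UGT.I34.KXOf
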