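import Cfsg.Agent.UGT.I34.FourNZOf
import Cfsg.Agent.UGT.I34.FourZero
import Cfsg.Agent.UGT.I34.FourKind
import Cfsg.Agent.UGT.I34.Main
import Cfsg.Agent.UGT.I34.HeRecX
import Cfsg.Agent.UGT.I34.KXOf
import Cfsg.Agent.UGT.L34.Supply
import Cfsg.Agent.KFacts.MulSpor.He
import Cfsg.Agent.S1173

/-!
# THEOREM I34, part [C] (`Z = 2²`): the assembly

* `sett_of`, `smaller_of`, `kleinKind`, `world_of`, `exP`: the common part for the kind `four`;
* `W1A`: no pair of type (0) outside a vessel; `nz_of`: the record `FourPar.NZ`;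
* `goodT`: the exceptional group; `xCase`, `tripleCase`.
-/

set_option autoImplicit false

open Cfsg Subgroup
open Cfsg.Agent.SignalizersComponents Cfsg.Agent.Lib
open Cfsg.Agent.SignalizersComponents.IntrinsicBasic
open Cfsg.Agent.Intrinsic.Basic hiding IsPair PQS Target IsPair.sq IsPair.ne_one IsPair.cj
open Cfsg.Agent.McLLyComp.Act
open Cfsg.Agent.UGT.I34.Pair Cfsg.Agent.UGT.I34.KAut Cfsg.Agent.UGT.I34.Cov Cfsg.Agent.UGT.I34.Red
open Cfsg.Agent.UGT.I34.Four Cfsg.Agent.UGT.I34.FourKind
open Cfsg.Agent.UGT.Iface (Bar)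
open Cfsg.Agent.UGT.Triple
open scoped commutatorElement

namespace Cfsg.Agent.UGT.I34.FourMain

universe u

/-- the kind `2.L₃(4)` -/
abbrev two : Kind.{u} := kind' 2 2 noT

/-- the facts on `K = 2².L₃(4)` -/
theorem kleinKind {K : Type u} [Group K] [Finite K] (h : IsCv 4 4 K) : Cov.Klein.KleinKind K where
  perf := h.qs.1.commutator_eq_top
  card := h.card
  sq := by
    intro z hz
    by_contra hcon
    have h1 : Nat.card {z : ↥(center K) // z * z = 1} < Nat.card ↥(center K) :=
      Finite.card_subtype_lt (x := (⟨z, hz⟩ : ↥(center K))) (fun h => hcon (congrArg Subtype.val h))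
    rw [h.card, h.om] at h1
    omega
  psl := LSup.exists_equiv h.l34

section

variable {G : Type u} [Group G] [Finite G]

/-- involutions are not central in a simple group with a pair -/
theorem cent_ne {κ : Kind.{u}} [hs : IsSimpleGroup G] {z : G} {L : Subgroup G} (hp : IsPair κ z L) (x : G)
    (hx : orderOf x = 2) : centralizer ({x} : Set G) ≠ ⊤ := by
  intro h
  have hxc : x ∈ center G := by
    rw [mem_center_iff]
    intro g
    exact mem_centralizer_singleton_iff.mp (h ▸ mem_top g)
  rcases hs.eq_bot_or_eq_top_of_normal (center G) inferInstance with h1 | h1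
  · rw [h1, mem_bot] at hxc
    rw [hxc] at hx
    simp at hx
  · apply hp.ne_one
    have h2 : ⁅L, L⁆ = ⊥ := by
      rw [eq_bot_iff, commutator_le]
      intro a _ b _
      rw [mem_bot, commutatorElement_eq_one_iff_mul_comm]
      have : b ∈ center G := h1 ▸ mem_top b
      exact mem_center_iff.mp this a
    have h3 := hp.mem
    rw [← hp.comp.perfect, h2, mem_bot] at h3
    exact h3

theorem oddCore_bot {κ : Kind.{u}} [hs : IsSimpleGroup G] {z : G} {L : Subgroup G} (hp : IsPair κ z L) :
    oddCore G = ⊥ := by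
  have hn : (oddCore G).Normal := Lib.Cores.pPrimeCore_normal 2
  rcases hs.eq_bot_or_eq_top_of_normal _ hn with h1 | h1
  · exact h1
  · exfalso
    have h2 : z ∈ oddCore G := by rw [h1]; exact mem_top _
    have h3 := IntrinsicBasic.eq_one_of_mem_odd
      (Nat.coprime_two_right.mp (Lib.Cores.pPrimeCore_coprime 2)) h2 (n := 1) (by
        rw [pow_one, ← hp.inv, pow_orderOf_eq_one])
    exact hp.ne_one h3

theorem sett_of {κ : Kind.{u}} [IsSimpleGroup G] (hT : HeT κ) (hk : Klein κ) (hP : PQS κ (Nat.card G))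
    {z : G} {L : Subgroup G} (hp : IsPair κ z L) : Sett κ G where
  ih := hP
  cent := cent_ne hp
  he := hT
  kl := hk

end

/-- the proper central quotients of `2².L₃(4)` -/
theorem quot_four {K B : Type u} [Group K] [Finite K] [Group B] [Finite B] (hK : four.P K) (f : K →* B)
    (hf : Function.Surjective f) (hle : f.ker ≤ center K) (hne : f.ker ≠ center K) :
    four.P B ∨ two.P B := by
  have hK' := four_iff.mp hK
  let e : K ⧸ f.ker ≃* B := QuotientGroup.quotientKerEquivOfSurjective f hf
  have h1 : Nat.card f.ker ∣ 4 := by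
    rw [← hK'.card]
    exact card_dvd_of_le hle
  have h2 : Nat.card f.ker ≠ 4 := by
    intro h
    apply hne
    exact Subgroup.eq_of_le_of_card_ge hle (by rw [hK'.card, h])
  have h3 : Nat.card f.ker = 1 ∨ Nat.card f.ker = 2 := by
    have h5 := Nat.le_of_dvd (by norm_num) h1
    interval_cases h6 : Nat.card f.ker <;> omega
  rcases h3 with h3 | h3
  · left
    have h4 : f.ker = ⊥ := Subgroup.card_eq_one.mp h3
    have h5 : Function.Injective f := (MonoidHom.ker_eq_bot_iff f).mp h4
    exact four_iff.mpr (hK'.congr (MulEquiv.ofBijective f ⟨h5, hf⟩))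
  · right
    obtain ⟨m', h4, h5, -⟩ := hK'.quot f.ker hle h3 (isPGroup_center (k := 2) hK' rfl) (by norm_num)
    have h6 := h5 rfl
    subst h6
    exact ⟨h4.congr e, trivial⟩

theorem smaller_of (h2 : SimpleCase.{u} (kind' 2 2 noT)) (G : Type u) [Group G] : Smaller four two G where
  ih₂ := (good_of h2 subKinds_cyclic fun _ _ _ _ h => h.elim).all _
  one₂ := fun _ _ _ _ _ _ h _ _ => h.elim
  quot := fun hK f hf hle hne => quot_four hK f hf hle hne

section

variable {G : Type u} [Group G] [Finite G]

theorem heKind : HeRec.HeKind four.{u} := HeRec.heKind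

theorem world_of [IsSimpleGroup G] (h2 : SimpleCase.{u} (kind' 2 2 noT))
    (hP : PQS four.{u} (Nat.card G)) {z : G} {L : Subgroup G} (hp : IsPair four z L) :
    Four.World four.{u} G :=
  world (sett_of (HeRec.heT heKind) (KleinOf.klein four fun hK => kleinKind (four_iff.mp hK)) hP hp)
    (smaller_of h2 G) fun hK => kleinKind (four_iff.mp hK)

theorem exP [IsSimpleGroup G] (W : Four.World four.{u} G) : ExP four G :=
  exP_of fun hu => W.exists_typeI (fun S T h => Cfsg.Agent.S1173.result (oddCore_bot hu) S T h) hu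

end

/-- there is no pair of type (0) outside a vessel -/
def W1A : Prop := ∀ (G : Type u) [Group G] [Finite G] [IsSimpleGroup G], Four.World four.{u} G →
  ExP four.{u} G → ∀ {u v : G} {X Y : Subgroup G}, IsPair four u X → IsPair four v Y → u * v = v * u →
    Fixes v X → v ∈ X

section

variable {G : Type u} [Group G] [Finite G]

theorem nz_of [IsSimpleGroup G] (hW : W1A.{u}) (W : Four.World four.{u} G) : FourPar.NZ four.{u} G :=
  nzOf W (fun hK => kleinKind (four_iff.mp hK)) (exP W) (hW G W (exP W))

theorem noSign [hs : IsSimpleGroup G] {κ : Kind.{u}} {z : G} {L : Subgroup G} (hp : IsPair κ z L) :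
    Parity.NoSign G := by
  apply Parity.noSign_of_perfect
  rcases hs.eq_bot_or_eq_top_of_normal (commutator G) inferInstance with h1 | h1
  · exfalso
    apply hp.ne_one
    have h3 := hp.mem
    rw [← hp.comp.perfect] at h3
    have h4 : ⁅L, L⁆ ≤ commutator G := by
      rw [commutator_def]
      exact commutator_mono le_top le_top
    have h5 := h4 h3
    rwa [h1, mem_bot] at h5
  · exact h1

end

/-- **no triple `(x, c, M)` of kind `2²` with `x` in a simple group** -/
theorem false_of_triple (h2 : SimpleCase.{u} (kind' 2 2 noT)) (hW : W1A.{u}) {G : Type u} [Group G] [Finite G]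
    [IsSimpleGroup G] (hP : PQS four.{u} (Nat.card G)) {x c : G} {M : Subgroup G} (T : IsTriple x c M)
    (hp : IsPair four c M) : False :=
  FourPar.false_of_triple (KXOf.xfacts fun hK => (kleinKind (four_iff.mp hK)).dat)
    (nz_of hW (world_of h2 hP hp)) (noSign hp) T hp

theorem tripleCase (h2 : SimpleCase.{u} (kind' 2 2 noT)) (hW : W1A.{u}) : TripleCase four.{u} :=
  fun _ _ _ _ hP _ _ _ T hc hk => false_of_triple h2 hW hP T ⟨T.inva, hc, T.comp, hk⟩

theorem xCase (h2 : SimpleCase.{u} (kind' 2 2 noT)) (hW : W1A.{u}) : Main.XCase four.{u} :=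
  fun _ _ _ _ _ hP _ _ _ T hp => false_of_triple h2 hW hP T hp

/-- the exceptional group is the Held group -/
theorem goodT : Main.GoodT.{u} T22 where
  nodbl _ _ _ _ h := KFacts.MulSpor.He.noDouble_isoHe h
  ex _ _ _ _ _ _ h := Or.inl (Or.inr (Or.inr (Or.inr h)))

end Cfsg.Agent.UGT.I34.FourMain
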