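import Cfsg.Agent.UGT.I34.FourOut
import Cfsg.Agent.UGT.I34.FourTF
import Cfsg.Agent.UGT.I34.FourPar

/-!
# THEOREM I34, part [C] (`Z = 2²`): the record `FourPar.NZ` from the output of section 3

* `can_conj_of`: all canonical involutions of `2².L₃(4)` are conjugate;
* `nzOf`: every pair has a partner which does not centralize it and the pairs of type (0) are in vessels: `FourPar.NZ`.
-/

set_option autoImplicit false

open Cfsg Subgroup
open Cfsg.Agent.SignalizersComponents Cfsg.Agent.Lib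
open Cfsg.Agent.SignalizersComponents.IntrinsicBasic
open Cfsg.Agent.Intrinsic.Basic hiding IsPair PQS Target IsPair.sq IsPair.ne_one IsPair.cj
open Cfsg.Agent.McLLyComp.Act
open Cfsg.Agent.UGT.I34.Pair Cfsg.Agent.UGT.I34.KAut
open scoped commutatorElement

namespace Cfsg.Agent.UGT.I34.Four

universe u

variable {κ : Kind.{u}} {G : Type u} [Group G] [Finite G]

/-- the canonical involutions are conjugate -/
theorem can_conj_of {K : Type*} [Group K] (h : Nonempty (Cov.Klein.Dat K)) {s t : K} (hs : Can s)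
    (ht : Can t) : ∃ g, g * s * g⁻¹ = t := by
  obtain ⟨A⟩ := h
  have h1 := A.can_t (s := s) hs
  have h2 := A.can_t (s := t) ht
  have h3 := h1.trans' h2.symm'
  obtain ⟨g, hg⟩ := h3
  exact ⟨g, hg⟩

/-- every pair has a partner which does not centralize it -/
def ExP (κ : Kind.{u}) (G : Type u) [Group G] : Prop :=
  ∀ {u : G} {X : Subgroup G}, IsPair κ u X → ∃ v Y, IsPair κ v Y ∧ u * v = v * u ∧ ¬ Fixes v X

/-- `ExP` from a canonical involution of a pair in every pair -/
theorem exP_of (h : ∀ {u : G} {X : Subgroup G}, IsPair κ u X → ∃ c, ∃ hc : c ∈ X, (∃ Y, IsPair κ c Y) ∧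
    Can (QuotientGroup.mk ⟨c, hc⟩ : ↥X ⧸ oddCore ↥X)) : ExP κ G := by
  intro u X hu
  obtain ⟨c, hc, ⟨Y, hY⟩, hcan⟩ := h hu
  exact ⟨c, Y, hY, (pair_comm hu hc).symm, fun hf => hcan.1.2 ((mk_mem_center_iff hc).mpr hf)⟩

/-- **`FourPar.NZ`** -/
theorem nzOf (W : World κ G) (hκ : ∀ {K : Type u} [Group K] [Finite K], κ.P K → Cov.Klein.KleinKind K)
    (hp : ExP κ G)
    (ves : ∀ {u v : G} {X Y : Subgroup G}, IsPair κ u X → IsPair κ v Y → u * v = v * u → Fixes v X →
      v ∈ X) : FourPar.NZ κ G where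
  sett := W.sett
  one {u X X'} h h' := by
    obtain ⟨v, Y, hv, huv, hnf⟩ := hp h
    exact W.one_of h hv huv hnf X' h'
  canP {u X} h t ht htt hcan := by
    obtain ⟨v, Y, hv, huv, hnf⟩ := hp h
    obtain ⟨Z, hZ, ⟨h1, -⟩, -⟩ := W.canP h (fun s t hs ht => can_conj_of (hκ h.kind).dat hs ht) hv huv
      hnf ht htt hcan
    exact ⟨Z, hZ, h1⟩
  tri {u v X Y} h h' huv := by
    rcases W.tri h h' huv with h1 | h1 | ⟨ho, J, hJ⟩
    · exact Or.inl h1
    · exact Or.inr (Or.inl h1)
    · exact Or.inr (Or.inr ⟨ho.1, hJ.center⟩)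
  ves := ves

end Cfsg.Agent.UGT.I34.Four
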