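import Cfsg.Agent.UGT.I34.FourI
import Cfsg.Agent.UGT.I34.FourGF
import Cfsg.Agent.UGT.I34.FourGTwo
import Cfsg.Agent.UGT.I34.FourKF
import Cfsg.Agent.UGT.I34.KIOf

/-!
# THEOREM I34, part [C] (`Z = 2²`): the output of section 3

* `Smaller κ κ₂ G`: the input from the kind `κ₂` (`2.L₃(4)`);
* `nt2`: no type (2); `world`: the record `FourC.World`.
-/

set_option autoImplicit false

open Cfsg Subgroup
open Cfsg.Agent.SignalizersComponents Cfsg.Agent.Lib
open Cfsg.Agent.SignalizersComponents.IntrinsicBasic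
open Cfsg.Agent.Intrinsic
open Cfsg.Agent.Intrinsic.Basic hiding IsPair PQS Target IsPair.sq IsPair.ne_one IsPair.cj
open Cfsg.Agent.UGT.I34.Pair Cfsg.Agent.UGT.I34.KAut
open scoped commutatorElement

namespace Cfsg.Agent.UGT.I34.Four

universe u

/-- the input from the kind of the proper central quotients -/
structure Smaller (κ κ₂ : Kind.{u}) (G : Type u) [Group G] : Prop where
  ih₂ : PQS κ₂ (Nat.card G)
  one₂ : FourG.OneC κ₂
  quot : ∀ {K B : Type u} [Group K] [Finite K] [Group B] [Finite B], κ.P K → ∀ f : K →* B,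
    Function.Surjective f → f.ker ≤ center K → f.ker ≠ center K → κ.P B ∨ κ₂.P B

variable {κ κ₂ : Kind.{u}} {G : Type u} [Group G] [Finite G]

theorem ghyp (S : Sett κ G) (q : Smaller κ κ₂ G) : FourG.GHyp κ κ₂ G where
  ih := S.ih
  ih₂ := q.ih₂
  one _ _ _ _ _ _ h hp hc := S.he.one h hp hc
  one₂ := q.one₂
  cent := S.cent
  typeF _ _ _ _ hX hY _ huv hm := typeF S hX hY huv hm
  quot := q.quot

theorem tcent (h : HeT κ) : FourG.TCent κ where
  core _ _ _ _ _ h1 h2 := h.core h1 h2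
  cent _ _ _ _ _ h1 h2 := h.cent h1 h2

/-- no type (2) -/
theorem nt2 (S : Sett κ G) (q : Smaller κ κ₂ G) (hC : FourG.KCount κ) : NT2 κ G :=
  fun hX hY huv => FourG.no_type_two (ghyp S q) (tcent S.he) hC hX hY huv

/-- **the output of section 3** -/
theorem world (S : Sett κ G) (q : Smaller κ κ₂ G)
    (hκ : ∀ {K : Type u} [Group K] [Finite K], κ.P K → Cov.Klein.KleinKind K) : World κ G where
  sett := S
  types := FourKF.kTypes fun hK => (hκ hK).dat
  no2 _ _ _ _ hX hY huv := nt2 S q (KleinOf.kcount κ hκ) hX hY huv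
  ti _ _ _ _ hX hY huv hi hf := by
    obtain ⟨h1, -, h2, -, h3, -⟩ := typeI S (KIOf.ki κ hκ) (nt2 S q (KleinOf.kcount κ hκ)) hX hY huv hi hf
    exact ⟨h1, h2, h3⟩

end Cfsg.Agent.UGT.I34.Four
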