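import Cfsg.Agent.UGT.I34.FourDefs

/-!
# THEOREM I34, part [C]: the K-facts for the end with an involution `x` of `G` (`TripleCase`)

* `Ev α`: the automorphism `α` of `K = 2².L₃(4)` is even: up to an inner automorphism it centralizes the centre of a
  Sylow 2-subgroup of `Inn K`.
* `KPar κ`: the K-facts.
-/

set_option autoImplicit false

open Cfsg Subgroup
open Cfsg.Agent.UGT.I34.Pair Cfsg.Agent.UGT.I34.KAut
open scoped commutatorElement

namespace Cfsg.Agent.UGT.I34.Four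

universe u

/-- `α` is even: up to an inner automorphism it centralizes the centre of a Sylow 2-subgroup of `Inn K`. -/
def Ev {K : Type*} [Group K] (α : MulAut K) : Prop :=
  ∃ A : Subgroup (MulAut K), A ≤ Inn K ∧ Nat.card A = 64 ∧
    ∃ i ∈ Inn K, ∀ z ∈ A, (∀ a ∈ A, z * a = a * z) → (i * α) * z = z * (i * α)

/-- The K-facts for `TripleCase`. -/
structure KPar (κ : Kind.{u}) : Prop where
  par : ∀ {K : Type u} [Group K] [Finite K], κ.P K → ∃ Λ : MulAut K →* ℤˣ, ∀ α, Ev α ↔ Λ α = 1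
  odd : ∀ {K : Type u} [Group K] [Finite K], κ.P K → ∀ φ : MulAut K, φ * φ = 1 → φ ∉ Inn K →
    (∀ z ∈ center K, φ z = z) → ¬ Ev φ
  unb : ∀ {K : Type u} [Group K] [Finite K], κ.P K → ∀ φ : MulAut K, φ * φ = 1 → φ ≠ 1 →
    ∀ Δ : Subgroup (MulAut K), Odd (Nat.card Δ) → Δ ≠ ⊥ → (∀ d ∈ Δ, d * φ = φ * d) →
    (∀ k : K, φ k = k → ∀ d ∈ Δ, MulAut.conj k * d * (MulAut.conj k)⁻¹ ∈ Δ) →
    φ ∉ Inn K ∧ ∀ z ∈ center K, φ z = z
  zA : ∀ {K : Type u} [Group K] [Finite K], κ.P K → ∀ A : Subgroup (MulAut K), A ≤ Inn K →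
    Nat.card A = 64 → ∀ B : Subgroup (MulAut K), B ≤ A → (∀ b ∈ B, ∀ a ∈ A, b * a = a * b) →
    4 ≤ Nat.card B → ∀ z ∈ A, (∀ a ∈ A, z * a = a * z) → z ∈ B

end Cfsg.Agent.UGT.I34.Four
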