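import Cfsg.Agent.UGT.I34.FourDefs
import Cfsg.Agent.UGT.I34.Cov
import Cfsg.Agent.S1304
import Cfsg.Agent.S1306

/-!
# THEOREM I34, part [C]: the 2-component is a standard subgroup

`one`: only one pair for every involution; `ves`: the involutions of pairs that centralize `X / O(X)` lie in `X`;
`nobig`: no big pump-ups; all 2-components are quasisimple (B-property). Then `X` is a standard subgroup.
-/

set_option autoImplicit false

open Cfsg Subgroup
open Cfsg.Agent.SignalizersComponents Cfsg.Agent.Lib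
open Cfsg.Agent.SignalizersComponents.IntrinsicBasic
open Cfsg.Agent.SignalizersComponents.PLayerAut
open Cfsg.Agent.Intrinsic.Basic hiding IsPair PQS Target IsPair.sq IsPair.ne_one IsPair.cj
open Cfsg.Agent.Intrinsic.Cen hiding pair_comm pair_mem_cen exists_pump pump_unique
open Cfsg.Agent.Intrinsic.Quot hiding Big isPair_quot small_or_big
open Cfsg.Agent.UGT.I34.Pair Cfsg.Agent.UGT.I34.Four
open scoped commutatorElement

namespace Cfsg.Agent.UGT.I34.FourStd

universe u

variable {G : Type u} [Group G] [Finite G]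

section qs

variable {H X Y : Subgroup G}

/-- the core of a quasisimple 2-component is central -/
theorem core_central (hX : IsComp H X) (hq : IsQuasisimple ↥X) {c x : G} (hc : c ∈ core X)
    (hx : x ∈ X) : c * x = x * c := by
  have hn : (oddCore ↥X).Normal := Lib.Cores.pPrimeCore_normal 2
  have hne : oddCore ↥X ≠ ⊤ := by
    intro h
    have h1 : Odd (Nat.card ↥(oddCore ↥X)) :=
      Nat.coprime_two_right.mp (Lib.Cores.pPrimeCore_coprime 2)
    rw [h, Nat.card_congr (topEquiv (G := ↥X)).toEquiv] at h1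
    have h2 := hX.even
    rw [Nat.odd_iff] at h1
    omega
  have h1 := QsBasic.normal_le_center_of_ne_top hq (oddCore ↥X) hne
  obtain ⟨⟨c', hc'X⟩, hc', rfl⟩ := hc
  have h2 := mem_center_iff.mp (h1 hc') ⟨x, hx⟩
  exact (congrArg Subtype.val h2).symm

/-- an element centralizing `X / O(X)` centralizes `X` if `X` is quasisimple -/
theorem comm_of_fixes (hX : IsComp H X) (hq : IsQuasisimple ↥X) {y : G} (hf : Fixes y X) {x : G}
    (hx : x ∈ X) : y * x = x * y := by
  have hy := hf.1
  have hmap : X.map (MulAut.conj y).toMonoidHom = X := mem_normalizer_iff_cj.mp hy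
  let α : ↥X ≃* ↥X := (X.equivMapOfInjective (MulAut.conj y).toMonoidHom
    (MulAut.conj y).injective).trans (MulEquiv.subgroupCongr hmap)
  have hα : ∀ z : ↥X, ((α z : ↥X) : G) = y * z * y⁻¹ := fun z => rfl
  have h1 : ∀ z : ↥X, α z * z⁻¹ ∈ center ↥X := by
    intro z
    rw [mem_center_iff]
    intro w
    apply Subtype.ext
    have h2 : ⁅y, (z : G)⁆ ∈ core X := hf.2 z z.2
    have h3 := core_central hX hq h2 w.2
    change (w : G) * ((α z : G) * (z : G)⁻¹) = (α z : G) * (z : G)⁻¹ * w
    rw [hα]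
    exact h3.symm
  have h4 := S1304.result (X := ↥X) (by
    have := hq.1
    exact this.commutator_eq_top) α h1 ⟨x, hx⟩
  have h5 : y * x * y⁻¹ = x := by
    have := congrArg Subtype.val h4
    rwa [hα] at this
  calc y * x = y * x * y⁻¹ * y := by group
    _ = x * y := by rw [h5]

/-- a quasisimple 2-component as a component -/
theorem isComponent (hX : IsComp H X) (hq : IsQuasisimple ↥X) : IsComponent (X.subgroupOf H) := by
  refine ⟨(isComp_iff.mp hX).2.1, ?_⟩
  exact Components.isQuasisimple_of_mulEquiv (subgroupOfEquivOfLe hX.le).symm hq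

/-- `X ≤ M`, `M = X O(M)`, `M` quasisimple, `X` perfect -/
theorem eq_of_sup {M : Subgroup G} (hM : IsComp H M) (hq : IsQuasisimple ↥M) (hp : ⁅X, X⁆ = X)
    (hXM : X ≤ M) (hs : X ⊔ core M = M) : X = M := by
  refine le_antisymm hXM ?_
  have hn : M ≤ normalizer (core M : Set G) := le_normalizer_core M
  have key : ∀ m ∈ M, ∃ x ∈ X, ∃ c ∈ core M, m = x * c := by
    intro m hm
    obtain ⟨x, hx, h1⟩ := exists_mul_of_sup hs hm
    exact ⟨x, hx, x⁻¹ * m, h1, by group⟩
  rw [← hM.perfect, Subgroup.commutator_le]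
  intro a ha b hb
  obtain ⟨x, hx, c, hc, rfl⟩ := key a ha
  obtain ⟨y, hy, d, hd, rfl⟩ := key b hb
  have h1 := core_central hM hq hc hb
  have h2 := core_central hM hq hd (hXM hx)
  have h3 : ⁅x * c, y * d⁆ = ⁅x, y⁆ := by
    rw [commutatorElement_def, commutatorElement_def]
    have h4 : x * c * (y * d) = x * (y * d) * c := by rw [mul_assoc, h1, ← mul_assoc]
    calc x * c * (y * d) * (x * c)⁻¹ * (y * d)⁻¹ = x * (y * d) * c * (x * c)⁻¹ * (y * d)⁻¹ := by
          rw [h4]
      _ = x * y * (d * x⁻¹) * d⁻¹ * y⁻¹ := by group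
      _ = x * y * (x⁻¹ * d) * d⁻¹ * y⁻¹ := by
          have : d * x⁻¹ = x⁻¹ * d := by
            rw [eq_inv_mul_iff_mul_eq, ← mul_assoc, ← h2, mul_inv_cancel_right]
          rw [this]
      _ = x * y * x⁻¹ * y⁻¹ := by group
  rw [h3, ← hp]
  exact commutator_mem_commutator hx hy

/-- the elements of `X` commuting with `X`: `cen X w = X` -/
theorem cen_eq (hX : IsComp H X) {w : G} (hw : ∀ x ∈ X, w * x = x * w) : cen X w = X := by
  have h1 : X ⊓ centralizer ({w} : Set G) = X := inf_eq_left.mpr fun x hx =>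
    mem_centralizer_singleton_iff.mpr (hw x hx).symm
  change PComponents.pElem 2 (X ⊓ centralizer ({w} : Set G)) = X
  rw [h1, hX.pElem_eq]

end qs

/-! ### the configuration -/

/-- Only one pair over every involution (`one`), no pairs `(v, Y)` with `v ∉ X` centralizing `X / O(X)` (`ves`), no
big pump-ups, and all 2-components of centralizers of involutions are quasisimple. -/
structure Hyp (κ : Kind.{u}) (G : Type u) [Group G] : Prop where
  sett : Sett κ G
  one : ∀ {u : G} {X X' : Subgroup G}, IsPair κ u X → IsPair κ u X' → X' = X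
  ves : ∀ {u v : G} {X Y : Subgroup G}, IsPair κ u X → IsPair κ v Y → u * v = v * u → Fixes v X → v ∈ X
  nobig : ∀ {u y : G} {X M : Subgroup G}, IsPair κ u X → y * y = 1 → y ≠ 1 → y * u = u * y → Fixes y X →
    IsComp (centralizer ({y} : Set G)) M → cen X y ≤ M → ¬ Big κ u (cen X y) M
  qsc : ∀ {y : G} {M : Subgroup G}, orderOf y = 2 → IsComp (centralizer ({y} : Set G)) M → IsQuasisimple ↥M

namespace Hyp

variable {κ : Kind.{u}} (S : Hyp κ G) {u v w y : G} {X Y : Subgroup G}
include S

omit [Finite G] in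
theorem qs (h : IsPair κ u X) : IsQuasisimple ↥X := S.qsc h.inv h.comp

theorem pair_center (h : IsPair κ u X) (hw : w ∈ X) (hww : w * w = 1) (hw1 : w ≠ 1)
    (hf : Fixes w X) : IsPair κ w X := by
  obtain ⟨M, hM, -, hle, hs, -, -⟩ := S.sett.vess h hw hww hw1 hf
  rw [cen_eq h.comp fun x hx => comm_of_fixes h.comp (S.qs h) hf hx] at hle hs
  rw [eq_of_sup hM.comp (S.qs hM) h.comp.perfect hle hs]
  exact hM

/-- `X` is a 2-component of `C(y)` for every involution `y` of `C(X)` -/
theorem comp_of_comm (h : IsPair κ u X) (hyy : y * y = 1) (hy1 : y ≠ 1)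
    (hy : ∀ x ∈ X, y * x = x * y) : IsComp (centralizer ({y} : Set G)) X := by
  have hf : Fixes y X := fixes_of_comm_all hy
  have hyu : y * u = u * y := hy u h.mem
  have hyC : y ∈ centralizer ({u} : Set G) := mem_centralizer_singleton_iff.mpr hyu
  obtain ⟨M, hM, hle, -⟩ := exists_pump h hyy hyu hf
  have hJ' : IsComp (centralizer ({y} : Set G) ⊓ centralizer ({u} : Set G)) (cen X y) := by
    rw [inf_comm]; exact (isComp_cen h.comp hyC hyy hf).1
  have hk := (kind_cen (κ := κ) h.comp hyC hyy hf).mpr h.kind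
  rcases S.sett.small_or_big hyy hy1 h.inv (pair_mem_cen h hyu) hJ' hk hM hle with h1 | h1
  · have hs : cen X y ⊔ core M = M := h1
    rw [cen_eq h.comp hy] at hle hs
    rw [eq_of_sup hM (S.qsc (Four.order_two hyy hy1) hM) h.comp.perfect hle hs]
    exact hM
  · exact absurd h1 (S.nobig h hyy hy1 hyu hf hM hle)

/-- **`X` is a standard subgroup.** -/
theorem standard (h : IsPair κ u X) : IsStandardSubgroup X := by
  refine S1306.result u h.inv X h.comp.le (isComponent h.comp (S.qs h)) ?_ ?_
  · intro y hy hyX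
    have hyy : y * y = 1 := by rw [← pow_two, ← hy, pow_orderOf_eq_one]
    have hy1 : y ≠ 1 := by rintro rfl; simp at hy
    have h1 := S.comp_of_comm h hyy hy1 fun x hx => (mem_centralizer_iff.mp hyX x hx).symm
    exact ⟨h1.le, isComponent h1 (S.qs h)⟩
  · intro g hg hc
    change cj g X ≠ X at hg
    change ⁅X, cj g X⁆ = ⊥ at hc
    have h2 := h.cj g
    have hcomm : ∀ x ∈ X, ∀ y ∈ cj g X, y * x = x * y := fun x hx y hy => by
      have h3 : ⁅x, y⁆ ∈ ⁅X, cj g X⁆ := commutator_mem_commutator hx hy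
      rw [hc, mem_bot, commutatorElement_eq_one_iff_mul_comm] at h3
      exact h3.symm
    have hf : Fixes (g * u * g⁻¹) X := fixes_of_comm_all fun x hx => hcomm x hx _ h2.mem
    have h3 := S.ves h h2 (hcomm u h.mem _ h2.mem).symm hf
    exact hg (S.one (S.pair_center h h3 h2.sq h2.ne_one hf) h2)

end Hyp

end Cfsg.Agent.UGT.I34.FourStd
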