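import Cfsg.Agent.UGT.I34.HeRecOut
import Cfsg.Agent.UGT.I34.FourKF
import Cfsg.Agent.UGT.I34.FiveC.MemC

/-!
# `C(z)` contains an element of type `f` on `L` in the Held group (helper728)

`heFEx` : the record `HeFEx`; the element is `s = b a b`.
-/

set_option autoImplicit false

open Cfsg Subgroup
open Cfsg.Agent.Intrinsic.Basic hiding IsPair PQS Target IsPair.sq IsPair.ne_one IsPair.cj
open Cfsg.Agent.UGT.I34.Pair Cfsg.Agent.UGT.I34.KAut Cfsg.Agent.UGT.I34.Four Cfsg.Agent.UGT.I34.HeRec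
open Cfsg.Agent.KFacts.He Cfsg.Spor.He
open Cfsg.Agent.KFacts.He.Lv (gn)
open Cfsg.Agent.KFacts.He.TwoACent (L V v s)
open Cfsg.Agent.UGT.ThEL34 (fx mem_fx)
open Cfsg.Agent.UGT.Cov.Klein (Dat mapD)
open scoped commutatorElement

namespace Cfsg.Agent.UGT.I34.HeRecF

universe u

theorem e_mem_L : gn .e ∈ L := TwoACent.gn_mem_L (by simp)
theorem f_mem_L : gn .f ∈ L := TwoACent.gn_mem_L (by simp)
theorem g_mem_L : gn .g ∈ L := TwoACent.gn_mem_L (by simp)

theorem s_f : s * gn .f * s⁻¹ = gn .f := by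
  have h := RecL.eqW (x := [.b, .a, .b] ++ [.f]) (y := [.f] ++ [.b, .a, .b]) (by decide +kernel)
  rw [Lv.wd_append, Lv.wd_append, Lv.wd_one] at h
  rw [show s * gn .f = gn .f * s from h, mul_inv_cancel_right]

theorem s_g : s * gn .g * s⁻¹ = gn .g := by
  have h := RecL.eqW (x := [.b, .a, .b] ++ [.g]) (y := [.g] ++ [.b, .a, .b]) (by decide +kernel)
  rw [Lv.wd_append, Lv.wd_append, Lv.wd_one] at h
  rw [show s * gn .g = gn .g * s from h, mul_inv_cancel_right]

theorem comm_fg : ⁅gn .f, gn .g⁆ = gn .e := by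
  have h := RecL.eqW (x := [.e]) (y := [.f, .g, .f, .g]) (by decide +kernel)
  simp only [Lv.wd_cons, Lv.wd_nil, mul_one] at h
  rw [commutatorElement_def, TwoACent.gn_inv, TwoACent.gn_inv, h]
  simp only [mul_assoc]

theorem e_d : IsConj (gn .e) (gn .d) := by
  have h := RecL.eqW (x := [.e, .d] ++ [.e]) (y := [.d] ++ [.e, .d]) (by decide +kernel)
  rw [Lv.wd_append, Lv.wd_append, Lv.wd_one] at h
  rw [isConj_iff]
  exact ⟨_, by rw [h, Lv.wd_one, mul_inv_cancel_right]⟩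

/-- `e` is not a canonical involution of `L` -/
theorem not_can_e : ¬ Cfsg.Agent.UGT.Cov.Klein.Can (⟨gn .e, e_mem_L⟩ : ↥L) := by
  intro h
  obtain ⟨g, hg, -⟩ := RecL.of_can h
  obtain ⟨k, hk⟩ := Classes.z_d
  have h1 : IsConj (gn .a) (gn .e) := isConj_iff.mpr ⟨g, hg⟩
  have h2 : IsConj Bound.z (gn .d) := isConj_iff.mpr ⟨k, hk⟩
  obtain ⟨y, hy⟩ := isConj_iff.mp ((h1.trans e_d).trans h2.symm)
  exact RecOut.a_not_z y hy

/-- the conjugation by `s` on `L` -/
noncomputable def sL : MulAut ↥L where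
  toFun x := ⟨s * x * s⁻¹, TwoACent.norm TwoACent.s_comm_a x.2⟩
  invFun x := ⟨s * x * s⁻¹, TwoACent.norm TwoACent.s_comm_a x.2⟩
  left_inv x := Subtype.ext (by
    show s * (s * (x : Cfsg.Spor.He) * s⁻¹) * s⁻¹ = x
    calc s * (s * (x : Cfsg.Spor.He) * s⁻¹) * s⁻¹ = s * s * x * (s * s)⁻¹ := by group
      _ = x := by rw [TwoACent.s_mul_self]; group)
  right_inv x := Subtype.ext (by
    show s * (s * (x : Cfsg.Spor.He) * s⁻¹) * s⁻¹ = x
    calc s * (s * (x : Cfsg.Spor.He) * s⁻¹) * s⁻¹ = s * s * x * (s * s)⁻¹ := by group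
      _ = x := by rw [TwoACent.s_mul_self]; group)
  map_mul' x y := Subtype.ext (by
    show s * ((x : Cfsg.Spor.He) * y) * s⁻¹ = s * (x : Cfsg.Spor.He) * s⁻¹ * (s * y * s⁻¹)
    group)

theorem sL_apply (x : ↥L) : (sL x : Cfsg.Spor.He) = s * x * s⁻¹ := rfl

theorem sL_sq (x : ↥L) : sL (sL x) = x := sL.left_inv x

/-- `s` acts on `L` as an automorphism of type `f` -/
theorem typeF_s {K : Type*} [Group K] [Finite K] (f : K ≃* ↥L) :
    ∃ (φ : MulAut K) (J : Subgroup K), TypeF φ J ∧ ∀ k, f (φ k) = sL (f k) := by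
  obtain ⟨φ, hφ⟩ : ∃ φ : MulAut K, ∀ k, f (φ k) = sL (f k) :=
    ⟨(f.trans sL).trans f.symm, fun k => f.apply_symm_apply _⟩
  have h2 : φ * φ = 1 := by
    ext k
    apply f.injective
    rw [MulAut.mul_apply, hφ, hφ, sL_sq]; rfl
  have hv : sL ⟨v, TwoACent.v_mem_L⟩ ≠ ⟨v, TwoACent.v_mem_L⟩ := by
    intro h
    have h1 := TwoACent.s_conj_v
    have h3 : s * v * s⁻¹ = v := congrArg Subtype.val h
    rw [h3, mul_inv_cancel] at h1
    exact TwoACent.a_ne_one h1.symm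
  have hvc : f.symm ⟨v, TwoACent.v_mem_L⟩ ∈ center K := by
    rw [mem_center_iff]
    intro k
    apply f.injective
    rw [map_mul, map_mul, f.apply_symm_apply]
    exact Subtype.ext (TwoACent.L_comm_v (f k).2)
  have hmv : φ (f.symm ⟨v, TwoACent.v_mem_L⟩) ≠ f.symm ⟨v, TwoACent.v_mem_L⟩ := by
    intro h
    apply hv
    have h1 := congrArg f h
    rwa [hφ, f.apply_symm_apply] at h1
  have ho : φ ∉ Inn K := by
    rintro ⟨k, rfl⟩
    apply hmv
    rw [MulAut.conj_apply, mem_center_iff.mp hvc k, mul_inv_cancel_right]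
  obtain ⟨B, e1, f1, hef, h⟩ := (mapD RecL.dat f.symm).exists_pure h2 (FourKF.not_inn ho)
  cases e1 <;> cases f1
  · exact absurd rfl hef
  · exfalso
    have hg : TypeG φ (B.Jc φ) := FourKF.typeG h
    obtain ⟨R, -, -⟩ := Cfsg.Agent.UGT.Cov.Klein.Dat.res_tau (Or.inr ⟨rfl, rfl⟩) h
    have hfx : ∀ x : ↥L, s * (x : Cfsg.Spor.He) * s⁻¹ = x → f.symm x ∈ fx φ := by
      intro x hx
      rw [mem_fx]
      apply f.injective
      rw [hφ, f.apply_symm_apply]
      exact Subtype.ext hx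
    have h3 : ⁅f.symm ⟨gn .f, f_mem_L⟩, f.symm ⟨gn .g, g_mem_L⟩⁆ ∈ B.Jc φ := by
      rw [← R.comm]
      exact commutator_mem_commutator (hfx _ s_f) (hfx _ s_g)
    have h4 : ⁅f.symm ⟨gn .f, f_mem_L⟩, f.symm ⟨gn .g, g_mem_L⟩⁆ = f.symm ⟨gn .e, e_mem_L⟩ := by
      rw [← map_commutatorElement]
      congr 1
      exact Subtype.ext comm_fg
    rw [h4] at h3
    have h5 : Four.Can (f.symm (⟨gn .e, e_mem_L⟩ : ↥L)) := by
      apply hg.can _ h3
      · rw [← map_mul, show (⟨gn .e, e_mem_L⟩ : ↥L) * ⟨gn .e, e_mem_L⟩ = 1 from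
          Subtype.ext (TwoACent.gn_mul_self .e), map_one]
      · intro h6
        have h7 : (⟨gn .e, e_mem_L⟩ : ↥L) = 1 := by
          rw [← f.apply_symm_apply ⟨gn .e, e_mem_L⟩, h6, map_one]
        apply not_can_e
        exact absurd h7 (by
          intro h8
          have h9 : gn .e = 1 := congrArg Subtype.val h8
          have h10 := isConj_iff.mp e_d
          obtain ⟨c, hc⟩ := h10
          rw [h9, mul_one, mul_inv_cancel] at hc
          have h11 := HeRecOut.cd_ne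
          rw [← hc, mul_one, one_mul] at h11
          exact h11 rfl)
    exact not_can_e ((Four.Can.map_iff f.symm).mp h5)
  · exact ⟨φ, _, FourKF.typeF h, hφ⟩
  · exfalso
    have hc : TypeC φ := FourKF.typeC h
    exact hmv (hc.center _ hvc)

/-- **The record `HeFEx`.** -/
theorem heFEx {κ : Kind.{u}} (hκ : HeKind κ) : FiveC.HeFEx κ := by
  intro Y _ _ z L' hT hp K _ _ eK
  obtain ⟨e, rfl, rfl⟩ := exists_pair_iso hκ hT hp
  obtain ⟨φ, J, hF, hφ⟩ := typeF_s (eK.trans (L.equivMapOfInjective e.toMonoidHom e.injective).symm)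
  have key : ∀ k, e (((eK.trans (L.equivMapOfInjective e.toMonoidHom e.injective).symm) k : ↥L) : Cfsg.Spor.He) =
      (eK k : Y) := by
    intro k
    have h1 := (L.equivMapOfInjective e.toMonoidHom e.injective).apply_symm_apply (eK k)
    exact congrArg Subtype.val h1
  refine ⟨e s, ?_, φ, J, hF, fun k => ?_⟩
  · rw [← map_mul, ← map_mul, TwoACent.s_comm_a]
  · rw [← key, ← key, hφ, sL_apply, map_mul, map_mul, map_inv]

end Cfsg.Agent.UGT.I34.HeRecF
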