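import Cfsg.Agent.UGT.I34.HeRec
import Cfsg.Agent.UGT.I34.FourTF
import Cfsg.Agent.UGT.I34.FourBigDefs
import Cfsg.Agent.UGT.I34.FiveC.Big
import Cfsg.Agent.KFacts.He.RecOut

/-!
# Further K-facts on the Held group for `X / O(X)` of type `2².L₃(4)` (helper728)

* `heOut` : involutions of `C(z)` outside of `L` are conjugate to `z`.
* `heAut`, `autL` : automorphisms trivial on `L` are inner by `Z(L)`.
* `heTwo` : the two classes of involutions.
* `heMv` : an involution of `C(z)` moving an element of `Z(L)`.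
-/

set_option autoImplicit false

open Cfsg Subgroup
open Cfsg.Agent.Intrinsic.Basic hiding IsPair PQS Target IsPair.sq IsPair.ne_one IsPair.cj
open Cfsg.Agent.UGT.I34.Pair Cfsg.Agent.UGT.I34.Four Cfsg.Agent.UGT.I34.HeRec
open Cfsg.Agent.KFacts.He Cfsg.Spor.He
open Cfsg.Agent.KFacts.He.Lv (gn)
open Cfsg.Agent.KFacts.He.TwoACent (L V v s)

namespace Cfsg.Agent.UGT.I34.HeRecOut

universe u

variable {κ : Kind.{u}} (hκ : HeKind κ)

include hκ in
theorem heOut : HeOut κ where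
  out := fun {Y _ _ z L'} hT hp t htt htz htL => by
    obtain ⟨e, rfl, rfl⟩ := exists_pair_iso hκ hT hp
    obtain ⟨t, rfl⟩ := e.surjective t
    obtain ⟨g, hg⟩ := RecOut.out (t := t) (e.injective (by rw [map_mul, map_one]; exact htt))
      (e.injective (by rw [map_mul, map_mul]; exact htz)) (fun h => htL ⟨t, h, rfl⟩)
    exact ⟨e g, by rw [← map_mul, ← map_inv, ← map_mul, hg]⟩

include hκ in
/-- **(HE3)** -/
theorem aut {Y : Type u} [Group Y] [Finite Y] {z : Y} {L' : Subgroup Y} (hT : κ.T Y z L')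
    (hp : IsPair κ z L') (φ : MulAut Y) (hφ : ∀ l ∈ L', φ l = l) :
    ∃ c ∈ L', (∀ l ∈ L', c * l = l * c) ∧ ∀ y, φ y = c * y * c⁻¹ := by
  obtain ⟨e, rfl, rfl⟩ := exists_pair_iso hκ hT hp
  obtain ⟨c, hc, h⟩ := TwoAAut.aut_eq (α := (e.trans φ).trans e.symm) (by
    intro l hl
    show e.symm (φ (e l)) = l
    rw [show φ (e l) = e l from hφ _ ⟨l, hl, rfl⟩, e.symm_apply_apply])
  refine ⟨e c, ⟨c, TwoACent.V_le_L hc, rfl⟩, ?_, ?_⟩
  · rintro _ ⟨l, hl, rfl⟩
    show e c * e l = e l * e c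
    rw [← map_mul, ← map_mul]
    exact congrArg e (TwoACent.mem_V.mp hc l hl).symm
  · intro y
    obtain ⟨x, rfl⟩ := e.surjective y
    have h1 : e.symm (φ (e x)) = c * x * c⁻¹ := h x
    rw [← map_inv, ← map_mul, ← map_mul, ← h1, e.apply_symm_apply]

include hκ in
theorem heAut : HeAut κ where
  aut := fun hT hp φ hφ => aut hκ hT hp φ hφ

include hκ in
theorem autL : HeP.Bal.AutL κ := fun hT hp φ hφ => aut hκ hT hp φ hφ

/-- `d` is not a canonical involution of `L` -/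
theorem not_can_d : ¬ Cfsg.Agent.UGT.Cov.Klein.Can (⟨gn .d, RecL.d_mem_L⟩ : ↥L) := by
  intro h
  obtain ⟨g, hg, -⟩ := RecL.of_can h
  obtain ⟨k, hk⟩ := Classes.z_d
  apply RecOut.a_not_z (k⁻¹ * g)
  have h1 : g * gn .a * g⁻¹ = k * Bound.z * k⁻¹ := hg.trans hk.symm
  calc k⁻¹ * g * gn .a * (k⁻¹ * g)⁻¹ = k⁻¹ * (g * gn .a * g⁻¹) * k := by group
    _ = Bound.z := by rw [h1]; group

theorem cd_ne : gn .c * gn .d ≠ gn .d * gn .c := by
  rw [← RecL.wd_two, ← RecL.wd_two]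
  exact TwoACent.ne_of_act 8 (by decide +kernel)

include hκ in
/-- the two classes of involutions -/
theorem heTwo : FiveC.HeTwo κ := by
  intro Y _ _ z L' hT hp t htt ht1
  obtain ⟨e, rfl, rfl⟩ := exists_pair_iso hκ hT hp
  obtain ⟨t, rfl⟩ := e.surjective t
  have h1 : t * t = 1 := e.injective (by rw [map_mul, map_one]; exact htt)
  have h2 : t ≠ 1 := by rintro rfl; exact ht1 (map_one e)
  rcases Classes.two_classes_ad h1 h2 with ⟨g, hg⟩ | ⟨g, hg⟩
  · right
    have h3 : e g⁻¹ * e t * (e g⁻¹)⁻¹ = e (gn .d) := by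
      rw [← map_inv, ← map_mul, ← map_mul, ← hg, inv_inv]
      congr 1
      show g⁻¹ * (g * gn .d * g⁻¹) * g = gn .d
      group
    refine ⟨e g⁻¹, ?_⟩
    rw [h3]
    refine ⟨⟨_, RecL.d_mem_L, rfl⟩, ?_, e (gn .c), ⟨_, RecL.c_mem_L, rfl⟩, ?_⟩
    · intro h4
      exact not_can_d ((Four.Can.map_iff (quot e)).mp (by rw [quot_apply]; exact h4))
    · rw [← map_mul, ← map_mul]
      exact fun h4 => cd_ne (e.injective h4)
  · left
    refine ⟨e g, ?_⟩
    rw [← map_mul, ← map_inv, ← map_mul]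
    exact congrArg e hg

include hκ in
/-- an involution of `C(z)` moving an element of `Z(L)` -/
theorem heMv {Y : Type u} [Group Y] [Finite Y] {z : Y} {L' : Subgroup Y} (hT : κ.T Y z L')
    (hp : IsPair κ z L') : ∃ y, y * z = z * y ∧ y * y = 1 ∧ ∃ c ∈ L', (∀ l ∈ L', c * l = l * c) ∧
      y * c * y⁻¹ ≠ c := by
  obtain ⟨e, rfl, rfl⟩ := exists_pair_iso hκ hT hp
  refine ⟨e s, ?_, ?_, e v, ⟨v, TwoACent.v_mem_L, rfl⟩, ?_, ?_⟩
  · rw [← map_mul, ← map_mul, TwoACent.s_comm_a]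
  · rw [← map_mul, TwoACent.s_mul_self, map_one]
  · rintro _ ⟨l, hl, rfl⟩
    show e v * e l = e l * e v
    rw [← map_mul, ← map_mul, TwoACent.L_comm_v hl]
  · rw [← map_inv, ← map_mul, ← map_mul]
    intro h
    have h1 := TwoACent.s_conj_v
    rw [e.injective h, mul_inv_cancel] at h1
    exact TwoACent.a_ne_one h1.symm

end Cfsg.Agent.UGT.I34.HeRecOut
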