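import Cfsg.Agent.UGT.I34.FourMain
import Cfsg.Agent.UGT.I34.FourB
import Cfsg.Agent.UGT.I34.FourBelow
import Cfsg.Agent.UGT.I34.HeP.FiveOf
import Cfsg.Agent.UGT.I34.HeP.SolvOf
import Cfsg.Agent.UGT.I34.HeRecF
import Cfsg.Agent.UGT.I34.HeRecOut
import Cfsg.Agent.UGT.I34.FiveC.KOf
import Cfsg.Agent.S0205
import Cfsg.Agent.S1175

/-!
# THEOREM I34, part [C]: no pair of type (0) outside a vessel

* `w1a : FourMain.W1A`;
* `simpleCaseB : SimpleCaseB four` from the kind `2.L₃(4)`.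
-/

set_option autoImplicit false

open Cfsg Subgroup
open Cfsg.Agent.UGT.I34.Pair Cfsg.Agent.UGT.I34.Red Cfsg.Agent.UGT.I34.Four Cfsg.Agent.UGT.I34.Cov
open Cfsg.Agent.UGT.I34.FourKind Cfsg.Agent.UGT.I34.FourMain

namespace Cfsg.Agent.UGT.I34.FourWOneA

universe u

theorem kk {K : Type u} [Group K] [Finite K] (h : four.P K) : Cov.Klein.KleinKind K :=
  kleinKind (four_iff.mp h)

theorem heF : FiveC.HeF four.{u} :=
  FiveC.HeF.of (HeRec.heT heKind) (HeRecOut.autL heKind) (HeRecOut.heOut heKind) (HeRecF.heFEx heKind)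
    (FiveC.kfu four fun h => kk h)

/-- **there is no pair of type (0) outside a vessel** -/
theorem w1a : W1A.{u} := by
  intro G _ _ _ W hp u v X Y hu hv huv hf
  by_contra hn
  exact HeP.false_of_zero' (fun _ h => Cfsg.Agent.S0205.result h)
    (fun M hM z hz hzM h1 h2 h3 => Cfsg.Agent.S1175.result M hM z hz hzM h1 h2 h3) W hp
    (FiveC.ki5 four fun h => kk h) (HeRecX.heX heKind) (HeP.solv fun h => kk h) (HeP.canConj fun h => kk h)
    (HeRecOut.heOut heKind) (HeRecOut.autL heKind) heF (HeRecOut.heTwo heKind) hu hv huv hf hn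

/-- **The kind `2²` for simple groups with the B-property.** -/
theorem simpleCaseB (h2 : SimpleCase.{u} (kind' 2 2 noT)) : SimpleCaseB four.{u} :=
  FourB.simpleCaseB h2 w1a (HeRecOut.heAut heKind) (HeRecOut.heOut heKind)
    fun hT hp => HeRecOut.heMv heKind hT hp

end Cfsg.Agent.UGT.I34.FourWOneA
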