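import Cfsg.Agent.UGT.Cov.KleinK
import Cfsg.Agent.UGT.I34.Cov

/-!
# THEOREM I34, part [C] (`Z = 2²`): the covers of kind `(4, 4)`

* `quot`: the proper central quotients of a cover of kind `(4, 4)` are of kind `(4, 4)` or `(2, 2)`;
* `kleinKind`: a cover of kind `(4, 4)` is `2².L₃(4)` in the sense of `KleinKind`.
-/

set_option autoImplicit false

open Cfsg Subgroup
open Cfsg.Agent.SignalizersComponents Cfsg.Agent.Lib
open Cfsg.Agent.SignalizersComponents.IntrinsicBasic
open Cfsg.Agent.UGT.I34.Cov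
open Cfsg.Agent.UGT.Cov.Klein (KleinKind)
open Cfsg.Agent.SporadicA.FieldFour

namespace Cfsg.Agent.UGT.I34.FourWorldOf

universe u

/-- proper central quotients of a cover of kind `(4, 4)` -/
theorem quot {K B : Type u} [Group K] [Finite K] [Group B] [Finite B] (h : IsCv 4 4 K) (f : K →* B)
    (hf : Function.Surjective f) (hk : f.ker ≤ center K) (hne : f.ker ≠ center K) :
    IsCv 4 4 B ∨ IsCv 2 2 B := by
  have h1 : Nat.card f.ker ∣ 2 ^ 2 := by
    have := card_dvd_of_le hk
    rwa [h.card] at this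
  have h2 : Nat.card f.ker ≠ 4 := fun h3 => hne (eq_of_le_of_card_ge hk (by rw [h3, h.card]))
  obtain ⟨k, hk2, hk3⟩ := (Nat.dvd_prime_pow Nat.prime_two).mp h1
  have h3 : Nat.card f.ker = 1 ∨ Nat.card f.ker = 2 := by
    interval_cases k
    · exact Or.inl hk3
    · exact Or.inr hk3
    · exact absurd hk3 h2
  rcases h3 with h3 | h3
  · left
    have hb : f.ker = ⊥ := Subgroup.card_eq_one.mp h3
    exact h.congr (MulEquiv.ofBijective f ⟨(MonoidHom.ker_eq_bot_iff f).mp hb, hf⟩)
  · right
    obtain ⟨m', h4, h5, -, -⟩ := h.quot f.ker hk h3 (isPGroup_center h (k := 2) rfl) (by norm_num)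
    have h6 : m' = 2 := h5 rfl
    subst h6
    exact h4.congr (QuotientGroup.quotientKerEquivOfSurjective f hf)

/-- a cover of kind `(4, 4)` is `2².L₃(4)` -/
theorem kleinKind {K : Type u} [Group K] [Finite K] (h : IsCv 4 4 K) : KleinKind K where
  perf := (Group.isPerfect_def.mp h.qs.1)
  card := h.card
  sq := by
    have h1 : Function.Injective (Subtype.val : {z : ↥(center K) // z * z = 1} → ↥(center K)) :=
      Subtype.val_injective
    have h2 : Function.Bijective (Subtype.val : {z : ↥(center K) // z * z = 1} → ↥(center K)) := by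
      rw [Nat.bijective_iff_injective_and_card]
      exact ⟨h1, by rw [h.om, h.card]⟩
    intro z hz
    obtain ⟨⟨y, hy⟩, hyz⟩ := h2.2 ⟨z, hz⟩
    have h3 : y = ⟨z, hz⟩ := hyz
    rw [h3] at hy
    exact congrArg Subtype.val hy
  psl := by
    obtain ⟨F, i, j, hF, ⟨e⟩⟩ := h.l34
    obtain ⟨e'⟩ := nonempty_psl_equiv (n := Fin 3) F hF
    exact ⟨e.trans e'.symm⟩

end Cfsg.Agent.UGT.I34.FourWorldOf
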