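import Cfsg.Agent.UGT.I34.Elem

/-!
# Section 3 of I34: (3G)(i)

If `v` moves `X ∈ Ω_u` then the two diagonals `C_{X X^v}(v)^∞` and `C_{X' X'^u}(u)^∞` coincide.
-/

set_option autoImplicit false

open Cfsg Subgroup
open Cfsg.Agent.SignalizersComponents Cfsg.Agent.Lib
open Cfsg.Agent.SignalizersComponents.IntrinsicBasic
open Cfsg.Agent.Intrinsic
open Cfsg.Agent.Intrinsic.Basic hiding IsPair PQS Target
open Cfsg.Agent.Intrinsic.Cen hiding pair_comm pair_mem_cen exists_pump pump_unique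
open Cfsg.Agent.Intrinsic.Quot hiding Big small_or_big isPair_quot mk_eq_one_iff
open Cfsg.Agent.Intrinsic.Diag
open Cfsg.Agent.Intrinsic.TypesDef (Om exists_om sup_of_card)
open Cfsg.Agent.McLLyComp.Act
open Cfsg.Agent.UGT.I34.Pair Cfsg.Agent.UGT.I34.KAut Cfsg.Agent.UGT.I34.FixLift Cfsg.Agent.UGT.I34.Elem
open scoped commutatorElement

namespace Cfsg.Agent.UGT.I34.GOne

universe u

variable {κ : Kind.{u}} {G : Type u} [Group G]

theorem mk_mem_center {M : Subgroup G} {a : G} (ha : a ∈ M) (hf : Fixes a M) :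
    (QuotientGroup.mk ⟨a, ha⟩ : ↥M ⧸ oddCore ↥M) ∈ center (↥M ⧸ oddCore ↥M) := by
  rw [mem_center_iff]
  intro x
  obtain ⟨⟨x, hx⟩, rfl⟩ := QuotientGroup.mk_surjective x
  rw [mk_comm_iff]
  exact (fixes_iff_conj.mp hf).2 x hx

theorem fixes_of_mk_mem_center {M : Subgroup G} {a : G} (ha : a ∈ M)
    (h : (QuotientGroup.mk ⟨a, ha⟩ : ↥M ⧸ oddCore ↥M) ∈ center (↥M ⧸ oddCore ↥M)) : Fixes a M := by
  rw [fixes_iff_conj]
  refine ⟨le_normalizer ha, fun y hy => ?_⟩
  have h1 := mem_center_iff.mp h (QuotientGroup.mk ⟨y, hy⟩)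
  rw [mk_comm_iff] at h1
  exact h1

theorem fixes_pair {u : G} {X : Subgroup G} (h : IsPair κ u X) : Fixes u X := by
  rw [fixes_iff_conj]
  refine ⟨le_normalizer h.mem, fun y hy => ?_⟩
  have : u * y * u⁻¹ = y := by rw [← pair_comm h hy, mul_inv_cancel_right]
  rw [this, inv_mul_cancel]
  exact one_mem _

variable [Finite G]

/-- commuting involutions of `M` fixing `M` are equal -/
theorem eq_of_fixes (E : KG κ) {M : Subgroup G} (hk : κ.P (↥M ⧸ oddCore ↥M)) {a b : G}
    (ha : a ∈ M) (hb : b ∈ M) (ha2 : a * a = 1) (hb2 : b * b = 1) (ha1 : a ≠ 1) (hb1 : b ≠ 1)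
    (hfa : Fixes a M) (hfb : Fixes b M) (hab : a * b = b * a) : a = b := by
  have e3 := E.uniq hk _ (mk_mem_center ha hfa) _ (mk_mem_center hb hfb)
    (by rw [← QuotientGroup.mk_mul]
        have : (⟨a, ha⟩ : ↥M) * ⟨a, ha⟩ = 1 := Subtype.ext ha2
        rw [this]; rfl)
    (by rw [← QuotientGroup.mk_mul]
        have : (⟨b, hb⟩ : ↥M) * ⟨b, hb⟩ = 1 := Subtype.ext hb2
        rw [this]; rfl)
    (fun h => ha1 (eq_one_of_mem_core_sq ((mk_eq_one_iff ha).mp h) ha2))
    (fun h => hb1 (eq_one_of_mem_core_sq ((mk_eq_one_iff hb).mp h) hb2))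
  have e4 := (mk_eq_iff ha hb).mp e3
  have hai : a⁻¹ = a := inv_eq_of_mul_eq_one_left ha2
  have e5 : a⁻¹ * b = 1 := by
    apply eq_one_of_mem_core_sq e4
    rw [hai]
    calc a * b * (a * b) = a * b * (b * a) := by rw [hab]
      _ = a * (b * b) * a := by group
      _ = 1 := by rw [hb2, mul_one, ha2]
  exact (inv_mul_eq_one.mp e5)

/-- `E` is the only 2-component of `C(x) ∩ C(e)` below its pump-up in `C(x)`. -/
theorem unique_in_pump (hN : PQS κ (Nat.card G)) (hT : OneComp κ)
    {x e : G} (hCx : centralizer ({x} : Set G) ≠ ⊤) (he : orderOf e = 2)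
    {E R E' : Subgroup G} (heE : e ∈ E)
    (hE : IsComp (centralizer ({x} : Set G) ⊓ centralizer ({e} : Set G)) E)
    (hk : κ.P (↥E ⧸ oddCore ↥E))
    (hR : IsComp (centralizer ({x} : Set G)) R) (hER : E ≤ R)
    (hE' : IsComp (centralizer ({x} : Set G) ⊓ centralizer ({e} : Set G)) E') (hE'R : E' ≤ R) :
    E' = E := by
  by_contra hne
  have he2 : e * e = 1 := by rw [← pow_two, ← he, pow_orderOf_eq_one]
  rcases small_or_big hN he heE hE hk hR hER (Coll.card_lt hCx hR.le) with hsm | ⟨heR, hb⟩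
  · have h3 : ∀ a ∈ E', Fixes a R := by
      intro a ha
      have h4 := hE.fixes_of_mem hE' (Ne.symm hne) ha
      exact (fixes_iff_of_sup hsm h4.1 (le_normalizer (hE'R ha))).mp h4
    apply hE'.not_odd (odd_card_core R)
    rw [← hE'.perfect, commutator_le]
    intro a ha b hb
    exact (h3 a ha).2 b (hE'R hb)
  · have d1 := isComp_inf hE' hR hE'R
    have d2 := isComp_inf hE hR hER
    have h4 : qs R E' = qs R E := hT _ _ _ _ hb (IsComp.of_tc (PumpUp.tc_image heR he2 d1.tc))
    have hco : core R ⊓ centralizer ({e} : Set G) ≤ core (R ⊓ centralizer ({e} : Set G)) := by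
      refine le_core (inf_le_inf_right _ (core_le R)) ?_
        (Odd.of_dvd_nat (odd_card_core R) (card_dvd_of_le inf_le_left))
      intro x hx
      rw [mem_normalizer_iff_cj, cj_inf, cj_eq_self_of_mem hx.2,
        mem_normalizer_iff_cj.mp (le_normalizer_core R hx.1)]
    have hle : E' ≤ E := by
      refine d1.le_of_two fun k hk n hn => ?_
      have h5 : (QuotientGroup.mk ⟨k, hE'R hk⟩ : ↥R ⧸ oddCore ↥R) ∈ qs R E := by
        rw [← h4]
        exact (mem_qs (hE'R hk)).mpr ⟨k, ⟨hk, hE'R hk⟩, by simp⟩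
      obtain ⟨j, hj, hjk⟩ := (mem_qs (hE'R hk)).mp h5
      refine d2.mem_of_two hj.1 (hco ⟨hjk, ?_⟩) hn
      exact (centralizer ({e} : Set G)).mul_mem ((centralizer ({e} : Set G)).inv_mem (d2.le hj.1).2)
        (d1.le hk).2
    exact hne (d1.eq_of_le d2 hle)

omit [Finite G] in
theorem order_two {x : G} (hx2 : x * x = 1) (hx1 : x ≠ 1) : orderOf x = 2 :=
  orderOf_eq_prime (by rw [pow_two]; exact hx2) hx1

/-- **(3.G)(i)** -/
theorem diag_eq (E : KG κ) (hN : PQS κ (Nat.card G)) (hT : OneComp κ)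
    (hC : ∀ x : G, orderOf x = 2 → centralizer ({x} : Set G) ≠ ⊤) {z u v : G} {L X X' : Subgroup G}
    (hp : IsPair κ z L) (huv : u * v = v * u) (hX : Om z L u X) (hX' : Om z L v X')
    (hmove : cj v X ≠ X) (hmove' : cj u X' ≠ X') {x : G}
    (hxX : x ∈ X) (hx2 : x * x = 1) (hxf : ¬ Fixes x X)
    (hxv : x * (v * x * v⁻¹) = (v * x * v⁻¹) * x) :
    diag (centralizer ({u} : Set G)) X v = diag (centralizer ({v} : Set G)) X' u := by
  by_contra hEE
  have hpu := Om.pair' hX hp
  have hpv := Om.pair' hX' hp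
  have hvCu : v ∈ centralizer ({u} : Set G) := mem_centralizer_singleton_iff.mpr huv.symm
  have huCv : u ∈ centralizer ({v} : Set G) := mem_centralizer_singleton_iff.mpr huv
  have hv2 := hpv.sq
  have hu2 := hpu.sq
  have hx1 : x ≠ 1 := by
    rintro rfl
    exact hxf (fixes_one X)
  have hvi : v⁻¹ = v := inv_eq_of_mul_eq_one_left hv2
  have hui : u⁻¹ = u := inv_eq_of_mul_eq_one_left hu2
  have hxi : x⁻¹ = x := inv_eq_of_mul_eq_one_left hx2
  have hxu' : x * u = u * x := pair_comm hpu hxX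
  have huvi : u * v * u⁻¹ = v := by rw [huv, mul_inv_cancel_right]
  have huxi : u * x * u⁻¹ = x := by rw [← hxu', mul_inv_cancel_right]
  -- the element `e`
  obtain ⟨e, he⟩ : ∃ e, e = x * (v * x * v⁻¹) := ⟨_, rfl⟩
  have hxvx : x * v * x⁻¹ = v * e := by
    rw [he, hxv, hxi, hvi]
    calc x * v * x = (v * v) * x * v * x := by rw [hv2, one_mul]
      _ = _ := by group
  have hev : e * v = v * e := by
    rw [← hxvx, he, hxi, mul_assoc, inv_mul_cancel_right, mul_assoc]
  have hex : e * x = x * e := by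
    rw [he]
    nth_rewrite 1 [hxv]
    rw [mul_assoc, hx2, mul_one, ← mul_assoc, hx2, one_mul]
  have hee : e * e = 1 := by
    calc e * e = (x * (v * x * v⁻¹)) * ((v * x * v⁻¹) * x) := by rw [← hxv, ← he]
      _ = x * v * (x * x) * v⁻¹ * x := by group
      _ = 1 := by rw [hx2, mul_one, mul_inv_cancel_right, hx2]
  have heu : e * u = u * e := by
    rw [he]
    calc x * (v * x * v⁻¹) * u = x * v * x * (v⁻¹ * u) := by group
      _ = x * v * x * (u * v⁻¹) := by rw [hvi, huv]
      _ = x * v * (x * u) * v⁻¹ := by group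
      _ = x * (v * u) * x * v⁻¹ := by rw [hxu']; group
      _ = x * (u * v) * x * v⁻¹ := by rw [huv]
      _ = (x * u) * v * x * v⁻¹ := by group
      _ = u * (x * (v * x * v⁻¹)) := by rw [hxu']; group
  have huei : u * e * u⁻¹ = e := by rw [← heu, mul_inv_cancel_right]
  have hX2 : IsComp (centralizer ({u} : Set G)) (cj v X) := isComp_cj_of_mem hpu.comp hvCu
  have he1 : e ≠ 1 := by
    intro h
    rw [he] at h
    have h1 : v * x * v⁻¹ = x := by
      have := inv_eq_of_mul_eq_one_right h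
      rw [← this, hxi]
    have h2 : x ∈ cj v X := by
      have := conj_mem_cj (g := v) hxX
      rwa [h1] at this
    exact hxf (hpu.comp.fixes_of_mem hX2 (Ne.symm hmove) h2)
  have hxo := order_two hx2 hx1
  have heo := order_two hee he1
  have heCu : e ∈ centralizer ({u} : Set G) := mem_centralizer_singleton_iff.mpr heu
  have heCv : e ∈ centralizer ({v} : Set G) := mem_centralizer_singleton_iff.mpr hev
  have huCe : u ∈ centralizer ({e} : Set G) := mem_centralizer_singleton_iff.mpr heu.symm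
  have hvCe : v ∈ centralizer ({e} : Set G) := mem_centralizer_singleton_iff.mpr hev.symm
  have hxCe : x ∈ centralizer ({e} : Set G) := mem_centralizer_singleton_iff.mpr hex.symm
  have hxCu : x ∈ centralizer ({u} : Set G) := mem_centralizer_singleton_iff.mpr hxu'
  have huCx : u ∈ centralizer ({x} : Set G) := mem_centralizer_singleton_iff.mpr hxu'.symm
  -- the two diagonals
  obtain ⟨hE, -, -, -, -⟩ := exists_diag hpu.comp hvCu hv2 hmove
  obtain ⟨hE', -, -, hE'core, -⟩ := exists_diag hpv.comp huCv hu2 hmove'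
  have hE2 : IsComp (centralizer ({v} : Set G) ⊓ centralizer ({u} : Set G))
      (diag (centralizer ({u} : Set G)) X v) := by rw [inf_comm]; exact hE
  have heE : e ∈ diag (centralizer ({u} : Set G)) X v :=
    mem_diag heCu hev hxX (by rw [← he, inv_mul_cancel]; exact one_mem _) (n := 1)
      (by rw [pow_one, pow_two]; exact hee)
  have hL2 := isComp_le_L2 huCv hu2 hE2
  have heX' : e ∈ normalizer (X' : Set G) := hpv.comp.L2_le_normalizer (hL2 heE)
  have heX'2 : e ∈ normalizer (cj u X' : Set G) :=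
    (isComp_cj_of_mem hpv.comp huCv).L2_le_normalizer (hL2 heE)
  have hfe : Fixes e X' := by
    refine fixes_of_comm_diag hpv.comp huCv hu2 hmove' heCv heX' heX'2 fun m hm => ?_
    have h1 := hE2.comm_le_core hE' hEE (commutator_mem_commutator heE hm)
    have h2 := h1.2
    rw [hE'core] at h2
    exact h2.2
  -- the pump-up in `C(e)`
  obtain ⟨N, hNc, hJN, hvN⟩ := exists_pump hpv hee hev hfe
  obtain ⟨hJ, hJsup⟩ := isComp_cen hpv.comp heCv hee hfe
  have hJk := (kind_cen (κ := κ) hpv.comp heCv hee hfe).mpr hpv.kind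
  have hvJ : v ∈ cen X' e := pair_mem_cen hpv hev
  have hJ2 : IsComp (centralizer ({e} : Set G) ⊓ centralizer ({v} : Set G)) (cen X' e) := by
    rw [inf_comm]; exact hJ
  have hN3 : IsComp (centralizer ({e} : Set G)) (cj u N) := isComp_cj_of_mem hNc huCe
  have hN13 : cj u N ≠ N := by
    intro h
    have h1 : IsComp (centralizer ({e} : Set G) ⊓ centralizer ({v} : Set G)) (cj u (cen X' e)) :=
      isComp_cj_of_mem hJ2 ⟨huCe, huCv⟩
    have h2 : cj u (cen X' e) ≤ N := by
      have := cj_mono (g := u) hJN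
      rwa [h] at this
    have h3 := unique_in_pump hN hT (hC e heo) hpv.inv hvJ hJ2 hJk hNc hJN h1 h2
    apply hmove'
    refine hJ.unique (isComp_cj_of_mem hpv.comp huCv) hpv.comp ?_ (cen_le X' e)
    rw [← h3]
    exact cj_mono (cen_le X' e)
  have hvN3 : v ∈ cj u N := by
    have := conj_mem_cj (g := u) hvN
    rwa [huvi] at this
  have hfv : Fixes v N := hNc.fixes_of_mem hN3 (Ne.symm hN13) hvN3
  have hJcen : cen X' e = cen N v := by
    apply hJ2.eq_of_le (isComp_cen hNc hvCe hv2 hfv).1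
    apply hJ2.le_of_two
    intro k hk m hm
    exact mem_cen (hJN hk) (mem_centralizer_singleton_iff.mp (hJ2.le hk).2) hm
  have hkN : κ.P (↥N ⧸ oddCore ↥N) := by
    rw [← kind_cen hNc hvCe hv2 hfv, ← hJcen]
    exact hJk
  -- `v e` lies in `N ^ x`
  have hve2 : (v * e) * (v * e) = 1 := by
    calc (v * e) * (v * e) = v * (e * v) * e := by group
      _ = (v * v) * (e * e) := by rw [hev]; group
      _ = 1 := by rw [hv2, hee, one_mul]
  have hve1 : v * e ≠ 1 := by
    rw [← hxvx]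
    intro h
    apply hpv.ne_one
    calc v = x⁻¹ * (x * v * x⁻¹) * x := by group
      _ = 1 := by rw [h]; group
  have hvve : v * (v * e) = (v * e) * v := by
    rw [mul_assoc v e v, hev]
  have hveN2 : v * e ∈ cj x N := by
    rw [← hxvx]; exact conj_mem_cj hvN
  have hfve : Fixes (v * e) (cj x N) := by
    rw [← hxvx]; exact hfv.cj x
  have hne_ve : v ≠ v * e := fun h => he1 (mul_eq_left.mp h.symm)
  have hN12 : cj x N ≠ N := by
    intro h
    rw [h] at hveN2 hfve
    exact hne_ve (eq_of_fixes E hkN hvN hveN2 hv2 hve2 hpv.ne_one hve1 hfv hfve hvve)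
  have hN32 : cj u N ≠ cj x N := by
    intro h
    rw [← h] at hveN2 hfve
    have hfv3 : Fixes v (cj u N) := by
      have := hfv.cj u
      rwa [huvi] at this
    exact hne_ve (eq_of_fixes E (κ.congr (cjQuot u N) hkN) hvN3 hveN2 hv2 hve2 hpv.ne_one hve1
      hfv3 hfve hvve)
  -- the diagonal of `N N ^ x`
  obtain ⟨hG, -, -, -, f, hfsurj, hfker, -, hfone⟩ := exists_diag hNc hxCe hx2 hN12
  have hvxv : v * (x * v * x⁻¹) = e := by rw [hxvx, ← mul_assoc, hv2, one_mul]
  have heG : e ∈ diag (centralizer ({e} : Set G)) N x :=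
    mem_diag (mem_centralizer_singleton_iff.mpr rfl) hex hvN
      (by rw [hvxv, inv_mul_cancel]; exact one_mem _) (n := 1)
      (by rw [pow_one, pow_two]; exact hee)
  have hfv1 : f (QuotientGroup.mk ⟨v, hvN⟩) ≠ 1 := by
    intro h
    have h1 := (hfone ⟨v, hvN⟩).mp h
    change v * (x * v * x⁻¹) ∈ _ at h1
    rw [hvxv] at h1
    exact he1 (eq_one_of_mem_core_sq h1 hee)
  have hvm1 : (QuotientGroup.mk ⟨v, hvN⟩ : ↥N ⧸ oddCore ↥N) ≠ 1 := by
    intro h
    exact hfv1 (by rw [h, map_one])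
  have hvm2 : (QuotientGroup.mk ⟨v, hvN⟩ : ↥N ⧸ oddCore ↥N) * QuotientGroup.mk ⟨v, hvN⟩ = 1 := by
    rw [← QuotientGroup.mk_mul]
    have : (⟨v, hvN⟩ : ↥N) * ⟨v, hvN⟩ = 1 := Subtype.ext hv2
    rw [this]
    rfl
  have hfinj : Function.Injective f := by
    rw [injective_iff_map_eq_one]
    intro a ha
    by_contra ha1
    have hac : a ∈ center (↥N ⧸ oddCore ↥N) := hfker (by rw [MonoidHom.mem_ker]; exact ha)
    by_cases h2 : a * a = 1
    · exact hfv1 (by rw [E.uniq hkN _ (mk_mem_center hvN hfv) _ hac hvm2 h2 hvm1 ha1, ha])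
    · exact hfv1 (by rw [E.uniq hkN _ (mk_mem_center hvN hfv) _ (mul_mem hac hac) hvm2
        (E.exp hkN a hac) hvm1 h2, map_mul, ha, one_mul])
  have hGk : κ.P (↥(diag (centralizer ({e} : Set G)) N x) ⧸
      oddCore ↥(diag (centralizer ({e} : Set G)) N x)) :=
    κ.congr (MulEquiv.ofBijective f ⟨hfinj, hfsurj⟩) hkN
  have hG2 : IsComp (centralizer ({x} : Set G) ⊓ centralizer ({e} : Set G))
      (diag (centralizer ({e} : Set G)) N x) := by rw [inf_comm]; exact hG
  -- its pump-up in `C(x)`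
  obtain ⟨R, hR, hGR⟩ := exists_pumpup hee heG hG2
  have hcjG : cj u (diag (centralizer ({e} : Set G)) N x) =
      diag (centralizer ({e} : Set G)) (cj u N) x := by
    rw [cj_diag, cj_eq_self_of_mem huCe, huxi]
  have hRu : cj u R ≠ R := by
    intro h
    have h1 : IsComp (centralizer ({x} : Set G) ⊓ centralizer ({e} : Set G))
        (cj u (diag (centralizer ({e} : Set G)) N x)) := isComp_cj_of_mem hG2 ⟨huCx, huCe⟩
    have h2 : cj u (diag (centralizer ({e} : Set G)) N x) ≤ R := by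
      have := cj_mono (g := u) hGR
      rwa [h] at this
    have h3 := unique_in_pump hN hT (hC x hxo) heo heG hG2 hGk hR hGR h1 h2
    rw [hcjG] at h3
    refine diag_ne hNc hxCe hx2 hN12 hN3 ?_ hN13 hN32 h3
    intro h4
    rw [← cj_mul, hxu', cj_mul] at h4
    exact hN12 (cj_injective u h4)
  -- but `u` normalizes `R`
  apply hRu
  have hX2p : IsPair κ u (cj v X) := Om.pair' (hX.cj_of_comm (g := v) huv.symm) hp
  have hfx : Fixes x (cj v X) := hX2.fixes_of_mem hpu.comp hmove hxX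
  have h5 := (isComp_cen hX2 hxCu hx2 hfx).1
  rw [inf_comm] at h5
  have h6 := isComp_le_L2 huCx hu2 h5
  exact mem_normalizer_iff_cj.mp (hR.L2_le_normalizer (h6 (pair_mem_cen hX2p hxu')))

end Cfsg.Agent.UGT.I34.GOne
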