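import Cfsg.Agent.UGT.I34.GOne

/-!
# Section 3 of I34: (3G), type (2) does not occur
-/

set_option autoImplicit false

open Cfsg Subgroup
open Cfsg.Agent.SignalizersComponents Cfsg.Agent.Lib
open Cfsg.Agent.SignalizersComponents.IntrinsicBasic
open Cfsg.Agent.Intrinsic
open Cfsg.Agent.Intrinsic.Basic hiding IsPair PQS Target
open Cfsg.Agent.Intrinsic.Cen hiding pair_comm pair_mem_cen exists_pump pump_unique
open Cfsg.Agent.Intrinsic.Diag
open Cfsg.Agent.Intrinsic.TypesDef (Om exists_om sup_of_card)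
open Cfsg.Agent.McLLyComp.Act
open Cfsg.Agent.UGT.I34.Pair Cfsg.Agent.UGT.I34.KAut Cfsg.Agent.UGT.I34.FixLift Cfsg.Agent.UGT.I34.Elem
open Cfsg.Agent.UGT.I34.GOne
open scoped commutatorElement

namespace Cfsg.Agent.UGT.I34.GTwo

universe u

/-- `Z₂(K) = Z(K)` for perfect `K` -/
theorem mem_center_of_comm {K : Type*} [Group K] (hperf : ⁅(⊤ : Subgroup K), (⊤ : Subgroup K)⁆ = ⊤) {x : K}
    (h : ∀ y, x * y * x⁻¹ * y⁻¹ ∈ center K) : x ∈ center K := by
  have h1 : ⁅(⊤ : Subgroup K), (⊤ : Subgroup K)⁆ ≤ centralizer ({x} : Set K) := by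
    rw [commutator_le]
    intro a _ b _
    rw [mem_centralizer_singleton_iff]
    obtain ⟨c, hc⟩ : ∃ c, c = x * a * x⁻¹ * a⁻¹ := ⟨_, rfl⟩
    obtain ⟨d, hd⟩ : ∃ d, d = x * b * x⁻¹ * b⁻¹ := ⟨_, rfl⟩
    have hcc : ∀ y, c * y = y * c := fun y => ((mem_center_iff.mp (hc ▸ h a)) y).symm
    have hdc : ∀ y, d * y = y * d := fun y => ((mem_center_iff.mp (hd ▸ h b)) y).symm
    have ea : x * a * x⁻¹ = c * a := by rw [hc]; group
    have eb : x * b * x⁻¹ = d * b := by rw [hd]; group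
    have e1 : x * ⁅a, b⁆ * x⁻¹ = ⁅a, b⁆ := by
      calc x * ⁅a, b⁆ * x⁻¹ = (x * a * x⁻¹) * (x * b * x⁻¹) * (x * a * x⁻¹)⁻¹ * (x * b * x⁻¹)⁻¹ := by
            rw [commutatorElement_def]; group
        _ = c * a * (d * b) * (c * a)⁻¹ * (d * b)⁻¹ := by rw [ea, eb]
        _ = c * (a * d) * b * a⁻¹ * c⁻¹ * b⁻¹ * d⁻¹ := by group
        _ = c * (d * a) * b * a⁻¹ * c⁻¹ * b⁻¹ * d⁻¹ := by rw [hdc a]
        _ = c * (d * (a * b * a⁻¹ * c⁻¹ * b⁻¹)) * d⁻¹ := by group
        _ = c * (a * b * a⁻¹ * c⁻¹ * b⁻¹ * d) * d⁻¹ := by rw [hdc]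
        _ = c * (a * b * a⁻¹ * c⁻¹ * b⁻¹) := by group
        _ = (a * b * a⁻¹ * c⁻¹ * b⁻¹) * c := by rw [hcc]
        _ = a * b * a⁻¹ * c⁻¹ * (b⁻¹ * c) := by group
        _ = a * b * a⁻¹ * c⁻¹ * (c * b⁻¹) := by rw [hcc b⁻¹]
        _ = ⁅a, b⁆ := by rw [commutatorElement_def]; group
    calc ⁅a, b⁆ * x = (x * ⁅a, b⁆ * x⁻¹) * x := by rw [e1]
      _ = x * ⁅a, b⁆ := by group
  rw [hperf] at h1
  rw [mem_center_iff]
  intro y
  exact mem_centralizer_singleton_iff.mp (h1 (mem_top y))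

variable {κ : Kind.{u}} {G : Type u} [Group G] [Finite G]

theorem exists_x (E : KG κ) {u v : G} {X : Subgroup G} (hp : IsPair κ u X)
    (hv : v * v = 1) (huv : u * v = v * u) (hmove : cj v X ≠ X) :
    ∃ x, ∃ _ : x ∈ X, x * x = 1 ∧ ¬ Fixes x X ∧ x * (v * x * v⁻¹) = (v * x * v⁻¹) * x := by
  have hvC : v ∈ centralizer ({u} : Set G) := mem_centralizer_singleton_iff.mpr huv.symm
  obtain ⟨g, hg2, hgc⟩ := E.inv hp.kind
  obtain ⟨⟨c, hc⟩, rfl⟩ := QuotientGroup.mk_surjective g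
  have hc2 : c ^ 2 ^ 1 ∈ core X := by
    rw [pow_one, pow_two, ← mk_eq_one_iff (X.mul_mem hc hc)]
    exact hg2
  obtain ⟨k, hk1, hk2⟩ := Lifting.exists_two_part (odd_card_core X) hc2
  have hx0 : c ^ k ∈ X := X.pow_mem hc k
  have hx02 : c ^ k * c ^ k = 1 := by
    rw [pow_one, pow_two] at hk1; exact hk1
  obtain ⟨x, hxX, hx2, hx0x, hxv⟩ := exists_comm_swap hp.comp hvC hv hmove hx0 hx02
  have hmk : (QuotientGroup.mk ⟨x, hxX⟩ : ↥X ⧸ oddCore ↥X) = QuotientGroup.mk ⟨c, hc⟩ := by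
    have e1 : (QuotientGroup.mk ⟨c, hc⟩ : ↥X ⧸ oddCore ↥X) = QuotientGroup.mk ⟨c ^ k, hx0⟩ :=
      (mk_eq_iff hc hx0).mpr hk2
    have e2 : (QuotientGroup.mk ⟨c ^ k, hx0⟩ : ↥X ⧸ oddCore ↥X) = QuotientGroup.mk ⟨x, hxX⟩ := by
      rw [mk_eq_iff hx0 hxX, hp.comp.core_eq]
      exact ⟨X.mul_mem (X.inv_mem hx0) hxX, hx0x⟩
    rw [e1, e2]
  refine ⟨x, hxX, hx2, ?_, hxv⟩
  intro hf
  apply hgc
  rw [← hmk]
  exact mk_mem_center hxX hf

/-- an element of the centre of `E / O(E)`, `E` the diagonal, comes from a central element -/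
theorem fixes_of_diag (E : KG κ) {u v : G} {X D : Subgroup G} (hp : IsPair κ u X)
    (hv : v * v = 1) (huv : u * v = v * u) (hmove : cj v X ≠ X)
    (hD : D = diag (centralizer ({u} : Set G)) X v) {x e : G} (hx : x ∈ X) (he : e ∈ D)
    (hc : e⁻¹ * (x * (v * x * v⁻¹)) ∈ core (centralizer ({u} : Set G))) :
    (QuotientGroup.mk ⟨e, he⟩ : ↥D ⧸ oddCore ↥D) ∈ center (↥D ⧸ oddCore ↥D) ↔ Fixes x X := by
  subst hD
  have hvC : v ∈ centralizer ({u} : Set G) := mem_centralizer_singleton_iff.mpr huv.symm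
  obtain ⟨-, -, -, -, f, hfs, hfk, hf1, -⟩ := exists_diag hp.comp hvC hv hmove
  have h1 : f (QuotientGroup.mk ⟨x, hx⟩) = QuotientGroup.mk ⟨e, he⟩ := hf1 ⟨x, hx⟩ ⟨e, he⟩ hc
  constructor
  · intro h
    apply fixes_of_mk_mem_center hx
    apply mem_center_of_comm (E.perf hp.kind)
    intro y
    apply hfk
    rw [MonoidHom.mem_ker, map_mul, map_mul, map_mul, map_inv, map_inv, h1]
    have h2 := mem_center_iff.mp h (f y)
    rw [← h2]
    group
  · intro h
    rw [← h1, mem_center_iff]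
    intro y
    obtain ⟨y, rfl⟩ := hfs y
    rw [← map_mul, ← map_mul, mem_center_iff.mp (mk_mem_center hx h) y]

/-- **(3.G)**: there are no pairs of type (2). -/
theorem no_type_two (F : KF κ) (E : KG κ) (hN : PQS κ (Nat.card G)) (hT : OneComp κ)
    (hC : ∀ x : G, orderOf x = 2 → centralizer ({x} : Set G) ≠ ⊤) {z u v : G} {L X X' : Subgroup G}
    (hp : IsPair κ z L) (huv : u * v = v * u) (hX : Om z L u X) (hX' : Om z L v X') : cj v X = X := by
  by_contra hmove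
  have hpu := Om.pair' hX hp
  have hpv := Om.pair' hX' hp
  have hmove' := TypeTF.typeTF F hN hT hC hp hX hX' huv hmove
  have hvCu : v ∈ centralizer ({u} : Set G) := mem_centralizer_singleton_iff.mpr huv.symm
  have huCv : u ∈ centralizer ({v} : Set G) := mem_centralizer_singleton_iff.mpr huv
  have hv2 := hpv.sq
  have hu2 := hpu.sq
  obtain ⟨x, hxX, hx2, hxf, hxv⟩ := exists_x E hpu hv2 huv hmove
  have hdiag := diag_eq E hN hT hC hp huv hX hX' hmove hmove' hxX hx2 hxf hxv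
  -- `Ω_u = {X, X ^ v}`
  have htwo : ∀ Y, Om z L u Y → Y = X ∨ Y = cj v X := by
    intro Y hY
    by_contra hYne
    push Not at hYne
    have hpY := Om.pair' hY hp
    have hYmove : cj v Y ≠ Y := TypeTF.typeTF F hN hT hC hp hX' hY huv.symm hmove'
    obtain ⟨y, hyY, hy2, hyf, hyv⟩ := exists_x E hpY hv2 huv hYmove
    have h2 := diag_eq E hN hT hC hp huv hY hX' hYmove hmove' hyY hy2 hyf hyv
    exact diag_ne hpu.comp hvCu hv2 hmove hpY.comp hYmove hYne.1 hYne.2 (h2.trans hdiag.symm)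
  -- the element `e`
  obtain ⟨e, he⟩ : ∃ e, e = x * (v * x * v⁻¹) := ⟨_, rfl⟩
  have hvi : v⁻¹ = v := inv_eq_of_mul_eq_one_left hv2
  have hxi : x⁻¹ = x := inv_eq_of_mul_eq_one_left hx2
  have hxvx : x * v * x⁻¹ = v * e := by
    rw [he, hxv, hxi, hvi]
    calc x * v * x = (v * v) * x * v * x := by rw [hv2, one_mul]
      _ = _ := by group
  have hev : e * v = v * e := by
    rw [← hxvx, he, hxi, mul_assoc, inv_mul_cancel_right, mul_assoc]
  have hee : e * e = 1 := by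
    calc e * e = (x * (v * x * v⁻¹)) * ((v * x * v⁻¹) * x) := by rw [← hxv, ← he]
      _ = x * v * (x * x) * v⁻¹ * x := by group
      _ = 1 := by rw [hx2, mul_one, mul_inv_cancel_right, hx2]
  have hxu' : x * u = u * x := pair_comm hpu hxX
  have hxCu : x ∈ centralizer ({u} : Set G) := mem_centralizer_singleton_iff.mpr hxu'
  have heCu : e ∈ centralizer ({u} : Set G) := by
    rw [he]
    exact mul_mem hxCu (mul_mem (mul_mem hvCu hxCu) (inv_mem hvCu))
  have heCv : e ∈ centralizer ({v} : Set G) := mem_centralizer_singleton_iff.mpr hev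
  have hvCv : v ∈ centralizer ({v} : Set G) := mem_centralizer_singleton_iff.mpr rfl
  obtain ⟨D, hDdef⟩ : ∃ D, D = diag (centralizer ({u} : Set G)) X v := ⟨_, rfl⟩
  have hDdef' : D = diag (centralizer ({v} : Set G)) X' u := hDdef.trans hdiag
  have hcore : e⁻¹ * (x * (v * x * v⁻¹)) ∈ core (centralizer ({u} : Set G)) := by
    rw [← he, inv_mul_cancel]; exact one_mem _
  have heD : e ∈ D := by
    rw [hDdef]
    exact mem_diag heCu hev hxX hcore (n := 1) (by rw [pow_one, pow_two]; exact hee)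
  obtain ⟨hD', hD'm, -, -, -⟩ := exists_diag hpv.comp huCv hu2 hmove'
  rw [← hDdef'] at hD' hD'm
  have heX' : e ∈ normalizer (X' : Set G) :=
    hpv.comp.L2_le_normalizer (isComp_le_L2 huCv hu2 hD' heD)
  obtain ⟨a, haX', hae⟩ := hD'm e heD
  have hfa : ¬ Fixes a X' := by
    intro hf
    apply hxf
    rw [← fixes_of_diag E hpu hv2 huv hmove hDdef hxX heD hcore]
    exact (fixes_of_diag E hpv hu2 huv.symm hmove' hDdef' haX' heD hae).mpr hf
  have haCv : a ∈ centralizer ({v} : Set G) := hpv.comp.le haX'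
  have hfae : Fixes (a⁻¹ * (v * e)) X' := by
    have h1 := fixes_inv_mul hpv.comp huCv hmove' haX' heCv hae
    have h2 : a⁻¹ * (v * e) = (a⁻¹ * e) * v := by rw [← hev, mul_assoc]
    rw [h2]
    exact fixes_mul h1 (fixes_pair hpv)
  have hnfe : ¬ Fixes (v * e) X' := by
    intro hf
    apply hfa
    have h4 := fixes_mul hf (fixes_inv hfae)
    have h5 : v * e * (a⁻¹ * (v * e))⁻¹ = a := by group
    rwa [h5] at h4
  -- the pair `(v, v')`, `v' = v e`
  obtain ⟨v', hv'⟩ : ∃ v', v' = v * e := ⟨_, rfl⟩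
  rw [← hv'] at hxvx hfae hnfe
  have hvv' : v * v' = v' * v := by rw [hv', mul_assoc v e v, hev]
  have hOm : Om z L v' (cj x X') := by
    rw [← hxvx]; exact hX'.cj x
  have hpv' := Om.pair' hOm hp
  have hnv' : v' ∈ normalizer (X' : Set G) := by
    rw [hv']; exact mul_mem (le_normalizer hpv.mem) heX'
  have hinn : IsInn v' X' := isInn_iff.mpr ⟨a, haX', hfae⟩
  obtain ⟨w, hwX', hw2, hwv', hwf, ⟨g₁, hg₁, hgw₁⟩, ⟨g₂, hg₂, hgw₂⟩, hsq⟩ :=
    exists_w F E hN hT hC hp hX' hOm hvv' hnv' hnfe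
  obtain ⟨hsq1, hsq2⟩ := hsq hinn
  have hwv : w * v = v * w := pair_comm hpv hwX'
  -- `|Ω_{v'}| = 2`
  obtain ⟨g, hg⟩ : ∃ g, g * u * g⁻¹ = v' := by
    obtain ⟨g₀, hg₀, -⟩ := hX
    obtain ⟨g₃, hg₃, -⟩ := hOm
    exact ⟨g₃ * g₀⁻¹, by rw [← hg₃, ← hg₀]; group⟩
  have hY1 : Om z L v' (cj g X) := by rw [← hg]; exact hX.cj g
  have hY2 : Om z L v' (cj g (cj v X)) := by rw [← hg]; exact (hX.cj_of_comm huv.symm).cj g
  have hY12 : cj g (cj v X) ≠ cj g X := fun h => hmove (cj_injective g h)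
  have htwo' : ∀ Y, Om z L v' Y → Y = cj g X ∨ Y = cj g (cj v X) := by
    intro Y hY
    have h1 : Om z L u (cj g⁻¹ Y) := by
      have := hY.cj g⁻¹
      rwa [← hg, show g⁻¹ * (g * u * g⁻¹) * (g⁻¹)⁻¹ = u by group] at this
    rcases htwo _ h1 with h | h
    · left; rw [← h, cj_cj_inv]
    · right; rw [← h, cj_cj_inv]
  have hsqn : closure {s | ∃ r ∈ X' ⊓ centralizer ({v'} : Set G), r * r = s} ≤
      normalizer (cj g X : Set G) := by
    rw [closure_le]
    rintro _ ⟨r, hr, rfl⟩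
    have hrv : r * v' = v' * r := mem_centralizer_singleton_iff.mp hr.2
    change r * r ∈ normalizer (cj g X : Set G)
    rw [mem_normalizer_iff_cj, cj_mul]
    rcases htwo' _ (hY1.cj_of_comm hrv) with h | h
    · rw [h, h]
    · rcases htwo' _ (hY2.cj_of_comm hrv) with h' | h'
      · rw [h, h']
      · exact absurd (cj_injective r (h.trans h'.symm)).symm hY12
  have hwn : w ∈ normalizer (cj g X : Set G) := hsqn hsq1
  have hwvn : w * v ∈ normalizer (cj g X : Set G) := hsqn hsq2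
  have hpY1 := Om.pair' hY1 hp
  have hv'n : v' ∈ normalizer (cj g X : Set G) := le_normalizer hpY1.mem
  -- `v' w`, `v' w v` are conjugates
  have hOw : Om z L (v' * w) (cj g₁ (cj x X')) := by rw [← hgw₁]; exact hOm.cj g₁
  have hOwv : Om z L (v' * (w * v)) (cj g₂ (cj x X')) := by rw [← hgw₂]; exact hOm.cj g₂
  -- the end: an element `w' ∈ X'`
  have fin : ∀ w' ∈ X', w' * v' = v' * w' → ¬ Fixes w' X' →
      w' ∈ normalizer (cj g X : Set G) → (∃ Y, Om z L (v' * w') Y) → Fixes (v' * w') (cj g X) := by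
    rintro w' hw'X hw'v' hw'f hw'n ⟨Y, hY⟩
    by_contra hnf
    have hc : v' * (v' * w') = v' * w' * v' := by rw [mul_assoc v' w' v', hw'v']
    obtain ⟨k, -, hk⟩ := swap F E hN hT hC hp hY1 hY hc (mul_mem hv'n hw'n) hnf
    have h1 : v' * w' * v' = w' := by
      rw [← hc, ← mul_assoc, hpv'.sq, one_mul]
    rw [h1] at hk
    have hOw' : Om z L w' (cj k Y) := by rw [← hk]; exact hY.cj k
    have hw'v : w' * v = v * w' := pair_comm hpv hw'X
    have h2 : IsComp (centralizer ({v} : Set G)) (cj u X') := isComp_cj_of_mem hpv.comp huCv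
    have h3 : Fixes w' (cj u X') := h2.fixes_of_mem hpv.comp hmove' hw'X
    have h4 : Fixes v (cj k Y) := typeZero_symm hp (hX'.cj_of_comm huv) hOw' hw'v.symm h3
    exact hw'f (typeZero_symm hp hOw' hX' hw'v h4)
  have h1 := fin w hwX' hwv' hwf hwn ⟨_, hOw⟩
  have hwvv' : w * v * v' = v' * (w * v) := by
    calc w * v * v' = w * (v * v') := by group
      _ = w * v' * v := by rw [hvv']; group
      _ = v' * (w * v) := by rw [hwv']; group
  have h2 := fin (w * v) (mul_mem hwX' hpv.mem) hwvv' (by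
    intro hf
    apply hwf
    have h3 := fixes_mul hf (fixes_pair hpv)
    rwa [mul_assoc, hv2, mul_one] at h3) hwvn ⟨_, hOwv⟩
  have h3 := fixes_mul h1 h2
  have h4 : v' * w * (v' * (w * v)) = v := by
    calc v' * w * (v' * (w * v)) = v' * (w * v') * w * v := by group
      _ = (v' * v') * (w * w) * v := by rw [hwv']; group
      _ = v := by rw [hpv'.sq, hw2, one_mul, one_mul]
  rw [h4] at h3
  exact hnfe (typeZero_symm hp hY1 hX' hvv'.symm h3)

end Cfsg.Agent.UGT.I34.GTwo
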