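import Cfsg.Agent.UGT.I34.HeRec
import Cfsg.Agent.UGT.I34.FourBigDefs
import Cfsg.Agent.KFacts.He.TwoAAut

/-!
# `HeAut`: automorphisms of the Held group trivial on `L = C(z)^∞`

They are the conjugations by the elements of `Z(L)` (`KFacts.He.TwoAAut.aut_eq`).
-/

set_option autoImplicit false

open Cfsg Subgroup
open Cfsg.Agent.UGT.I34.Pair Cfsg.Agent.UGT.I34.Four
open Cfsg.Agent.KFacts.He
open Cfsg.Agent.KFacts.He.TwoACent (L V v)

namespace Cfsg.Agent.UGT.I34.HeRec

universe u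

variable {κ : Kind.{u}}

/-- **the record `HeAut`** -/
theorem heAut (hκ : HeKind κ) : HeAut κ where
  aut {Y _ _ z L'} hT hp φ hφ := by
    obtain ⟨e, rfl, rfl⟩ := exists_pair_iso hκ hT hp
    obtain ⟨c, hc, h⟩ := TwoAAut.aut_eq (α := (e.trans φ).trans e.symm) (fun l hl => by
      show e.symm (φ (e l)) = l
      rw [hφ (e l) ⟨l, hl, rfl⟩, e.symm_apply_apply])
    refine ⟨e c, ⟨c, TwoACent.V_le_L hc, rfl⟩, ?_, fun y => ?_⟩
    · rintro _ ⟨l, hl, rfl⟩
      show e c * e l = e l * e c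
      rw [← map_mul, ← map_mul, TwoACent.mem_V.mp hc l hl]
    · obtain ⟨x, rfl⟩ := e.surjective y
      have h1 := congrArg e (h x)
      change e (e.symm (φ (e x))) = _ at h1
      rw [e.apply_symm_apply] at h1
      rw [h1, map_mul, map_mul, map_inv]

end Cfsg.Agent.UGT.I34.HeRec
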