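import Cfsg.Agent.KFacts.He.RecL
import Cfsg.Agent.KFacts.He.RecGraph
import Cfsg.Agent.KFacts.He.Classes
import Cfsg.Agent.KFacts.He.Cent
import Cfsg.Agent.UGT.I34.FourDefs
import Cfsg.Agent.UGT.I34.Cov
import Cfsg.Agent.SignalizersComponents.EvenComponent
import Cfsg.Agent.SignalizersComponents.LayerBasic

/-!
# The K-facts on the Held group for `X / O(X)` of type `2².L₃(4)`

* `isComp_map` : transport of 2-components.
* `isComp_L`, `comp_a` : `L` is the only 2-component of `C(a)` in the Held group.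
* `exists_iso` : a pair `(z, L')` of `Y ≅ He` (`5 ∣ |L'|`) is the image of `(a, L)`.
* `HeKind κ` : the exceptional configurations are in `He`, and 5 divides the order; `heKind` : it holds for `kind' 4 4`.
* `heT` : the record `HeT`.
* `conn` : the commuting graph on the conjugates of `z` is connected.
-/

set_option autoImplicit false

open Cfsg Subgroup
open Cfsg.Agent.SignalizersComponents Cfsg.Agent.Lib
open Cfsg.Agent.SignalizersComponents.IntrinsicBasic
open Cfsg.Agent.SignalizersComponents.PLayerAut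
open Cfsg.Agent.Intrinsic.Basic hiding IsPair PQS Target IsPair.sq IsPair.ne_one IsPair.cj
open Cfsg.Agent.UGT.I34.Pair Cfsg.Agent.UGT.I34.Four
open Cfsg.Agent.KFacts.He.Lv (gn)
open Cfsg.Agent.KFacts.He.TwoACent (L V v)
open scoped commutatorElement

namespace Cfsg.Agent.UGT.I34.HeRec

universe u

open Cfsg.Agent.KFacts.He

/-! ### transport -/

section transport

variable {A B : Type*} [Group A] [Group B]

theorem map_cent (e : A ≃* B) (t : A) :
    (centralizer ({t} : Set A)).map e.toMonoidHom = centralizer ({e t} : Set B) := by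
  have hcen : ∀ g, g ∈ centralizer ({t} : Set A) ↔ e g ∈ centralizer ({e t} : Set B) := by
    intro g
    rw [mem_centralizer_singleton_iff, mem_centralizer_singleton_iff, ← map_mul, ← map_mul,
      e.injective.eq_iff]
  ext g
  constructor
  · rintro ⟨g, hg, rfl⟩; exact (hcen g).mp hg
  · intro hg
    obtain ⟨g, rfl⟩ := e.surjective g
    exact ⟨g, (hcen g).mpr hg, rfl⟩

theorem isComp_map (e : A ≃* B) {H K : Subgroup A} (h : IsComp H K) :
    IsComp (H.map e.toMonoidHom) (K.map e.toMonoidHom) := by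
  let ec : ↥H ≃* ↥(H.map e.toMonoidHom) := Subgroup.equivMapOfInjective _ e.toMonoidHom e.injective
  refine ⟨Subgroup.map_mono h.1, ?_⟩
  have h1 := isPComponent_map_equiv 2 ec h.2
  have h2 : (K.subgroupOf H).map ec.toMonoidHom = (K.map e.toMonoidHom).subgroupOf (H.map e.toMonoidHom) := by
    ext ⟨g, hg⟩
    constructor
    · rintro ⟨y, hy, h3⟩
      rw [mem_subgroupOf]
      exact ⟨y, hy, congrArg Subtype.val h3⟩
    · intro h3
      rw [mem_subgroupOf] at h3
      obtain ⟨y, hy, h4⟩ := h3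
      exact ⟨⟨y, h.1 hy⟩, mem_subgroupOf.mpr hy, Subtype.ext h4⟩
  rw [← h2]
  exact h1

theorem isComp_map_iff (e : A ≃* B) {H K : Subgroup A} :
    IsComp (H.map e.toMonoidHom) (K.map e.toMonoidHom) ↔ IsComp H K := by
  refine ⟨fun h => ?_, isComp_map e⟩
  have h1 := isComp_map e.symm h
  have key : ∀ S : Subgroup A, (S.map e.toMonoidHom).map e.symm.toMonoidHom = S := by
    intro S
    rw [Subgroup.map_map]
    have : e.symm.toMonoidHom.comp e.toMonoidHom = MonoidHom.id A := by
      ext x; exact e.symm_apply_apply x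
    rw [this, Subgroup.map_id]
  rwa [key, key] at h1

end transport

/-! ### the Held group -/

theorem cent_eq : (centralizer ({gn .a} : Set Cfsg.Spor.He)) = centralizer ({gn .a} : Set Cfsg.Spor.He) := rfl

theorem L_le : L ≤ centralizer ({gn .a} : Set Cfsg.Spor.He) := TwoA.two_a.1

theorem even_L : 2 ∣ Nat.card ↥L := by
  have h1 : Nat.card V ∣ Nat.card L := Subgroup.card_dvd_of_le TwoACent.V_le_L
  rw [TwoACent.card_V] at h1
  exact Dvd.dvd.trans (by norm_num) h1

theorem isComp_L : IsComp (centralizer ({gn .a} : Set Cfsg.Spor.He)) L := by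
  have hp2 : Fact (Nat.Prime 2) := ⟨Nat.prime_two⟩
  obtain ⟨h1, h2, h3, -⟩ := TwoA.two_a
  refine ⟨h1, ?_⟩
  apply EvenComponent.isPComponent_of_isComponent
  · refine ⟨?_, ?_⟩
    · exact h2.isSubnormal
    · exact PCompQuot.quasisimple_congr (Subgroup.subgroupOfEquivOfLe h1).symm h3
  · rw [Nat.card_congr (Subgroup.subgroupOfEquivOfLe h1).toEquiv]
    exact even_L

/-- `L` is the only 2-component of `C(a)` -/
theorem comp_a {L' : Subgroup Cfsg.Spor.He} (h : IsComp (centralizer ({gn .a} : Set Cfsg.Spor.He)) L') :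
    L' = L := by
  have h1 : L' ≤ L := by
    rw [← h.perfect, commutator_le]
    intro x hx y hy
    have cx := mem_centralizer_singleton_iff.mp (h.le hx)
    have cy := mem_centralizer_singleton_iff.mp (h.le hy)
    have key : ∀ {p q : Cfsg.Spor.He}, p * gn .a = gn .a * p → q * gn .a = gn .a * q → p ∈ L → ⁅p, q⁆ ∈ L := by
      intro p q _ hq hp
      rw [commutatorElement_def, mul_assoc, mul_assoc]
      refine L.mul_mem hp ?_
      rw [← mul_assoc]
      exact TwoACent.norm hq (L.inv_mem hp)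
    rcases TwoACent.two cx cy with h2 | h2 | h2
    · exact key cx cy h2
    · rw [← commutatorElement_inv]
      exact L.inv_mem (key cy cx h2)
    · have h3 := TwoACent.norm (c := x⁻¹) (by
        rw [inv_mul_eq_iff_eq_mul, ← mul_assoc, cx, mul_inv_cancel_right]) h2
      have h4 : ⁅x, y⁆ = x * y * (x⁻¹ * (x * y) * x⁻¹⁻¹)⁻¹ := by
        rw [commutatorElement_def]; group
      rw [h4]
      exact L.mul_mem h2 (L.inv_mem h3)
  exact h.eq_of_le isComp_L h1

theorem z_no {L' : Subgroup Cfsg.Spor.He}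
    (h : IsComp (centralizer ({Bound.z} : Set Cfsg.Spor.He)) L') : ¬ 5 ∣ Nat.card ↥L' := by
  intro h1
  have h2 := h1.trans (Subgroup.card_dvd_of_le h.le)
  rw [Cent.card_cent] at h2
  norm_num at h2

theorem conj_iso {X : Type*} [Group X] (e : Cfsg.Spor.He ≃* X) (g : Cfsg.Spor.He) (x : Cfsg.Spor.He) :
    ((MulAut.conj g).trans e) x = e (g * x * g⁻¹) := rfl

/-- **Every pair of the Held group is the image of `(a, L)`.** -/
theorem exists_iso {Y : Type*} [Group Y] (hY : Spor.IsoHe Y) {t : Y} {L' : Subgroup Y} (ht : orderOf t = 2)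
    (hL : IsComp (centralizer ({t} : Set Y)) L') (h5 : 5 ∣ Nat.card ↥L') :
    ∃ e : Cfsg.Spor.He ≃* Y, e (gn .a) = t ∧ L.map e.toMonoidHom = L' := by
  obtain ⟨e'⟩ := hY
  obtain ⟨e, he⟩ : ∃ e : Cfsg.Spor.He ≃* Y, e = e'.symm := ⟨_, rfl⟩
  obtain ⟨t0, rfl⟩ := e.surjective t
  have ht0 : orderOf t0 = 2 := by
    rw [← ht]; exact (orderOf_injective e.toMonoidHom e.injective t0).symm
  have h1 : t0 * t0 = 1 := by rw [← pow_two, ← ht0, pow_orderOf_eq_one]
  have h2 : t0 ≠ 1 := by rintro rfl; rw [orderOf_one] at ht0; norm_num at ht0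
  -- pull back `L'`
  obtain ⟨L0, hL0⟩ : ∃ L0, L0 = L'.comap e.toMonoidHom := ⟨_, rfl⟩
  have hm : L0.map e.toMonoidHom = L' := by
    rw [hL0]; exact Subgroup.map_comap_eq_self_of_surjective e.surjective L'
  have hc0 : IsComp (centralizer ({t0} : Set Cfsg.Spor.He)) L0 := by
    rw [← isComp_map_iff e, map_cent, hm]; exact hL
  have h50 : 5 ∣ Nat.card ↥L0 := by
    rw [← hm, Nat.card_congr (L0.equivMapOfInjective e.toMonoidHom e.injective).symm.toEquiv] at h5
    exact h5
  rcases Classes.two_classes_a h1 h2 with ⟨g, hg⟩ | ⟨g, hg⟩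
  · exfalso
    -- `t0` is conjugate to `z`
    have h3 := isComp_map (MulAut.conj g⁻¹) hc0
    rw [map_cent] at h3
    have h4 : (MulAut.conj g⁻¹) t0 = Bound.z := by
      rw [MulAut.conj_apply, inv_inv, ← hg]; group
    rw [h4] at h3
    apply z_no h3
    rw [Nat.card_congr (L0.equivMapOfInjective _ (MulAut.conj g⁻¹).injective).symm.toEquiv]
    exact h50
  · have h3 := isComp_map (MulAut.conj g⁻¹) hc0
    rw [map_cent] at h3
    have h4 : (MulAut.conj g⁻¹) t0 = gn .a := by
      rw [MulAut.conj_apply, inv_inv, ← hg]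
      show g⁻¹ * (g * gn .a * g⁻¹) * g = gn .a
      group
    rw [h4] at h3
    have h5' := comp_a h3
    refine ⟨(MulAut.conj g).trans e, ?_, ?_⟩
    · rw [conj_iso]; exact congrArg e hg
    · rw [← h5', ← hm]
      ext y
      constructor
      · rintro ⟨_, ⟨x, hx, rfl⟩, rfl⟩
        refine ⟨x, hx, ?_⟩
        show e x = e (g * (g⁻¹ * x * g⁻¹⁻¹) * g⁻¹)
        congr 1; group
      · rintro ⟨x, hx, rfl⟩
        refine ⟨_, ⟨x, hx, rfl⟩, ?_⟩
        show e (g * (g⁻¹ * x * g⁻¹⁻¹) * g⁻¹) = e x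
        congr 1; group

/-! ### the first record -/

theorem center_He : center Cfsg.Spor.He = ⊥ := by
  rcases Cent.simpleHe.eq_bot_or_eq_top_of_normal (center Cfsg.Spor.He) inferInstance with h | h
  · exact h
  · exfalso
    have h1 : V = ⊤ := by
      rw [eq_top_iff]
      intro g _
      rw [TwoACent.mem_V]
      intro l _
      have h2 : l ∈ center Cfsg.Spor.He := by rw [h]; exact mem_top _
      exact (mem_center_iff.mp h2 g).symm
    have h2 := TwoACent.card_V
    rw [h1, Subgroup.card_top, Cent.card_He] at h2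
    norm_num at h2

theorem core_L : oddCore ↥L = ⊥ := by
  rcases LayerBasic.quasisimple_normal TwoA.isQuasisimple_L (oddCore ↥L) (by unfold oddCore; infer_instance) with h | h
  · exfalso
    have h3 := odd_card_core L
    rw [core, h, ← MonoidHom.range_eq_map, Subgroup.range_subtype] at h3
    exact (Nat.not_even_iff_odd.mpr h3) (even_iff_two_dvd.mpr even_L)
  · rw [eq_bot_iff]
    intro x hx
    have h1 := RecL.center_sq (h hx)
    have h2 : (x : Cfsg.Spor.He) ∈ core L := ⟨x, hx, rfl⟩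
    have h3 := eq_one_of_mem_core_sq h2 (congrArg Subtype.val h1)
    rw [mem_bot]
    exact Subtype.ext h3

/-- what is used of the kind: the exceptional configurations are in `He`, and 5 divides the order -/
structure HeKind (κ : Kind.{u}) : Prop where
  iso : ∀ {Y : Type u} [Group Y] {z : Y} {L : Subgroup Y}, κ.T Y z L → Spor.IsoHe Y
  five : ∀ {K : Type u} [Group K] [Finite K], κ.P K → 5 ∣ Nat.card K

theorem heKind : HeKind (Cov.kind'.{u} 4 4 fun X _ _ _ => Spor.IsoHe X) where
  iso h := h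
  five h := by rw [h.1.card_K]; norm_num

section records

variable {κ : Kind.{u}} (hκ : HeKind κ) {Y : Type u} [Group Y] [Finite Y] {z : Y} {L' : Subgroup Y}

include hκ in
theorem exists_pair_iso (hT : κ.T Y z L') (hp : IsPair κ z L') :
    ∃ e : Cfsg.Spor.He ≃* Y, e (gn .a) = z ∧ L.map e.toMonoidHom = L' := by
  refine exists_iso (hκ.iso hT) hp.inv hp.comp ?_
  have h1 := hκ.five hp.kind
  exact h1.trans (Subgroup.card_quotient_dvd_card _)

omit [Finite Y] in
/-- `L / O(L) ≅ L` for the image of `L` -/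
theorem core_map (e : Cfsg.Spor.He ≃* Y) : oddCore ↥(L.map e.toMonoidHom) = ⊥ := by
  have h1 := Lib.Cores.map_equiv_pPrimeCore (L.equivMapOfInjective e.toMonoidHom e.injective) 2
  show Cfsg.pPrimeCore 2 _ = ⊥
  rw [← h1, show Cfsg.pPrimeCore 2 ↥L = ⊥ from core_L, Subgroup.map_bot]

/-- the isomorphism `L → e L / O(e L)` -/
noncomputable def quot (e : Cfsg.Spor.He ≃* Y) :
    ↥L ≃* ↥(L.map e.toMonoidHom) ⧸ oddCore ↥(L.map e.toMonoidHom) :=
  (L.equivMapOfInjective e.toMonoidHom e.injective).trans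
    ((QuotientGroup.quotientMulEquivOfEq (core_map e)).trans QuotientGroup.quotientBot).symm

omit [Finite Y] in
theorem quot_apply (e : Cfsg.Spor.He ≃* Y) {x : Cfsg.Spor.He} (hx : x ∈ L) :
    quot e ⟨x, hx⟩ = QuotientGroup.mk ⟨e x, ⟨x, hx, rfl⟩⟩ := by
  unfold quot
  rw [MulEquiv.trans_apply, MulEquiv.symm_apply_eq]
  rfl

theorem can_to_klein {t : ↥L} (h : Four.Can t) : Cfsg.Agent.UGT.Cov.Klein.Can t := h

include hκ in
/-- **The record `HeT`.** -/
theorem heT : HeT κ where
  center := fun {Y _ _ z L'} hT hp => by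
    obtain ⟨e, -, -⟩ := exists_pair_iso hκ hT hp
    rw [← Cov.map_center e, center_He, Subgroup.map_bot]
  core := fun {Y _ _ z L'} hT hp => by
    obtain ⟨e, -, rfl⟩ := exists_pair_iso hκ hT hp
    exact core_map e
  cent := fun {Y _ _ z L'} hT hp => by
    obtain ⟨e, -, rfl⟩ := exists_pair_iso hκ hT hp
    intro y hy
    obtain ⟨x, rfl⟩ := e.surjective y
    refine ⟨x, TwoACent.V_le_L (TwoACent.mem_V.mpr fun l hl => ?_), rfl⟩
    apply e.injective
    rw [map_mul, map_mul]
    exact mem_centralizer_iff.mp hy (e l) ⟨l, hl, rfl⟩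
  one := fun {Y _ _ z L' L''} hT hp hc => by
    obtain ⟨e, rfl, rfl⟩ := exists_pair_iso hκ hT hp
    have h1 := isComp_map e.symm hc
    rw [map_cent, e.symm_apply_apply] at h1
    have h2 := comp_a h1
    rw [← h2, Subgroup.map_map]
    have : e.toMonoidHom.comp e.symm.toMonoidHom = MonoidHom.id Y := by
      ext x; exact e.apply_symm_apply x
    rw [this, Subgroup.map_id]
  can := fun {Y _ _ z L'} hT hp => by
    obtain ⟨e, rfl, rfl⟩ := exists_pair_iso hκ hT hp
    rintro t ⟨t0, ht0, rfl⟩ hcan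
    have h1 : Four.Can (quot e ⟨t0, ht0⟩) := by rw [quot_apply]; exact hcan
    have h2 := can_to_klein ((Four.Can.map_iff (quot e)).mp h1)
    obtain ⟨g, hg1, hg2⟩ := RecL.of_can h2
    refine ⟨e g, ?_, ?_⟩
    · rw [← map_mul, ← map_inv, ← map_mul, hg1]; rfl
    · rw [mem_cj]
      exact ⟨_, hg2, by
        show e (g⁻¹ * gn .a * g) = _
        rw [map_mul, map_mul, map_inv]⟩

include hκ in
/-- **(HE2)** -/
theorem conn (hT : κ.T Y z L') (hp : IsPair κ z L') (S : Set Y) (hz : z ∈ S)
    (h : ∀ s ∈ S, ∀ g, s * (g * z * g⁻¹) = g * z * g⁻¹ * s → g * z * g⁻¹ ∈ S) (g : Y) : g * z * g⁻¹ ∈ S := by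
  obtain ⟨e, rfl, -⟩ := exists_pair_iso hκ hT hp
  obtain ⟨g, rfl⟩ := e.surjective g
  have key := RecGraph.conn (S := e ⁻¹' S) (x := gn .a) (IsConj.refl _) hz ?_
    (y := g * gn .a * g⁻¹) (isConj_iff.mpr ⟨g, rfl⟩)
  · have h1 : e (g * gn .a * g⁻¹) ∈ S := key
    rwa [map_mul, map_mul, map_inv] at h1
  · intro t ht _ t' ht' htt
    obtain ⟨k, rfl⟩ := isConj_iff.mp ht'
    show e (k * gn .a * k⁻¹) ∈ S
    rw [map_mul, map_mul, map_inv]
    apply h _ ht
    rw [← map_inv, ← map_mul, ← map_mul, ← map_mul, ← map_mul]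
    exact congrArg e htt

end records

end Cfsg.Agent.UGT.I34.HeRec
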