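import Cfsg.Agent.UGT.I34.KF
import Cfsg.Agent.UGT.Cov.At
import Cfsg.Agent.UGT.Cov.ROut
import Cfsg.Agent.UGT.Cov.KFPure
import Cfsg.Agent.UGT.Cov.KC
import Cfsg.Agent.SignalizersComponents.IntrinsicDiag

/-!
# THEOREM I34, part [A]: the fields `eight`, `sq_inner`, `gtype` of `KF.Facts`
-/

set_option autoImplicit false
set_option linter.unusedVariables false

namespace Cfsg.Agent.UGT.I34.KFAut

open Cfsg Subgroup
open Cfsg.Agent.Intrinsic.Basic
open Cfsg.Agent.UGT.I34.KF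
open Cfsg.Agent.StdL34
open Cfsg.Agent.SporadicA.FieldFour
open Cfsg.Agent
open Cfsg.Agent.UGT.Cov.ROut Cfsg.Agent.UGT.Cov.At
open scoped commutatorElement

variable {K : Type*} [Group K]

/-- field `sq_inner` -/
theorem sq_inner (A : StdL34.Cov K) (α : MulAut K) (n : ℕ) (_ : α ^ 2 ^ n = 1) :
    ∃ k, α * α = MulAut.conj k := Cfsg.Agent.UGT.Cov.ROut.sq_inner A α

/-- field `eight` -/
theorem eight (A : StdL34.Cov K) {t : K} (ht : NInv t) (κ : MulAut K)
    (h : κ * κ * (κ * κ) = MulAut.conj t) :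
    Nat.card {α : MulAut K // α t = t ∧ α * κ = κ * α} ≤ 32 := by
  obtain ⟨A, rfl, -, -⟩ := exists_at A ht.1 ht.2
  have h' : κ * κ * (κ * κ) = zb A := h
  have hk : κ * zb A = zb A * κ := by rw [← h']; group
  obtain ⟨r, hr⟩ := exists_rep hk
  have h1 := (hr.mul hr).mul (hr.mul hr)
  rw [h'] at h1
  have h2 := (fin_three r (h1.unique rep_zb)).1
  have key : ∀ α : {α : MulAut K // α (A.x 0 2 1) = A.x 0 2 1 ∧ α * κ = κ * α},
      ∃ s : {s // s ∈ cs r}, Rep A α.1 s.1 := by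
    rintro ⟨α, h3, h4⟩
    obtain ⟨s, hs⟩ := exists_rep (comm_of_fix h3)
    exact ⟨⟨s, Finset.mem_filter.mpr ⟨Finset.mem_univ _, (hs.comm hr).mp h4⟩⟩, hs⟩
  choose f hf using key
  have h5 : Function.Injective f := by
    intro x y hxy
    have h6 := hf x
    rw [hxy] at h6
    exact Subtype.ext (h6.ext (hf y))
  have h6 := Nat.card_le_card_of_injective f h5
  rw [Nat.card_eq_fintype_card (α := {s // s ∈ cs r}), Fintype.card_coe] at h6
  exact h6.trans h2

/-- `x₀₂(c) ∈ Y(x₀₂(1))` -/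
theorem x02_mem_Y (A : StdL34.Cov K) (c : F4) : A.x 0 2 c ∈ Y (A.x 0 2 1) := by
  refine ⟨?_, fun b hb => ?_⟩
  · rw [A.x_add 0 2 (by decide), A.x_add 0 2 (by decide), add_comm]
  · obtain ⟨p, rfl⟩ := Cov.mem_of_commute hb
    have h1 : MulAut.conj (A.el p) * MulAut.conj (A.x 0 2 c) =
        MulAut.conj (A.x 0 2 c) * MulAut.conj (A.el p) :=
      comm_x02 (rep_conj p) rfl c
    have h2 : MulAut.conj ⁅A.x 0 2 c, A.el p⁆ = 1 := by
      rw [commutatorElement_def, map_mul, map_mul, map_mul, map_inv, map_inv, ← h1]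
      group
    obtain ⟨k, hk⟩ := Cov.conj_eq_one h2
    rw [hk, mem_center_iff]
    exact fun m => (A.sp_cen k m).symm

/-- an automorphism fixing `t` and trivial on `Y t` modulo the centre, not inner: type `g` -/
theorem rep_of_triv (A : StdL34.Cov K) {φ : MulAut K} (hφ : φ (A.x 0 2 1) = A.x 0 2 1)
    (h : ∀ y ∈ Y (A.x 0 2 1), ∃ c ∈ center K, φ y = y * c) (h2 : ∀ k, φ ≠ MulAut.conj k) :
    ∃ a b c, Rep A φ ⟨a, b, c, false, true⟩ := by
  refine rep_g (comm_of_fix hφ) ?_ h2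
  obtain ⟨c, hc, hc'⟩ := h _ (x02_mem_Y A F4.w)
  have h3 := Cov.conj_map φ (A.x 0 2 F4.w)
  have h4 : MulAut.conj c = 1 := by
    ext y
    rw [MulAut.conj_apply, ← mem_center_iff.mp hc y]; simp
  rw [hc', map_mul, h4, mul_one] at h3
  rw [← mul_inv_eq_iff_eq_mul, ← h3]

/-- a simple nonabelian subgroup does not lie in the centraliser (a 2-group) of a noncentral involution -/
theorem exists_moved [Finite K] {t : K} (hC : Nat.card (centralizer ({t} : Set K)) = 128)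
    {J : Subgroup K} (hs : IsSimpleGroup J) (hp : ⁅J, J⁆ = J) :
    (∃ a ∈ J, ∃ b ∈ J, a * b ≠ b * a) ∧ ∃ k ∈ J, t * k ≠ k * t := by
  have : Fact (Nat.Prime 2) := ⟨Nat.prime_two⟩
  have hne : J ≠ ⊥ := by
    rintro rfl
    exact (hs.exists_pair_ne).elim fun x h => h.elim fun y h => h (Subsingleton.elim x y)
  have hnc : ¬ ∀ a ∈ J, ∀ b ∈ J, a * b = b * a := by
    intro hc
    apply hne
    rw [← hp, commutator_eq_bot_iff_le_centralizer]
    intro x hx
    rw [mem_centralizer_iff]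
    intro y hy
    exact hc y hy x hx
  have hna : ¬ IsMulCommutative J := fun hc =>
    hnc fun a ha b hb => congrArg Subtype.val (hc.is_comm.comm (⟨a, ha⟩ : J) ⟨b, hb⟩)
  refine ⟨by push Not at hnc; exact hnc, ?_⟩
  by_contra hcon
  push Not at hcon
  have hle : J ≤ centralizer ({t} : Set K) := by
    intro y hy
    rw [mem_centralizer_singleton_iff]
    exact (hcon y hy).symm
  have hsol : Group.IsSolvable ↥(centralizer ({t} : Set K)) := by
    have h3 : IsPGroup 2 ↥(centralizer ({t} : Set K)) := IsPGroup.of_card (n := 7) (by rw [hC]; norm_num)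
    have := h3.isNilpotent
    infer_instance
  have hsJ : Group.IsSolvable J := by
    have h3 : Function.Injective (Subgroup.inclusion hle) := Subgroup.inclusion_injective hle
    exact Group.isSolvable_of_isSolvable_injective h3
  have hq : IsQuasisimple J := Cfsg.Agent.SignalizersComponents.IntrinsicDiag.quasisimple_of_simple hs hna
  exact Cfsg.Agent.SignalizersComponents.Components.quasisimple_not_isSolvable hq hsJ

/-- field `gtype`, from the group of fixed points of a pure automorphism of type `g` -/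
theorem gtype_of [Finite K] (A : StdL34.Cov K) {π : K →* Cfsg.Agent.ONType.Psl.PSL3}
    {b : MulAut K →* MulAut Cfsg.Agent.ONType.Psl.PSL3} (D : Cfsg.Agent.UGT.Cov.KC A π b)
    (hJ : ∀ (A' : StdL34.Cov K) (π' : K →* Cfsg.Agent.ONType.Psl.PSL3)
      (b' : MulAut K →* MulAut Cfsg.Agent.ONType.Psl.PSL3), Cfsg.Agent.UGT.Cov.KC A' π' b' →
      ∀ φ : MulAut K, A'.IsTau (false, true) φ → ∃ J : Subgroup K, J ≤ fx φ ∧
        (J.subgroupOf (fx φ)).Normal ∧ IsSimpleGroup J ∧ ⁅J, J⁆ = J ∧ 2 ∣ Nat.card J)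
    {t : K} (ht : NInv t) (φ : MulAut K) (hφ2 : φ * φ = 1) (hφ : φ t = t)
    (h : ∀ y ∈ Y t, ∃ c ∈ center K, φ y = y * c) (hout : ∀ k, φ ≠ MulAut.conj k) :
    ∃ E : Subgroup K, E ≤ fx φ ∧ (∀ g ∈ fx φ, ∀ k ∈ E, g * k * g⁻¹ ∈ E) ∧ IsSimpleGroup ↥E ∧
      2 ∣ Nat.card E ∧ (∃ a ∈ E, ∃ b ∈ E, a * b ≠ b * a) ∧ ∃ k ∈ E, t * k ≠ k * t := by
  obtain ⟨A', π', b', D', hty, hz, ⟨τ, hτ, hφτ⟩, hs⟩ := D.adapt2 hout hφ2 ht.1 ht.2 hφ
  have hC : Nat.card (centralizer ({t} : Set K)) = 128 := by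
    obtain ⟨B, h1, h2, h3⟩ := Cfsg.Agent.UGT.Cov.KFPure.exists_cov_t A ht
    rw [← h3]
    exact Cfsg.Agent.UGT.Cov.KFPure.card_C B
  have hτ1 : τ = (false, true) := by
    have hfix : φ (A'.x 0 2 1) = A'.x 0 2 1 := by
      rw [hφτ.x02]
      have e1 : ∀ e, fr e (1 : F4) = 1 := by decide
      rw [e1]
    have hzc : ∀ m, A'.z * m = m * A'.z := fun m => by rw [A'.z_eq]; exact A'.sp_cen 2 m
    have hcomm : ∀ y : K, y * t = t * y ↔ y * A'.x 0 2 1 = A'.x 0 2 1 * y := by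
      intro y
      rcases hs with e1 | e1
      · rw [e1]
      · rw [e1, mul_assoc, hzc y, ← mul_assoc, ← mul_assoc]
        exact mul_left_inj _
    have hY : ∀ y ∈ Y (A'.x 0 2 1), y ∈ Y t := by
      rintro y ⟨h1, h2⟩
      exact ⟨(hcomm y).mpr h1, fun b hb => h2 b ((hcomm b).mp hb)⟩
    obtain ⟨a, c, d, hr⟩ := rep_of_triv A' hfix (fun y hy => h y (hY y hy)) hout
    have hr' : Rep A' φ ⟨0, 0, 0, τ.1, τ.2⟩ := hφτ.cd
    have := hr.unique hr'
    simp only [RC.mk.injEq] at this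
    exact Prod.ext this.2.2.2.1.symm this.2.2.2.2.symm
  subst hτ1
  obtain ⟨J, h1, h2, h3, h4, h5⟩ := hJ A' π' b' D' φ hφτ
  obtain ⟨h6, h7⟩ := exists_moved hC h3 h4
  refine ⟨J, h1, fun g hg k hk => ?_, h3, h5, h6, h7⟩
  have h8 : fx φ ≤ normalizer (J : Set K) := (normal_subgroupOf_iff_le_normalizer h1).mp h2
  exact (mem_normalizer_iff.mp (h8 hg) k).mp hk

end Cfsg.Agent.UGT.I34.KFAut
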