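import Cfsg.Agent.UGT.I34.KFAut
import Cfsg.Agent.UGT.Cov.Res

/-!
# THEOREM I34, part [A]: the record `KF.Facts` for `4₁.L₃(4)` and `4₂.L₃(4)`
-/

set_option autoImplicit false
set_option linter.unusedVariables false

namespace Cfsg.Agent.UGT.I34.KFEnd

open Cfsg Subgroup
open Cfsg.Agent
open Cfsg.Agent.Intrinsic.Basic
open Cfsg.Agent.UGT.I34.KF
open Cfsg.Agent.StdL34
open Cfsg.Agent.ONType.Psl (PSL3)
open scoped commutatorElement

/-- the input of `KFAut.gtype_of` -/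
theorem exists_J {K : Type*} [Group K] [Finite K] (A' : StdL34.Cov K) (π' : K →* PSL3)
    (b' : MulAut K →* MulAut PSL3) (D : Cfsg.Agent.UGT.Cov.KC A' π' b') (φ : MulAut K)
    (h : A'.IsTau (false, true) φ) : ∃ J : Subgroup K, J ≤ fx φ ∧
        (J.subgroupOf (fx φ)).Normal ∧ IsSimpleGroup J ∧ ⁅J, J⁆ = J ∧ 2 ∣ Nat.card J := by
  obtain ⟨h1, -, -⟩ := D.res_tau (Or.inr rfl) h
  have hfx : (Cfsg.Agent.UGT.ThEL34.fx φ : Subgroup K) = fx φ := by
    ext x; exact Iff.rfl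
  have hle := h1.le
  rw [hfx] at hle
  have hcomm := h1.comm
  rw [hfx] at hcomm
  refine ⟨_, hle, ?_, h1.simple, h1.perf, ?_⟩
  · rw [← hcomm]
    have e : ⁅fx φ, fx φ⁆ = (_root_.commutator ↥(fx φ)).map (fx φ).subtype := by
      rw [commutator_def, Subgroup.map_commutator, ← MonoidHom.range_eq_map, (fx φ).range_subtype]
    rw [e]
    have e2 : ((_root_.commutator ↥(fx φ)).map (fx φ).subtype).subgroupOf (fx φ) =
        _root_.commutator ↥(fx φ) := by
      rw [Subgroup.subgroupOf, Subgroup.comap_map_eq_self_of_injective (fx φ).subtype_injective]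
    rw [e2]
    infer_instance
  · obtain ⟨s, hs, hs1, hs2⟩ := h1.inv
    have h3 : orderOf (⟨s, hs⟩ : ↥(⁅(Cfsg.Agent.UGT.ThEL34.fx (b' φ)).comap π',
        (Cfsg.Agent.UGT.ThEL34.fx (b' φ)).comap π'⁆)) = 2 := by
      apply orderOf_eq_prime
      · apply Subtype.ext
        show s ^ 2 = 1
        rw [pow_two, hs2]
      · intro h4
        exact hs1 (congrArg Subtype.val h4)
    rw [← h3]
    exact orderOf_dvd_natCard _

theorem facts_of_kc {K : Type*} [Group K] [Finite K] {A : StdL34.Cov K} {π : K →* PSL3}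
    {b : MulAut K →* MulAut PSL3} (D : Cfsg.Agent.UGT.Cov.KC A π b) : Facts K A.ty := by
  refine Cfsg.Agent.UGT.Cov.KFPure.facts A D.cz D.ord ?_ ?_ ?_
  · intro B hB hty κ hκ hY h4
    exact KFAut.eight B (Cfsg.Agent.UGT.Cov.KFPure.t_NInv B hB) κ h4
  · exact KFAut.sq_inner A
  · intro B hB hty φ h1 h2 h3 h4
    exact KFAut.gtype_of A D exists_J (Cfsg.Agent.UGT.Cov.KFPure.t_NInv B hB) φ h1 h2 h3 h4

/-- **The facts on `4.L₃(4)`.** -/
theorem facts {K : Type*} [Group K] [Finite K] (hZc : IsCyclic (center K))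
    (hZ4 : Nat.card (center K) = 4) (hperf : commutator K = ⊤)
    {F : Type*} [Field F] [Fintype F] (hF : Fintype.card F = 4)
    (e : K ⧸ center K ≃* Matrix.ProjectiveSpecialLinearGroup (Fin 3) F) :
    ∃ (A : StdL34.Cov K) (π : K →* PSL3) (b : MulAut K →* MulAut PSL3),
      Cfsg.Agent.UGT.Cov.KC A π b ∧ Facts K A.ty := by
  obtain ⟨A, π, b, D⟩ := Cfsg.Agent.UGT.Cov.exists_kc hZc hZ4 hperf hF e
  exact ⟨A, π, b, D, facts_of_kc D⟩

end Cfsg.Agent.UGT.I34.KFEnd
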