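import Cfsg.Agent.UGT.Cov.K4b
import Cfsg.Agent.UGT.I34.KAut
import Cfsg.Agent.SignalizersComponents.IntrinsicDiag

/-!
# THEOREM I34, part [A]: the record `KAut.KF` for `4₁.L₃(4)`, `4₂.L₃(4)`
-/

set_option autoImplicit false
set_option linter.constructorNameAsVariable false
set_option linter.unusedSectionVars false
set_option linter.unusedVariables false

namespace Cfsg.Agent.UGT.I34.KFOf

open Cfsg Subgroup
open scoped commutatorElement
open Cfsg.Agent.Lib
open Cfsg.Agent.UGT.I34.Pair Cfsg.Agent.UGT.I34.KAut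
open Cfsg.Agent.SporadicA.FieldFour
open Cfsg.Agent.ONType.Psl (PSL3 t kap)
open Cfsg.Agent.StdL34 (Cov Code Ty)
open Cfsg.Agent.UGT.ThEL34 (fx mem_fx)
open Cfsg.Agent.UGT.Cov

universe u

variable {K : Type*} [Group K] {A : Cov K} {π : K →* PSL3} {b : MulAut K →* MulAut PSL3}

theorem fixed_eq (φ : MulAut K) : fixed φ = fx φ := rfl

theorem not_inn {φ : MulAut K} (h : φ ∉ Inn K) (k : K) : φ ≠ MulAut.conj k := by
  rintro rfl
  exact h ⟨k, rfl⟩

theorem compData [Finite K] (D : KC A π b) {τ : Ty} (hτ : τ = (true, false) ∨ τ = (false, true))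
    {φ : MulAut K} (h : A.IsTau τ φ) (hO : Out φ) :
    CompData φ ⁅(fx (b φ)).comap π, (fx (b φ)).comap π⁆ := by
  obtain ⟨R, hmap, hsimple⟩ := D.res_tau hτ h
  have hcard := D.card_J hτ h
  have hcJ := fun k => D.cent_J hτ h (k := k)
  set J := ⁅(fx (b φ)).comap π, (fx (b φ)).comap π⁆ with hJ
  obtain ⟨s, hs, hs1, hss⟩ := R.inv
  have hJs := R.simple
  have hnc : ¬ IsMulCommutative J := by
    intro hc
    have h1 : ⁅J, J⁆ = ⊥ := by
      rw [eq_bot_iff, Subgroup.commutator_le]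
      intro x hx y hy
      rw [mem_bot, commutatorElement_eq_one_iff_mul_comm]
      exact congrArg Subtype.val (hc.is_comm.comm (⟨x, hx⟩ : J) ⟨y, hy⟩)
    rw [R.perf] at h1
    apply hs1
    rw [h1] at hs
    exact mem_bot.mp hs
  have heven : 2 ∣ Nat.card J := by
    have h1 : orderOf (⟨s, hs⟩ : J) = 2 := by
      apply orderOf_eq_prime
      · rw [pow_two]; exact Subtype.ext hss
      · intro h2; exact hs1 (congrArg Subtype.val h2)
    rw [← h1]
    exact orderOf_dvd_natCard _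
  have e : J.subgroupOf (fx φ) ≃* J := subgroupOfEquivOfLe R.le
  refine ⟨R.le, ?_, heven, ?_, hcard, ?_, ?_⟩
  · -- component
    constructor
    · have hn : (J.subgroupOf (fx φ)).Normal := by
        have h1 : J.subgroupOf (fx φ) = _root_.commutator (fx φ) := by
          apply Subgroup.map_injective (fx φ).subtype_injective
          rw [commutator_def, Subgroup.map_commutator, ← MonoidHom.range_eq_map,
            (fx φ).range_subtype, R.comm, Subgroup.map_subgroupOf_eq_of_le R.le]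
        rw [h1]; infer_instance
      exact hn.isSubnormal
    · have hs2 : IsSimpleGroup (J.subgroupOf (fx φ)) := e.isSimpleGroup
      refine Cfsg.Agent.SignalizersComponents.IntrinsicDiag.quasisimple_of_simple hs2 ?_
      intro hc
      exact hnc (Cfsg.Agent.SignalizersComponents.IntrinsicDiag.isMulCommutative_congr e hc)
  · -- core
    have hnor : (oddCore J).Normal := Cores.pPrimeCore_normal 2
    rcases hJs.eq_bot_or_eq_top_of_normal (oddCore J) hnor with h1 | h1
    · exact h1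
    · exfalso
      have h2 : (Nat.card (oddCore J)).Coprime 2 := Cores.pPrimeCore_coprime 2
      rw [h1, Subgroup.card_top] at h2
      have h3 := Nat.Coprime.eq_one_of_dvd h2.symm heven
      exact absurd h3 (by norm_num)
  · have hsc : s ∉ center K := fun h1 => hs1 (R.inf s hs h1)
    obtain ⟨p, hp, hp4, -⟩ := D.k5' (not_inn hO.out) hO.sq hss hsc (R.le hs)
    exact ⟨s, hs, p, hs1, hss, hp, hp4⟩
  · intro B hB _ _ hBJ
    rw [eq_bot_iff]
    intro a ha
    obtain ⟨k, rfl⟩ := hB ha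
    rw [mem_bot]
    exact hcJ k (fun j hj => hBJ _ ha j hj)

theorem solvData [Finite K] (D : KC A π b) {φ : MulAut K} (h : A.IsTau (true, true) φ)
    (hO : Out φ) : SolvData φ := by
  refine ⟨?_, ?_, ?_⟩
  · have h1 := D.solv_c h
    have h2 : fixed φ ≤ (fx (b φ)).comap π := D.fx_le φ
    exact Group.isSolvable_of_isSolvable_injective (Subgroup.inclusion_injective h2)
  · obtain ⟨r, hr, hr1, hr2⟩ := D.sq_c h
    obtain ⟨p, hp, hp4, -⟩ := D.k5' (not_inn hO.out) hO.sq hr2 hr1 (by rw [map_mul, hr])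
    exact ⟨r, p, hr, fun h1 => hr1 (by rw [h1]; exact one_mem _), hr2, hp, hp4⟩
  · intro B hB hp hc
    exact D.cent_c h B hB hp hc

/-- the three types of outer involutory automorphisms -/
theorem out_cases [Finite K] (D : KC A π b) {φ : MulAut K} (hO : Out φ) :
    ∃ (A' : Cov K) (π' : K →* PSL3) (b' : MulAut K →* MulAut PSL3), KC A' π' b' ∧ A'.ty = A.ty ∧
      (A'.IsTau (true, true) φ ∨ ∃ τ, (τ = (true, false) ∨ τ = (false, true)) ∧ A'.IsTau τ φ) := by
  have h1 : φ ≠ 1 := by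
    rintro rfl
    exact hO.out (one_mem _)
  obtain ⟨A', π', b', D', hty, hcase⟩ := D.adapt h1 hO.sq
  refine ⟨A', π', b', D', hty, ?_⟩
  rcases hcase with ⟨⟨e, f⟩, hτ, ht⟩ | ht
  · cases e <;> cases f
    · exact absurd rfl hτ
    · exact Or.inr ⟨_, Or.inr rfl, ht⟩
    · exact Or.inr ⟨_, Or.inl rfl, ht⟩
    · exact Or.inl ht
  · exact absurd ⟨_, ht.symm⟩ hO.out

theorem kf (κ : Kind.{u}) (hκ : ∀ {K : Type u} [Group K] [Finite K], κ.P K → FourKind K) : KF κ where
  four := by
    intro K _ _ hK z hz hzz hz1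
    obtain ⟨A, π, b, D⟩ := (hκ hK).kc
    refine ⟨A.s, ?_, ?_⟩
    · rw [D.cz]; exact mem_zpowers _
    · exact (D.eq_z hz hz1 hzz).symm
  inn := by
    intro K _ _ hK φ hφ h2 h1
    obtain ⟨A, π, b, D⟩ := (hκ hK).kc
    obtain ⟨A', π', b', D', -, hcase⟩ := D.adapt h1 h2
    have ht : φ = MulAut.conj (A'.x 0 2 1) := by
      rcases hcase with ⟨τ, hτ, ht⟩ | ht
      · exfalso
        apply hτ
        obtain ⟨k, rfl⟩ := hφ
        exact ht.hasTy.unique (Cov.hasTy_conj k)
      · exact ht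
    constructor
    · have hp : Fact (Nat.Prime 2) := ⟨Nat.prime_two⟩
      have h3 : IsPGroup 2 (fixed φ) := by rw [ht]; exact D'.k4_inner
      have h4 : Group.IsNilpotent (fixed φ) := h3.isNilpotent
      infer_instance
    · intro z hz hzz
      by_cases hz1 : z = 1
      · rw [hz1]; exact one_mem _
      · rw [D'.eq_z hz hz1 hzz]
        obtain ⟨-, -, -, -, p, q, hp, hq, hpq⟩ := D'.k3_inner
        have hm : ∀ m, m * A'.x 0 2 1 = A'.x 0 2 1 * m → m ∈ fixed φ := by
          intro m hm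
          show φ m = m
          rw [ht, MulAut.conj_apply, ← hm, mul_inv_cancel_right]
        rw [← hpq]
        exact Subgroup.commutator_mem_commutator (hm p hp) (hm q hq)
  ncomm := by
    intro K _ _ hK φ hO h
    obtain ⟨A, π, b, D⟩ := (hκ hK).kc
    obtain ⟨k, hk⟩ := D.ncomm hO.sq h
    exact hO.out ⟨k, hk.symm⟩
  nsq := by
    intro K _ _ hK φ hO β h
    obtain ⟨A, π, b, D⟩ := (hκ hK).kc
    obtain ⟨k, hk⟩ := D.nsq hO.sq h
    exact hO.out ⟨k, hk.symm⟩
  out := by
    intro K _ _ hK φ hO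
    obtain ⟨A, π, b, D⟩ := (hκ hK).kc
    obtain ⟨A', π', b', D', -, ht | ⟨τ, hτ, ht⟩⟩ := out_cases D hO
    · exact Or.inl (solvData D' ht hO)
    · exact Or.inr ⟨_, compData D' hτ ht hO⟩
  eps := by
    intro K _ _ hK φ hO hi
    obtain ⟨A, π, b, D⟩ := (hκ hK).kc
    obtain ⟨A', π', b', D', -, ht | ⟨τ, hτ, ht⟩⟩ := out_cases D hO
    · exfalso
      have h1 := hi A'.s (by rw [D'.cz]; exact mem_zpowers _)
      have h2 := ht.s
      rw [h1] at h2
      have h3 : A'.el ⟨0, 0, 0, 1⟩ = A'.el ⟨0, 0, 0, StdL34.sg (StdL34.invs A'.ty (true, true)) 1⟩ := by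
        rw [A'.el_sp, A'.el_sp, A'.sp_one]; exact h2
      have h4 := congrArg Code.k (A'.inj h3)
      have h5 : ∀ ty, (1 : Fin 4) ≠ StdL34.sg (StdL34.invs ty (true, true)) 1 := by decide
      exact h5 _ h4
    · exact ⟨_, compData D' hτ ht hO⟩

end Cfsg.Agent.UGT.I34.KFOf
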