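import Cfsg.Agent.UGT.I34.KFOf
import Cfsg.Agent.UGT.I34.Elem

/-!
# THEOREM I34, part [A]: the record `Elem.KG` for `4₁.L₃(4)`, `4₂.L₃(4)`

`kg`; `eq_one_of_sylow`: an automorphism trivial on a Sylow 2-subgroup is trivial.
-/

set_option autoImplicit false
set_option linter.constructorNameAsVariable false
set_option linter.unusedSectionVars false
set_option linter.unusedVariables false

namespace Cfsg.Agent.UGT.I34.KGOf

open Cfsg Subgroup
open scoped commutatorElement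
open Cfsg.Agent.Lib
open Cfsg.Agent.UGT.I34.Pair Cfsg.Agent.UGT.I34.KAut Cfsg.Agent.UGT.I34.Elem
open Cfsg.Agent.SporadicA.FieldFour
open Cfsg.Agent.ONType.Psl (PSL3 t kap)
open Cfsg.Agent.StdL34 (Cov Code Ty)
open Cfsg.Agent.UGT.ThEL34 (fx mem_fx)
open Cfsg.Agent.UGT.Cov

universe u

variable {K : Type*} [Group K] {A : Cov K} {π : K →* PSL3} {b : MulAut K →* MulAut PSL3}

theorem elt_of (D : KC A π b) {φ : MulAut K} (h2 : φ * φ = 1) (h1 : φ ≠ 1)
    (hφ : φ ∈ Inn K ∨ ¬ ∀ i ∈ center K, φ i = i) {z : K} (hz : z ∈ center K) (hzz : z * z = 1)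
    (hz1 : z ≠ 1) :
    ∃ w, w ∉ center K ∧ w * w = 1 ∧ φ w = w ∧ (∃ x, φ x * x⁻¹ = w) ∧ (∃ y, φ y * y⁻¹ = w * z) ∧
      (φ ∈ Inn K → w ∈ closure {s | ∃ r ∈ fixed φ, r * r = s} ∧
        w * z ∈ closure {s | ∃ r ∈ fixed φ, r * r = s}) := by
  obtain ⟨A', π', b', D', -, hcase⟩ := D.adapt h1 h2
  rw [D'.eq_z hz hz1 hzz]
  rcases hcase with ⟨τ, hτ, ht⟩ | ht
  · have hni : φ ∉ Inn K := by
      rintro ⟨k, rfl⟩
      exact hτ (ht.hasTy.unique (Cov.hasTy_conj k))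
    have hinv : StdL34.invs A'.ty τ = true := by
      rcases hφ with hφ | hφ
      · exact absurd hφ hni
      · by_contra hc
        apply hφ
        intro i hi
        obtain ⟨k, rfl⟩ := D'.exists_sp hi
        rw [ht.sp]
        have : StdL34.invs A'.ty τ = false := by simpa using hc
        rw [this]; rfl
    obtain ⟨e1, e2, e3⟩ := D'.k3_tau ht hinv
    have e4 := x02_ncen D' (c := 1) (by decide) (one_mem (center K))
    rw [mul_one] at e4
    exact ⟨A'.x 0 2 1, e4, A'.x_sq 0 2 (by decide) 1, e1, e2, e3, fun h => absurd h hni⟩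
  · obtain ⟨e1, e2, ⟨r, hr, hr2⟩, ⟨q, hq, hq2⟩, -⟩ := D'.k3_inner
    have e4 := x02_ncen D' (c := F4.w) (by decide) (one_mem (center K))
    rw [mul_one] at e4
    have hm : ∀ m, m * A'.x 0 2 1 = A'.x 0 2 1 * m → m ∈ fixed φ := by
      intro m hm
      show φ m = m
      rw [ht, MulAut.conj_apply, ← hm, mul_inv_cancel_right]
    refine ⟨A'.x 0 2 F4.w, e4, A'.x_sq 0 2 (by decide) _, ?_, ?_, ?_, fun _ => ⟨?_, ?_⟩⟩
    · apply hm
      rw [A'.x_add 0 2 (by decide), A'.x_add 0 2 (by decide), add_comm]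
    · rw [ht]; exact e1
    · rw [ht]; exact e2
    · exact Subgroup.subset_closure ⟨r, hm r hr, hr2⟩
    · exact Subgroup.subset_closure ⟨q, hm q hq, hq2⟩

theorem kg (κ : Kind.{u}) (hκ : ∀ {K : Type u} [Group K] [Finite K], κ.P K → FourKind K) : KG κ where
  uniq := by
    intro K _ _ hK a ha b' hb haa hbb ha1 hb1
    obtain ⟨A, π, b, D⟩ := (hκ hK).kc
    rw [D.eq_z ha ha1 haa, D.eq_z hb hb1 hbb]
  exp := by
    intro K _ _ hK a ha
    obtain ⟨A, π, b, D⟩ := (hκ hK).kc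
    obtain ⟨k, rfl⟩ := D.exists_sp ha
    rw [A.sp_add, A.sp_add]
    have : ∀ k : Fin 4, k + k + (k + k) = 0 := by decide
    rw [this, A.sp_zero]
  perf := by
    intro K _ _ hK
    have := (hκ hK).perf
    rwa [commutator_def] at this
  inv := by
    intro K _ _ hK
    obtain ⟨A, π, b, D⟩ := (hκ hK).kc
    have e4 := x02_ncen D (c := 1) (by decide) (one_mem (center K))
    rw [mul_one] at e4
    exact ⟨A.x 0 2 1, A.x_sq 0 2 (by decide) 1, e4⟩
  swap := by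
    intro K _ _ hK φ h2 h1 hφ z hz hzz hz1
    obtain ⟨A, π, b, D⟩ := (hκ hK).kc
    obtain ⟨w, -, -, -, ⟨x, hx⟩, ⟨y, hy⟩, -⟩ := elt_of D h2 h1 hφ hz hzz hz1
    refine ⟨x⁻¹ * y, ?_⟩
    have hzc := mem_center_iff.mp hz
    have e1 : φ y = w * z * y := by rw [← hy]; group
    have e2 : φ x = w * x := by rw [← hx]; group
    rw [map_mul, map_inv, e1, e2]
    calc (w * x)⁻¹ * (w * z * y) * (x⁻¹ * y)⁻¹ = x⁻¹ * (z * x) := by group
      _ = x⁻¹ * (x * z) := by rw [hzc x]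
      _ = z := by group
  elt := by
    intro K _ _ hK φ h2 h1 hφ z hz hzz hz1
    obtain ⟨A, π, b, D⟩ := (hκ hK).kc
    exact elt_of D h2 h1 hφ hz hzz hz1

/-- **An automorphism trivial on a Sylow 2-subgroup is trivial.** -/
theorem eq_one_of_sylow [Finite K] (h : FourKind K) (Q : Sylow 2 K) (β : MulAut K)
    (hβ : ∀ q ∈ (Q : Subgroup K), β q = q) : β = 1 := by
  obtain ⟨A, π, b, D⟩ := h.kc
  have hp : Fact (Nat.Prime 2) := ⟨Nat.prime_two⟩
  have hT : IsPGroup 2 A.T := by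
    rintro ⟨_, p, rfl⟩
    exact ⟨4, Subtype.ext (el_pow A p)⟩
  obtain ⟨P, hP⟩ := hT.exists_le_sylow
  obtain ⟨g, hg⟩ := MulAction.exists_smul_eq K P Q
  have hTQ : ∀ p : Code, g * A.el p * g⁻¹ ∈ (Q : Subgroup K) := by
    intro p
    rw [← hg]
    exact ⟨A.el p, hP (A.el_mem p), rfl⟩
  set γ := (MulAut.conj g)⁻¹ * β * MulAut.conj g with hγ
  have h1 : ∀ p, γ (A.el p) = A.el p := by
    intro p
    have h2 := hβ _ (hTQ p)
    rw [hγ, MulAut.mul_apply, MulAut.mul_apply, MulAut.conj_apply, h2, ← MulAut.conj_apply,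
      MulAut.inv_apply_self]
  have h3 : γ (A.x 0 2 1) = A.x 0 2 1 := by
    rw [← A.el_x02]; exact h1 _
  obtain ⟨p, τ, hcd⟩ := Cov.exists_cd h3
  obtain ⟨-, -, h4⟩ := hcd.eq_one (fun y _ => h1 y)
  calc β = MulAut.conj g * γ * (MulAut.conj g)⁻¹ := by rw [hγ]; group
    _ = 1 := by rw [h4]; group

end Cfsg.Agent.UGT.I34.KGOf
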