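import Cfsg.Agent.UGT.I34.KAut
import Cfsg.Agent.UGT.I34.RankOne

/-!
# THEOREM I34, part [A]: (k3) and (L1)

* `K3 κ` : the facts (k3).
* `sqs X v` : the group generated by the squares of `C_X(v)`.
* `lOne` : (L1), exact elements for an involution `v` acting on a pair `(u, X)`.
-/

set_option autoImplicit false

open Cfsg Subgroup
open Cfsg.Agent.SignalizersComponents Cfsg.Agent.Lib
open Cfsg.Agent.SignalizersComponents.IntrinsicBasic
open Cfsg.Agent.Intrinsic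
open Cfsg.Agent.Intrinsic.Basic hiding IsPair PQS Target
open Cfsg.Agent.McLLyComp.Act
open Cfsg.Agent.Intrinsic.TypesDef (Om exists_om)
open Cfsg.Agent.UGT.I34.Pair Cfsg.Agent.UGT.I34.KAut Cfsg.Agent.UGT.I34.RankOne
open scoped commutatorElement

namespace Cfsg.Agent.UGT.I34.KThree

universe u

/-- The facts (k3) on the groups of kind `κ`. -/
structure K3 (κ : Kind.{u}) : Prop where
  w : ∀ {K : Type u} [Group K] [Finite K], κ.P K → ∀ φ : MulAut K, φ * φ = 1 → φ ≠ 1 →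
    (φ ∈ Inn K ∨ ∀ i ∈ center K, φ i = i⁻¹) → ∀ z ∈ center K, z * z = 1 → z ≠ 1 →
    ∃ w : K, w * w = 1 ∧ w ∉ center K ∧ φ w = w ∧ (∃ x, φ x * x⁻¹ = w) ∧
      (∃ x, φ x * x⁻¹ = w * z) ∧
      (φ ∈ Inn K → w ∈ closure {s : K | ∃ y, φ y = y ∧ s = y * y} ∧
        w * z ∈ closure {s : K | ∃ y, φ y = y ∧ s = y * y})
  /-- an automorphism acts on the centre (cyclic of order 4) trivially or by inversion -/
  inv : ∀ {K : Type u} [Group K] [Finite K], κ.P K → ∀ φ : MulAut K,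
    (∀ i ∈ center K, φ i = i) ∨ ∀ i ∈ center K, φ i = i⁻¹

variable {κ : Kind.{u}} {G : Type u} [Group G]

/-- the group generated by the squares of `C_X(v)` -/
def sqs (X : Subgroup G) (v : G) : Subgroup G := closure {s | ∃ y ∈ X, y * v = v * y ∧ s = y * y}

theorem sqs_le (X : Subgroup G) (v : G) : sqs X v ≤ X ⊓ centralizer ({v} : Set G) := by
  rw [sqs, closure_le]
  rintro _ ⟨y, hy, hyv, rfl⟩
  have : y ∈ centralizer ({v} : Set G) := mem_centralizer_singleton_iff.mpr hyv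
  exact ⟨mul_mem hy hy, mul_mem this this⟩

theorem sq_mem_sqs {X : Subgroup G} {v y : G} (hy : y ∈ X) (hyv : y * v = v * y) :
    y * y ∈ sqs X v := subset_closure ⟨y, hy, hyv, rfl⟩

/-- an element permuting `{A, B}` has its square in `N(A)` -/
theorem sqs_le_normalizer {X A B : Subgroup G} {v : G}
    (h : ∀ y ∈ X, y * v = v * y → (cj y A = A ∨ cj y A = B) ∧ (cj y B = A ∨ cj y B = B)) :
    sqs X v ≤ normalizer (A : Set G) := by
  rw [sqs, closure_le]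
  rintro _ ⟨y, hy, hyv, rfl⟩
  rw [SetLike.mem_coe, mem_normalizer_iff_cj, cj_mul]
  obtain ⟨h1, h2⟩ := h y hy hyv
  rcases h1 with h1 | h1
  · rw [h1, h1]
  · rcases h2 with h2 | h2
    · rw [h1, h2]
    · have : A = B := cj_injective y (h1.trans h2.symm)
      rw [h1, h2, this]

variable [Finite G]

omit [Finite G] in
/-- elements of odd order of `C_X(v)` are in `sqs X v` -/
theorem odd_mem_sqs {X : Subgroup G} {v r : G} (hr : r ∈ X) (hrv : r * v = v * r)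
    (ho : Odd (orderOf r)) : r ∈ sqs X v := by
  obtain ⟨k, hk⟩ := ho
  have h1 : r ^ (k + 1) * r ^ (k + 1) = r := by
    rw [← pow_add]
    have : k + 1 + (k + 1) = orderOf r + 1 := by omega
    rw [this, pow_succ, pow_orderOf_eq_one, one_mul]
  rw [← h1]
  exact sq_mem_sqs (X.pow_mem hr _) ((show Commute r v from hrv).pow_left _)

/-- lifting: an element of `C_X(v)` congruent to a product of squares of fixed points -/
theorem mem_sqs {X : Subgroup G} {v : G} (hvv : v * v = 1) (hv : v ∈ normalizer (X : Set G))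
    {s : G} (hs : s ∈ X) (hsv : s * v = v * s)
    (h : (QuotientGroup.mk ⟨s, hs⟩ : ↥X ⧸ oddCore ↥X) ∈
      closure {s : ↥X ⧸ oddCore ↥X | ∃ y, act X ⟨v, hv⟩ y = y ∧ s = y * y}) : s ∈ sqs X v := by
  have hodd := odd_card_core X
  have key : ∀ t : ↥X ⧸ oddCore ↥X,
      t ∈ closure {s : ↥X ⧸ oddCore ↥X | ∃ y, act X ⟨v, hv⟩ y = y ∧ s = y * y} →
      ∃ q, ∃ hq : q ∈ X, q ∈ sqs X v ∧ (QuotientGroup.mk ⟨q, hq⟩ : ↥X ⧸ oddCore ↥X) = t := by
    intro t ht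
    induction ht using closure_induction with
    | mem t ht =>
      obtain ⟨y, hy, rfl⟩ := ht
      obtain ⟨⟨y1, hy1⟩, rfl⟩ := QuotientGroup.mk_surjective y
      rw [act_mk hv hy1] at hy
      have h1 := (mk_eq_iff hy1 (conj_mem hv hy1)).mp hy.symm
      obtain ⟨o, ho, hc⟩ := Lifting.exists_commute hodd (n := 1) (by rw [pow_one, pow_two, hvv])
        (normalizer_le_normalizer_core X hv) h1
      have hy2 : y1 * o ∈ X := mul_mem hy1 (core_le X ho)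
      refine ⟨(y1 * o) * (y1 * o), mul_mem hy2 hy2, sq_mem_sqs hy2 hc.symm, ?_⟩
      have h2 : (QuotientGroup.mk ⟨y1 * o, hy2⟩ : ↥X ⧸ oddCore ↥X) = QuotientGroup.mk ⟨y1, hy1⟩ := by
        rw [mk_eq_iff]
        have : (y1 * o)⁻¹ * y1 = o⁻¹ := by group
        rw [this]; exact inv_mem ho
      rw [← h2]
      rfl
    | one => exact ⟨1, one_mem _, one_mem _, rfl⟩
    | mul a b _ _ iha ihb =>
      obtain ⟨q, hq, h1, rfl⟩ := iha
      obtain ⟨r, hr, h2, rfl⟩ := ihb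
      exact ⟨q * r, mul_mem hq hr, mul_mem h1 h2, rfl⟩
    | inv a _ iha =>
      obtain ⟨q, hq, h1, rfl⟩ := iha
      exact ⟨q⁻¹, inv_mem hq, inv_mem h1, rfl⟩
  obtain ⟨q, hq, hqs, h1⟩ := key _ h
  rw [mk_eq_iff] at h1
  have hqc := mem_centralizer_singleton_iff.mp (sqs_le X v hqs).2
  have h2 : (q⁻¹ * s) * v = v * (q⁻¹ * s) := by
    have : q⁻¹ * v = v * q⁻¹ := by
      rw [inv_mul_eq_iff_eq_mul, ← mul_assoc, hqc, mul_inv_cancel_right]
    rw [mul_assoc, hsv, ← mul_assoc, this, mul_assoc]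
  have h3 : q⁻¹ * s ∈ sqs X v := by
    refine odd_mem_sqs (mul_mem (inv_mem hq) hs) h2 (Odd.of_dvd_nat hodd ?_)
    exact Subgroup.orderOf_dvd_natCard _ h1
  have := mul_mem hqs h3
  rwa [mul_inv_cancel_left] at this

/-- **(L1)** exact elements -/
theorem lOne (K : K3 κ) {u v : G} {X : Subgroup G} (hp : IsPair κ u X) (hvv : v * v = 1)
    (huv : u * v = v * u) (hv : v ∈ normalizer (X : Set G)) (hnf : ¬ Fixes v X)
    (hE : IsOut v X → ¬ ∀ i ∈ center (↥X ⧸ oddCore ↥X), act X ⟨v, hv⟩ i = i) :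
    ∃ w ∈ X, w * w = 1 ∧ w * v = v * w ∧ ¬ Fixes w X ∧ (∃ g ∈ X, g * v * g⁻¹ = v * w) ∧
      (∃ g ∈ X, g * v * g⁻¹ = v * (w * u)) ∧
      (IsInn v X → w ∈ sqs X v ∧ w * u ∈ sqs X v) := by
  have hodd := odd_card_core X
  have hvN := normalizer_le_normalizer_core X hv
  have hvi : v⁻¹ = v := inv_eq_of_mul_eq_one_left hvv
  have hv1 : v ^ 2 ^ 1 = 1 := by rw [pow_one, pow_two, hvv]
  have hu2 := hp.sq
  have hcond : act X ⟨v, hv⟩ ∈ Inn (↥X ⧸ oddCore ↥X) ∨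
      ∀ i ∈ center (↥X ⧸ oddCore ↥X), act X ⟨v, hv⟩ i = i⁻¹ := by
    by_cases h1 : act X ⟨v, hv⟩ ∈ Inn (↥X ⧸ oddCore ↥X)
    · exact Or.inl h1
    · right
      exact (K.inv hp.kind (act X ⟨v, hv⟩)).resolve_left (hE ⟨hv, h1⟩)
  obtain ⟨w0, hw0, hwc, hφw, ⟨x0, hx0⟩, ⟨y0, hy0⟩, hcl⟩ := K.w hp.kind (act X ⟨v, hv⟩) (by
      rw [← map_mul, ← map_one (act X)]
      congr 1
      exact Subtype.ext hvv) (fun h => hnf ((act_eq_one_iff hv).mp h)) hcond
    (QuotientGroup.mk ⟨u, hp.mem⟩) (Intrinsic.TypeGOne.mk_mem_center hp.mem (fixes_pair hp)) (by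
      change (QuotientGroup.mk ⟨u * u, X.mul_mem hp.mem hp.mem⟩ : ↥X ⧸ oddCore ↥X) = 1
      rw [mk_eq_one_iff, hu2]; exact one_mem _) (by
      rw [Ne, mk_eq_one_iff]
      exact fun h => hp.ne_one (eq_one_of_mem_core_sq h hu2))
  obtain ⟨⟨w1, hw1⟩, rfl⟩ := QuotientGroup.mk_surjective w0
  have hw1' : w1 * w1 ∈ core X := (mk_eq_one_iff (X.mul_mem hw1 hw1)).mp hw0
  rw [act_mk hv hw1] at hφw
  have hw1v := (mk_eq_iff hw1 (conj_mem hv hw1)).mp hφw.symm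
  obtain ⟨o, ho, hww, hwv⟩ := Lifting.exists_involution hodd hv1 hvN (le_normalizer_core X hw1)
    hw1' hw1v
  obtain ⟨w, hw⟩ : ∃ w, w = w1 * o := ⟨_, rfl⟩
  rw [← hw] at hww hwv
  have hwX : w ∈ X := hw ▸ mul_mem hw1 (core_le X ho)
  have hmk : (QuotientGroup.mk ⟨w1, hw1⟩ : ↥X ⧸ oddCore ↥X) = QuotientGroup.mk ⟨w, hwX⟩ := by
    rw [mk_eq_iff, hw, inv_mul_cancel_left]; exact ho
  rw [hmk] at hwc hx0 hy0 hcl
  have hwu : w * u = u * w := pair_comm hp hwX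
  -- conjugating `v`
  have conj : ∀ (x : ↥X ⧸ oddCore ↥X) (s : G) (hs : s ∈ X), s * s = 1 → s * v = v * s →
      act X ⟨v, hv⟩ x * x⁻¹ = QuotientGroup.mk ⟨s, hs⟩ → ∃ g ∈ X, g * v * g⁻¹ = v * s := by
    intro x s hs hss hsv hx
    obtain ⟨⟨x1, hx1⟩, rfl⟩ := QuotientGroup.mk_surjective x
    rw [act_mk hv hx1] at hx
    have h1 : (QuotientGroup.mk ⟨v * x1 * v⁻¹ * x1⁻¹, X.mul_mem (conj_mem hv hx1) (X.inv_mem hx1)⟩ :
        ↥X ⧸ oddCore ↥X) = QuotientGroup.mk ⟨s, hs⟩ := hx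
    rw [mk_eq_iff] at h1
    have h2 : (x1 * v * x1⁻¹)⁻¹ * (v * s) ∈ core X := by
      have : (x1 * v * x1⁻¹)⁻¹ * (v * s) = (v * x1 * v⁻¹ * x1⁻¹)⁻¹ * s := by
        rw [show (x1 * v * x1⁻¹)⁻¹ = x1 * v⁻¹ * x1⁻¹ by group, hvi,
          show (v * x1 * v * x1⁻¹)⁻¹ = x1 * v⁻¹ * x1⁻¹ * v⁻¹ by group, hvi]
        simp only [mul_assoc]
      rw [this]; exact h1
    obtain ⟨y, hy, hyc⟩ := Lifting.exists_conj_eq hodd (n := 1) (m := 1) (v := x1 * v * x1⁻¹)
      (v' := v * s) (by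
        rw [pow_one, pow_two, show x1 * v * x1⁻¹ * (x1 * v * x1⁻¹) = x1 * (v * v) * x1⁻¹ by group,
          hvv]; group) (by
        rw [pow_one, pow_two]
        calc v * s * (v * s) = v * (s * v) * s := by group
          _ = (v * v) * (s * s) := by rw [hsv]; group
          _ = 1 := by rw [hvv, hss, one_mul])
      (mul_mem (mul_mem (le_normalizer_core X hx1) hvN) (inv_mem (le_normalizer_core X hx1))) h2
    exact ⟨y * x1, mul_mem (core_le X hy) hx1, by rw [← hyc]; group⟩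
  have hwuX : w * u ∈ X := mul_mem hwX hp.mem
  have hwusq : w * u * (w * u) = 1 := by
    calc w * u * (w * u) = w * (u * w) * u := by group
      _ = (w * w) * (u * u) := by rw [← hwu]; group
      _ = 1 := by rw [hww, hu2, one_mul]
  have hwuv : w * u * v = v * (w * u) := by
    rw [mul_assoc, huv, ← mul_assoc, ← hwv, mul_assoc]
  refine ⟨w, hwX, hww, hwv.symm, ?_, conj x0 w hwX hww hwv.symm hx0,
    conj y0 (w * u) hwuX hwusq hwuv hy0, fun hI => ?_⟩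
  · intro hf
    exact hwc (Intrinsic.TypeGOne.mk_mem_center hwX hf)
  · obtain ⟨h1, h2⟩ := hcl hI.2
    exact ⟨mem_sqs hvv hv hwX hwv.symm h1, mem_sqs hvv hv hwuX hwuv h2⟩

end Cfsg.Agent.UGT.I34.KThree
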