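import Cfsg.Agent.ONType.FusionEx
import Cfsg.Agent.Intrinsic.ANFactBigCent
import Cfsg.Agent.UGT.I34.KF

/-!
# Theorem I34, part [A]: the record of the O'Nan group

`ONRec X z L`: `X` is simple, `z` an involution, and `L` satisfies the hypotheses of S1661 in `C(z)`: `L` is a perfect
subgroup of index 2 with cyclic centre of order 4, `L / Z(L) ≅ PSL₃(4)`, `C_{C(z)}(L) ≤ L`.

* `one_class`: all involutions are conjugate to `z`;
* `no_se`: no strongly embedded subgroup (from Bender's theorem);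
* `odd_aut`: an automorphism of odd order trivial on `L` is trivial.
-/

set_option autoImplicit false
set_option linter.dupNamespace false

open Cfsg Subgroup
open Cfsg.Agent.SporadicA.FieldFour
open Cfsg.Agent.ONType.SFacts Cfsg.Agent.ONType.SChk Cfsg.Agent.ONType.SSub Cfsg.Agent.ONType.SGroup
open Cfsg.Agent.ONType

namespace Cfsg.Agent.UGT.I34.ONRec

universe u

/-- The hypotheses of S1661 on the subgroup `M` of the centraliser. -/
structure MRec {C : Type u} [Group C] (M : Subgroup C) : Prop where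
  norm : M.Normal
  idx : M.index = 2
  cc : centralizer (M : Set C) ≤ M
  cyc : IsCyclic (center M)
  card : Nat.card (center M) = 4
  perf : commutator M = ⊤
  psl : ∃ (F : Type) (_ : Field F) (_ : Fintype F), Fintype.card F = 4 ∧
    Nonempty (M ⧸ center M ≃* Matrix.ProjectiveSpecialLinearGroup (Fin 3) F)

/-- The record: `X` is simple and `L ≤ C(z)` satisfies the hypotheses of S1661. -/
structure ONRec (X : Type u) [Group X] (z : X) (L : Subgroup X) : Prop where
  simple : IsSimpleGroup X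
  ord : orderOf z = 2
  le : L ≤ centralizer ({z} : Set X)
  mrec : MRec (L.subgroupOf (centralizer ({z} : Set X)))

theorem PON_mem : PON ∈ pars := by
  unfold pars PON
  simp

/-- an outer involution of the Sylow 2-subgroup commutes with `u = x₀₂(1)` -/
theorem oinv_comm : (oinv PON).all (fun v => eqb (mul PON v cu) (mul PON cu v)) = true := by decide +kernel

/-- the centre of `C_S(u)` -/
theorem T0_center : (T0 PON).all (fun a => !((T0 PON).all fun b => eqb (mul PON a b) (mul PON b a)) ||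
    (eqb a c1 || (eqb a ct || (eqb a cu || eqb a cut)))) = true := by decide +kernel

section C0

variable {C : Type*} [Group C] {t : C} {M : Subgroup C} {x : Fin 3 → Fin 3 → F4 → C} {ζ k τ : C}
  (D : SData PON t M x ζ k τ)
include D

theorem comm_u_of_outer {v : C} (hvS : v ∈ S D) (hvM : v ∉ M) (hvv : v * v = 1) :
    v * x 0 2 1 = x 0 2 1 * v := by
  obtain ⟨l, hl, rfl⟩ := hvS
  have h1 := (List.all_eq_true.1 oinv_comm) l (Fusion.mem_oinv D hl hvM hvv)
  rwa [← mul_eq_iff D, ev_cu D] at h1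

/-- an outer involution of `C` commutes with a noncentral involution of `M` -/
theorem exists_comm_outer {v : C} (hvM : v ∉ M) (hvv : v * v = 1) :
    ∃ y ∈ M, y * y = 1 ∧ y ≠ 1 ∧ (∃ c : C, c * x 0 2 1 * c⁻¹ = y) ∧ v * y = y * v := by
  have := finite_C₀ D
  have h2 : Fact (Nat.Prime 2) := ⟨Nat.prime_two⟩
  have hv1 : v ≠ 1 := fun h => hvM (h ▸ M.one_mem)
  have hQ : IsPGroup 2 (zpowers v) := by
    rw [IsPGroup.iff_card]
    exact ⟨1, by rw [Nat.card_zpowers, pow_one]; exact orderOf_eq_prime (by rw [pow_two, hvv]) hv1⟩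
  obtain ⟨c, hc⟩ := exists_conj_le D _ hQ
  have h3 := hc v (mem_zpowers v)
  have h4 : c * v * c⁻¹ ∉ M := by rw [conj_mem_iff D]; exact hvM
  have h5 : c * v * c⁻¹ * (c * v * c⁻¹) = 1 := by
    calc c * v * c⁻¹ * (c * v * c⁻¹) = c * (v * v) * c⁻¹ := by group
      _ = 1 := by rw [hvv]; group
  have h6 := comm_u_of_outer D h3 h4 h5
  have hn : M.Normal := normal_of_index_eq_two D.idx
  refine ⟨c⁻¹ * x 0 2 1 * c⁻¹⁻¹, hn.conj_mem _ (D.xM 0 2 1) c⁻¹, ?_, ?_, ⟨c⁻¹, rfl⟩, ?_⟩
  · calc c⁻¹ * x 0 2 1 * c⁻¹⁻¹ * (c⁻¹ * x 0 2 1 * c⁻¹⁻¹) = c⁻¹ * (x 0 2 1 * x 0 2 1) * c := by group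
      _ = 1 := by rw [Fusion.u_sq D]; group
  · intro h
    apply Fusion.u_ne_one D
    calc x 0 2 1 = c * (c⁻¹ * x 0 2 1 * c⁻¹⁻¹) * c⁻¹ := by group
      _ = 1 := by rw [h]; group
  · calc v * (c⁻¹ * x 0 2 1 * c⁻¹⁻¹) = c⁻¹ * (c * v * c⁻¹ * x 0 2 1) * c := by group
      _ = c⁻¹ * (x 0 2 1 * (c * v * c⁻¹)) * c := by rw [h6]
      _ = _ := by group

theorem ev_cut : ev x ζ τ cut = x 0 2 1 * t := by
  show (1 : C) * (x 0 1 0 * x 1 2 0 * x 0 2 1 * ζ ^ 2) = x 0 2 1 * t
  rw [x_zero' D 0 1 (by decide), x_zero' D 1 2 (by decide), pow_two, D.zz]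
  simp only [one_mul]

/-- `Z(C(t, u)) = ⟨t, u⟩` -/
theorem center_cent {y : C} (hy : y * x 0 2 1 = x 0 2 1 * y)
    (h : ∀ w, w * x 0 2 1 = x 0 2 1 * w → y * w = w * y) : y = 1 ∨ y = t ∨ y = x 0 2 1 ∨ y = x 0 2 1 * t := by
  obtain ⟨l, hl, rfl⟩ := mem_S_of_comm D hy
  have hT : ∀ {b : Cd}, b ∈ T0 PON ↔ b ∈ SChk.all ∧ eqb (mul PON b cu) (mul PON cu b) = true := List.mem_filter
  have h1 : l ∈ T0 PON := hT.mpr ⟨mem_all hl, by rw [← mul_eq_iff D, ev_cu D]; exact hy⟩
  have h2 := (List.all_eq_true.1 T0_center) l h1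
  have h3 : ((T0 PON).all fun b => eqb (mul PON l b) (mul PON b l)) = true := by
    rw [List.all_eq_true]
    intro b hb
    obtain ⟨-, hb2⟩ := hT.mp hb
    rw [← mul_eq_iff D, ev_cu D] at hb2
    rw [← mul_eq_iff D]
    exact h _ hb2
  rw [h3, Bool.not_true, Bool.false_or, Bool.or_eq_true, Bool.or_eq_true, Bool.or_eq_true, eqb_iff, eqb_iff, eqb_iff,
    eqb_iff] at h2
  rcases h2 with rfl | rfl | rfl | rfl
  · exact Or.inl (ev_c1 D)
  · exact Or.inr (Or.inl (ev_ct D))
  · exact Or.inr (Or.inr (Or.inl (ev_cu D)))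
  · exact Or.inr (Or.inr (Or.inr (ev_cut D)))

end C0

/-! ### automorphisms -/

/-- an automorphism of odd order -/
theorem odd_fix {X : Type*} [Group X] {β : MulAut X} (hβ : Odd (orderOf β)) {m : X} {j : ℕ}
    (h1 : β (m⁻¹ * β m) = m⁻¹ * β m) (h2 : (m⁻¹ * β m) ^ 2 ^ j = 1) : β m = m := by
  obtain ⟨c, hc⟩ : ∃ c, c = m⁻¹ * β m := ⟨_, rfl⟩
  rw [← hc] at h1 h2
  have h3 : β m = m * c := by rw [hc]; group
  have h4 : ∀ n : ℕ, (β ^ n) m = m * c ^ n := by
    intro n
    induction n with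
    | zero => simp
    | succ n ih =>
      have h5 : (β ^ (n + 1)) m = β ((β ^ n) m) := by rw [pow_succ']; rfl
      rw [h5, ih, map_mul, map_pow, h1, h3, mul_assoc, ← pow_succ']
  have h5 := h4 (orderOf β)
  rw [pow_orderOf_eq_one] at h5
  have h6 : c ^ orderOf β = 1 := by
    have h7 : m = m * c ^ orderOf β := h5
    exact (left_eq_mul.mp h7)
  have h7 : orderOf c ∣ Nat.gcd (2 ^ j) (orderOf β) :=
    Nat.dvd_gcd (orderOf_dvd_of_pow_eq_one h2) (orderOf_dvd_of_pow_eq_one h6)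
  have h8 : Nat.gcd (2 ^ j) (orderOf β) = 1 := by
    have : Nat.Coprime 2 (orderOf β) := (Nat.coprime_two_left).mpr hβ
    exact Nat.Coprime.pow_left j this
  rw [h8, Nat.dvd_one, orderOf_eq_one_iff] at h7
  rw [h3, h7, mul_one]

section

variable {X : Type u} [Group X] [Finite X] {z : X} {L : Subgroup X}

theorem exists_frame (h : ONRec X z L) :
    ∃ (x : Fin 3 → Fin 3 → F4 → ↥(centralizer ({z} : Set X))) (ζ k τ : ↥(centralizer ({z} : Set X))),
      SData PON ⟨z, mem_centralizer_singleton_iff.2 rfl⟩ (L.subgroupOf (centralizer ({z} : Set X))) x ζ k τ ∧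
      (∃ n : X, n * z * n⁻¹ = x 0 2 1 ∧ n * x 0 2 1 * n⁻¹ = z) ∧ (∀ s : X, s * s = 1 → s ≠ 1 → IsConj z s) := by
  have := h.simple
  have := h.mrec.norm
  obtain ⟨F, _, _, hF, ⟨e⟩⟩ := h.mrec.psl
  obtain ⟨x, ζ, k, τ, h1, h2, h3, -⟩ := FusionEx.exists_fusion z h.ord _ h.mrec.idx h.mrec.cc h.mrec.cyc h.mrec.card
    h.mrec.perf F hF e
  exact ⟨x, ζ, k, τ, h1, h2, h3⟩

/-- all involutions are conjugate -/
theorem one_class (h : ONRec X z L) {s : X} (hs : s * s = 1) (hs1 : s ≠ 1) : ∃ g : X, g * z * g⁻¹ = s := by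
  obtain ⟨x, ζ, k, τ, -, -, h1⟩ := exists_frame h
  exact isConj_iff.mp (h1 s hs hs1)

omit [Finite X] in
theorem z_sq (h : ONRec X z L) : z * z = 1 := by rw [← pow_two, ← h.ord, pow_orderOf_eq_one]

omit [Finite X] in
theorem z_ne_one (h : ONRec X z L) : z ≠ 1 := by
  rintro rfl
  have := h.ord
  simp at this

omit [Finite X] in
theorem mem_L {M : Subgroup ↥(centralizer ({z} : Set X))} {x : Fin 3 → Fin 3 → F4 → ↥(centralizer ({z} : Set X))}
    {ζ k τ : ↥(centralizer ({z} : Set X))} (D : SData PON ⟨z, mem_centralizer_singleton_iff.2 rfl⟩ M x ζ k τ) :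
    (⟨z, mem_centralizer_singleton_iff.2 rfl⟩ : ↥(centralizer ({z} : Set X))) ∈ M := Fusion.t_mem_M D

theorem z_mem (h : ONRec X z L) : z ∈ L := by
  obtain ⟨x, ζ, k, τ, D, -⟩ := exists_frame h
  exact mem_L D

theorem not_center (h : ONRec X z L) : z ∉ center X := by
  obtain ⟨x, ζ, k, τ, D, ⟨n, hn, -⟩, -⟩ := exists_frame h
  intro hz
  have h1 := mem_center_iff.mp hz n
  rw [h1, mul_inv_cancel_right] at hn
  exact Fusion.u_ne_t D (Subtype.ext hn.symm)

/-- `|C(z)|_2 = |X|_2` -/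
theorem exists_sylow_X {x : Fin 3 → Fin 3 → F4 → ↥(centralizer ({z} : Set X))}
    {ζ k τ : ↥(centralizer ({z} : Set X))} (D : SData PON ⟨z, mem_centralizer_singleton_iff.2 rfl⟩
      (L.subgroupOf (centralizer ({z} : Set X))) x ζ k τ) :
    ∃ Q : Sylow 2 X, (Q : Subgroup X) = (S D).map (centralizer ({z} : Set X)).subtype :=
  Fusion.exists_sylow_G D (centralizer ({z} : Set X)).subtype (Subgroup.subtype_injective _)
    (fun y hy => ⟨⟨y, mem_centralizer_singleton_iff.2 hy⟩, rfl⟩)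
    (fun c => Subtype.ext (mem_centralizer_singleton_iff.1 c.2)) PON_mem

theorem card_cent (h : ONRec X z L) : Nat.card (centralizer ({z} : Set X)) = 161280 := by
  obtain ⟨x, ζ, k, τ, D, -⟩ := exists_frame h
  exact D.card

/-- `|X| = 2 ^ 9 m`, `m` odd -/
theorem exists_card (h : ONRec X z L) : ∃ m, Odd m ∧ Nat.card X = 2 ^ 9 * m := by
  obtain ⟨x, ζ, k, τ, D, -⟩ := exists_frame h
  obtain ⟨Q, hQ⟩ := exists_sylow_X D
  have h2 : Fact (Nat.Prime 2) := ⟨Nat.prime_two⟩
  refine ⟨(Q : Subgroup X).index, ?_, ?_⟩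
  · have h3 := Q.not_dvd_index
    rcases Nat.even_or_odd (Q : Subgroup X).index with h4 | h4
    · exact absurd h4.two_dvd h3
    · exact h4
  · rw [← (Q : Subgroup X).card_mul_index]
    congr 1
    rw [hQ, card_map_of_injective (Subgroup.subtype_injective _), card_S D]
    norm_num

/-- the orders in Bender's list with 2-part `2 ^ 9` are not divisible by 15 -/
theorem false_of_list {Y : Type*} [Group Y] [Finite Y] (h : Intrinsic.ANFactBigCent.BenderList Y)
    {m : ℕ} (hcard : Nat.card Y = 2 ^ 9 * m) (hm : Odd m) (h3 : 3 ∣ Nat.card Y) (h5 : 5 ∣ Nat.card Y) : False := by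
  rcases h with ⟨F, _, _, hchar, h4, ⟨e⟩⟩ | ⟨-, n, hn, hG⟩ | ⟨F, _, _, q, hF, hq, h4, ⟨e⟩⟩
  · obtain ⟨f, hf, hFf⟩ := StandardComponent.NoSE.exists_pow_of_even_card (F := F)
      (by
        obtain ⟨n, _, hc⟩ := FiniteField.card F 2
        rw [hc, Nat.even_pow]
        exact ⟨even_two, n.ne_zero⟩)
    have hev : Even (Fintype.card F) := by rw [hFf, Nat.even_pow]; exact ⟨even_two, hf⟩
    have h1 : Nat.card Y = Fintype.card F * (Fintype.card F ^ 2 - 1) := by
      rw [Nat.card_congr e.toEquiv]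
      exact ClassicalGeometry.PSL2Basic.card_PSL2_even F hev
    rw [hFf] at h1
    have h2 : Odd ((2 ^ f) ^ 2 - 1) := by
      have h5 : 1 ≤ (2 ^ f) ^ 2 := Nat.one_le_pow _ _ (by positivity)
      have h6 : Even ((2 ^ f) ^ 2) := by
        rw [← pow_mul, Nat.even_pow]
        exact ⟨even_two, by omega⟩
      exact Nat.Even.sub_odd h5 h6 odd_one
    have h8 : 9 = f := StandardComponent.NoSE.pow_unique hm h2 (hcard.symm.trans h1)
    subst h8
    rw [h1] at h5
    revert h5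
    decide
  · rw [hG] at h3
    have hq : (2 ^ (2 * n + 1)) % 3 = 2 := by
      have : (2 ^ (2 * n + 1)) = 4 ^ n * 2 := by rw [pow_succ, pow_mul]; norm_num
      rw [this, Nat.mul_mod, Nat.pow_mod]
      norm_num
    set q := 2 ^ (2 * n + 1) with hqd
    have h10 : (q - 1) % 3 = 1 := by clear_value q; omega
    have h11 : (q ^ 2) % 3 = 1 := by rw [Nat.pow_mod, hq]
    have h12 : (q ^ 2 + 1) % 3 = 2 := by omega
    have h9 : (q ^ 2 * (q ^ 2 + 1) * (q - 1)) % 3 = 2 := by
      rw [Nat.mul_mod, h10, Nat.mul_mod (q ^ 2), h11, h12]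
    omega
  · have hev : Even (Fintype.card F) := by rw [hF, Nat.even_pow]; exact ⟨hq, by norm_num⟩
    obtain ⟨f, hf, hFf⟩ := StandardComponent.NoSE.exists_pow_of_even_card hev
    obtain ⟨e', -, he'⟩ : ∃ e' ≤ f, q = 2 ^ e' :=
      (Nat.dvd_prime_pow Nat.prime_two).1 (by rw [← hFf, hF, sq]; exact dvd_mul_left _ _)
    have h1 := Cfsg.Agent.S0280.result hF 3 (by norm_num)
    rw [← Nat.card_congr e.toEquiv, Finset.prod_range_succ, Finset.prod_range_succ,
      Finset.prod_range_one] at h1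
    norm_num at h1
    have hgcd : Odd (Nat.gcd 3 (q + 1)) := by
      rcases (Nat.dvd_prime Nat.prime_three).1 (Nat.gcd_dvd_left 3 (q + 1)) with h | h <;> rw [h] <;> decide
    have hq1 : Odd (q + 1) := hq.add_one
    have hq2 : Odd (q ^ 2 - 1) :=
      Nat.Even.sub_odd (Nat.one_le_pow _ _ (by omega)) (by rw [Nat.even_pow]; exact ⟨hq, by norm_num⟩) odd_one
    have hq3 : Odd (q ^ 3 + 1) := Even.add_one (by rw [Nat.even_pow]; exact ⟨hq, by norm_num⟩)
    have h1' := h1
    rw [hcard] at h1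
    have h2 : 2 ^ 9 * (Nat.gcd 3 (q + 1) * (q + 1) * m) = 2 ^ (3 * e') * ((q + 1) * (q ^ 2 - 1) * (q ^ 3 + 1)) := by
      have : 2 ^ (3 * e') = q ^ 3 := by rw [he', ← pow_mul, mul_comm]
      rw [this]
      linarith
    have h4' := StandardComponent.NoSE.pow_unique ((hgcd.mul hq1).mul hm) ((hq1.mul hq2).mul hq3) h2
    have h6 : e' = 3 := by omega
    subst h6
    norm_num at he'
    subst he'
    norm_num at h1'
    omega

/-- The form of Bender's theorem (S0222) that is used. -/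
def BenderSimple : Prop :=
  ∀ (Y : Type u) [Group Y] [Finite Y] [IsSimpleGroup Y], (∃ a b : Y, a * b ≠ b * a) →
    ∀ H : Subgroup Y, IsStronglyEmbedded H → Intrinsic.ANFactBigCent.BenderList Y

/-- no strongly embedded subgroup -/
theorem no_se (hB : BenderSimple.{u}) (h : ONRec X z L) (H : Subgroup X) : ¬ IsStronglyEmbedded H := by
  intro hH
  have := h.simple
  obtain ⟨m, hm, hc⟩ := exists_card h
  have h1 : 161280 ∣ Nat.card X := by rw [← card_cent h]; exact card_subgroup_dvd_card _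
  refine false_of_list (hB X ?_ H hH) hc hm (dvd_trans (by norm_num) h1) (dvd_trans (by norm_num) h1)
  by_contra hcon
  push Not at hcon
  exact not_center h (mem_center_iff.mpr fun g => hcon g z)

/-- a subgroup containing `C(z)` and the swap has one class of involutions -/
theorem conj_in {x : Fin 3 → Fin 3 → F4 → ↥(centralizer ({z} : Set X))}
    {ζ k τ : ↥(centralizer ({z} : Set X))} (D : SData PON ⟨z, mem_centralizer_singleton_iff.2 rfl⟩
      (L.subgroupOf (centralizer ({z} : Set X))) x ζ k τ) {n : X} (hn : n * z * n⁻¹ = x 0 2 1)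
    (hone : ∀ s : X, s * s = 1 → s ≠ 1 → IsConj z s) {H : Subgroup X} (hC : centralizer ({z} : Set X) ≤ H)
    (hnH : n ∈ H) {s : X} (hs : s ∈ H) (hss : s * s = 1) (hs1 : s ≠ 1) : ∃ g ∈ H, g * z * g⁻¹ = s := by
  obtain ⟨M, hM⟩ : ∃ M, M = L.subgroupOf (centralizer ({z} : Set X)) := ⟨_, rfl⟩
  rw [← hM] at D
  have hzC : z ∈ centralizer ({z} : Set X) := mem_centralizer_singleton_iff.2 rfl
  have htc : ∀ c : ↥(centralizer ({z} : Set X)), c * ⟨z, hzC⟩ = ⟨z, hzC⟩ * c :=
    fun c => Subtype.ext (mem_centralizer_singleton_iff.1 c.2)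
  have hCH : ∀ c : ↥(centralizer ({z} : Set X)), (c : X) ∈ H := fun c => hC c.2
  -- noncentral involutions of `M`
  have key : ∀ m ∈ M, m * m = 1 → m ≠ 1 → ∃ g ∈ H, g * z * g⁻¹ = (m : X) := by
    intro m hm hmm hm1
    by_cases hmz : m = ⟨z, hzC⟩
    · exact ⟨1, H.one_mem, by rw [hmz]; group⟩
    · obtain ⟨c, hc⟩ := invol D hm hmm hm1 hmz htc
      refine ⟨(c : X)⁻¹ * n, H.mul_mem (H.inv_mem (hCH c)) hnH, ?_⟩
      have h1 : (c : X) * m * (c : X)⁻¹ = (x 0 2 1 : ↥(centralizer ({z} : Set X))) := congrArg Subtype.val hc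
      calc (c : X)⁻¹ * n * z * ((c : X)⁻¹ * n)⁻¹ = (c : X)⁻¹ * (n * z * n⁻¹) * c := by group
        _ = (m : X) := by rw [hn, ← h1]; group
  -- involutions of `C(z)`
  have key2 : ∀ c : ↥(centralizer ({z} : Set X)), c * c = 1 → c ≠ 1 → ∃ g ∈ H, g * z * g⁻¹ = (c : X) := by
    intro c hcc hc1
    by_cases hcM : c ∈ M
    · exact key c hcM hcc hc1
    · obtain ⟨y, hyM, hyy, hy1, ⟨d, hd⟩, hcy⟩ := exists_comm_outer D hcM hcc
      have hccX : (c : X) * c = 1 := congrArg Subtype.val hcc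
      have hc1X : (c : X) ≠ 1 := fun h => hc1 (Subtype.ext h)
      obtain ⟨g, hg⟩ := isConj_iff.mp (hone c hccX hc1X)
      -- `V = ⟨z, y⟩` centralises `c`
      have hin : ∀ v : ↥(centralizer ({z} : Set X)), v * c = c * v → g⁻¹ * (v : X) * g ∈ centralizer ({z} : Set X) := by
        intro v hv
        have h1 : (v : X) * c = c * v := congrArg Subtype.val hv
        rw [mem_centralizer_singleton_iff]
        rw [← hg] at h1
        calc g⁻¹ * (v : X) * g * z = g⁻¹ * ((v : X) * (g * z * g⁻¹)) * g := by group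
          _ = g⁻¹ * (g * z * g⁻¹ * v) * g := by rw [h1]
          _ = _ := by group
      -- some involution of `V` goes into `M`
      have hz1 : (⟨z, hzC⟩ : ↥(centralizer ({z} : Set X))) ≠ 1 := Fusion.t_ne_one D
      have hzz : (⟨z, hzC⟩ : ↥(centralizer ({z} : Set X))) * ⟨z, hzC⟩ = 1 := Fusion.t_sq D
      have hyz : y ≠ ⟨z, hzC⟩ := by
        rintro rfl
        apply Fusion.u_ne_t D
        calc x 0 2 1 = d⁻¹ * (d * x 0 2 1 * d⁻¹) * d := by group
          _ = d⁻¹ * (⟨z, hzC⟩ * d) := by rw [hd, mul_assoc]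
          _ = d⁻¹ * (d * ⟨z, hzC⟩) := by rw [htc d]
          _ = _ := by group
      obtain ⟨v, hvM, hvv, hv1, hvc, hvin⟩ : ∃ v ∈ M, v * v = 1 ∧ v ≠ 1 ∧
          ∃ hv : v * c = c * v, (⟨g⁻¹ * (v : X) * g, hin v hv⟩ : ↥(centralizer ({z} : Set X))) ∈ M := by
        by_cases h1 : (⟨g⁻¹ * z * g, hin ⟨z, hzC⟩ (htc c).symm⟩ : ↥(centralizer ({z} : Set X))) ∈ M
        · exact ⟨_, Fusion.t_mem_M D, hzz, hz1, (htc c).symm, h1⟩
        by_cases h2 : (⟨g⁻¹ * (y : X) * g, hin y hcy.symm⟩ : ↥(centralizer ({z} : Set X))) ∈ M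
        · exact ⟨y, hyM, hyy, hy1, hcy.symm, h2⟩
        have hc3 : ⟨z, hzC⟩ * y * c = c * (⟨z, hzC⟩ * y) := by
          rw [mul_assoc, ← hcy, ← mul_assoc, ← htc c, mul_assoc]
        refine ⟨⟨z, hzC⟩ * y, M.mul_mem (Fusion.t_mem_M D) hyM, ?_, ?_, hc3, ?_⟩
        · calc ⟨z, hzC⟩ * y * (⟨z, hzC⟩ * y) = ⟨z, hzC⟩ * (y * ⟨z, hzC⟩) * y := by simp only [mul_assoc]
            _ = (⟨z, hzC⟩ * ⟨z, hzC⟩) * (y * y) := by rw [htc y]; simp only [mul_assoc]
            _ = 1 := by rw [hzz, hyy, one_mul]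
        · intro h3
          apply hyz
          calc y = (⟨z, hzC⟩ * ⟨z, hzC⟩) * y := by rw [hzz, one_mul]
            _ = ⟨z, hzC⟩ * (⟨z, hzC⟩ * y) := by rw [mul_assoc]
            _ = ⟨z, hzC⟩ := by rw [h3, mul_one]
        · have h3 := mul_mem_of_not_mem D h1 h2
          have h4 : (⟨g⁻¹ * z * g, hin ⟨z, hzC⟩ (htc c).symm⟩ : ↥(centralizer ({z} : Set X))) *
              ⟨g⁻¹ * (y : X) * g, hin y hcy.symm⟩ =
              ⟨g⁻¹ * ((⟨z, hzC⟩ * y : ↥(centralizer ({z} : Set X))) : X) * g, hin _ hc3⟩ := by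
            apply Subtype.ext
            show g⁻¹ * z * g * (g⁻¹ * (y : X) * g) = g⁻¹ * (z * (y : X)) * g
            group
          rwa [h4] at h3
      have hv1' : (⟨g⁻¹ * (v : X) * g, hin v hvc⟩ : ↥(centralizer ({z} : Set X))) ≠ 1 := by
        intro h1
        have h2 : g⁻¹ * (v : X) * g = 1 := congrArg Subtype.val h1
        apply hv1
        apply Subtype.ext
        calc (v : X) = g * (g⁻¹ * (v : X) * g) * g⁻¹ := by group
          _ = 1 := by rw [h2]; group
      have hvv' : (⟨g⁻¹ * (v : X) * g, hin v hvc⟩ : ↥(centralizer ({z} : Set X))) * ⟨g⁻¹ * (v : X) * g, hin v hvc⟩ = 1 := by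
        apply Subtype.ext
        have h2 : (v : X) * v = 1 := congrArg Subtype.val hvv
        show g⁻¹ * (v : X) * g * (g⁻¹ * (v : X) * g) = 1
        calc g⁻¹ * (v : X) * g * (g⁻¹ * (v : X) * g) = g⁻¹ * ((v : X) * v) * g := by group
          _ = 1 := by rw [h2]; group
      obtain ⟨a, ha, h1⟩ := key v hvM hvv hv1
      obtain ⟨b, hb, h2⟩ := key _ hvin hvv' hv1'
      have h3 : b * z * b⁻¹ = g⁻¹ * (v : X) * g := h2
      -- `b⁻¹ g⁻¹ a ∈ C(z)`
      have h4 : b⁻¹ * g⁻¹ * a ∈ centralizer ({z} : Set X) := by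
        rw [mem_centralizer_singleton_iff]
        calc b⁻¹ * g⁻¹ * a * z = b⁻¹ * (g⁻¹ * (a * z * a⁻¹) * g) * g⁻¹ * a := by group
          _ = b⁻¹ * (b * z * b⁻¹) * g⁻¹ * a := by rw [h1, h3]
          _ = _ := by group
      refine ⟨g, ?_, hg⟩
      have h5 : g = a * (b⁻¹ * g⁻¹ * a)⁻¹ * b⁻¹ := by group
      rw [h5]
      exact H.mul_mem (H.mul_mem ha (H.inv_mem (hC h4))) (H.inv_mem hb)
  -- conjugate `s` into `C(z)`
  rw [hM] at D
  obtain ⟨Q, hQ⟩ := exists_sylow_X D
  have h2 : Fact (Nat.Prime 2) := ⟨Nat.prime_two⟩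
  have hQC : (Q : Subgroup X) ≤ centralizer ({z} : Set X) := by
    rw [hQ]
    rintro _ ⟨y, -, rfl⟩
    exact y.2
  have hQH : (Q : Subgroup X) ≤ H := hQC.trans hC
  obtain ⟨R, hR⟩ := (show IsPGroup 2 (zpowers (⟨s, hs⟩ : H)) by
    rw [IsPGroup.iff_card]
    refine ⟨1, ?_⟩
    rw [Nat.card_zpowers, pow_one]
    exact orderOf_eq_prime (by rw [pow_two]; exact Subtype.ext hss) (fun h => hs1 (congrArg Subtype.val h))).exists_le_sylow
  obtain ⟨g, hg⟩ := MulAction.exists_smul_eq H R (Q.subtype hQH)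
  have h3 : g * ⟨s, hs⟩ * g⁻¹ ∈ Q.subtype hQH := by
    rw [← hg]
    exact Subgroup.smul_mem_pointwise_smul _ (MulAut.conj g) _ (hR (mem_zpowers _))
  have h4 : (g : X) * s * (g : X)⁻¹ ∈ (Q : Subgroup X) := h3
  obtain ⟨a, ha, h5⟩ := key2 ⟨_, hQC h4⟩ (by
      apply Subtype.ext
      show (g : X) * s * (g : X)⁻¹ * ((g : X) * s * (g : X)⁻¹) = 1
      calc (g : X) * s * (g : X)⁻¹ * ((g : X) * s * (g : X)⁻¹) = g * (s * s) * (g : X)⁻¹ := by group
        _ = 1 := by rw [hss]; group) (by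
      intro h6
      have h7 : (g : X) * s * (g : X)⁻¹ = 1 := congrArg Subtype.val h6
      apply hs1
      calc s = (g : X)⁻¹ * ((g : X) * s * (g : X)⁻¹) * g := by group
        _ = 1 := by rw [h7]; group)
  refine ⟨(g : X)⁻¹ * a, H.mul_mem (H.inv_mem g.2) ha, ?_⟩
  have h6 : a * z * a⁻¹ = (g : X) * s * (g : X)⁻¹ := h5
  calc (g : X)⁻¹ * a * z * ((g : X)⁻¹ * a)⁻¹ = (g : X)⁻¹ * (a * z * a⁻¹) * g := by group
    _ = s := by rw [h6]; group

/-- a subgroup containing `C(z)` and a swap is `X` -/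
theorem eq_top_of_swap (hSE : ∀ H : Subgroup X, ¬ IsStronglyEmbedded H)
    {x : Fin 3 → Fin 3 → F4 → ↥(centralizer ({z} : Set X))}
    {ζ k τ : ↥(centralizer ({z} : Set X))} (D : SData PON ⟨z, mem_centralizer_singleton_iff.2 rfl⟩
      (L.subgroupOf (centralizer ({z} : Set X))) x ζ k τ) {n : X} (hn : n * z * n⁻¹ = x 0 2 1)
    (hone : ∀ s : X, s * s = 1 → s ≠ 1 → IsConj z s) {H : Subgroup X} (hC : centralizer ({z} : Set X) ≤ H)
    (hnH : n ∈ H) : H = ⊤ := by
  by_contra hH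
  apply hSE H
  have hzC : z ∈ centralizer ({z} : Set X) := mem_centralizer_singleton_iff.2 rfl
  have hzH : z ∈ H := hC hzC
  have hzz : z * z = 1 := congrArg Subtype.val (Fusion.t_sq D)
  have hz1 : z ≠ 1 := fun h => Fusion.t_ne_one D (Subtype.ext h)
  have hoz : orderOf z = 2 := orderOf_eq_prime (by rw [pow_two, hzz]) hz1
  refine ⟨hH, ?_, ?_⟩
  · rw [even_iff_two_dvd, ← hoz]
    exact Subgroup.orderOf_dvd_natCard _ hzH
  · intro g hg
    by_contra hodd
    rw [Nat.not_odd_iff_even, even_iff_two_dvd] at hodd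
    obtain ⟨s, hs⟩ := exists_prime_orderOf_dvd_card' (p := 2) hodd
    have hs' : orderOf (s : X) = 2 := by rw [Subgroup.orderOf_coe, hs]
    have hss : (s : X) * s = 1 := by rw [← pow_two, ← hs', pow_orderOf_eq_one]
    have hs1 : (s : X) ≠ 1 := by
      intro h; rw [h, orderOf_one] at hs'; exact absurd hs' (by norm_num)
    obtain ⟨hsH, ⟨r, hr, hrs⟩⟩ := s.2
    have hrs' : g * r * g⁻¹ = (s : X) := hrs
    have hr' : r = g⁻¹ * s * g := by rw [← hrs']; group
    have hrr : r * r = 1 := by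
      rw [hr']
      calc g⁻¹ * (s : X) * g * (g⁻¹ * s * g) = g⁻¹ * ((s : X) * s) * g := by group
        _ = 1 := by rw [hss]; group
    have hr1 : r ≠ 1 := by
      rintro rfl
      apply hs1
      rw [← hrs']; group
    obtain ⟨a, ha, h1⟩ := conj_in D hn hone hC hnH hsH hss hs1
    obtain ⟨b, hb, h2⟩ := conj_in D hn hone hC hnH hr hrr hr1
    have h3 : a⁻¹ * g * b ∈ centralizer ({z} : Set X) := by
      rw [mem_centralizer_singleton_iff]
      calc a⁻¹ * g * b * z = a⁻¹ * (g * (b * z * b⁻¹) * g⁻¹) * g * b := by group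
        _ = a⁻¹ * (a * z * a⁻¹) * g * b := by rw [h2, hrs', h1]
        _ = _ := by group
    apply hg
    have h4 : g = a * (a⁻¹ * g * b) * b⁻¹ := by group
    rw [h4]
    exact H.mul_mem (H.mul_mem ha (hC h3)) (H.inv_mem hb)

/-- **An automorphism of odd order trivial on `L` is trivial.** -/
theorem odd_aut (hSE : ∀ H : Subgroup X, ¬ IsStronglyEmbedded H) (h : ONRec X z L) {β : MulAut X}
    (hβ : Odd (orderOf β)) (hL : ∀ l ∈ L, β l = l) : β = 1 := by
  obtain ⟨x, ζ, k, τ, D, ⟨n, hn, hn'⟩, hone⟩ := exists_frame h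
  have hzC : z ∈ centralizer ({z} : Set X) := mem_centralizer_singleton_iff.2 rfl
  have hM : ∀ m : ↥(centralizer ({z} : Set X)), m ∈ L.subgroupOf (centralizer ({z} : Set X)) → β m = m :=
    fun m hm => hL _ (mem_subgroupOf.mp hm)
  have hz : β z = z := hM _ (Fusion.t_mem_M D)
  have hnM := h.mrec.norm
  -- `β` fixes `C(z)`
  have hC : ∀ c : ↥(centralizer ({z} : Set X)), β c = c := by
    intro c
    have h1 : β c ∈ centralizer ({z} : Set X) := by
      rw [mem_centralizer_singleton_iff]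
      have h2 : (c : X) * z = z * c := mem_centralizer_singleton_iff.mp c.2
      calc β c * z = β (c * z) := by rw [map_mul, hz]
        _ = β (z * c) := by rw [h2]
        _ = z * β c := by rw [map_mul, hz]
    have h2 : (c : X)⁻¹ * β c ∈ centralizer ({z} : Set X) := mul_mem (inv_mem c.2) h1
    obtain ⟨d, hd⟩ : ∃ d : ↥(centralizer ({z} : Set X)), (d : X) = (c : X)⁻¹ * β c := ⟨⟨_, h2⟩, rfl⟩
    have h3 : d ∈ centralizer (L.subgroupOf (centralizer ({z} : Set X)) : Set ↥(centralizer ({z} : Set X))) := by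
      rw [mem_centralizer_iff]
      intro m hm
      have h4 : β ((c : X) * m * (c : X)⁻¹) = c * m * (c : X)⁻¹ := hM _ (hnM.conj_mem m hm c)
      rw [map_mul, map_mul, map_inv, hM m hm] at h4
      apply Subtype.ext
      show (m : X) * (d : X) = d * m
      rw [hd]
      calc (m : X) * ((c : X)⁻¹ * β c) = (c : X)⁻¹ * (c * m * (c : X)⁻¹) * β c := by group
        _ = (c : X)⁻¹ * (β c * m * (β c)⁻¹) * β c := by rw [h4]
        _ = _ := by group
    have h4 : d ∈ L.subgroupOf (centralizer ({z} : Set X)) := h.mrec.cc h3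
    have h5 : (⟨d, h4⟩ : ↥(L.subgroupOf (centralizer ({z} : Set X)))) ∈
        center ↥(L.subgroupOf (centralizer ({z} : Set X))) := by
      rw [mem_center_iff]
      intro m
      exact Subtype.ext (mem_centralizer_iff.mp h3 m m.2)
    have h6 : d ^ 4 = 1 := by
      have h7 := Subgroup.orderOf_dvd_natCard _ h5
      rw [h.mrec.card, orderOf_dvd_iff_pow_eq_one] at h7
      exact congrArg Subtype.val h7
    refine odd_fix hβ (j := 2) ?_ ?_
    · rw [← hd]; exact hM d h4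
    · rw [← hd]
      have h7 : (d : X) ^ 4 = 1 := congrArg Subtype.val h6
      norm_num
      exact h7
  -- `β` fixes the swap
  have hnβ : β n = n := by
    have h1 : β n * z * (β n)⁻¹ = n * z * n⁻¹ := by
      rw [hn, ← hC (x 0 2 1), ← hn, map_mul, map_mul, map_inv, hz]
    have h2 : β n * (x 0 2 1 : ↥(centralizer ({z} : Set X))) * (β n)⁻¹ = n * (x 0 2 1 : ↥(centralizer ({z} : Set X))) * n⁻¹ := by
      have h3 : β (n * (x 0 2 1 : ↥(centralizer ({z} : Set X))) * n⁻¹) = z := by rw [hn', hz]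
      rw [map_mul, map_mul, map_inv, hC] at h3
      rw [h3, hn']
    have h3 : n⁻¹ * β n ∈ centralizer ({z} : Set X) := by
      rw [mem_centralizer_singleton_iff]
      calc n⁻¹ * β n * z = n⁻¹ * (β n * z * (β n)⁻¹) * β n := by group
        _ = n⁻¹ * (n * z * n⁻¹) * β n := by rw [h1]
        _ = _ := by group
    obtain ⟨d, hd⟩ : ∃ d : ↥(centralizer ({z} : Set X)), (d : X) = n⁻¹ * β n := ⟨⟨_, h3⟩, rfl⟩
    have h4 : d * x 0 2 1 = x 0 2 1 * d := by
      apply Subtype.ext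
      show (d : X) * (x 0 2 1 : ↥(centralizer ({z} : Set X))) = (x 0 2 1 : ↥(centralizer ({z} : Set X))) * (d : X)
      rw [hd]
      calc n⁻¹ * β n * (x 0 2 1 : ↥(centralizer ({z} : Set X)))
          = n⁻¹ * (β n * (x 0 2 1 : ↥(centralizer ({z} : Set X))) * (β n)⁻¹) * β n := by group
        _ = n⁻¹ * (n * (x 0 2 1 : ↥(centralizer ({z} : Set X))) * n⁻¹) * β n := by rw [h2]
        _ = _ := by group
    obtain ⟨j, hj⟩ := isPGroup_S D ⟨d, mem_S_of_comm D h4⟩
    refine odd_fix hβ (j := j) ?_ ?_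
    · rw [← hd]; exact hC d
    · rw [← hd]
      exact congrArg (fun y : ↥(S D) => ((y : ↥(centralizer ({z} : Set X))) : X)) hj
  have h1 : KF.fx β = ⊤ := eq_top_of_swap hSE D hn hone (fun c hc => hC ⟨c, hc⟩) hnβ
  ext y
  have h2 : y ∈ KF.fx β := by rw [h1]; trivial
  exact h2

/-- an automorphism trivial on `C(z)` is `1` or the conjugation by `z` -/
theorem aut_of_cent (hSE : ∀ H : Subgroup X, ¬ IsStronglyEmbedded H) (h : ONRec X z L) {β : MulAut X}
    (hC : ∀ c ∈ centralizer ({z} : Set X), β c = c) : β = 1 ∨ β = MulAut.conj z := by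
  obtain ⟨x, ζ, k, τ, D, ⟨n, hn, hn'⟩, hone⟩ := exists_frame h
  have hzC : z ∈ centralizer ({z} : Set X) := mem_centralizer_singleton_iff.2 rfl
  have hz : β z = z := hC z hzC
  have hzz := z_sq h
  obtain ⟨e, he⟩ : ∃ e : X, e = (x 0 2 1 : ↥(centralizer ({z} : Set X))) := ⟨_, rfl⟩
  have heC : e ∈ centralizer ({z} : Set X) := he ▸ (x 0 2 1).2
  have hee : e * e = 1 := by
    have h1 := congrArg Subtype.val (Fusion.u_sq D)
    rw [he]; exact h1
  have hze : z * e = e * z := (mem_centralizer_singleton_iff.mp heC).symm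
  have hne : e ≠ z := by
    intro h1
    apply Fusion.u_ne_t D
    apply Subtype.ext
    rw [← he]; exact h1
  rw [← he] at hn hn'
  have hβe : β e = e := hC e heC
  -- `a = n⁻¹ β(n)`
  have h1 : β n * z * (β n)⁻¹ = n * z * n⁻¹ := by
    have h2 : β (n * z * n⁻¹) = e := by rw [hn, hβe]
    rw [map_mul, map_mul, map_inv, hz] at h2
    rw [h2, hn]
  have h2 : β n * e * (β n)⁻¹ = n * e * n⁻¹ := by
    have h3 : β (n * e * n⁻¹) = z := by rw [hn', hz]
    rw [map_mul, map_mul, map_inv, hβe] at h3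
    rw [h3, hn']
  obtain ⟨a, ha⟩ : ∃ a, a = n⁻¹ * β n := ⟨_, rfl⟩
  have hna : β n = n * a := by rw [ha]; group
  have haz : a * z = z * a := by
    rw [ha]
    calc n⁻¹ * β n * z = n⁻¹ * (β n * z * (β n)⁻¹) * β n := by group
      _ = n⁻¹ * (n * z * n⁻¹) * β n := by rw [h1]
      _ = _ := by group
  have hae : a * e = e * a := by
    rw [ha]
    calc n⁻¹ * β n * e = n⁻¹ * (β n * e * (β n)⁻¹) * β n := by group
      _ = n⁻¹ * (n * e * n⁻¹) * β n := by rw [h2]
      _ = _ := by group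
  have haC : a ∈ centralizer ({z} : Set X) := mem_centralizer_singleton_iff.2 haz
  -- `a` centralises `C(z, e)`
  have hcomm : ∀ w, w * z = z * w → w * e = e * w → a * w = w * a := by
    intro w hwz hwe
    have e1 : n * w * n⁻¹ * z = z * (n * w * n⁻¹) := by
      rw [← hn']
      calc n * w * n⁻¹ * (n * e * n⁻¹) = n * (w * e) * n⁻¹ := by group
        _ = n * (e * w) * n⁻¹ := by rw [hwe]
        _ = _ := by group
    have h3 : β (n * w * n⁻¹) = n * w * n⁻¹ := hC _ (mem_centralizer_singleton_iff.2 e1)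
    rw [map_mul, map_mul, map_inv, hC w (mem_centralizer_singleton_iff.2 hwz), hna] at h3
    calc a * w = n⁻¹ * (n * a * w * (n * a)⁻¹) * n * a := by group
      _ = n⁻¹ * (n * w * n⁻¹) * n * a := by rw [h3]
      _ = w * a := by group
  have hcases : a = 1 ∨ a = z ∨ a = e ∨ a = e * z := by
    have h3 := center_cent D (y := ⟨a, haC⟩) (Subtype.ext (by
      show a * _ = _ * a
      rw [← he]; exact hae)) (fun w hw => Subtype.ext (by
      show a * (w : X) = w * a
      refine hcomm w (mem_centralizer_singleton_iff.mp w.2) ?_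
      rw [he]
      exact congrArg Subtype.val hw))
    rcases h3 with h3 | h3 | h3 | h3
    · exact Or.inl (congrArg Subtype.val h3)
    · exact Or.inr (Or.inl (congrArg Subtype.val h3))
    · exact Or.inr (Or.inr (Or.inl (by rw [he]; exact congrArg Subtype.val h3)))
    · exact Or.inr (Or.inr (Or.inr (by rw [he]; exact congrArg Subtype.val h3)))
  -- `n²` is fixed
  have hn2 : n⁻¹ * a * n * a = 1 := by
    have e1 : n * n * z = z * (n * n) := by
      calc n * n * z = n * (n * z * n⁻¹) * n := by group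
        _ = (n * e * n⁻¹) * n * n := by rw [hn]; group
        _ = _ := by rw [hn']; group
    have h3 : β (n * n) = n * n := hC _ (mem_centralizer_singleton_iff.2 e1)
    rw [map_mul, hna] at h3
    calc n⁻¹ * a * n * a = n⁻¹ * n⁻¹ * (n * a * (n * a)) := by group
      _ = 1 := by rw [h3]; group
  have hnz : n⁻¹ * z * n = e := by rw [← hn']; group
  have hnE : n⁻¹ * e * n = z := by rw [← hn]; group
  have hze1 : e * z ≠ 1 := by
    intro h3
    apply hne
    calc e = e * z * z⁻¹ := by group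
      _ = z := by rw [h3, one_mul]; exact inv_eq_of_mul_eq_one_left hzz
  have hfin : ∀ {γ : MulAut X}, (∀ c ∈ centralizer ({z} : Set X), γ c = c) → γ n = n → γ = 1 := by
    intro γ hγ hγn
    have h3 : KF.fx γ = ⊤ := eq_top_of_swap hSE D (n := n) (by rw [hn, he]) hone (fun c hc => hγ c hc) hγn
    ext y
    have h4 : y ∈ KF.fx γ := by rw [h3]; trivial
    exact h4
  rcases hcases with h3 | h3 | h3 | h3
  · left
    exact hfin hC (by rw [hna, h3, mul_one])
  · exfalso
    rw [h3, hnz] at hn2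
    exact hze1 hn2
  · exfalso
    rw [h3, hnE] at hn2
    exact hze1 (by rw [← hze]; exact hn2)
  · right
    have h4 : (MulAut.conj z)⁻¹ * β = 1 := by
      refine hfin ?_ ?_
      · intro c hc
        rw [MulAut.mul_apply, hC c hc, ← map_inv, MulAut.conj_apply, inv_inv]
        have h5 := mem_centralizer_singleton_iff.mp hc
        rw [mul_assoc, h5]; group
      · rw [MulAut.mul_apply, hna, h3, ← map_inv, MulAut.conj_apply, inv_inv]
        have hzi : z⁻¹ = z := inv_eq_of_mul_eq_one_left hzz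
        calc z⁻¹ * (n * (e * z)) * z = z⁻¹ * (n * e * n⁻¹) * n * (z * z) := by group
          _ = n := by rw [hn', hzz]; group
    exact (inv_mul_eq_one.mp h4).symm

/-- **An involutory automorphism trivial on `L` is `1` or the conjugation by `z`.** -/
theorem inv_aut (hSE : ∀ H : Subgroup X, ¬ IsStronglyEmbedded H) (h : ONRec X z L) {β : MulAut X}
    (hβ : β * β = 1) (hL : ∀ l ∈ L, β l = l) : β = 1 ∨ β = MulAut.conj z := by
  obtain ⟨x, ζ, k, τ, D, -, -⟩ := exists_frame h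
  have hM : ∀ m : ↥(centralizer ({z} : Set X)), m ∈ L.subgroupOf (centralizer ({z} : Set X)) → β m = m :=
    fun m hm => hL _ (mem_subgroupOf.mp hm)
  have hz : β z = z := hM _ (Fusion.t_mem_M D)
  have hnM := h.mrec.norm
  have hββ : ∀ y, β (β y) = y := fun y => by
    rw [← MulAut.mul_apply, hβ]; rfl
  -- `τ⁻¹ β(τ)` is in `Z(L)`
  have h1 : β τ ∈ centralizer ({z} : Set X) := by
    rw [mem_centralizer_singleton_iff]
    have h2 : (τ : X) * z = z * τ := mem_centralizer_singleton_iff.mp τ.2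
    calc β τ * z = β (τ * z) := by rw [map_mul, hz]
      _ = β (z * τ) := by rw [h2]
      _ = z * β τ := by rw [map_mul, hz]
  obtain ⟨d, hd⟩ : ∃ d : ↥(centralizer ({z} : Set X)), (d : X) = (τ : X)⁻¹ * β τ :=
    ⟨⟨_, mul_mem (inv_mem τ.2) h1⟩, rfl⟩
  have h3 : d ∈ centralizer (L.subgroupOf (centralizer ({z} : Set X)) : Set ↥(centralizer ({z} : Set X))) := by
    rw [mem_centralizer_iff]
    intro m hm
    have h4 : β ((τ : X) * m * (τ : X)⁻¹) = τ * m * (τ : X)⁻¹ := hM _ (hnM.conj_mem m hm τ)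
    rw [map_mul, map_mul, map_inv, hM m hm] at h4
    apply Subtype.ext
    show (m : X) * (d : X) = d * m
    rw [hd]
    calc (m : X) * ((τ : X)⁻¹ * β τ) = (τ : X)⁻¹ * (τ * m * (τ : X)⁻¹) * β τ := by group
      _ = (τ : X)⁻¹ * (β τ * m * (β τ)⁻¹) * β τ := by rw [h4]
      _ = _ := by group
  have h4 : d ∈ L.subgroupOf (centralizer ({z} : Set X)) := h.mrec.cc h3
  have hβτ : β τ = τ * d := by rw [hd]; group
  have hdd : (d : X) * d = 1 := by
    have h5 := hββ τ
    rw [hβτ, map_mul, hM d h4, hβτ, mul_assoc] at h5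
    exact (mul_eq_left).mp h5
  -- the elements of `C(z)`
  have hcov : ∀ c : ↥(centralizer ({z} : Set X)), c ∈ L.subgroupOf (centralizer ({z} : Set X)) ∨
      τ⁻¹ * c ∈ L.subgroupOf (centralizer ({z} : Set X)) := by
    intro c
    by_cases hc : c ∈ L.subgroupOf (centralizer ({z} : Set X))
    · exact Or.inl hc
    · exact Or.inr (mul_mem_of_not_mem D (fun h => D.τM (by simpa using inv_mem h)) hc)
  have hext : ∀ {γ : MulAut X}, (∀ m : ↥(centralizer ({z} : Set X)), m ∈ L.subgroupOf (centralizer ({z} : Set X)) →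
      γ m = m) → γ τ = τ → γ = 1 ∨ γ = MulAut.conj z := by
    intro γ hγ hγτ
    refine aut_of_cent hSE h fun c hc => ?_
    rcases hcov ⟨c, hc⟩ with h5 | h5
    · exact hγ _ h5
    · have h6 := hγ _ h5
      have h7 : ((τ⁻¹ * ⟨c, hc⟩ : ↥(centralizer ({z} : Set X))) : X) = (τ : X)⁻¹ * c := rfl
      rw [h7, map_mul, map_inv, hγτ] at h6
      exact mul_left_cancel h6
  by_cases hd1 : d = 1
  · exact hext hM (by rw [hβτ, hd1]; simp)
  -- `d = z`
  have hdz : (d : X) = z := by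
    have h5 : (⟨d, h4⟩ : ↥(L.subgroupOf (centralizer ({z} : Set X)))) ∈
        center ↥(L.subgroupOf (centralizer ({z} : Set X))) := by
      rw [mem_center_iff]
      intro m
      exact Subtype.ext (mem_centralizer_iff.mp h3 m m.2)
    by_contra hcon
    have h6 : d ≠ ⟨z, mem_centralizer_singleton_iff.2 rfl⟩ := fun h7 => hcon (congrArg Subtype.val h7)
    obtain ⟨c, hc⟩ := invol D h4 (Subtype.ext hdd) hd1 h6 (fun c => Subtype.ext (mem_centralizer_singleton_iff.1 c.2))
    -- a conjugate of `d` is central in `L`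
    have h7 : ∀ m ∈ L.subgroupOf (centralizer ({z} : Set X)), m * x 0 2 1 = x 0 2 1 * m := by
      intro m hm
      have h8 := mem_centralizer_iff.mp h3 (c⁻¹ * m * c) (by
        have := hnM.conj_mem m hm c⁻¹
        rwa [inv_inv] at this)
      rw [← hc]
      calc m * (c * d * c⁻¹) = c * (c⁻¹ * m * c * d) * c⁻¹ := by group
        _ = c * (d * (c⁻¹ * m * c)) * c⁻¹ := by rw [h8]
        _ = _ := by group
    exact Fusion.not_comm D (h7 _ (D.xM 0 1 _)).symm
  -- `β conj(ζ)` is trivial on `C(z)`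
  exfalso
  have hζz : (ζ : X) * ζ = z := congrArg Subtype.val D.zz
  have hτζ : (τ : X)⁻¹ * ζ * τ = (ζ : X)⁻¹ := congrArg Subtype.val D.H.tz
  have hζM : β ζ = ζ := hM ζ D.zM
  have hγ : β * MulAut.conj (ζ : X) = 1 ∨ β * MulAut.conj (ζ : X) = MulAut.conj z := by
    refine hext ?_ ?_
    · intro m hm
      rw [MulAut.mul_apply, MulAut.conj_apply]
      have h5 : (m : X) * ζ = ζ * m := congrArg Subtype.val (D.cz m hm)
      have h6 : (ζ : X) * m * (ζ : X)⁻¹ = m := by rw [← h5]; group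
      rw [h6, hM m hm]
    · rw [MulAut.mul_apply, MulAut.conj_apply, map_mul, map_mul, map_inv, hζM, hβτ]
      have h5 : (d : X) = ζ * ζ := hdz.trans hζz.symm
      rw [h5]
      calc (ζ : X) * (τ * (ζ * ζ)) * (ζ : X)⁻¹ = τ * ((τ : X)⁻¹ * ζ * τ) * ζ := by group
        _ = τ := by rw [hτζ]; group
  have hcomm : β * MulAut.conj (ζ : X) = MulAut.conj (ζ : X) * β := by
    ext y
    rw [MulAut.mul_apply, MulAut.mul_apply, MulAut.conj_apply, MulAut.conj_apply, map_mul, map_mul, map_inv, hζM]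
  have hsq : (β * MulAut.conj (ζ : X)) * (β * MulAut.conj (ζ : X)) = MulAut.conj z := by
    calc (β * MulAut.conj (ζ : X)) * (β * MulAut.conj (ζ : X))
        = β * (MulAut.conj (ζ : X) * β) * MulAut.conj (ζ : X) := by group
      _ = (β * β) * (MulAut.conj (ζ : X) * MulAut.conj (ζ : X)) := by rw [← hcomm]; group
      _ = MulAut.conj z := by rw [hβ, one_mul, ← map_mul, hζz]
  have hz1 : (MulAut.conj z : MulAut X) ≠ 1 := by
    intro h5
    apply not_center h
    rw [mem_center_iff]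
    intro g
    have h6 : z * g * z⁻¹ = g := by
      rw [← MulAut.conj_apply, h5]; rfl
    calc g * z = z * g * z⁻¹ * z := by rw [h6]
      _ = z * g := by group
  rcases hγ with h5 | h5
  · rw [h5, one_mul] at hsq
    exact hz1 hsq.symm
  · rw [h5] at hsq
    exact hz1 ((mul_eq_left).mp hsq)

/-- an involution of `C(z)` centralising `L` is `z` -/
theorem cent_L (h : ONRec X z L) {c : X} (hcz : c * z = z * c) (hcc : c * c = 1) (hc1 : c ≠ 1)
    (hL : ∀ l ∈ L, c * l = l * c) : c = z := by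
  obtain ⟨x, ζ, k, τ, D, -, -⟩ := exists_frame h
  have hnM := h.mrec.norm
  obtain ⟨d, hd⟩ : ∃ d : ↥(centralizer ({z} : Set X)), (d : X) = c := ⟨⟨c, mem_centralizer_singleton_iff.2 hcz⟩, rfl⟩
  have h3 : d ∈ centralizer (L.subgroupOf (centralizer ({z} : Set X)) : Set ↥(centralizer ({z} : Set X))) := by
    rw [mem_centralizer_iff]
    intro m hm
    apply Subtype.ext
    show (m : X) * (d : X) = d * m
    rw [hd]
    exact (hL _ (mem_subgroupOf.mp hm)).symm
  have h4 : d ∈ L.subgroupOf (centralizer ({z} : Set X)) := h.mrec.cc h3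
  by_contra hcon
  have h6 : d ≠ ⟨z, mem_centralizer_singleton_iff.2 rfl⟩ := fun h7 => hcon (by
    rw [← hd]; exact congrArg Subtype.val h7)
  obtain ⟨c', hc'⟩ := invol D h4 (Subtype.ext (by
    show (d : X) * d = 1
    rw [hd, hcc])) (fun h7 => hc1 (by rw [← hd, h7]; rfl)) h6
    (fun c => Subtype.ext (mem_centralizer_singleton_iff.1 c.2))
  have h7 : ∀ m ∈ L.subgroupOf (centralizer ({z} : Set X)), m * x 0 2 1 = x 0 2 1 * m := by
    intro m hm
    have h8 := mem_centralizer_iff.mp h3 (c'⁻¹ * m * c') (by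
      have := hnM.conj_mem m hm c'⁻¹
      rwa [inv_inv] at this)
    rw [← hc']
    calc m * (c' * d * c'⁻¹) = c' * (c'⁻¹ * m * c' * d) * c'⁻¹ := by group
      _ = c' * (d * (c'⁻¹ * m * c')) * c'⁻¹ := by rw [h8]
      _ = _ := by group
  exact Fusion.not_comm D (h7 _ (D.xM 0 1 _)).symm

end

end Cfsg.Agent.UGT.I34.ONRec
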