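import Cfsg.Agent.UGT.I34.WSupply
import Cfsg.Agent.UGT.I34.KGOf
import Cfsg.Agent.UGT.I34.KFEnd
import Cfsg.Agent.UGT.I34.Four
import Cfsg.Agent.UGT.I34.Main
import Cfsg.Agent.UGT.I34.ONRec
import Cfsg.Agent.UGT.Cov.At

/-!
# THEOREM I34, part [A]: the kinds `4₁` and `4₂`

* `QT τ K`: `K` has coordinates of type `τ` (`4₁.L₃(4)` for `τ = true`, `4₂.L₃(4)` for `τ = false`);
* `kd τ T`: the kind of the covers with cyclic centre of order 4 and type `τ`;
* `kf`, `kg`, `facts`: the K-facts;
* `simpleCase_false`: **there is no pair of kind `4₂` in a simple group**;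
* `oneComp`, `tgt`: the exceptional configuration `ONRec`;
* `or_QT`: every cover with cyclic centre of order 4 is of one of the two types.
-/

set_option autoImplicit false
set_option linter.dupNamespace false

open Cfsg Subgroup
open Cfsg.Agent.SignalizersComponents Cfsg.Agent.Lib
open Cfsg.Agent.SignalizersComponents.IntrinsicBasic
open Cfsg.Agent.Intrinsic
open Cfsg.Agent.Intrinsic.Basic hiding IsPair PQS Target IsPair.sq IsPair.ne_one IsPair.cj
open Cfsg.Agent.SporadicA.FieldFour
open Cfsg.Agent.ONType.Psl (PSL3 t kap)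
open Cfsg.Agent.UGT.Cov
open Cfsg.Agent.UGT.I34.Pair Cfsg.Agent.UGT.I34.Red Cfsg.Agent.UGT.I34.Cov
open Cfsg.Agent.UGT.I34.KF (Facts)
open scoped commutatorElement

namespace Cfsg.Agent.UGT.I34.KindA

universe u

section transport

variable {K M : Type*} [Group K] [Group M] {A : StdL34.Cov K} {π : K →* PSL3}
  {b : MulAut K →* MulAut PSL3}

/-- transport of coordinates over `PSL(3,4)` -/
theorem kc_map (D : KC A π b) (e : K ≃* M) :
    KC (At.mapCov e A) (π.comp e.symm.toMonoidHom) (b.comp (MulAut.congr e.symm).toMonoidHom) where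
  ce :=
    { surj := D.ce.surj.comp e.symm.surjective
      cen := by
        intro k hk m
        have h1 := D.ce.cen (e.symm k) hk (e.symm m)
        rw [← map_mul, ← map_mul] at h1
        exact e.symm.injective h1 }
  perf := by
    have h1 := congrArg (Subgroup.map e.toMonoidHom) D.perf
    rw [commutator_def, Subgroup.map_commutator, Subgroup.map_top_of_surjective _ e.surjective] at h1
    rw [commutator_def]
    exact h1
  ker2 := by
    rintro ⟨m, hm⟩
    obtain ⟨k, hk⟩ := D.ker2 ⟨e.symm m, hm⟩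
    refine ⟨k, Subtype.ext ?_⟩
    have h1 := congrArg Subtype.val hk
    change e.symm m ^ 2 ^ k = 1 at h1
    rw [← map_pow] at h1
    exact e.symm.injective (h1.trans (map_one e.symm).symm)
  cen := by
    intro k hk
    apply D.cen
    intro m
    have h1 := congrArg e.symm (hk (e m))
    rwa [map_mul, map_mul, e.symm_apply_apply] at h1
  bar := by
    intro α m
    change b (MulAut.congr e.symm α) (π (e.symm m)) = π (e.symm (α m))
    rw [D.bar]
    congr 1
    change e.symm (α (e (e.symm m))) = _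
    rw [e.apply_symm_apply]
  map_x := by
    intro i j h u
    change π (e.symm (e (A.x i j u))) = _
    rw [e.symm_apply_apply]
    exact D.map_x i j h u
  ker := by
    ext m
    rw [MonoidHom.mem_ker]
    change e.symm m ∈ π.ker ↔ _
    rw [D.ker]
    constructor
    · intro h
      rw [mem_center_iff] at h ⊢
      intro g
      have h1 := h (e.symm g)
      rw [← map_mul, ← map_mul] at h1
      exact e.symm.injective h1
    · intro h
      rw [mem_center_iff] at h ⊢
      intro g
      have h1 := congrArg e.symm (h (e g))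
      rwa [map_mul, map_mul, e.symm_apply_apply] at h1
  cz := by
    rw [At.mapCov_s, ← map_center e, D.cz]
    exact MonoidHom.map_zpowers _ _
  ord := by
    rw [At.mapCov_s, MulEquiv.orderOf_eq]
    exact D.ord

end transport

/-- `K` is `4₁.L₃(4)` (`τ = true`), `4₂.L₃(4)` (`τ = false`) -/
def QT (τ : Bool) (K : Type u) [Group K] : Prop :=
  ∃ (A : StdL34.Cov K) (π : K →* PSL3) (b : MulAut K →* MulAut PSL3), KC A π b ∧ A.ty = τ

theorem QT.congr {τ : Bool} {A B : Type u} [Group A] [Group B] (e : A ≃* B) (h : QT τ A) : QT τ B := by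
  obtain ⟨A', π, b, D, h1⟩ := h
  exact ⟨_, _, _, kc_map D e, h1⟩

/-- the kind `4₁` (`τ = true`), `4₂` (`τ = false`) -/
def kd (τ : Bool) (T : (X : Type u) → [Group X] → X → Subgroup X → Prop) : Kind.{u} :=
  kind 4 2 (QT τ) (fun e h => h.congr e) T

variable {τ : Bool} {T : (X : Type u) → [Group X] → X → Subgroup X → Prop}

theorem fourKind {K : Type u} [Group K] [Finite K] (h : IsCv 4 2 K) : FourKind K where
  perf := h.qs.1.commutator_eq_top
  cyc := by
    have hp : Fact (Nat.Prime 2) := ⟨Nat.prime_two⟩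
    have hpg : IsPGroup 2 ↥(center K) := isPGroup_center h (show 4 = 2 ^ 2 by norm_num)
    obtain ⟨F, _, _, hF, ⟨e⟩⟩ := id h.l34
    by_contra hc
    have h1 := Cfsg.Agent.OddHalf.D9.L34Mult.card_omega h.qs.1.commutator_eq_top hpg hF e hc
    have h2 := h.om
    have e1 : {z : ↥(center K) // z * z = 1} ≃ Cfsg.Agent.OddHalf.D9.L34Mult.omega K :=
      { toFun := fun a => ⟨a.1.1, a.1.2, congrArg Subtype.val a.2⟩
        invFun := fun a => ⟨⟨a.1, a.2.1⟩, Subtype.ext a.2.2⟩
        left_inv := fun a => rfl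
        right_inv := fun a => rfl }
    rw [Nat.card_congr e1, h1] at h2
    omega
  card := h.card
  psl := by
    obtain ⟨F, _, _, hF, ⟨e⟩⟩ := id h.l34
    obtain ⟨e'⟩ := nonempty_psl_equiv (n := Fin 3) F hF
    exact ⟨e.trans e'.symm⟩

theorem or_QT {K : Type u} [Group K] [Finite K] (h : IsCv 4 2 K) : QT true K ∨ QT false K := by
  obtain ⟨A, π, b, D⟩ := (fourKind h).kc
  cases hty : A.ty
  · exact Or.inr ⟨A, π, b, D, hty⟩
  · exact Or.inl ⟨A, π, b, D, hty⟩

theorem fourKind' {K : Type u} [Group K] [Finite K] (h : (kd τ T).P K) : FourKind K := fourKind h.1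

theorem kf : KAut.KF (kd.{u} τ T) := KFOf.kf _ fun h => fourKind' h

theorem kg : Elem.KG (kd.{u} τ T) := KGOf.kg _ fun h => fourKind' h

theorem facts (K : Type u) [Group K] [Finite K] (h : (kd τ T).P K) : Facts K τ := by
  obtain ⟨-, A, π, b, D, rfl⟩ := h
  exact KFEnd.facts_of_kc D

/-- statement S1173 for simple groups -/
def P1173 : Prop :=
  ∀ (G : Type u) [Group G] [Finite G] [IsSimpleGroup G] (S : Sylow 2 G) (T : Subgroup G),
    IsStronglyClosed T (S : Subgroup G) →
      ((⨅ n : ℕ, derivedSeries ↥(centralizer (T : Set G)) n).map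
        (centralizer (T : Set G)).subtype).Normal

/-- **The kind `4₂`.** -/
theorem simpleCase_false (h1173 : P1173.{u}) : SimpleCase (kd.{u} false noT) := by
  intro X _ _ _ hN z L hp
  obtain ⟨Lf, hW, -⟩ := WSupply.exists_world kf kg facts hN (fun _ _ _ _ _ _ h => h.elim)
    (fun _ _ _ _ _ h => h.elim) hp (h1173 X)
  have hz : z ∈ WSupply.cls z := ⟨1, by group⟩
  have h1 := Four.tau_of_noBig hW (fun u _ x _ _ _ _ hb => hb.2) hz
  exact absurd h1 (by decide)

theorem good_false (h1173 : P1173.{u}) : Good (kd.{u} false noT) :=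
  good_of (simpleCase_false h1173) subKinds_cyclic fun _ _ _ _ h => h.elim

/-! ### the exceptional configurations of the kind `4₁` -/

/-- the exceptional configurations of the kind `4₁` -/
def TON : (X : Type u) → [Group X] → X → Subgroup X → Prop := fun X _ z L =>
  Finite X ∧ ONRec.ONRec X z L

section on

variable {X : Type u} [Group X] [Finite X] {z : X} {L : Subgroup X}

theorem quasisimple_of_mrec {C : Type u} [Group C] [Finite C] {M : Subgroup C} (h : ONRec.MRec M) :
    IsQuasisimple ↥M ∧ oddCore ↥M = ⊥ ∧ 2 ∣ Nat.card ↥M := by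
  obtain ⟨F, _, _, hF, ⟨e⟩⟩ := h.psl
  have hF' : Nat.card F = 4 := by rw [Nat.card_eq_fintype_card, hF]
  have : Nontrivial F := inferInstance
  have hs : IsSimpleGroup (Matrix.ProjectiveSpecialLinearGroup (Fin 3) F) := S0249.result 3 le_rfl
  have hs' : IsSimpleGroup (↥M ⧸ center ↥M) := e.isSimpleGroup
  have hq : IsQuasisimple ↥M := ⟨⟨h.perf⟩, hs'⟩
  have h2 : 2 ∣ Nat.card ↥M := by
    have h1 := Subgroup.card_subgroup_dvd_card (center ↥M)
    rw [h.card] at h1
    exact (show 2 ∣ 4 by norm_num).trans h1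
  refine ⟨hq, ?_, h2⟩
  have hn : (oddCore ↥M).Normal := Lib.Cores.pPrimeCore_normal 2
  have hc : (Nat.card (oddCore ↥M)).Coprime 2 := Lib.Cores.pPrimeCore_coprime 2
  have hne : oddCore ↥M ≠ ⊤ := by
    intro h1
    rw [h1, Subgroup.card_top] at hc
    exact absurd (Nat.Coprime.eq_one_of_dvd hc.symm h2) (by norm_num)
  have hle := QsBasic.normal_le_center_of_ne_top hq _ hne
  have h3 : Nat.card (oddCore ↥M) ∣ 4 := h.card ▸ Subgroup.card_dvd_of_le hle
  have h4 : (Nat.card (oddCore ↥M)).Coprime 4 := by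
    have := Nat.Coprime.pow_right 2 hc
    exact this
  exact Subgroup.card_eq_one.mp (Nat.Coprime.eq_one_of_dvd h4 h3)

theorem isComp_of_onrec (R : ONRec.ONRec X z L) : IsComp (centralizer ({z} : Set X)) L := by
  obtain ⟨hq, hO, h2⟩ := quasisimple_of_mrec R.mrec
  have hn := R.mrec.norm
  have hc : IsComponent (L.subgroupOf (centralizer ({z} : Set X))) := ⟨hn.isSubnormal, hq⟩
  have e : ↥(L.subgroupOf (centralizer ({z} : Set X))) ≃* ↥L := subgroupOfEquivOfLe R.le
  rw [isComp_iff]
  refine ⟨R.le, hn.isSubnormal, ?_, ?_⟩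
  · refine PCompQuot.quasisimple_congr (IntrinsicDiag.quotSubgroupOf R.le)
      (PCompQuot.quasisimple_congr ?_ hq)
    exact (QuotientGroup.quotientBot.symm).trans (QuotientGroup.quotientMulEquivOfEq hO.symm)
  · exact (Intrinsic.Red.pElem_subgroupOf R.le).mp (IntrinsicLift.pElem_component hc h2)

end on

/-- an `ONRec` group has one 2-component in the centraliser -/
theorem oneComp : KAut.OneComp (kd.{u} true TON) := by
  intro X _ _ z L L' hT hL'
  have R : ONRec.ONRec X z L := hT.2
  have hL := isComp_of_onrec R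
  refine hL'.eq_of_le hL ?_
  -- `L' ≤ L`
  have hn := R.mrec.norm
  have h1 : ⁅L', L'⁆ = L' := hL'.perfect
  rw [← h1, Subgroup.commutator_le]
  intro a ha b hb
  have h3 : ⁅(⟨a, hL'.le ha⟩ : ↥(centralizer ({z} : Set X))), ⟨b, hL'.le hb⟩⁆ ∈
      L.subgroupOf (centralizer ({z} : Set X)) := by
    rw [commutatorElement_def, Subgroup.mul_mem_iff_of_index_two R.mrec.idx,
      Subgroup.mul_mem_iff_of_index_two R.mrec.idx, Subgroup.mul_mem_iff_of_index_two R.mrec.idx,
      inv_mem_iff, inv_mem_iff]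
    tauto
  exact h3

theorem tgt : WOne.Tgt (kd.{u} true TON) := by
  intro X _ _ z L hT hp
  have R : ONRec.ONRec X z L := hT.2
  exact ⟨ONRec.not_center R, fun s hs hs1 => ONRec.one_class R hs hs1⟩

end Cfsg.Agent.UGT.I34.KindA
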