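import Cfsg.Agent.UGT.Cov.KleinK
import Cfsg.Agent.UGT.I34.FourDefs
import Cfsg.Agent.UGT.I34.FourCount

/-!
# THEOREM I34, part [C]: the records `Four.Klein`, `FourG.KCount` for `2².L₃(4)` (helper281)
-/

set_option autoImplicit false
set_option linter.constructorNameAsVariable false
set_option linter.unusedVariables false

namespace Cfsg.Agent.UGT.I34.KleinOf

open Cfsg Subgroup
open scoped commutatorElement
open Cfsg.Agent.Lib
open Cfsg.Agent.UGT.I34.Pair Cfsg.Agent.UGT.I34.KAut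
open Cfsg.Agent.SporadicA.FieldFour
open Cfsg.Agent.UGT.Cov.Klein (KleinKind Dat)

universe u

/-- the record `Four.Klein` -/
theorem klein (κ : Kind.{u}) (hκ : ∀ {K : Type u} [Group K] [Finite K], κ.P K → KleinKind K) : Four.Klein κ where
  card hK := (hκ hK).card
  sq hK := (hκ hK).sq
  exCan hK := by
    obtain ⟨A⟩ := (hκ hK).dat
    exact ⟨A.t, A.t_can⟩
  canU hK t c ht hc htc := by
    obtain ⟨A⟩ := (hκ hK).dat
    obtain ⟨B, -, rfl⟩ := A.exists_dat_t (s := t) ht
    obtain ⟨s, rfl⟩ := B.mem_center.1 hc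
    have h1 := B.can_t (s := B.t * B.g s) htc
    have h2 : B.t = B.t * B.g 0 := by rw [B.g_zero, mul_one]
    have h3 : s = 0 := by
      apply B.tg_inj
      rwa [← h2]
    rw [h3, B.g_zero]
  exC hK t ht := by
    obtain ⟨A⟩ := (hκ hK).dat
    obtain ⟨B, r, -, rfl⟩ := A.exists_dat_tg (s := t) ht
    refine ⟨B.g r, B.g_mem_center r, ?_⟩
    rw [mul_assoc, B.g_sq, mul_one]
    exact B.t_can

/-- the record `FourG.KCount` -/
theorem kcount (κ : Kind.{u}) (hκ : ∀ {K : Type u} [Group K] [Finite K], κ.P K → KleinKind K) :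
    FourG.KCount κ where
  inv hK := by
    obtain ⟨A⟩ := (hκ hK).dat
    exact ⟨A.t, A.t_sq, A.t_not_center⟩
  sq hK t ht := by
    obtain ⟨A⟩ := (hκ hK).dat
    exact A.sq_of_center ht
  cent hK t ht ht2 := by
    obtain ⟨A⟩ := (hκ hK).dat
    obtain ⟨B, r, -, -, h⟩ := A.centralizer_eq (s := t) ⟨ht, ht2⟩
    rw [h, B.card_T]
  sub hK N hN h := by
    obtain ⟨A⟩ := (hκ hK).dat
    exact A.card_center_le hN h
  aut hK Q hQ := by
    obtain ⟨A⟩ := (hκ hK).dat
    exact A.card_aut_le hQ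

end Cfsg.Agent.UGT.I34.KleinOf
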