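import Cfsg.Agent.StdL34.Inv
import Cfsg.Agent.UGT.Cov.K4b
import Cfsg.Agent.UGT.I34.WOneC.ExY

/-!
# The involutions of `L₃(4)` lift to involutions of `4₁.L₃(4)`, `4₂.L₃(4)`
-/

set_option autoImplicit false

open Cfsg Subgroup
open Cfsg.Agent.SporadicA.FieldFour
open Cfsg.Agent.StdL34

namespace Cfsg.Agent.UGT.I34.LiftInv

variable {K : Type*} [Group K]

/-- an element whose square is central is central or a product of an involution and a central element -/
theorem lift_inv (A : StdL34.Cov K) {k : K} (hk : k * k ∈ center K) (hk' : k ∉ center K) :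
    ∃ c ∈ center K, k * c * (k * c) = 1 := by
  have hconj : ∀ {a : K}, MulAut.conj a = 1 ↔ a ∈ center K := by
    intro a
    rw [mem_center_iff]
    constructor
    · intro ha b
      have h1 : a * b * a⁻¹ = b := by rw [← MulAut.conj_apply, ha]; rfl
      calc b * a = a * b * a⁻¹ * a := by rw [h1]
        _ = a * b := by group
    · intro h
      ext b
      rw [MulAut.conj_apply, ← h b, mul_inv_cancel_right]
      rfl
  obtain ⟨l, hl⟩ := A.inv_class (MulAut.conj k) (fun h => hk' (hconj.mp h)) (by rw [← map_mul]; exact hconj.mpr hk)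
  have e : MulAut.conj l * MulAut.conj k * (MulAut.conj l)⁻¹ = MulAut.conj (l * k * l⁻¹) := by
    rw [map_mul, map_mul, map_inv]
  rw [e] at hl
  rcases hl with ⟨τ, hτ, h1⟩ | h1
  · exact absurd (h1.hasTy.unique (Cov.hasTy_conj _)) hτ
  · obtain ⟨c, hc⟩ : ∃ c, c = k⁻¹ * (l⁻¹ * A.x 0 2 1 * l) := ⟨_, rfl⟩
    have hcc : c ∈ center K := by
      rw [← hconj, hc, map_mul, map_mul, map_mul, ← h1, ← map_mul, ← map_mul, ← map_mul]
      rw [hconj]
      have h2 : k⁻¹ * (l⁻¹ * (l * k * l⁻¹) * l) = 1 := by group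
      rw [h2]
      exact one_mem _
    refine ⟨c, hcc, ?_⟩
    have h2 : k * c = l⁻¹ * A.x 0 2 1 * l := by rw [hc]; group
    rw [h2]
    calc l⁻¹ * A.x 0 2 1 * l * (l⁻¹ * A.x 0 2 1 * l) = l⁻¹ * (A.x 0 2 1 * A.x 0 2 1) * l := by group
      _ = 1 := by rw [A.x_sq 0 2 (by decide) 1]; group

universe v

/-- `LiftInv` for a kind of `4.L₃(4)` -/
theorem liftInv {κ : Pair.Kind.{v}} (hκ : ∀ {K : Type v} [Group K] [Finite K], κ.P K → Cov.FourKind K) :
    WOneC.ExY.LiftInv κ := by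
  intro K _ _ hK k hk hk'
  obtain ⟨A, -, -, -⟩ := (hκ hK).kc
  exact lift_inv A hk hk'

end Cfsg.Agent.UGT.I34.LiftInv
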