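import Cfsg.Agent.UGT.I34.ONRec

/-!
# Theorem I34, part [A]: O'Nan record, automorphisms trivial on two conjugates of `L`

`two_aut`: an automorphism trivial on `L` and on `g L g⁻¹`, where `g z g⁻¹ ∈ L`, `g z g⁻¹ ≠ z`, is trivial.
`core_L`: `L` has no normal subgroup of odd order.
-/

set_option autoImplicit false
set_option linter.dupNamespace false

open Cfsg Subgroup
open Cfsg.Agent.SporadicA.FieldFour
open Cfsg.Agent.ONType.SFacts Cfsg.Agent.ONType.SChk Cfsg.Agent.ONType.SSub Cfsg.Agent.ONType.SGroup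
open Cfsg.Agent.ONType
open Cfsg.Agent.UGT.I34.ONRec

namespace Cfsg.Agent.UGT.I34.ONTwo

universe u

/-- `Z(C_L(u))` contains no square root of `u = x₀₂(1)` -/
theorem no_root : us.all (fun y => !(eqb (mul PON y y) cu) ||
    !(us.all fun b => !(eqb (mul PON b cu) (mul PON cu b)) || eqb (mul PON y b) (mul PON b y))) = true := by
  decide +kernel

section C0

variable {C : Type*} [Group C] {t : C} {M : Subgroup C} {x : Fin 3 → Fin 3 → F4 → C} {ζ k τ : C}
  (D : SData PON t M x ζ k τ)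
include D

theorem false_of_root {y : C} (hyM : y ∈ M) (hyy : y * y = x 0 2 1)
    (h : ∀ m ∈ M, m * x 0 2 1 = x 0 2 1 * m → y * m = m * y) : False := by
  have hyu : y * x 0 2 1 = x 0 2 1 * y := by rw [← hyy, mul_assoc]
  obtain ⟨l, hl, rfl⟩ := mem_S_of_comm D hyu
  have h1 : l ∈ us := mem_us hl ((ev_mem_M D l).mp hyM)
  have h2 := (List.all_eq_true.1 no_root) l h1
  have h3 : eqb (mul PON l l) cu = true := by
    rw [← mul_eq_iff' D (by decide), ev_cu D]; exact hyy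
  have h4 : (us.all fun b => !(eqb (mul PON b cu) (mul PON cu b)) || eqb (mul PON l b) (mul PON b l)) = true := by
    rw [List.all_eq_true]
    intro b hb
    by_cases h5 : eqb (mul PON b cu) (mul PON cu b) = true
    · rw [h5, Bool.not_true, Bool.false_or, ← mul_eq_iff D]
      rw [← mul_eq_iff D, ev_cu D] at h5
      exact h _ ((ev_mem_M D b).mpr (us_e hb)) h5
    · rw [Bool.not_eq_true] at h5
      rw [h5, Bool.not_false, Bool.true_or]
  rw [h3, h4] at h2
  simp at h2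

end C0

section

variable {X : Type u} [Group X] [Finite X] {z : X} {L : Subgroup X}

/-- `L_e ∩ C(z) ⊄ L` -/
theorem exists_outer (h : ONRec X z L) {g e : X} (he : e ∈ L) (hee : e * e = 1) (he1 : e ≠ 1) (hez : e ≠ z)
    (hg : g * z * g⁻¹ = e) : (∃ l ∈ L, g * l * g⁻¹ * z = z * (g * l * g⁻¹) ∧ g * l * g⁻¹ ∉ L) ∧
      ∃ r, (∀ l ∈ L, ∃ l' ∈ L, r * l * r⁻¹ = g * l' * g⁻¹) ∧ r * e * r⁻¹ = z := by
  obtain ⟨x, ζ, k, τ, D, ⟨n, hn, hn'⟩, hone⟩ := exists_frame h
  have hzC : z ∈ centralizer ({z} : Set X) := mem_centralizer_singleton_iff.2 rfl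
  have heC : e ∈ centralizer ({z} : Set X) := h.le he
  have hnM := h.mrec.norm
  obtain ⟨c, hc⟩ := invol D (m := ⟨e, heC⟩) (mem_subgroupOf.mpr he) (Subtype.ext hee)
    (fun h1 => he1 (congrArg Subtype.val h1)) (fun h1 => hez (congrArg Subtype.val h1))
    (fun c => Subtype.ext (mem_centralizer_singleton_iff.1 c.2))
  obtain ⟨u, hu⟩ : ∃ u : X, u = (x 0 2 1 : ↥(centralizer ({z} : Set X))) := ⟨_, rfl⟩
  rw [← hu] at hn hn'
  have hc' : (c : X) * e * (c : X)⁻¹ = u := by rw [hu]; exact congrArg Subtype.val hc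
  have hcz : (c : X) * z = z * c := mem_centralizer_singleton_iff.mp c.2
  obtain ⟨r, hr⟩ : ∃ r : X, r = (c : X)⁻¹ * n * c := ⟨_, rfl⟩
  have hrz : r * z * r⁻¹ = e := by
    rw [hr]
    calc (c : X)⁻¹ * n * c * z * ((c : X)⁻¹ * n * c)⁻¹ = (c : X)⁻¹ * n * (c * z) * (c : X)⁻¹ * n⁻¹ * c := by group
      _ = (c : X)⁻¹ * (n * z * n⁻¹) * c := by rw [hcz]; group
      _ = e := by rw [hn, ← hc']; group
  have hre : r * e * r⁻¹ = z := by
    rw [hr]
    calc (c : X)⁻¹ * n * c * e * ((c : X)⁻¹ * n * c)⁻¹ = (c : X)⁻¹ * (n * (c * e * (c : X)⁻¹) * n⁻¹) * c := by group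
      _ = (c : X)⁻¹ * (z * c) := by rw [hc', hn', mul_assoc]
      _ = z := by rw [← hcz]; group
  -- conjugation inside `C(z)`
  have hconj : ∀ d : X, d * z = z * d → ∀ l ∈ L, d * l * d⁻¹ ∈ L := by
    intro d hd l hl
    have h1 := hnM.conj_mem (⟨l, h.le hl⟩ : ↥(centralizer ({z} : Set X))) (mem_subgroupOf.mpr hl)
      ⟨d, mem_centralizer_singleton_iff.2 hd⟩
    exact mem_subgroupOf.mp h1
  have hrg : ∀ l ∈ L, ∃ l' ∈ L, r * l * r⁻¹ = g * l' * g⁻¹ := by
    intro l hl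
    have h1 : g⁻¹ * r * z = z * (g⁻¹ * r) := by
      calc g⁻¹ * r * z = g⁻¹ * (r * z * r⁻¹) * r := by group
        _ = g⁻¹ * (g * z * g⁻¹) * r := by rw [hrz, hg]
        _ = _ := by group
    exact ⟨_, hconj _ h1 l hl, by group⟩
  refine ⟨?_, r, hrg, hre⟩
  by_contra hcon
  push Not at hcon
  have hcon' : ∀ l ∈ L, r * l * r⁻¹ * z = z * (r * l * r⁻¹) → r * l * r⁻¹ ∈ L := by
    intro l hl h1
    obtain ⟨l', hl', h2⟩ := hrg l hl
    rw [h2] at h1 ⊢
    exact hcon l' hl' h1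
  -- `r` maps `C_L(e)` to `L`
  have key : ∀ m ∈ L, m * e = e * m → r * m * r⁻¹ ∈ L ∧ r * m * r⁻¹ * e = e * (r * m * r⁻¹) := by
    intro m hm hme
    constructor
    · apply hcon' m hm
      rw [← hre]
      calc r * m * r⁻¹ * (r * e * r⁻¹) = r * (m * e) * r⁻¹ := by group
        _ = _ := by rw [hme]; group
    · have hmz : m * z = z * m := mem_centralizer_singleton_iff.mp (h.le hm)
      calc r * m * r⁻¹ * e = r * m * r⁻¹ * (r * z * r⁻¹) := by rw [hrz]
        _ = r * (m * z) * r⁻¹ := by group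
        _ = (r * z * r⁻¹) * (r * m * r⁻¹) := by rw [hmz]; group
        _ = _ := by rw [hrz]
  have key2 : ∀ m ∈ L, m * e = e * m → r⁻¹ * m * r ∈ L := by
    intro m hm hme
    have e1 : r * z = e * r := by rw [← hrz]; group
    have e2 : r * e = z * r := by rw [← hre]; group
    have e3 : Commute (r * r) z := by
      show r * r * z = z * (r * r)
      rw [mul_assoc, e1, ← mul_assoc, e2, mul_assoc]
    have e4 : Commute (r * r) e := by
      show r * r * e = e * (r * r)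
      rw [mul_assoc, e2, ← mul_assoc, e1, mul_assoc]
    have h3 := hconj _ e3.inv_left.eq m hm
    have h4 : (r * r)⁻¹ * m * (r * r)⁻¹⁻¹ * e = e * ((r * r)⁻¹ * m * (r * r)⁻¹⁻¹) :=
      ((e4.inv_left.mul_left hme).mul_left e4.inv_left.inv_left).eq
    have h5 := (key _ h3 h4).1
    have h6 : r * ((r * r)⁻¹ * m * (r * r)⁻¹⁻¹) * r⁻¹ = r⁻¹ * m * r := by group
    rwa [h6] at h5
  -- `y = c r ζ r⁻¹ c⁻¹`
  have hζL : (ζ : X) ∈ L := mem_subgroupOf.mp D.zM
  have hζc : ∀ m ∈ L, m * ζ = ζ * m := fun m hm =>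
    congrArg Subtype.val (D.cz (⟨m, h.le hm⟩ : ↥(centralizer ({z} : Set X))) (mem_subgroupOf.mpr hm))
  have hζz : (ζ : X) * ζ = z := congrArg Subtype.val D.zz
  have h1 : r * ζ * r⁻¹ ∈ L := by
    apply hcon' _ hζL
    calc r * ζ * r⁻¹ * z = r * ζ * r⁻¹ * (r * e * r⁻¹) := by rw [hre]
      _ = r * (ζ * e) * r⁻¹ := by group
      _ = r * (e * ζ) * r⁻¹ := by rw [hζc e he]
      _ = (r * e * r⁻¹) * (r * ζ * r⁻¹) := by group
      _ = _ := by rw [hre]
  obtain ⟨y, hy⟩ : ∃ y : ↥(centralizer ({z} : Set X)), y = c * ⟨_, h.le h1⟩ * c⁻¹ := ⟨_, rfl⟩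
  have hyX : (y : X) = c * (r * ζ * r⁻¹) * (c : X)⁻¹ := congrArg Subtype.val hy
  refine false_of_root D (y := y) ?_ ?_ ?_
  · rw [hy]; exact hnM.conj_mem _ (mem_subgroupOf.mpr h1) c
  · apply Subtype.ext
    show (y : X) * y = (x 0 2 1 : ↥(centralizer ({z} : Set X)))
    rw [← hu, hyX]
    calc c * (r * ζ * r⁻¹) * (c : X)⁻¹ * (c * (r * ζ * r⁻¹) * (c : X)⁻¹)
        = c * (r * (ζ * ζ) * r⁻¹) * (c : X)⁻¹ := by group
      _ = u := by rw [hζz, hrz, hc']
  · intro m hm hmu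
    apply Subtype.ext
    show (y : X) * m = m * y
    have h2 : (m : X) * u = u * m := by rw [hu]; exact congrArg Subtype.val hmu
    obtain ⟨m', hm'⟩ : ∃ m' : X, m' = (c : X)⁻¹ * m * c := ⟨_, rfl⟩
    have h3 : m' ∈ L := by
      have h4 := hconj (c : X)⁻¹ (by
        calc (c : X)⁻¹ * z = (c : X)⁻¹ * (z * c) * (c : X)⁻¹ := by group
          _ = _ := by rw [← hcz]; group) m (mem_subgroupOf.mp hm)
      rw [inv_inv] at h4
      rw [hm']; exact h4
    have h4 : m' * e = e * m' := by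
      rw [hm']
      have h5 : e = (c : X)⁻¹ * u * c := by rw [← hc']; group
      rw [h5]
      calc (c : X)⁻¹ * m * c * ((c : X)⁻¹ * u * c) = (c : X)⁻¹ * (m * u) * c := by group
        _ = _ := by rw [h2]; group
    have h5 := hζc _ (key2 m' h3 h4)
    have h6 : (m : X) = c * m' * (c : X)⁻¹ := by rw [hm']; group
    rw [h6, hyX]
    calc c * (r * ζ * r⁻¹) * (c : X)⁻¹ * (c * m' * (c : X)⁻¹) = c * (r * (ζ * (r⁻¹ * m' * r)) * r⁻¹) * (c : X)⁻¹ := by
          group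
      _ = _ := by rw [← h5]; group

/-- **An automorphism trivial on `L` and on `g L g⁻¹` is trivial** (`e = g z g⁻¹ ∈ L` an involution, `e ≠ z`). -/
theorem two_aut (hSE : ∀ H : Subgroup X, ¬ IsStronglyEmbedded H) (h : ONRec X z L) {g e : X} (he : e ∈ L)
    (hee : e * e = 1) (he1 : e ≠ 1) (hez : e ≠ z) (hg : g * z * g⁻¹ = e) {β : MulAut X} (h1 : ∀ l ∈ L, β l = l)
    (h2 : ∀ l ∈ L, β (g * l * g⁻¹) = g * l * g⁻¹) : β = 1 := by
  obtain ⟨⟨l, hl, hlz, hlL⟩, r, hrg, hre⟩ := exists_outer h he hee he1 hez hg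
  obtain ⟨x, ζ, k, τ, D, -, -⟩ := exists_frame h
  obtain ⟨w, hw⟩ : ∃ w, w = g * l * g⁻¹ := ⟨_, rfl⟩
  rw [← hw] at hlz hlL
  have hβw : β w = w := by rw [hw]; exact h2 l hl
  have hwC : w ∈ centralizer ({z} : Set X) := mem_centralizer_singleton_iff.2 hlz
  have hC : ∀ c ∈ centralizer ({z} : Set X), β c = c := by
    intro c hc
    by_cases hcL : c ∈ L
    · exact h1 c hcL
    · have h3 := mul_mem_of_not_mem D (a := ⟨w, hwC⟩⁻¹) (b := ⟨c, hc⟩)
        (fun h4 => hlL (by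
          have h5 := inv_mem h4
          rw [inv_inv] at h5
          exact mem_subgroupOf.mp h5))
        (fun h4 => hcL (mem_subgroupOf.mp h4))
      have h4 : w⁻¹ * c ∈ L := mem_subgroupOf.mp h3
      have h5 := h1 _ h4
      rw [map_mul, map_inv, hβw] at h5
      exact mul_left_cancel h5
  rcases aut_of_cent hSE h hC with h3 | h3
  · exact h3
  · exfalso
    apply hez
    have hzz := z_sq h
    have hez' : e * z = z * e := mem_centralizer_singleton_iff.mp (h.le he)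
    refine cent_L h hez' hee he1 fun m hm => ?_
    -- `z` commutes with `r m r⁻¹`
    obtain ⟨m', hm', h4⟩ := hrg m hm
    have h5 := h2 m' hm'
    rw [← h4, h3, MulAut.conj_apply] at h5
    have h6 : e = r⁻¹ * z * r := by rw [← hre]; group
    rw [h6]
    calc r⁻¹ * z * r * m = r⁻¹ * (z * (r * m * r⁻¹) * z⁻¹) * z * r := by group
      _ = r⁻¹ * (r * m * r⁻¹) * z * r := by rw [h5]
      _ = _ := by group

end

end Cfsg.Agent.UGT.I34.ONTwo
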