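import Cfsg.Agent.UGT.I34.NZRec
import Cfsg.Agent.UGT.I34.ONTwo
import Cfsg.Agent.UGT.I34.Four
import Cfsg.Agent.UGT.I34.WOneC.ExY
import Cfsg.Agent.LieClassical.SLGen
import Cfsg.Agent.SignalizersComponents.DistinctComponents

/-!
# Theorem I34, part [A]: no big elements if `D ∩ K_z = {z}`

World W1 with `NZ` (`v ∈ D` commuting with `u ∈ D`, fixing `L u` is `u`).  If the targets satisfy `ONRec` then there are
no big elements: `noBig`.
-/

set_option autoImplicit false

open Cfsg Subgroup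
open Cfsg.Agent.SignalizersComponents Cfsg.Agent.Lib
open Cfsg.Agent.SignalizersComponents.IntrinsicBasic
open Cfsg.Agent.SignalizersComponents.PLayerAut
open Cfsg.Agent.TwoFusion
open Cfsg.Agent.Intrinsic
open Cfsg.Agent.Intrinsic.Basic hiding IsPair PQS Target IsPair.sq IsPair.ne_one IsPair.cj
open Cfsg.Agent.Intrinsic.Cen hiding pair_comm pair_mem_cen exists_pump pump_unique
open Cfsg.Agent.Intrinsic.Quot hiding Big isPair_quot small_or_big mk_eq_one_iff
open Cfsg.Agent.McLLyComp.Act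
open Cfsg.Agent.UGT.I34.Pair Cfsg.Agent.UGT.I34.KF Cfsg.Agent.UGT.I34.WOne
open Cfsg.Agent.UGT.I34.Four (NoBig)
open Cfsg.Agent.UGT.I34.WOneC.Five Cfsg.Agent.UGT.I34.WOneC.Cc
open Cfsg.Agent.UGT.I34.ONRec
open scoped commutatorElement

namespace Cfsg.Agent.UGT.I34.NZSup

universe v

/-! ### the target -/

section target

variable {X : Type v} [Group X] [Finite X] {z : X} {L : Subgroup X}

/-- `L` has no normal subgroup of odd order -/
theorem core_L (h : ONRec X z L) : core L = ⊥ := by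
  obtain ⟨F, _, _, hF, ⟨e⟩⟩ := h.mrec.psl
  have hs : IsSimpleGroup (Matrix.ProjectiveSpecialLinearGroup (Fin 3) F) :=
    Cfsg.Agent.LieClassical.SLGen.psl_isSimpleGroup (by simp)
  have hq : IsQuasisimple ↥(L.subgroupOf (centralizer ({z} : Set X))) := ⟨⟨h.mrec.perf⟩, e.isSimpleGroup⟩
  obtain ⟨f, hf⟩ : ∃ f : ↥(L.subgroupOf (centralizer ({z} : Set X))) →* X, f =
    (centralizer ({z} : Set X)).subtype.comp (L.subgroupOf (centralizer ({z} : Set X))).subtype := ⟨_, rfl⟩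
  have hfL : ∀ m, f m ∈ L := fun m => by
    rw [hf]; exact mem_subgroupOf.mp m.2
  have hN : ((core L).comap f).Normal := by
    refine ⟨fun n hn g => ?_⟩
    rw [mem_comap, map_mul, map_mul, map_inv]
    exact conj_mem_core (le_normalizer (hfL g)) hn
  rcases Cfsg.Agent.SignalizersComponents.DistinctComponents.quasisimple_normal hq _ hN with h1 | h1
  · exfalso
    have h2 : (⟨⟨z, h.le (z_mem h)⟩, mem_subgroupOf.mpr (z_mem h)⟩ : ↥(L.subgroupOf (centralizer ({z} : Set X)))) ∈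
        (core L).comap f := by rw [h1]; trivial
    rw [mem_comap, hf] at h2
    exact z_ne_one h (eq_one_of_mem_core_sq h2 (z_sq h))
  · rw [eq_bot_iff]
    intro w hw
    have hwL := core_le L hw
    have h2 := h1 (x := (⟨⟨w, h.le hwL⟩, mem_subgroupOf.mpr hwL⟩ : ↥(L.subgroupOf (centralizer ({z} : Set X)))))
      (by rw [mem_comap, hf]; exact hw)
    have h3 := Subgroup.orderOf_dvd_natCard _ h2
    rw [h.mrec.card, orderOf_dvd_iff_pow_eq_one] at h3
    have h4 : w ^ 2 ^ 2 = 1 := congrArg (fun m => f m) h3 |>.trans (by rw [map_one]) |> fun h5 => by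
      rw [map_pow, hf] at h5
      exact h5
    rw [mem_bot]
    exact eq_one_of_mem_core hw h4

end target

variable {G : Type v} [Group G] [Finite G]

/-! ### Sylow subgroups -/

/-- If the normalizer of the Sylow `2`-subgroup `P` of `M` lies in `M`, then `P` is a Sylow `2`-subgroup of `G`. -/
theorem exists_sylow_of_normalizer_le {M : Subgroup G} (P : Sylow 2 M)
    (h : Subgroup.normalizer (((P : Subgroup M).map M.subtype : Subgroup G) : Set G) ≤ M) :
    ∃ S : Sylow 2 G, (S : Subgroup G) = (P : Subgroup M).map M.subtype := by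
  have hp : Fact (Nat.Prime 2) := ⟨Nat.prime_two⟩
  set Q : Subgroup G := (P : Subgroup M).map M.subtype with hQ
  have hQM : Q ≤ M := Subgroup.map_subtype_le _
  have hQp : IsPGroup 2 Q := P.isPGroup'.map _
  obtain ⟨S, hS⟩ := hQp.exists_le_sylow
  refine ⟨S, ?_⟩
  by_contra hne
  have hlt : Q < S := lt_of_le_of_ne hS (Ne.symm hne)
  have : Group.IsNilpotent S := S.isPGroup'.isNilpotent
  have hnc : NormalizerCondition S := Group.normalizerCondition_of_isNilpotent
  have h1 : Q.subgroupOf S < ⊤ := by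
    rw [lt_top_iff_ne_top]
    intro h
    rw [Subgroup.subgroupOf_eq_top] at h
    exact hlt.not_ge h
  have h2 := hnc _ h1
  obtain ⟨x, hx1, hx2⟩ := SetLike.exists_of_lt h2
  have hxN : (x : G) ∈ Subgroup.normalizer (Q : Set G) := by
    rw [Subgroup.mem_normalizer_iff]
    intro g
    constructor
    · intro hg
      have := (Subgroup.mem_normalizer_iff.mp hx1 ⟨g, hS hg⟩).mp (by
        rw [Subgroup.mem_subgroupOf]; exact hg)
      rw [Subgroup.mem_subgroupOf] at this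
      exact this
    · intro hg
      have hgS : g ∈ (S : Subgroup G) := by
        have h3 := S.toSubgroup.mul_mem (S.toSubgroup.mul_mem (S.toSubgroup.inv_mem x.2) (hS hg)) x.2
        simpa [mul_assoc] using h3
      have := (Subgroup.mem_normalizer_iff.mp hx1 ⟨g, hgS⟩).mpr (by
        rw [Subgroup.mem_subgroupOf]; exact hg)
      rw [Subgroup.mem_subgroupOf] at this
      exact this
  have hxM : (x : G) ∈ M := h hxN
  have hpg : IsPGroup 2 ((((S : Subgroup G) ⊓ M).subgroupOf M : Subgroup M)) := by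
    rw [Subgroup.inf_subgroupOf_right]
    exact S.isPGroup'.comap_of_injective M.subtype M.subtype_injective
  have hPle : (P : Subgroup M) ≤ ((S : Subgroup G) ⊓ M).subgroupOf M := by
    intro y hy
    rw [Subgroup.mem_subgroupOf]
    exact ⟨hS ⟨y, hy, rfl⟩, y.2⟩
  have heq := P.is_maximal' hpg hPle
  have : (⟨x, hxM⟩ : M) ∈ (P : Subgroup M) := by
    rw [← heq, Subgroup.mem_subgroupOf]
    exact ⟨x.2, hxM⟩
  apply hx2
  rw [Subgroup.mem_subgroupOf]
  exact ⟨⟨x, hxM⟩, this, rfl⟩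

/-- the image of `T ∩ N` in `N / O(N)` contains a Sylow 2-subgroup -/
theorem exists_sylow_mk {H N : Subgroup G} (hNH : N ≤ H) (hH : H ≤ normalizer (N : Set G)) (T : Sylow 2 H) :
    ∃ Q : Sylow 2 (↥N ⧸ oddCore ↥N), ∀ q ∈ (Q : Subgroup (↥N ⧸ oddCore ↥N)), ∃ s, ∃ hs : s ∈ N,
      s ∈ (T : Subgroup H).map H.subtype ∧ q = QuotientGroup.mk ⟨s, hs⟩ := by
  have hp : Fact (Nat.Prime 2) := ⟨Nat.prime_two⟩
  obtain ⟨R⟩ : Nonempty (Sylow 2 ↥N) := inferInstance
  have h1 : IsPGroup 2 (((R : Subgroup ↥N).map N.subtype).subgroupOf H) :=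
    (R.isPGroup'.map N.subtype).comap_of_injective H.subtype H.subtype_injective
  obtain ⟨R', hR'⟩ := h1.exists_le_sylow
  obtain ⟨a, ha⟩ := MulAction.exists_smul_eq H R' T
  have haN : (a : G) ∈ normalizer (N : Set G) := hH a.2
  obtain ⟨f, hf⟩ : ∃ f : ↥N →* (↥N ⧸ oddCore ↥N), f =
    (act N ⟨a, haN⟩).toMonoidHom.comp (QuotientGroup.mk' (oddCore ↥N)) := ⟨_, rfl⟩
  have hfs : Function.Surjective f := by
    rw [hf]
    exact (act N ⟨a, haN⟩).surjective.comp (QuotientGroup.mk'_surjective _)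
  refine ⟨R.mapSurjective hfs, ?_⟩
  intro q hq
  rw [Sylow.coe_mapSurjective] at hq
  obtain ⟨⟨r, hrN⟩, hr, rfl⟩ := hq
  refine ⟨a * r * (a : G)⁻¹, conj_mem haN hrN, ?_, ?_⟩
  · have h2 : (⟨r, hNH hrN⟩ : H) ∈ R' := hR' (by
      rw [mem_subgroupOf]
      exact ⟨⟨r, hrN⟩, hr, rfl⟩)
    refine ⟨a * ⟨r, hNH hrN⟩ * a⁻¹, ?_, rfl⟩
    rw [← ha]
    exact Subgroup.smul_mem_pointwise_smul _ (MulAut.conj a) _ h2
  · rw [hf]; rfl

variable {κ : Kind.{v}} {τ : Bool} {D : Set G} {L : G → Subgroup G}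

/-- `D ∩ K_z = {z}` -/
def NZ (D : Set G) (L : G → Subgroup G) : Prop :=
  ∀ u ∈ D, ∀ v ∈ D, v * u = u * v → Fixes v (L u) → v = u

/-- an automorphism trivial on a Sylow 2-subgroup is trivial -/
def Syl (κ : Kind.{v}) : Prop :=
  ∀ (K : Type v) [Group K] [Finite K], κ.P K → ∀ (Q : Sylow 2 K) (β : MulAut K),
    (∀ q ∈ (Q : Subgroup K), β q = q) → β = 1

/-- the targets are O'Nan configurations -/
def TON (κ : Kind.{v}) : Prop :=
  ∀ (X : Type v) [Group X] [Finite X] (z : X) (L : Subgroup X), κ.T X z L → ONRec X z L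

/-- a Sylow 2-subgroup of `C(z)` is a Sylow 2-subgroup of `G` -/
theorem exists_sylow (h : W1 κ τ D L) (hS : Syl κ) (hnz : NZ D L) {z : G} (hz : z ∈ D)
    (T : Sylow 2 ↥(centralizer ({z} : Set G))) :
    ∃ S : Sylow 2 G, (S : Subgroup G) = (T : Subgroup ↥(centralizer ({z} : Set G))).map
      (centralizer ({z} : Set G)).subtype := by
  have hp : Fact (Nat.Prime 2) := ⟨Nat.prime_two⟩
  apply exists_sylow_of_normalizer_le
  intro g hg
  have hLn : centralizer ({z} : Set G) ≤ normalizer (L z : Set G) := fun a ha =>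
    h.norm hz (mem_centralizer_singleton_iff.mp ha)
  obtain ⟨P, hP⟩ : ∃ P : Subgroup G, P = (T : Subgroup ↥(centralizer ({z} : Set G))).map
      (centralizer ({z} : Set G)).subtype := ⟨_, rfl⟩
  rw [← hP] at hg
  have hPC : P ≤ centralizer ({z} : Set G) := by rw [hP]; exact Subgroup.map_subtype_le _
  have hzP : z ∈ P := by
    -- `z` is central in `C(z)`
    have h1 : (⟨z, mem_centralizer_singleton_iff.mpr rfl⟩ : ↥(centralizer ({z} : Set G))) ∈
        (T : Subgroup ↥(centralizer ({z} : Set G))) := by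
      have h2 : IsPGroup 2 (zpowers (⟨z, mem_centralizer_singleton_iff.mpr rfl⟩ : ↥(centralizer ({z} : Set G)))) := by
        apply IsPGroup.of_card (n := 1)
        rw [Nat.card_zpowers, pow_one]
        exact orderOf_eq_prime (by rw [pow_two]; exact Subtype.ext (h.sq hz))
          (fun h3 => h.ne_one hz (congrArg Subtype.val h3))
      obtain ⟨Q, hQ⟩ := h2.exists_le_sylow
      obtain ⟨c, hc⟩ := MulAction.exists_smul_eq ↥(centralizer ({z} : Set G)) Q T
      rw [← hc]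
      have h3 := Subgroup.smul_mem_pointwise_smul _ (MulAut.conj c) _ (hQ (mem_zpowers _))
      have h4 : c * (⟨z, mem_centralizer_singleton_iff.mpr rfl⟩ : ↥(centralizer ({z} : Set G))) * c⁻¹ =
          ⟨z, mem_centralizer_singleton_iff.mpr rfl⟩ := by
        apply Subtype.ext
        show (c : G) * z * (c : G)⁻¹ = z
        rw [mem_centralizer_singleton_iff.mp c.2, mul_inv_cancel_right]
      rw [← h4]
      exact h3
    rw [hP]
    exact ⟨_, h1, rfl⟩
  -- `w = g z g⁻¹` centralizes `P`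
  obtain ⟨w, hw⟩ : ∃ w, w = g * z * g⁻¹ := ⟨_, rfl⟩
  have hwP : w ∈ P := by rw [hw]; exact (mem_normalizer_iff.mp hg z).mp hzP
  have hwc : ∀ s ∈ P, w * s = s * w := by
    intro s hs
    have h1 : g⁻¹ * s * g ∈ P := by
      have h2 := (mem_normalizer_iff.mp (inv_mem hg) s).mp hs
      rwa [inv_inv] at h2
    have h2 := mem_centralizer_singleton_iff.mp (hPC h1)
    rw [hw]
    calc g * z * g⁻¹ * s = g * (z * (g⁻¹ * s * g)) * g⁻¹ := by group
      _ = g * (g⁻¹ * s * g * z) * g⁻¹ := by rw [h2]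
      _ = _ := by group
  have hwz : w * z = z * w := hwc z hzP
  have hwD : w ∈ D := by rw [hw]; exact h.conj hz g
  obtain ⟨Q, hQ⟩ := exists_sylow_mk (h.comp hz).le hLn T
  have hwN := h.norm hz hwz
  have h1 : act (L z) ⟨w, hwN⟩ = 1 := by
    refine hS _ (h.pair hz).kind Q _ fun q hq => ?_
    obtain ⟨s, hs, hsT, rfl⟩ := hQ q hq
    rw [← hP] at hsT
    rw [act_mk hwN hs, mk_eq_iff]
    have h2 : w * s * w⁻¹ = s := by rw [hwc s hsT, mul_inv_cancel_right]
    rw [h2, inv_mul_cancel]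
    exact one_mem _
  have h2 := hnz z hz w hwD hwz ((act_eq_one_iff hwN).mp h1)
  rw [mem_centralizer_singleton_iff]
  calc g * z = g * z * g⁻¹ * g := by group
    _ = z * g := by rw [← hw, h2]

/-! ### the record -/

theorem rec_of (h : W1 κ τ D L) (hY : WOneC.Cc.ExY D L) (hcc : CcMul D L) (hnz : NZ D L) : NZRec.Rec D L (C D L) where
  sq u hu := h.sq hu
  ne u hu := h.ne_one hu
  conjD u hu := h.conj hu
  L_conj u hu := h.L_conj hu
  comp u hu := h.comp hu
  self_mem u hu := h.mem hu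
  invol u hu t ht htt ht1 := h.inv_mem hu ht htt ht1
  symI u hu v hv hvu := h.mem_of_mem hu hvu (h.sq hv) (h.ne_one hv)
  nz := hnz
  tri u hu v hv hc hne := by
    by_cases h1 : v ∈ L u
    · exact Or.inl h1
    · exact Or.inr ⟨hu, hv, hc, h1, fun h2 => hne (hnz u hu v hv hc h2)⟩
  symC u hu v hv _ hc := hc.symm h
  cc u hu v hv w hw _ _ hvw hvwD h1 h2 := hcc u v w h1 h2 hvw hvwD
  exY u hu v hv _ hc d hdd hdu hdv hf := hY u v hc d hdd hdu hdv hf

/-- the big pump-up -/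
theorem bm_of (h : W1 κ τ D L) {z d : G} (hz : z ∈ D) (hdd : d * d = 1) (hd1 : d ≠ 1) (hdz : d * z = z * d)
    (hf : Fixes d (L z)) (hb : IsBig κ z (L z) d) : NZRec.BM D L d (pump d (L z)) where
  comp := pump_comp (h.pair hz) hdd hdz hf
  inD a ha haa ha1 := (h.of_mem_pump hz hdd hd1 hdz hf hb ha haa ha1).1
  fix a ha haa ha1 := (h.of_mem_pump hz hdd hd1 hdz hf hb ha haa ha1).2.2.1
  cle a ha haa ha1 := by
    obtain ⟨h1, h2, h3, h4, -⟩ := h.of_mem_pump hz hdd hd1 hdz hf hb ha haa ha1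
    rw [← h4]
    exact cen_le_pump (h.pair h1) hdd h2 h3
  two a ha haa ha1 := by
    obtain ⟨h1, h2, h3, h4, -⟩ := h.of_mem_pump hz hdd hd1 hdz hf hb ha haa ha1
    obtain ⟨t, ht, htt, ht1, hta, hdt⟩ := h.exists_inv_comm_one h1 (m := 1)
      (by rw [pow_one, pow_two, hdd]) h3
    refine ⟨t, ?_, htt, ht1, hta, h.comm h1 ht⟩
    rw [← h4]
    exact cen_le_pump (h.pair h1) hdd h2 h3 (mem_cen_of_sq ht hdt.symm htt)

/-- **An element fixing `L z` and `L e` fixes the big pump-up.** -/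
theorem fixes_pump (h : W1 κ τ D L) (hT : TON κ) (hB : BenderSimple.{v}) {z d e x : G} (hz : z ∈ D)
    (hdd : d * d = 1) (hd1 : d ≠ 1) (hdz : d * z = z * d) (hf : Fixes d (L z)) (hb : IsBig κ z (L z) d)
    (he : e ∈ L z) (hee : e * e = 1) (he1 : e ≠ 1) (hez : e ≠ z) (hde : d * e = e * d) (hxd : x * d = d * x)
    (hxz : x * z = z * x) (hxe : x * e = e * x) (hfz : Fixes x (L z)) (hfe : Fixes x (L e)) :
    Fixes x (pump d (L z)) := by
  obtain ⟨M, hM⟩ : ∃ M, M = pump d (L z) := ⟨_, rfl⟩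
  obtain ⟨J, hJ⟩ : ∃ J, J = cen (L z) d := ⟨_, rfl⟩
  have hp := h.pair hz
  have heJ : e ∈ J := by rw [hJ]; exact mem_cen_of_sq he hde.symm hee
  have hJM : J ≤ M := by rw [hJ, hM]; exact cen_le_pump hp hdd hdz hf
  have heM := hJM heJ
  obtain ⟨g, hg, hge⟩ := hb.conj h.tgt hp hdd hdz hf (by rw [← hM]; exact heM) hee he1
  obtain ⟨heD, -, hfde, hpe, -⟩ := h.of_mem_pump hz hdd hd1 hdz hf hb (by rw [← hM]; exact heM) hee he1
  have hcomp : IsComp (centralizer ({d} : Set G)) M := by rw [hM]; exact pump_comp hp hdd hdz hf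
  have hx : x ∈ normalizer (M : Set G) := by
    rw [hM]; exact mem_normalizer_pump hp hdd hdz hf (h.norm hz hxz) hxd
  rw [← hM] at hg ⊢
  have hgd : g * d = d * g := mem_centralizer_singleton_iff.mp (hcomp.le hg)
  obtain ⟨hzM, hTT⟩ : Pair.Big κ z J M := by rw [hJ, hM]; exact hb
  have hON := hT _ _ _ hTT
  have hcoreJ : core J ≤ core M := by
    intro j hj
    have hjM := hJM (core_le J hj)
    obtain ⟨f, hf'⟩ : ∃ f : ↥M →* (↥M ⧸ oddCore ↥M), f = QuotientGroup.mk' (oddCore ↥M) := ⟨_, rfl⟩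
    -- the image of `core J` is an odd normal subgroup of `qs M J`
    have h1 : ((core J).subgroupOf M).map f ≤ core (qs M J) := by
      refine le_core ?_ ?_ ?_
      · rintro _ ⟨y, hy, rfl⟩
        rw [hf']
        exact (mem_qs y.2).mpr ⟨y, ⟨core_le J hy, y.2⟩, by simp⟩
      · rintro _ ⟨a, ha, rfl⟩
        have key : ∀ b : ↥M, (b : G) ∈ J → ∀ y ∈ ((core J).subgroupOf M).map f, f b * y * (f b)⁻¹ ∈
            ((core J).subgroupOf M).map f := by
          rintro b hb _ ⟨y, hy, rfl⟩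
          refine ⟨b * y * b⁻¹, ?_, by rw [map_mul, map_mul, map_inv]⟩
          exact conj_mem_core (le_normalizer hb) hy
        rw [← hf', mem_normalizer_iff]
        intro y
        constructor
        · exact key a ha y
        · intro hy
          have h2 := key a⁻¹ (J.inv_mem ha) _ hy
          rw [map_inv, inv_inv] at h2
          have h3 : (f a)⁻¹ * (f a * y * (f a)⁻¹) * f a = y := by group
          rwa [h3] at h2
      · have h2 := Subgroup.card_map_dvd ((core J).subgroupOf M) f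
        refine Odd.of_dvd_nat ?_ h2
        refine Odd.of_dvd_nat (odd_card_core J) ?_
        exact Subgroup.card_comap_dvd_of_injective _ _ M.subtype_injective
    have h2 : f ⟨j, hjM⟩ ∈ core (qs M J) := h1 ⟨⟨j, hjM⟩, hj, rfl⟩
    rw [core_L hON, mem_bot, hf'] at h2
    exact (mk_eq_one_iff hjM).mp h2
  -- `x` centralizes `J` and `cj g J` modulo `core M`
  have hJ1 : ∀ j ∈ J, ⁅x, j⁆ ∈ core M := by
    intro j hj
    refine hcoreJ (inf_core_le (M := L z) ?_ ⟨?_, ?_⟩)
    · rw [hJ]; exact (cen_le _ _).trans le_normalizer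
    · have h1 : x ∈ normalizer (J : Set G) := by rw [hJ]; exact mem_normalizer_cen hfz.1 hxd
      rw [commutatorElement_def]
      exact J.mul_mem ((mem_normalizer_iff.mp h1 j).mp hj) (J.inv_mem hj)
    · rw [hJ] at hj
      exact hfz.2 j (cen_le _ _ hj)
  have hgJ : cj g J = cen (L e) d := by
    rw [hJ, cj_cen, ← h.L_conj hz, hge, hgd, mul_inv_cancel_right]
  have hJ2 : ∀ j ∈ cj g J, ⁅x, j⁆ ∈ core M := by
    intro j hj
    have h0 : core (cj g J) ≤ core M := by
      rw [core_cj]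
      have h1 := cj_mono (g := g) hcoreJ
      rw [← core_cj g M, cj_eq_self_of_mem hg] at h1
      exact h1
    refine h0 (inf_core_le (M := L e) ?_ ⟨?_, ?_⟩)
    · rw [hgJ]; exact (cen_le _ _).trans le_normalizer
    · have h1 : x ∈ normalizer (cj g J : Set G) := by rw [hgJ]; exact mem_normalizer_cen hfe.1 hxd
      rw [commutatorElement_def]
      exact (cj g J).mul_mem ((mem_normalizer_iff.mp h1 j).mp hj) ((cj g J).inv_mem hj)
    · rw [hgJ] at hj
      exact hfe.2 j (cen_le _ _ hj)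
  have hfix : ∀ j (hj : j ∈ M), ⁅x, j⁆ ∈ core M → act M ⟨x, hx⟩ (QuotientGroup.mk ⟨j, hj⟩) =
      QuotientGroup.mk ⟨j, hj⟩ := by
    intro j hj h1
    rw [act_mk hx hj]
    refine ((mk_eq_iff hj (conj_mem hx hj)).mpr ?_).symm
    have h2 : j⁻¹ * (x * j * x⁻¹) = j⁻¹ * ⁅x, j⁆ * j⁻¹⁻¹ := by rw [commutatorElement_def]; group
    rw [h2]
    exact conj_mem_core (le_normalizer (M.inv_mem hj)) h1
  have hrep : ∀ l ∈ qs M J, ∃ j, ∃ hj : j ∈ M, j ∈ J ∧ l = QuotientGroup.mk ⟨j, hj⟩ := by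
    rintro _ ⟨j, hj, rfl⟩
    exact ⟨j, j.2, hj, rfl⟩
  rw [← act_eq_one_iff hx]
  refine ONTwo.two_aut (no_se hB hON) hON (g := QuotientGroup.mk ⟨g, hg⟩) (e := QuotientGroup.mk ⟨e, heM⟩)
    ((mem_qs heM).mpr ⟨e, ⟨heJ, heM⟩, by simp⟩) (WOne.W1.mk_sq heM hee) (WOne.W1.mk_ne_one heM hee he1) ?_ ?_ ?_ ?_
  · intro h1
    rw [mk_eq_iff heM hzM] at h1
    exact hez (Lifting.eq_of_commute (odd_card_core M) (n := 1) (m := 1)
      (by rw [pow_one, pow_two, hee]) (by rw [pow_one, pow_two, h.sq hz]) (h.comm hz he) h1)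
  · exact congrArg (fun y : ↥M => (QuotientGroup.mk y : ↥M ⧸ oddCore ↥M))
      (Subtype.ext hge : (⟨g, hg⟩ : ↥M) * ⟨z, hzM⟩ * (⟨g, hg⟩ : ↥M)⁻¹ = ⟨e, heM⟩)
  · intro l hl
    obtain ⟨j, hj, hjJ, rfl⟩ := hrep l hl
    exact hfix j hj (hJ1 j hjJ)
  · intro l hl
    obtain ⟨j, hj, hjJ, rfl⟩ := hrep l hl
    exact hfix (g * j * g⁻¹) (M.mul_mem (M.mul_mem hg hj) (M.inv_mem hg)) (hJ2 _ (conj_mem_cj hjJ))

/-- **World NZ: there are no big elements.** -/
theorem noBig [IsSimpleGroup G] (h : W1 κ τ D L) (hY : WOneC.Cc.ExY D L) (hcc : CcMul D L) (hnz : NZ D L)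
    (hS : Syl κ) (hT : TON κ) (hB : BenderSimple.{v})
    (h1173 : ∀ (S : Sylow 2 G) (T : Subgroup G), IsStronglyClosed T (S : Subgroup G) →
      ((⨅ n : ℕ, derivedSeries ↥(centralizer (T : Set G)) n).map
        (centralizer (T : Set G)).subtype).Normal) : NoBig κ D L := by
  intro z hz d₀ hdd hd1 hdz hf hb
  have hp : Fact (Nat.Prime 2) := ⟨Nat.prime_two⟩
  obtain ⟨e, he, hee, he1, hez, hde⟩ := h.exists_inv_comm_one hz (m := 1)
    (by rw [pow_one, pow_two, hdd]) hf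
  have heD := h.inv_mem hz he hee he1
  -- a Sylow 2-subgroup containing `d₀` and `e`
  obtain ⟨T, hd₀T, heT⟩ : ∃ T : Sylow 2 ↥(centralizer ({z} : Set G)),
      (⟨d₀, mem_centralizer_singleton_iff.mpr hdz⟩ : ↥(centralizer ({z} : Set G))) ∈ T ∧
      (⟨e, (h.comp hz).le he⟩ : ↥(centralizer ({z} : Set G))) ∈ T := by
    have h1 : IsPGroup 2 (closure ({⟨d₀, mem_centralizer_singleton_iff.mpr hdz⟩, ⟨e, (h.comp hz).le he⟩} :
        Set ↥(centralizer ({z} : Set G)))) := by
      refine TT.isPGroup_closure ?_ ?_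
      · rintro x (rfl | rfl)
        · exact Subtype.ext hdd
        · exact Subtype.ext hee
      · rintro x (rfl | rfl) y (rfl | rfl)
        · rfl
        · exact Subtype.ext hde
        · exact Subtype.ext hde.symm
        · rfl
    obtain ⟨T, hT⟩ := h1.exists_le_sylow
    exact ⟨T, hT (subset_closure (by simp)), hT (subset_closure (by simp))⟩
  obtain ⟨S, hSS⟩ := exists_sylow h hS hnz hz T
  have hSC : (S : Subgroup G) ≤ centralizer ({z} : Set G) := by rw [hSS]; exact Subgroup.map_subtype_le _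
  have hTz : ∀ x ∈ (S : Subgroup G), x * z = z * x := fun x hx => mem_centralizer_singleton_iff.mp (hSC hx)
  have heS : e ∈ (S : Subgroup G) := by rw [hSS]; exact ⟨_, heT, rfl⟩
  have hdS : d₀ ∈ (S : Subgroup G) := by rw [hSS]; exact ⟨_, hd₀T, rfl⟩
  have hcomm : ∀ y ∈ (S : Subgroup G), Fixes y (L z) → y * e = e * y := by
    intro y hy hfy
    have h1 : ⁅y, e⁆ ∈ core (L z) := hfy.2 e he
    have h2 : ⁅y, e⁆ ∈ (S : Subgroup G) := by
      rw [commutatorElement_def]
      exact mul_mem (mul_mem (mul_mem hy heS) (inv_mem hy)) (inv_mem heS)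
    obtain ⟨j, hj⟩ := S.isPGroup' ⟨_, h2⟩
    have h3 := eq_one_of_mem_core h1 (congrArg Subtype.val hj : ⁅y, e⁆ ^ 2 ^ j = 1)
    exact commutatorElement_eq_one_iff_mul_comm.mp h3
  refine NZRec.false_of (rec_of h hY hcc hnz) (T := S) (z := z) (e := e) ?_ h1173
  refine ⟨hz, he, hee, he1, heS, hTz, ⟨d₀, ⟨hdS, hf, ?_⟩, hd1⟩, ?_⟩
  · exact h.fixes_of_isBig hz hdd hd1 hdz hf he hee he1 hde hb
  · intro d hd hdd' hd1'
    obtain ⟨hdT, hfz, hfe⟩ := NZRec.mem_D0.mp hd
    have hdz' := hTz d hdT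
    have hde' := hcomm d hdT hfz
    have hb' : IsBig κ z (L z) d := (h.isBig_iff hz hdd' hd1' hdz' hfz he hee he1 hez hde').mpr hfe
    refine ⟨pump d (L z), bm_of h hz hdd' hd1' hdz' hfz hb', ?_⟩
    rintro x hx ⟨n, hn⟩
    obtain ⟨hxT, hxz, hxe⟩ := NZRec.mem_D0.mp hx
    have hxd : x * d = d * x := by rw [← hn]; exact (pow_mul_comm' x n).symm
    exact fixes_pump h hT hB hz hdd' hd1' hdz' hfz hb' he hee he1 hez hde' hxd (hTz x hxT) (hcomm x hxT hxz) hxz hxe

end Cfsg.Agent.UGT.I34.NZSup
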