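import Cfsg.Agent.UGT.I34.NonG

/-!
# Theorem I34, centres `4 × 2` and `4 × 4`: the involutions of the centres are not both moved

`not_both`: `uv = vu`, `v` does not fix `X ∈ Ω_u`, `u` moves an involution of the centre of `Y / O(Y)`, `Y ∈ Ω_v`;
then `u` has no square root in `C_X(v)` fixing `X`.
-/

set_option autoImplicit false
set_option linter.unusedSectionVars false

open Cfsg Subgroup
open Cfsg.Agent.SignalizersComponents Cfsg.Agent.Lib
open Cfsg.Agent.SignalizersComponents.IntrinsicBasic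
open Cfsg.Agent.SignalizersComponents.PLayerAut
open Cfsg.Agent.Intrinsic.Basic hiding IsPair PQS Target
open Cfsg.Agent.Intrinsic.Cen hiding pair_comm pair_mem_cen exists_pump pump_unique
open Cfsg.Agent.Intrinsic.Quot hiding Big small_or_big isPair_quot mk_eq_one_iff
open Cfsg.Agent.Intrinsic.Diag
open Cfsg.Agent.Intrinsic Cfsg.Agent.UGT.I34.Pair
open Cfsg.Agent.McLLyComp.Act
open scoped commutatorElement

universe u

namespace Cfsg.Agent.UGT.I34.Non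

variable {κ : Kind.{u}} {G : Type u} [Group G] [Finite G]

/-- computation in `C(v) / O(C(v))` -/
theorem swap_calc {Q : Type*} [Group Q] {w u v i : Q} (hii : i * i = u) (hvv : v * v = 1)
    (hvw : v * w = w * v) (hvi : v * i = i * v) (huw : u * w * u⁻¹ = w * v)
    (hw : w * (i * w * i⁻¹) = (i * w * i⁻¹) * w) :
    u * (w * (i * w * i⁻¹)) * u⁻¹ = w * (i * w * i⁻¹) ∧
      i * (w * (i * w * i⁻¹)) * i⁻¹ = w * (i * w * i⁻¹) * v := by
  have hvi' : v * i⁻¹ = i⁻¹ * v := by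
    have : Commute v i := hvi
    exact this.inv_right.eq
  have hui : u * i = i * u := by rw [← hii, mul_assoc]
  have hui' : i⁻¹ * u⁻¹ = u⁻¹ * i⁻¹ := by rw [← mul_inv_rev, ← mul_inv_rev, hui]
  constructor
  · calc u * (w * (i * w * i⁻¹)) * u⁻¹ = (u * w * u⁻¹) * (u * i * w * (i⁻¹ * u⁻¹)) := by group
      _ = (w * v) * (i * (u * w * u⁻¹) * i⁻¹) := by rw [huw, hui, hui', ← huw]; group
      _ = w * v * i * w * (v * i⁻¹) := by rw [huw]; group
      _ = w * (v * i) * w * i⁻¹ * v := by rw [hvi']; group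
      _ = w * i * (v * w) * i⁻¹ * v := by rw [hvi]; group
      _ = w * i * w * (v * i⁻¹) * v := by rw [hvw]; group
      _ = w * i * w * i⁻¹ * (v * v) := by rw [hvi']; group
      _ = _ := by rw [hvv, mul_one]; group
  · calc i * (w * (i * w * i⁻¹)) * i⁻¹ = (i * w * i⁻¹) * ((i * i) * w * (i * i)⁻¹) := by group
      _ = (i * w * i⁻¹) * (w * v) := by rw [hii, huw]
      _ = ((i * w * i⁻¹) * w) * v := by group
      _ = _ := by rw [← hw]

theorem Setting.not_both {Λ : Type*} [Group Λ] (S : Setting κ Λ G) {u v i : G} {X Y : Subgroup G}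
    (h : IsPair κ u X) (h' : IsPair κ v Y) (huv : u * v = v * u) (hn : ¬ Fixes v X)
    (hm : Moves u Y) (hi : i ∈ X) (hii : i * i = u) (hiv : i * v = v * i) (hif : Fixes i X) :
    False := by
  obtain ⟨huY, z, hz, hzz, hne⟩ := hm
  obtain ⟨c1, c2, c3⟩ := mk_pair_center h'
  have hav := act_pair h' huv.symm huY
  -- the involution `z` is mapped to `z v`
  obtain ⟨a, ha, haa, ha1, hav1, hall⟩ := S.om _ h'.kind _ c1 c2 c3
  have hza : act Y ⟨u, huY⟩ z = z * QuotientGroup.mk ⟨v, h'.mem⟩ := by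
    set α := act Y ⟨u, huY⟩ with hα
    set v₀ : ↥Y ⧸ oddCore ↥Y := QuotientGroup.mk ⟨v, h'.mem⟩ with hv₀
    have e1 : z ≠ 1 := by
      intro h1; apply hne; rw [h1, map_one]
    have e2 : z ≠ v₀ := by
      intro h1; apply hne; rw [h1]; exact hav
    have e3 : α z ∈ center (↥Y ⧸ oddCore ↥Y) := by
      rw [mem_center_iff]
      intro g
      obtain ⟨g, rfl⟩ := α.surjective g
      rw [← map_mul, ← map_mul, mem_center_iff.mp hz g]
    have e4 : α z * α z = 1 := by rw [← map_mul, hzz, map_one]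
    have e5 : α z ≠ 1 := fun h1 => e1 ((map_eq_one_iff α α.injective).mp h1)
    have e6 : α z ≠ v₀ := fun h1 => e2 (α.injective (h1.trans hav.symm))
    rcases hall z hz hzz with f1 | f1 | f1 | f1
    · exact absurd f1 e1
    · exact absurd f1 e2
    · rcases hall _ e3 e4 with g1 | g1 | g1 | g1
      · exact absurd g1 e5
      · exact absurd g1 e6
      · exact absurd (g1.trans f1.symm) hne
      · rw [g1, f1]
    · rcases hall _ e3 e4 with g1 | g1 | g1 | g1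
      · exact absurd g1 e5
      · exact absurd g1 e6
      · rw [g1, f1, mul_assoc, c2, mul_one]
      · exact absurd (g1.trans f1.symm) hne
  obtain ⟨⟨w, hw⟩, rfl⟩ := QuotientGroup.mk_surjective z
  have hwf : Fixes w Y := (mk_mem_center_iff hw).mp hz
  rw [act_mk huY hw] at hza
  have hcore : (w * v)⁻¹ * (u * w * u⁻¹) ∈ core Y :=
    (mk_eq_iff (mul_mem hw h'.mem) (conj_mem huY hw)).mp hza.symm
  set C := centralizer ({v} : Set G) with hC
  have hcoreC : (w * v)⁻¹ * (u * w * u⁻¹) ∈ core C := h'.comp.core_le_core hcore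
  have huC : u ∈ C := mem_c huv
  have hiC : i ∈ C := mem_c hiv
  have hvC : v ∈ C := mem_c rfl
  have hwC : w ∈ C := h'.comp.le hw
  have hui : i * u = u * i := pair_comm h hi
  -- `w` and `i w i⁻¹` commute modulo the core
  have hiw : i * w * i⁻¹ ∈ cj i Y := conj_mem_cj hw
  have hYi : IsComp C (cj i Y) := isComp_cj_of_mem h'.comp hiC
  have hwiC : i * w * i⁻¹ ∈ C := hYi.le hiw
  have hcw : ⁅w, i * w * i⁻¹⁆ ∈ core C := by
    by_cases hY : cj i Y = Y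
    · rw [hY] at hiw
      exact h'.comp.core_le_core (hwf.2 _ hiw)
    · exact hYi.core_le_core ((hYi.fixes_of_mem h'.comp hY hw).2 _ hiw)
  -- the quotient
  set π := QuotientGroup.mk' (oddCore ↥C) with hπ
  have hq1 : π ⟨u, huC⟩ * π ⟨w, hwC⟩ * (π ⟨u, huC⟩)⁻¹ = π ⟨w, hwC⟩ * π ⟨v, hvC⟩ := by
    have h1 : (QuotientGroup.mk ⟨w * v, mul_mem hwC hvC⟩ : ↥C ⧸ oddCore ↥C) =
        QuotientGroup.mk ⟨u * w * u⁻¹, mul_mem (mul_mem huC hwC) (inv_mem huC)⟩ :=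
      (mk_eq_iff _ _).mpr hcoreC
    exact h1.symm
  have hq2 : π ⟨w, hwC⟩ * (π ⟨i, hiC⟩ * π ⟨w, hwC⟩ * (π ⟨i, hiC⟩)⁻¹) =
      (π ⟨i, hiC⟩ * π ⟨w, hwC⟩ * (π ⟨i, hiC⟩)⁻¹) * π ⟨w, hwC⟩ :=
    (commutator_mem_core_iff hwC hwiC).mp hcw
  have hlift : ∀ (x y : ↥C), x * y = y * x → π x * π y = π y * π x := fun x y hxy => by
    rw [← map_mul, hxy, map_mul]
  obtain ⟨r1, r2⟩ := swap_calc (w := π ⟨w, hwC⟩) (u := π ⟨u, huC⟩) (v := π ⟨v, hvC⟩)
    (i := π ⟨i, hiC⟩)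
    (by rw [← map_mul]; congr 1; exact Subtype.ext hii)
    (by rw [← map_mul, ← map_one π]; congr 1; exact Subtype.ext h'.sq)
    (hlift _ _ (Subtype.ext (mem_centralizer_singleton_iff.mp hwC).symm))
    (hlift _ _ (Subtype.ext hiv.symm)) hq1 hq2
  obtain ⟨x, hx⟩ : ∃ x, x = w * (i * w * i⁻¹) := ⟨_, rfl⟩
  have hxC : x ∈ C := by rw [hx]; exact mul_mem hwC hwiC
  have r1' : x⁻¹ * (u * x * u⁻¹) ∈ core C := by
    have h1 : (QuotientGroup.mk ⟨x, hxC⟩ : ↥C ⧸ oddCore ↥C) =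
        QuotientGroup.mk ⟨u * x * u⁻¹, mul_mem (mul_mem huC hxC) (inv_mem huC)⟩ := by
      have h2 : (⟨x, hxC⟩ : ↥C) = ⟨w, hwC⟩ * (⟨i, hiC⟩ * ⟨w, hwC⟩ * ⟨i, hiC⟩⁻¹) :=
        Subtype.ext hx
      have h3 : (⟨u * x * u⁻¹, mul_mem (mul_mem huC hxC) (inv_mem huC)⟩ : ↥C) =
        ⟨u, huC⟩ * (⟨w, hwC⟩ * (⟨i, hiC⟩ * ⟨w, hwC⟩ * ⟨i, hiC⟩⁻¹)) * ⟨u, huC⟩⁻¹ :=
        Subtype.ext (by change u * x * u⁻¹ = _; rw [hx]; rfl)
      rw [h2, h3]
      exact r1.symm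
    exact (mk_eq_iff _ _).mp h1
  have r2' : (x * v)⁻¹ * (i * x * i⁻¹) ∈ core C := by
    have h1 : (QuotientGroup.mk ⟨x * v, mul_mem hxC hvC⟩ : ↥C ⧸ oddCore ↥C) =
        QuotientGroup.mk ⟨i * x * i⁻¹, mul_mem (mul_mem hiC hxC) (inv_mem hiC)⟩ := by
      have h2 : (⟨x * v, mul_mem hxC hvC⟩ : ↥C) =
          ⟨w, hwC⟩ * (⟨i, hiC⟩ * ⟨w, hwC⟩ * ⟨i, hiC⟩⁻¹) * ⟨v, hvC⟩ :=
        Subtype.ext (by change x * v = _; rw [hx]; rfl)
      have h3 : (⟨i * x * i⁻¹, mul_mem (mul_mem hiC hxC) (inv_mem hiC)⟩ : ↥C) =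
        ⟨i, hiC⟩ * (⟨w, hwC⟩ * (⟨i, hiC⟩ * ⟨w, hwC⟩ * ⟨i, hiC⟩⁻¹)) * ⟨i, hiC⟩⁻¹ :=
        Subtype.ext (by change i * x * i⁻¹ = _; rw [hx]; rfl)
      rw [h2, h3]
      exact r2.symm
    exact (mk_eq_iff _ _).mp h1
  -- lift `x`
  have huN : u ∈ normalizer (core C : Set G) := le_normalizer_core C huC
  have hvN : v ∈ normalizer (core C : Set G) := le_normalizer_core C hvC
  have hiN : i ∈ normalizer (core C : Set G) := le_normalizer_core C hiC
  obtain ⟨o, ho, hxo⟩ := Lifting.exists_commute (odd_card_core C) (v := u) (m := x) (n := 1)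
    (by rw [pow_one, pow_two, h.sq]) huN r1'
  obtain ⟨x', hx'⟩ : ∃ x', x' = x * o := ⟨_, rfl⟩
  rw [← hx'] at hxo
  obtain ⟨c, hc⟩ : ∃ c, c = (x' * v)⁻¹ * (i * x' * i⁻¹) := ⟨_, rfl⟩
  have hcC : c ∈ core C := by
    have h1 : c = v⁻¹ * o⁻¹ * v * ((x * v)⁻¹ * (i * x * i⁻¹)) * (i * o * i⁻¹) := by
      rw [hc, hx']; group
    rw [h1]
    refine mul_mem (mul_mem ?_ r2') ((mem_normalizer_iff.mp hiN o).mp ho)
    have h2 := (mem_normalizer_iff.mp (inv_mem hvN) o⁻¹).mp (inv_mem ho)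
    rwa [inv_inv] at h2
  have hx'C : x' ∈ centralizer ({u} : Set G) := mem_c hxo.symm
  -- `g = x'⁻¹ i x'` fixes `X`
  have hgf : Fixes (x'⁻¹ * i * x') X := by
    have h1 : Fixes i (cj x' X) := by
      by_cases hX : cj x' X = X
      · rw [hX]; exact hif
      · exact (isComp_cj_of_mem h.comp hx'C).fixes_of_mem h.comp hX hi
    have h2 := h1.cj x'⁻¹
    rw [cj_inv_cj, inv_inv] at h2
    exact h2
  have hv : v ∈ normalizer (X : Set G) := S.normalizes h h' huv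
  have hvc : v = (x'⁻¹ * i * x') * i⁻¹ * c⁻¹ := by rw [hc]; group
  have hcv : c⁻¹ = i * (x'⁻¹ * i * x')⁻¹ * v := by
    rw [hc]; group
  have hcN : c⁻¹ ∈ normalizer (X : Set G) := by
    rw [hcv]; exact mul_mem (mul_mem hif.1 (inv_mem hgf.1)) hv
  have hact : act X ⟨c⁻¹, hcN⟩ = act X ⟨v, hv⟩ := by
    rw [act_eq_iff hcN hv, hcv, mul_inv_cancel_right]
    exact fixes_mul hif (fixes_inv hgf)
  have hsq : act X ⟨c⁻¹, hcN⟩ ^ 2 = 1 := by
    rw [hact, pow_two, ← act_mul hv hv, act_congr (b := 1) _ h'.sq]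
    exact map_one (act X)
  have hodd : act X ⟨c⁻¹, hcN⟩ ^ Nat.card (core C) = 1 := by
    rw [← map_pow]
    have h1 : (⟨c⁻¹, hcN⟩ : ↥(normalizer (X : Set G))) ^ Nat.card (core C) = 1 := by
      apply Subtype.ext
      have h2 := pow_card_eq_one' (x := (⟨c⁻¹, inv_mem hcC⟩ : ↥(core C)))
      have h3 : c⁻¹ ^ Nat.card (core C) = 1 := congrArg Subtype.val h2
      exact h3
    rw [h1, map_one]
  have hone : act X ⟨c⁻¹, hcN⟩ = 1 := by
    have h1 := orderOf_dvd_of_pow_eq_one hsq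
    have h2 := orderOf_dvd_of_pow_eq_one hodd
    have h3 : Nat.Coprime 2 (Nat.card (core C)) := (coprime_card_core C).symm
    exact orderOf_eq_one_iff.mp (Nat.eq_one_of_dvd_coprimes h3 h1 h2)
  apply hn
  rw [← act_eq_one_iff hv, ← hact, hone]

end Cfsg.Agent.UGT.I34.Non
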