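import Cfsg.Agent.UGT.I34.Pair
import Cfsg.Agent.UGT.I34.Lam
import Cfsg.Agent.McLLyComp.Act

/-!
# Theorem I34, centres `4 × 2` and `4 × 4`: setting, vessels, small pump-ups

`Setting κ Λ G`: all pairs of kind `κ` in `G`, small pump-ups, facts on `K = X / O(X)`:
`Om K` (the centre has exactly three involutions), `K3 K` and `K1 K`.

* `IsPump u X s M`: `M` is the 2-component of `C(s)` covering `X / O(X)`.
* `star`: `uv = vu`, `r` an involution fixing `X ∈ Ω_u` and `X' ∈ Ω_v`, `v ∈ N(X)` imply that `v` fixes `X`.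
-/

set_option autoImplicit false
set_option linter.unusedSectionVars false

open Cfsg Subgroup
open Cfsg.Agent.SignalizersComponents Cfsg.Agent.Lib
open Cfsg.Agent.SignalizersComponents.IntrinsicBasic
open Cfsg.Agent.SignalizersComponents.PLayerAut
open Cfsg.Agent.Intrinsic.Basic hiding IsPair PQS Target
open Cfsg.Agent.Intrinsic.Cen hiding pair_comm pair_mem_cen exists_pump pump_unique
open Cfsg.Agent.Intrinsic.Quot hiding Big small_or_big isPair_quot mk_eq_one_iff
open Cfsg.Agent.Intrinsic Cfsg.Agent.UGT.I34.Pair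
open Cfsg.Agent.McLLyComp.Act
open scoped commutatorElement

universe u

namespace Cfsg.Agent.UGT.I34.Non

/-- the centre has exactly three involutions -/
def Om (K : Type*) [Group K] : Prop :=
  ∀ u ∈ center K, u * u = 1 → u ≠ 1 → ∃ a ∈ center K, a * a = 1 ∧ a ≠ 1 ∧ a ≠ u ∧
    ∀ b ∈ center K, b * b = 1 → b = 1 ∨ b = u ∨ b = a ∨ b = a * u

/-- an involutory automorphism fixing `u` and moving an involution of the centre fixes a square root of `u` -/
def K3 (K : Type*) [Group K] : Prop :=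
  ∀ α : MulAut K, α * α = 1 → ∀ u ∈ center K, u * u = 1 → u ≠ 1 → α u = u →
    (∃ z ∈ center K, z * z = 1 ∧ α z ≠ z) → ∃ i ∈ center K, α i = i ∧ i * i = u

/-- no four-group of automorphisms with the property (N) -/
def K1 (K : Type*) [Group K] : Prop :=
  ∀ W : Subgroup (MulAut K), (∀ w ∈ W, w * w = 1) → Nat.card W = 4 →
    (∀ v ∈ W, v ≠ 1 → ∀ S : Subgroup K, IsPGroup 2 S → (∀ w ∈ W, ∀ s ∈ S, w s ∈ S) →
      (∀ s ∈ S, v s = s) → ∀ s ∈ S, ∀ w ∈ W, MulAut.conj (s * (w s)⁻¹) ∈ W ∧
        (s * (w s)⁻¹ ∈ center K → w s = s)) → False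

/-- all pairs of the kind `κ`; pump-ups are small -/
structure Setting (κ : Kind.{u}) (Λ : Type*) [Group Λ] (G : Type u) [Group G] : Prop where
  noT : ∀ (X : Type u) [Group X] (z : X) (L : Subgroup X), ¬ κ.T X z L
  ih : PQS κ (Nat.card G)
  cent : ∀ x : G, orderOf x = 2 → centralizer ({x} : Set G) ≠ ⊤
  lam : ∀ (K : Type u) [Group K], κ.P K → Nonempty (K ⧸ center K ≃* Λ)
  om : ∀ (K : Type u) [Group K], κ.P K → Om K
  k3 : ∀ (K : Type u) [Group K], κ.P K → K3 K
  k1 : ∀ (K : Type u) [Group K] [Finite K], κ.P K → K1 K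

section

variable {κ : Kind.{u}} {G : Type u} [Group G]

theorem order_two {x : G} (hx2 : x * x = 1) (hx1 : x ≠ 1) : orderOf x = 2 :=
  orderOf_eq_prime (by rw [pow_two]; exact hx2) hx1

theorem mem_c {a b : G} (h : a * b = b * a) : a ∈ centralizer ({b} : Set G) :=
  mem_centralizer_singleton_iff.mpr h

/-- `M` is the pump-up of `cen X s` in `C(s)` -/
structure IsPump (u : G) (X : Subgroup G) (s : G) (M : Subgroup G) : Prop where
  comp : IsComp (centralizer ({s} : Set G)) M
  le : cen X s ≤ M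
  mem : u ∈ M
  small : Small (cen X s) M

theorem fixes_of_central {u : G} {X : Subgroup G} (hu : u ∈ X) (h : ∀ y ∈ X, y * u = u * y) :
    Fixes u X := by
  rw [fixes_iff_conj]
  refine ⟨le_normalizer hu, fun y hy => ?_⟩
  have : u * y * u⁻¹ = y := by rw [← h y hy, mul_inv_cancel_right]
  rw [this, inv_mul_cancel]
  exact one_mem _

theorem fixes_pair {u : G} {X : Subgroup G} (h : IsPair κ u X) : Fixes u X :=
  fixes_of_central h.mem fun _ hy => pair_comm h hy

variable [Finite G]

theorem Setting.exists_pump {Λ : Type*} [Group Λ] (S : Setting κ Λ G) {u s : G} {X : Subgroup G}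
    (h : IsPair κ u X) (hss : s * s = 1) (hs1 : s ≠ 1) (hsu : s * u = u * s) (hf : Fixes s X) :
    ∃ M, IsPump u X s M := by
  obtain ⟨M, hM, hle, huM⟩ := Pair.exists_pump h hss hsu hf
  have h1 := isComp_cen h.comp (mem_c hsu) hss hf
  have h2 : κ.P (↥(cen X s) ⧸ oddCore ↥(cen X s)) := (kind_cen h.comp (mem_c hsu) hss hf).mpr h.kind
  have h3 : Nat.card M < Nat.card G := by
    have h4 : M ≠ ⊤ := by
      intro h
      apply S.cent s (order_two hss hs1)
      rw [eq_top_iff, ← h]
      exact hM.le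
    rcases (Subgroup.card_le_card_group M).lt_or_eq with h5 | h5
    · exact h5
    · exact absurd (Subgroup.eq_top_of_card_eq M h5) h4
  have h4 : IsComp (centralizer ({s} : Set G) ⊓ centralizer ({u} : Set G)) (cen X s) := by
    rw [inf_comm]; exact h1.1
  rcases small_or_big S.ih h.inv (Pair.pair_mem_cen h hsu) h4 h2 hM hle h3 with h5 | ⟨_, h5⟩
  · exact ⟨M, hM, hle, huM, h5⟩
  · exact absurd h5 (S.noT _ _ _)

section pump

variable {u s : G} {X M : Subgroup G}

theorem IsPump.kind (P : IsPump u X s M) (h : IsPair κ u X) (hss : s * s = 1) (hsu : s * u = u * s)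
    (hf : Fixes s X) : κ.P (↥M ⧸ oddCore ↥M) :=
  kind_of_small P.small ((kind_cen h.comp (mem_c hsu) hss hf).mpr h.kind)

theorem IsPump.pair (P : IsPump u X s M) (h : IsPair κ u X) (hss : s * s = 1) (hs1 : s ≠ 1)
    (hsu : s * u = u * s) (hf : Fixes s X) (hsM : s ∈ M) : IsPair κ s M :=
  ⟨order_two hss hs1, hsM, P.comp, P.kind h hss hsu hf⟩

/-- 2-elements of `X` commuting with `s` lie in the pump-up -/
theorem IsPump.mem_of (P : IsPump u X s M) {x : G} (hx : x ∈ X) (hxs : x * s = s * x) {n : ℕ}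
    (hn : x ^ 2 ^ n = 1) : x ∈ M := P.le (mem_cen hx hxs hn)

theorem IsPump.unique (P : IsPump u X s M) (h : IsPair κ u X) (hss : s * s = 1) (hsu : s * u = u * s)
    (hf : Fixes s X) {M' : Subgroup G} (hM' : IsComp (centralizer ({s} : Set G)) M')
    (hle : cen X s ≤ M') : M' = M :=
  Pair.pump_unique h hss hsu hf hM' P.comp hle P.le

/-- an element of `C(u) ∩ C(s)` normalizing `X` normalizes the pump-up -/
theorem IsPump.normalizes (P : IsPump u X s M) (h : IsPair κ u X) (hss : s * s = 1)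
    (hsu : s * u = u * s) (hf : Fixes s X) {w : G} (hws : w * s = s * w)
    (hwX : w ∈ normalizer (X : Set G)) : w ∈ normalizer (M : Set G) := by
  rw [mem_normalizer_iff_cj]
  refine P.unique h hss hsu hf (Diag.isComp_cj_of_mem P.comp (mem_c hws)) ?_
  have h1 := cj_mono (g := w) P.le
  rwa [mem_normalizer_iff_cj.mp (mem_normalizer_cen hwX hws)] at h1

theorem IsPump.fixes_iff (P : IsPump u X s M) (h : IsPair κ u X) (hss : s * s = 1)
    (hsu : s * u = u * s) (hf : Fixes s X) {w : G} (hws : w * s = s * w)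
    (hwX : w ∈ normalizer (X : Set G)) : Fixes w X ↔ Fixes w M := by
  have h1 := P.normalizes h hss hsu hf hws hwX
  rw [← fixes_iff_of_sup (isComp_cen h.comp (mem_c hsu) hss hf).2 (mem_normalizer_cen hwX hws) hwX,
    fixes_iff_of_sup P.small (mem_normalizer_cen hwX hws) h1]

/-- `u` fixes the pump-up -/
theorem IsPump.fixes_self (P : IsPump u X s M) (h : IsPair κ u X) (hss : s * s = 1)
    (hsu : s * u = u * s) (hf : Fixes s X) : Fixes u M :=
  (P.fixes_iff h hss hsu hf hsu.symm (fixes_pair h).1).mp (fixes_pair h)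

/-- `cen X s` is the only 2-component of `C(s) ∩ C(u)` below the pump-up -/
theorem IsPump.eq_cen (P : IsPump u X s M) (h : IsPair κ u X) (hss : s * s = 1)
    (hsu : s * u = u * s) (hf : Fixes s X) {E : Subgroup G}
    (hE : IsComp (centralizer ({s} : Set G) ⊓ centralizer ({u} : Set G)) E) (hEM : E ≤ M) :
    E = cen X s := by
  have h1 := (isComp_cen h.comp (mem_c hsu) hss hf).1
  rw [inf_comm] at h1
  apply hE.eq_of_le h1
  apply hE.le_of_two
  intro k hk n hn
  exact mem_of_comm_two (m := 0) (Or.inl P.small) (isComp_inf h1 P.comp P.le) (hEM hk)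
    (mem_centralizer_singleton_iff.mp (hE.le hk).2) hn

/-- an element of `C(u) ∩ C(s)` moving `X` moves the pump-up -/
theorem IsPump.moves (P : IsPump u X s M) (h : IsPair κ u X) (hss : s * s = 1)
    (hsu : s * u = u * s) (hf : Fixes s X) {w : G} (hwu : w * u = u * w) (hws : w * s = s * w)
    (hw : cj w X ≠ X) : cj w M ≠ M := by
  intro hM
  have h1 := isComp_cen h.comp (mem_c hsu) hss hf
  have h2 : IsComp (centralizer ({s} : Set G) ⊓ centralizer ({u} : Set G)) (cj w (cen X s)) := by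
    refine Diag.isComp_cj_of_mem ?_ ⟨mem_c hws, mem_c hwu⟩
    rw [inf_comm]; exact h1.1
  have h3 : cj w (cen X s) ≤ M := by
    have := cj_mono (g := w) P.le
    rwa [hM] at this
  have h4 := P.eq_cen h hss hsu hf h2 h3
  apply hw
  refine h1.1.unique (Diag.isComp_cj_of_mem h.comp (mem_c hwu)) h.comp ?_ (cen_le X s)
  rw [← h4]
  exact cj_mono (cen_le X s)

end pump

/-- **(\*\*)** -/
theorem Setting.star {Λ : Type*} [Group Λ] (S : Setting κ Λ G) {u v r : G} {X X' : Subgroup G}
    (h : IsPair κ u X) (h' : IsPair κ v X') (hrr : r * r = 1) (hr1 : r ≠ 1)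
    (hru : r * u = u * r) (hrv : r * v = v * r) (hf : Fixes r X) (hf' : Fixes r X')
    (hv : v ∈ normalizer (X : Set G)) : Fixes v X := by
  obtain ⟨M, P⟩ := S.exists_pump h hrr hr1 hru hf
  obtain ⟨M', P'⟩ := S.exists_pump h' hrr hr1 hrv hf'
  rw [P.fixes_iff h hrr hru hf hrv.symm hv]
  by_cases hM : M = M'
  · rw [hM]; exact P'.fixes_self h' hrr hrv hf'
  · exact P.comp.fixes_of_mem P'.comp hM P'.mem

/-! ### vessels -/

/-- `a` is an involution of `X`, different from `u`, fixing `X` -/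
structure Vess (u : G) (X : Subgroup G) (a : G) : Prop where
  mem : a ∈ X
  sq : a * a = 1
  ne_one : a ≠ 1
  ne : a ≠ u
  fixes : Fixes a X

omit [Finite G] in
theorem Vess.comm {u a : G} {X : Subgroup G} (V : Vess u X a) (h : IsPair κ u X) : a * u = u * a :=
  pair_comm h V.mem

omit [Finite G] in
theorem Vess.mul {u a : G} {X : Subgroup G} (V : Vess u X a) (h : IsPair κ u X) : Vess u X (a * u) := by
  refine ⟨mul_mem V.mem h.mem, ?_, ?_, ?_, fixes_mul V.fixes (fixes_pair h)⟩
  · calc a * u * (a * u) = a * (u * a) * u := by group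
      _ = (a * a) * (u * u) := by rw [← V.comm h]; group
      _ = 1 := by rw [V.sq, h.sq, one_mul]
  · intro h1
    apply V.ne
    have h2 := eq_inv_of_mul_eq_one_left h1
    rw [h2]
    exact inv_eq_of_mul_eq_one_left h.sq
  · intro h1
    apply V.ne_one
    exact mul_eq_right.mp h1

/-- the pair over a vessel involution -/
theorem Setting.exists_vess_pair {Λ : Type*} [Group Λ] (S : Setting κ Λ G) {u a : G}
    {X : Subgroup G} (h : IsPair κ u X) (V : Vess u X a) : ∃ M, IsPump u X a M ∧ IsPair κ a M := by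
  obtain ⟨M, P⟩ := S.exists_pump h V.sq V.ne_one (V.comm h) V.fixes
  exact ⟨M, P, P.pair h V.sq V.ne_one (V.comm h) V.fixes
    (P.mem_of V.mem rfl (n := 1) (by rw [pow_one, pow_two, V.sq]))⟩

/-- the relation "`v` fixes `X`" for a vessel involution `a` of the pair `(v, Y)` -/
theorem Setting.not_fixes_vess {Λ : Type*} [Group Λ] (S : Setting κ Λ G) {u v a : G}
    {X Y : Subgroup G} (h : IsPair κ u X) (h' : IsPair κ v Y) (V : Vess v Y a)
    (hau : a * u = u * a) (huY : u ∈ normalizer (Y : Set G))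
    (hn : ¬ Fixes u Y) : ¬ Fixes a X := by
  intro hf
  obtain ⟨M, P, hM⟩ := S.exists_vess_pair h' V
  have h1 := typeZero_symm' h hM hau.symm hf
  exact hn ((P.fixes_iff h' V.sq (V.comm h') V.fixes hau.symm huY).mpr h1)

/-- existence of a vessel -/
theorem Setting.exists_vess {Λ : Type*} [Group Λ] (S : Setting κ Λ G) {u : G} {X : Subgroup G}
    (h : IsPair κ u X) : ∃ a, Vess u X a := by
  obtain ⟨c, hc, hcc, hc1, hcu, -⟩ := S.om _ h.kind (QuotientGroup.mk ⟨u, h.mem⟩)
    ((mk_mem_center_iff h.mem).mpr (fixes_pair h))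
    (by
      have : (⟨u, h.mem⟩ : ↥X) * ⟨u, h.mem⟩ = 1 := Subtype.ext h.sq
      rw [← QuotientGroup.mk_mul, this]; rfl)
    (by
      rw [Ne, mk_eq_one_iff]
      intro h1
      exact h.ne_one (eq_one_of_mem_core_sq h1 h.sq))
  obtain ⟨⟨x, hx⟩, rfl⟩ := QuotientGroup.mk_surjective c
  have hxx : x * x ∈ core X := (mk_eq_one_iff (mul_mem hx hx)).mp hcc
  obtain ⟨k, hk1, hk2⟩ := Lifting.exists_two_part (odd_card_core X) (x := x) (n := 1) (by
    rw [pow_one, pow_two]; exact hxx)
  have hkX : x ^ k ∈ X := pow_mem hx k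
  have hmk : (QuotientGroup.mk ⟨x, hx⟩ : ↥X ⧸ oddCore ↥X) = QuotientGroup.mk ⟨x ^ k, hkX⟩ :=
    (mk_eq_iff hx hkX).mpr hk2
  rw [hmk] at hc hc1 hcu
  refine ⟨x ^ k, hkX, by rw [pow_one] at hk1; rw [← pow_two]; exact hk1, ?_, ?_,
    (mk_mem_center_iff hkX).mp hc⟩
  · intro h1
    apply hc1
    rw [mk_eq_one_iff, h1]; exact one_mem _
  · intro h1
    apply hcu
    rw [mk_eq_iff, h1, inv_mul_cancel]; exact one_mem _

end

end Cfsg.Agent.UGT.I34.Non
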