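import Cfsg.Agent.UGT.I34.NonB
import Cfsg.Agent.UGT.L2Inner.P3Elem

/-!
# Theorem I34, centres `4 × 2` and `4 × 4`: vessels of order four, lifting

`Ves v Y U`: `U` is a four-group, `v ∈ U ≤ Y`, `U` fixes `Y`.
-/

set_option autoImplicit false
set_option linter.unusedSectionVars false

open Cfsg Subgroup
open Cfsg.Agent.SignalizersComponents Cfsg.Agent.Lib
open Cfsg.Agent.SignalizersComponents.IntrinsicBasic
open Cfsg.Agent.SignalizersComponents.PLayerAut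
open Cfsg.Agent.Intrinsic.Basic hiding IsPair PQS Target
open Cfsg.Agent.Intrinsic.Cen hiding pair_comm pair_mem_cen exists_pump pump_unique
open Cfsg.Agent.Intrinsic.Quot hiding Big small_or_big isPair_quot mk_eq_one_iff
open Cfsg.Agent.Intrinsic.Diag
open Cfsg.Agent.Intrinsic Cfsg.Agent.UGT.I34.Pair
open Cfsg.Agent.McLLyComp.Act
open Cfsg.Agent.UGT.L2Inner (Four four_of jn mem_zpowers_sq)
open Cfsg.Agent.UGT.TriBase (IsSyl exists_isSyl)
open scoped commutatorElement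

universe u

namespace Cfsg.Agent.UGT.I34.Non

/-! ### lifting of an invariant 2-subgroup of `X / O(X)` -/

section lift

variable {G : Type*} [Group G] [Finite G]

theorem eq_one_of_two_odd {B N : Subgroup G} (hB : IsPGroup 2 B) (hN : Odd (Nat.card N)) {x : G}
    (hxB : x ∈ B) (hxN : x ∈ N) : x = 1 := by
  obtain ⟨n, hn⟩ := hB ⟨x, hxB⟩
  exact Lifting.eq_one_of_odd hN hxN (congrArg Subtype.val hn)

theorem exists_lift {H X U : Subgroup G} (hX : IsComp H X) (hU : IsPGroup 2 U)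
    (hUN : U ≤ normalizer (X : Set G)) {S : Subgroup (↥X ⧸ oddCore ↥X)} (hS : IsPGroup 2 S)
    (hinv : ∀ w (hw : w ∈ U), ∀ s ∈ S, act X ⟨w, hUN hw⟩ s ∈ S) :
    ∃ B : Subgroup G, IsPGroup 2 B ∧ U ≤ B ∧
      ∀ s ∈ S, ∃ x, ∃ hx : x ∈ X, x ∈ B ∧ (QuotientGroup.mk ⟨x, hx⟩ : ↥X ⧸ oddCore ↥X) = s := by
  have hp : Fact (Nat.Prime 2) := ⟨Nat.prime_two⟩
  obtain ⟨T, hT⟩ : ∃ T, T = (S.comap (QuotientGroup.mk' (oddCore ↥X))).map X.subtype := ⟨_, rfl⟩
  have hmem : ∀ x, x ∈ T ↔ ∃ hx : x ∈ X, (QuotientGroup.mk ⟨x, hx⟩ : ↥X ⧸ oddCore ↥X) ∈ S := by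
    intro x
    rw [hT]
    constructor
    · rintro ⟨⟨y, hy⟩, h1, rfl⟩
      exact ⟨hy, h1⟩
    · rintro ⟨hx, h1⟩
      exact ⟨⟨x, hx⟩, h1, rfl⟩
  have hTX : T ≤ X := fun x hx => ((hmem x).mp hx).1
  have hUT : U ≤ normalizer (T : Set G) := by
    intro w hw
    have key : ∀ w (hw : w ∈ U), ∀ x ∈ T, w * x * w⁻¹ ∈ T := by
      intro w hw x hx
      obtain ⟨hx1, hx2⟩ := (hmem x).mp hx
      rw [hmem]
      refine ⟨conj_mem (hUN hw) hx1, ?_⟩
      have := hinv w hw _ hx2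
      rwa [act_mk (hUN hw) hx1] at this
    rw [mem_normalizer_iff]
    intro x
    constructor
    · exact key w hw x
    · intro h1
      have h2 := key w⁻¹ (inv_mem hw) _ h1
      have e : w⁻¹ * (w * x * w⁻¹) * w⁻¹⁻¹ = x := by group
      rwa [e] at h2
  have hEn : T ⊔ U ≤ normalizer (T : Set G) := sup_le le_normalizer hUT
  obtain ⟨R, hR, hUR⟩ := exists_isSyl hU (le_sup_right : U ≤ T ⊔ U)
  have hRT := hR.inf (le_sup_left : T ≤ T ⊔ U) hEn
  obtain ⟨k, hk⟩ := hS.exists_card_eq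
  -- the order of `T`
  have hcardT : 2 ^ k ∣ Nat.card T := by
    rw [hT, card_map_of_injective X.subtype_injective, ← hk]
    have h1 := Subgroup.card_dvd_of_surjective
      (((QuotientGroup.mk' (oddCore ↥X)).subgroupComap S)) ?_
    · exact h1
    · rintro ⟨s, hs⟩
      obtain ⟨x, rfl⟩ := QuotientGroup.mk'_surjective (oddCore ↥X) s
      exact ⟨⟨x, hs⟩, rfl⟩
  have hcard := hRT.dvd_card hcardT
  -- the map to `S`
  let g : ↥(R ⊓ T) →* (↥X ⧸ oddCore ↥X) :=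
    (QuotientGroup.mk' (oddCore ↥X)).comp (inclusion ((inf_le_right.trans hTX : R ⊓ T ≤ X)))
  have hg : Function.Injective g := by
    rw [injective_iff_map_eq_one]
    rintro ⟨x, hx⟩ hx1
    have h1 : x ∈ core X := (mk_eq_one_iff (hTX hx.2)).mp hx1
    exact Subtype.ext (eq_one_of_two_odd hR.two (odd_card_core X) hx.1 h1)
  have hgS : g.range = S := by
    refine Subgroup.eq_of_le_of_card_ge ?_ ?_
    · rintro _ ⟨⟨x, hx⟩, rfl⟩
      exact ((hmem x).mp hx.2).2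
    · have h1 : Nat.card g.range = Nat.card ↥(R ⊓ T) :=
        (Nat.card_congr (MonoidHom.ofInjective hg).toEquiv).symm
      rw [h1, hk]
      exact Nat.le_of_dvd Nat.card_pos hcard
  refine ⟨R, hR.two, hUR, fun s hs => ?_⟩
  rw [← hgS] at hs
  obtain ⟨⟨x, hx⟩, rfl⟩ := hs
  exact ⟨x, hTX hx.2, hx.1, rfl⟩

end lift

variable {κ : Kind.{u}} {G : Type u} [Group G] [Finite G]

/-- a four-group `U` with `v ∈ U ≤ Y` fixing `Y` -/
structure Ves (v : G) (Y U : Subgroup G) : Prop where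
  four : Four U
  mem : v ∈ U
  le : U ≤ Y
  fixes : ∀ w ∈ U, Fixes w Y

omit [Finite G] in
theorem Ves.vess {v w : G} {Y U : Subgroup G} (V : Ves v Y U) (hw : w ∈ U) (hw1 : w ≠ 1)
    (hwv : w ≠ v) : Vess v Y w := ⟨V.le hw, V.four.elem w hw, hw1, hwv, V.fixes w hw⟩

omit [Finite G] in
theorem Ves.comm {v x y : G} {Y U : Subgroup G} (V : Ves v Y U) (hx : x ∈ U) (hy : y ∈ U) :
    x * y = y * x := TMCSyl.Elem.comm V.four.elem hx hy

omit [Finite G] in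
theorem Ves.two {v : G} {Y U : Subgroup G} (V : Ves v Y U) : IsPGroup 2 U :=
  TMCSyl.Elem.isPGroup V.four.elem

/-- existence of a vessel in `C(u)` -/
theorem Setting.exists_ves {Λ : Type*} [Group Λ] (S : Setting κ Λ G) {u v : G} {Y : Subgroup G}
    (h' : IsPair κ v Y) (huu : u * u = 1) (huv : u * v = v * u) (huY : u ∈ normalizer (Y : Set G))
    (hm : ¬ Moves u Y) : ∃ U, Ves v Y U ∧ ∀ w ∈ U, w * u = u * w := by
  obtain ⟨a, V, hau⟩ := exists_vess_comm S h' huu huY hm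
  have hF := four_of h'.sq V.sq (V.comm h').symm h'.ne_one V.ne_one V.ne
  have hv : v ∈ jn a (zpowers v) := L2Inner.le_jn _ _ (mem_zpowers v)
  have ha : a ∈ jn a (zpowers v) := L2Inner.self_mem_jn _ _
  have hle : jn a (zpowers v) ≤ Y := L2Inner.jn_le V.mem (by rw [zpowers_le]; exact h'.mem)
  refine ⟨_, ⟨hF, hv, hle, fun w hw => ?_⟩, fun w hw => ?_⟩
  · rcases hF.mem_cases hv ha h'.ne_one V.ne_one V.ne hw with rfl | rfl | rfl | rfl
    · exact fixes_one Y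
    · exact fixes_pair h'
    · exact V.fixes
    · exact fixes_mul (fixes_pair h') V.fixes
  · rcases hF.mem_cases hv ha h'.ne_one V.ne_one V.ne hw with rfl | rfl | rfl | rfl
    · rw [one_mul, mul_one]
    · exact huv.symm
    · exact hau
    · rw [mul_assoc, hau, ← mul_assoc, ← huv, mul_assoc]

/-- the pair over an involution of the vessel -/
theorem Setting.ves_pair {Λ : Type*} [Group Λ] (S : Setting κ Λ G) {v w : G} {Y U : Subgroup G}
    (h' : IsPair κ v Y) (V : Ves v Y U) (hw : w ∈ U) (hw1 : w ≠ 1) :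
    ∃ L, IsPair κ w L ∧ Ves w L U ∧ ∀ t, t * w = w * t → t ∈ normalizer (Y : Set G) →
      (Fixes t Y ↔ Fixes t L) := by
  by_cases hwv : w = v
  · subst hwv
    exact ⟨Y, h', V, fun t _ _ => Iff.rfl⟩
  · have Vw := V.vess hw hw1 hwv
    obtain ⟨L, P, hL⟩ := S.exists_vess_pair h' Vw
    have hiff : ∀ t, t * w = w * t → t ∈ normalizer (Y : Set G) → (Fixes t Y ↔ Fixes t L) :=
      fun t ht htY => P.fixes_iff h' Vw.sq (Vw.comm h') Vw.fixes ht htY
    refine ⟨L, hL, ⟨V.four, hw, ?_, ?_⟩, hiff⟩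
    · intro x hx
      exact P.mem_of (V.le hx) (V.comm hx hw) (n := 1) (by
        rw [pow_one, pow_two]; exact V.four.elem x hx)
    · intro x hx
      exact (hiff x (V.comm hx hw) (V.fixes x hx).1).mp (V.fixes x hx)

/-- the centre of `L / O(L)` and the vessel -/
theorem Setting.exists_mem_ves {Λ : Type*} [Group Λ] (S : Setting κ Λ G) {v x : G}
    {Y U : Subgroup G} (h' : IsPair κ v Y) (V : Ves v Y U) (hx : x ∈ Y) (hxx : x * x = 1)
    (hf : Fixes x Y) : ∃ w ∈ U, w⁻¹ * x ∈ core Y := by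
  obtain ⟨c1, c2, c3⟩ := mk_pair_center h'
  obtain ⟨a, ha, haa, ha1, hav1, hall⟩ := S.om _ h'.kind _ c1 c2 c3
  obtain ⟨b, hb, hb1, hbv⟩ := V.four.exists_ne v
  have hsq : ∀ y (hy : y ∈ Y), y * y = 1 →
      (QuotientGroup.mk ⟨y, hy⟩ : ↥Y ⧸ oddCore ↥Y) * QuotientGroup.mk ⟨y, hy⟩ = 1 := by
    intro y hy hyy
    have : (⟨y, hy⟩ : ↥Y) * ⟨y, hy⟩ = 1 := Subtype.ext hyy
    rw [← QuotientGroup.mk_mul, this]; rfl
  have hbY := V.le hb
  have hbb := V.four.elem b hb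
  have e1 : (QuotientGroup.mk ⟨b, hbY⟩ : ↥Y ⧸ oddCore ↥Y) ≠ 1 := by
    rw [Ne, mk_eq_one_iff]
    exact fun h1 => hb1 (eq_one_of_mem_core_sq h1 hbb)
  have e2 : (QuotientGroup.mk ⟨b, hbY⟩ : ↥Y ⧸ oddCore ↥Y) ≠ QuotientGroup.mk ⟨v, h'.mem⟩ := by
    rw [Ne, mk_eq_iff]
    exact fun h1 => hbv (Lifting.eq_of_commute (odd_card_core Y) (n := 1) (m := 1)
      (by rw [pow_one, pow_two, hbb]) (by rw [pow_one, pow_two, h'.sq]) (V.comm hb V.mem) h1)
  have key : ∀ w (hw : w ∈ U), (QuotientGroup.mk ⟨x, hx⟩ : ↥Y ⧸ oddCore ↥Y) =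
      QuotientGroup.mk ⟨w, V.le hw⟩ → ∃ w ∈ U, w⁻¹ * x ∈ core Y := fun w hw h1 =>
    ⟨w, hw, (mk_eq_iff _ _).mp h1.symm⟩
  have kmul : (QuotientGroup.mk ⟨b * v, mul_mem hbY h'.mem⟩ : ↥Y ⧸ oddCore ↥Y) =
      QuotientGroup.mk ⟨b, hbY⟩ * QuotientGroup.mk ⟨v, h'.mem⟩ := rfl
  have hbvU : b * v ∈ U := mul_mem hb V.mem
  rcases hall _ ((mk_mem_center_iff hx).mpr hf) (hsq x hx hxx) with f | f | f | f
  · exact key 1 (one_mem U) f
  · exact key v V.mem f
  · rcases hall _ ((mk_mem_center_iff hbY).mpr (V.fixes b hb)) (hsq b hbY hbb) with g | g | g | g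
    · exact absurd g e1
    · exact absurd g e2
    · exact key b hb (f.trans g.symm)
    · refine key (b * v) hbvU ?_
      rw [f]
      change _ = (QuotientGroup.mk ⟨b, hbY⟩ : ↥Y ⧸ oddCore ↥Y) * QuotientGroup.mk ⟨v, h'.mem⟩
      rw [g, mul_assoc, c2, mul_one]
  · rcases hall _ ((mk_mem_center_iff hbY).mpr (V.fixes b hb)) (hsq b hbY hbb) with g | g | g | g
    · exact absurd g e1
    · exact absurd g e2
    · refine key (b * v) hbvU ?_
      rw [f]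
      change _ = (QuotientGroup.mk ⟨b, hbY⟩ : ↥Y ⧸ oddCore ↥Y) * QuotientGroup.mk ⟨v, h'.mem⟩
      rw [g]
    · exact key b hb (f.trans g.symm)

/-- an element of a 2-group containing `U` and normalizing `L` normalizes `U` -/
theorem Setting.conj_mem_ves {Λ : Type*} [Group Λ] (S : Setting κ Λ G) {v s w : G}
    {Y U B : Subgroup G} (h' : IsPair κ v Y) (V : Ves v Y U) (hB : IsPGroup 2 B) (hUB : U ≤ B)
    (hsB : s ∈ B) (hs : s ∈ normalizer (Y : Set G)) (hw : w ∈ U) : s * w * s⁻¹ ∈ U := by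
  have h1 : s * w * s⁻¹ ∈ Y := conj_mem hs (V.le hw)
  have h2 : (s * w * s⁻¹) * (s * w * s⁻¹) = 1 := by
    calc (s * w * s⁻¹) * (s * w * s⁻¹) = s * (w * w) * s⁻¹ := by group
      _ = 1 := by rw [V.four.elem w hw, mul_one, mul_inv_cancel]
  obtain ⟨x, hx, hxc⟩ := S.exists_mem_ves h' V h1 h2 (fixes_conj (V.fixes w hw) hs)
  have h3 : x⁻¹ * (s * w * s⁻¹) ∈ B :=
    mul_mem (inv_mem (hUB hx)) (mul_mem (mul_mem hsB (hUB hw)) (inv_mem hsB))
  have h4 := eq_one_of_two_odd hB (odd_card_core Y) h3 hxc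
  rw [← inv_mul_eq_one.mp h4]
  exact hx

end Cfsg.Agent.UGT.I34.Non
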