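import Cfsg.Agent.UGT.I34.NonC

/-!
# Theorem I34, centres `4 × 2` and `4 × 4`: all commuting pairs are of type (0)

`Cfg`: `(u, X)`, `(v, Y)` commuting pairs, `v` does not fix `X`, `U ≤ C(u)` a vessel of `Y`.

* `Cfg.not_fixes`: `U` acts faithfully on `X / O(X)`.
* `Cfg.not_moves`: `U` centralizes the involutions of the centre of `X / O(X)`.
* `Cfg.unique`: `X` is the only member of `Ω_u`.
* `Setting.typeZero`: the main result.
-/

set_option autoImplicit false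
set_option linter.unusedSectionVars false

open Cfsg Subgroup
open Cfsg.Agent.SignalizersComponents Cfsg.Agent.Lib
open Cfsg.Agent.SignalizersComponents.IntrinsicBasic
open Cfsg.Agent.SignalizersComponents.PLayerAut
open Cfsg.Agent.Intrinsic.Basic hiding IsPair PQS Target
open Cfsg.Agent.Intrinsic.Cen hiding pair_comm pair_mem_cen exists_pump pump_unique
open Cfsg.Agent.Intrinsic.Quot hiding Big small_or_big isPair_quot mk_eq_one_iff
open Cfsg.Agent.Intrinsic.Diag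
open Cfsg.Agent.Intrinsic Cfsg.Agent.UGT.I34.Pair
open Cfsg.Agent.McLLyComp.Act
open Cfsg.Agent.UGT.L2Inner (Four four_of jn mem_zpowers_sq)
open scoped commutatorElement

universe u

namespace Cfsg.Agent.UGT.I34.Non

variable {κ : Kind.{u}} {Λ : Type*} [Group Λ] {G : Type u} [Group G] [Finite G]

/-- the configuration -/
structure Cfg (κ : Kind.{u}) {G : Type u} [Group G] (u v : G) (X Y U : Subgroup G) : Prop where
  h : IsPair κ u X
  h' : IsPair κ v Y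
  comm : u * v = v * u
  nf : ¬ Fixes v X
  V : Ves v Y U
  cu : ∀ w ∈ U, w * u = u * w

variable {u v : G} {X Y U : Subgroup G}

theorem Cfg.nf' (C : Cfg κ u v X Y U) : ¬ Fixes u Y := fun h1 =>
  C.nf (typeZero_symm' C.h' C.h C.comm.symm h1)

theorem Cfg.huY (S : Setting κ Λ G) (C : Cfg κ u v X Y U) : u ∈ normalizer (Y : Set G) :=
  S.normalizes C.h' C.h C.comm.symm

/-- the pair over a member of the vessel -/
theorem Cfg.exists_pair (S : Setting κ Λ G) (C : Cfg κ u v X Y U) {w : G} (hw : w ∈ U)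
    (hw1 : w ≠ 1) : ∃ L, IsPair κ w L ∧ Ves w L U ∧ ¬ Fixes u L := by
  obtain ⟨L, h1, h2, h3⟩ := S.ves_pair C.h' C.V hw hw1
  exact ⟨L, h1, h2, fun h4 => C.nf' ((h3 u (C.cu w hw).symm (C.huY S)).mpr h4)⟩

theorem Cfg.hUN (S : Setting κ Λ G) (C : Cfg κ u v X Y U) : U ≤ normalizer (X : Set G) := by
  intro w hw
  by_cases hw1 : w = 1
  · rw [hw1]; exact one_mem _
  · obtain ⟨L, h1, -, -⟩ := C.exists_pair S hw hw1
    exact S.normalizes C.h h1 (C.cu w hw).symm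

/-- `U` acts faithfully on `X / O(X)` -/
theorem Cfg.eq_one (S : Setting κ Λ G) (C : Cfg κ u v X Y U) {w : G} (hw : w ∈ U)
    (hf : Fixes w X) : w = 1 := by
  by_contra hw1
  obtain ⟨L, h1, -, h3⟩ := C.exists_pair S hw hw1
  exact h3 (typeZero_symm' C.h h1 (C.cu w hw).symm hf)

/-- the configuration over another member of the vessel -/
theorem Cfg.change (S : Setting κ Λ G) (C : Cfg κ u v X Y U) {w : G} (hw : w ∈ U) (hw1 : w ≠ 1) :
    ∃ L, Cfg κ u w X L U := by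
  obtain ⟨L, h1, h2, -⟩ := C.exists_pair S hw hw1
  exact ⟨L, C.h, h1, (C.cu w hw).symm, fun hf => hw1 (C.eq_one S hw hf), h2, C.cu⟩

/-- the image of `U` in `Aut (X / O(X))` -/
noncomputable def img (X U : Subgroup G) (hUN : U ≤ normalizer (X : Set G)) :
    Subgroup (MulAut (↥X ⧸ oddCore ↥X)) := ((act X).comp (inclusion hUN)).range

theorem mem_img {hUN : U ≤ normalizer (X : Set G)} {α : MulAut (↥X ⧸ oddCore ↥X)} :
    α ∈ img X U hUN ↔ ∃ w, ∃ hw : w ∈ U, α = act X ⟨w, hUN hw⟩ := by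
  constructor
  · rintro ⟨⟨w, hw⟩, rfl⟩
    exact ⟨w, hw, rfl⟩
  · rintro ⟨w, hw, rfl⟩
    exact ⟨⟨w, hw⟩, rfl⟩

/-- the commutator of an element of `X` and an element of the vessel, in `X / O(X)` -/
theorem mk_comm_calc (hUN : U ≤ normalizer (X : Set G)) {s w : G} (hs : s ∈ X) (hw : w ∈ U) :
    ∃ hr : s * w * s⁻¹ * w⁻¹ ∈ X, (QuotientGroup.mk ⟨s, hs⟩ : ↥X ⧸ oddCore ↥X) *
      (act X ⟨w, hUN hw⟩ (QuotientGroup.mk ⟨s, hs⟩))⁻¹ = QuotientGroup.mk ⟨s * w * s⁻¹ * w⁻¹, hr⟩ := by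
  have h1 : w * s⁻¹ * w⁻¹ ∈ X := conj_mem (hUN hw) (inv_mem hs)
  have hr : s * w * s⁻¹ * w⁻¹ ∈ X := by
    have e : s * w * s⁻¹ * w⁻¹ = s * (w * s⁻¹ * w⁻¹) := by group
    rw [e]; exact mul_mem hs h1
  refine ⟨hr, ?_⟩
  rw [act_mk (hUN hw) hs, ← QuotientGroup.mk_inv, ← QuotientGroup.mk_mul]
  congr 1
  apply Subtype.ext
  change s * (w * s * w⁻¹)⁻¹ = s * w * s⁻¹ * w⁻¹
  group

/-- hypothesis (N) of `K1` from group level data -/
theorem Cfg.endgame (S : Setting κ Λ G) (C : Cfg κ u v X Y U)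
    (key : ∀ v₀ ∈ U, v₀ ≠ 1 → ∀ B : Subgroup G, IsPGroup 2 B → U ≤ B → ∀ s ∈ X, s ∈ B →
      s * v₀ = v₀ * s → ∀ w ∈ U, s * w * s⁻¹ * w⁻¹ ∈ U) : False := by
  have hUN := C.hUN S
  have hinj : Function.Injective ((act X).comp (inclusion hUN)) := by
    rw [injective_iff_map_eq_one]
    rintro ⟨w, hw⟩ h1
    exact Subtype.ext (C.eq_one S hw ((act_eq_one_iff (hUN hw)).mp h1))
  refine S.k1 _ C.h.kind (img X U hUN) ?_ ?_ ?_
  · intro α hα
    obtain ⟨w, hw, rfl⟩ := mem_img.mp hα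
    rw [← act_mul, act_congr (b := 1) _ (C.V.four.elem w hw)]
    exact map_one (act X)
  · rw [← C.V.four.card]
    exact (Nat.card_congr (MonoidHom.ofInjective hinj).toEquiv).symm
  · intro α hα hα1 T hT hinv hfix s₀ hs₀ β hβ
    obtain ⟨v₀, hv₀, rfl⟩ := mem_img.mp hα
    obtain ⟨w, hw, rfl⟩ := mem_img.mp hβ
    have hv₀1 : v₀ ≠ 1 := by
      rintro rfl
      exact hα1 (map_one (act X))
    obtain ⟨B, hB, hUB, hl⟩ := exists_lift C.h.comp C.V.two hUN hT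
      (fun w hw s hs => hinv _ (mem_img.mpr ⟨w, hw, rfl⟩) s hs)
    obtain ⟨s, hs, hsB, rfl⟩ := hl s₀ hs₀
    have hc : s * v₀ = v₀ * s := by
      have h1 := hfix _ hs₀
      rw [act_mk (hUN hv₀) hs] at h1
      have h2 := (mk_eq_iff _ _).mp h1.symm
      have h3 : s⁻¹ * (v₀ * s * v₀⁻¹) ∈ B :=
        mul_mem (inv_mem hsB) (mul_mem (mul_mem (hUB hv₀) hsB) (inv_mem (hUB hv₀)))
      have h4 := inv_mul_eq_one.mp (eq_one_of_two_odd hB (odd_card_core X) h3 h2)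
      calc s * v₀ = (v₀ * s * v₀⁻¹) * v₀ := by rw [← h4]
        _ = v₀ * s := by group
    have hr := key v₀ hv₀ hv₀1 B hB hUB s hs hsB hc w hw
    obtain ⟨hrX, e⟩ := mk_comm_calc hUN hs hw
    rw [e]
    refine ⟨?_, fun hcen => ?_⟩
    · rw [← act_of_mem hrX]
      exact mem_img.mpr ⟨_, hr, rfl⟩
    · have h1 := C.eq_one S hr ((mk_mem_center_iff hrX).mp hcen)
      have h2 : w * s * w⁻¹ = s := by
        calc w * s * w⁻¹ = (s * w * s⁻¹ * w⁻¹)⁻¹ * s := by group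
          _ = s := by rw [h1, inv_one, one_mul]
      rw [act_mk (hUN hw) hs]
      congr 1
      exact Subtype.ext h2

/-- an element of `X` moving the 2-component of the vessel -/
theorem Cfg.comm_of_moves (S : Setting κ Λ G) (C : Cfg κ u v X Y U) {B : Subgroup G}
    (hB : IsPGroup 2 B) (hUB : U ≤ B) {s : G} (hs : s ∈ X) (hsB : s ∈ B) (hsv : s * v = v * s)
    (hmove : cj s Y ≠ Y) {w : G} (hw : w ∈ U) :
    s * w * s⁻¹ * w⁻¹ ∈ X ∧ (s * w * s⁻¹ * w⁻¹) * (s * w * s⁻¹ * w⁻¹) = 1 ∧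
      (s * w * s⁻¹ * w⁻¹) * u = u * (s * w * s⁻¹ * w⁻¹) ∧
      (s * w * s⁻¹ * w⁻¹) * v = v * (s * w * s⁻¹ * w⁻¹) ∧ Fixes (s * w * s⁻¹ * w⁻¹) Y := by
  obtain ⟨hrX, -⟩ := mk_comm_calc (C.hUN S) hs hw
  have hsC : s ∈ centralizer ({v} : Set G) := mem_c hsv
  have hY2 := isComp_cj_of_mem C.h'.comp hsC
  obtain ⟨w', hw'⟩ : ∃ w', w' = s * w * s⁻¹ := ⟨_, rfl⟩
  have hw'Y : w' ∈ cj s Y := by rw [hw']; exact conj_mem_cj (C.V.le hw)
  have hf' : Fixes w' Y := C.h'.comp.fixes_of_mem hY2 (Ne.symm hmove) hw'Y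
  have hfw := C.V.fixes w hw
  have hww := C.V.four.elem w hw
  have hwi : w⁻¹ = w := inv_eq_of_mul_eq_one_left hww
  have hw'B : w' ∈ B := by rw [hw']; exact mul_mem (mul_mem hsB (hUB hw)) (inv_mem hsB)
  have hcomm : w * w' = w' * w := by
    have h1 : w'⁻¹ * (w * w' * w⁻¹) ∈ core (cj s Y) :=
      (fixes_iff_conj.mp (hY2.fixes_of_mem C.h'.comp hmove (C.V.le hw))).2 w' hw'Y
    have h2 : w'⁻¹ * (w * w' * w⁻¹) ∈ B :=
      mul_mem (inv_mem hw'B) (mul_mem (mul_mem (hUB hw) hw'B) (inv_mem (hUB hw)))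
    have h3 := inv_mul_eq_one.mp (eq_one_of_two_odd hB (odd_card_core _) h2 h1)
    calc w * w' = (w * w' * w⁻¹) * w := by group
      _ = w' * w := by rw [← h3]
  have hw'w' : w' * w' = 1 := by
    rw [hw']
    calc (s * w * s⁻¹) * (s * w * s⁻¹) = s * (w * w) * s⁻¹ := by group
      _ = 1 := by rw [hww, mul_one, mul_inv_cancel]
  have hvw : w * v = v * w := pair_comm C.h' (C.V.le hw)
  have hvw' : w' * v = v * w' := mem_centralizer_singleton_iff.mp (hY2.le hw'Y)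
  refine ⟨hrX, ?_, pair_comm C.h hrX, ?_, ?_⟩
  · rw [← hw', hwi]
    calc w' * w * (w' * w) = w' * (w * w') * w := by group
      _ = (w' * w') * (w * w) := by rw [hcomm]; group
      _ = 1 := by rw [hw'w', hww, one_mul]
  · rw [← hw', hwi, mul_assoc, hvw, ← mul_assoc, hvw', mul_assoc]
  · rw [← hw']
    exact fixes_mul hf' (fixes_inv hfw)

/-- members of a 2-group normalizing the 2-component of the vessel -/
theorem Cfg.comm_mem (S : Setting κ Λ G) (C : Cfg κ u v X Y U) {B : Subgroup G}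
    (hB : IsPGroup 2 B) (hUB : U ≤ B) {s : G} (hsB : s ∈ B)
    (hn : s ∈ normalizer (Y : Set G)) {w : G} (hw : w ∈ U) : s * w * s⁻¹ * w⁻¹ ∈ U :=
  mul_mem (S.conj_mem_ves C.h' C.V hB hUB hsB hn hw) (inv_mem hw)

/-- `X` is the only member of `Ω_u` -/
theorem Cfg.unique (S : Setting κ Λ G) (C : Cfg κ u v X Y U) {X₂ : Subgroup G}
    (h₂ : IsPair κ u X₂) : X₂ = X := by
  by_contra hne
  refine C.endgame S fun v₀ hv₀ hv₀1 B hB hUB s hs hsB hsv w hw => ?_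
  obtain ⟨L, C₀⟩ := C.change S hv₀ hv₀1
  by_cases hL : cj s L = L
  · exact C₀.comm_mem S hB hUB hsB (mem_normalizer_iff_cj.mpr hL) hw
  · obtain ⟨r1, r2, r3, r4, r5⟩ := C₀.comm_of_moves S hB hUB hs hsB hsv hL hw
    by_cases hr : s * w * s⁻¹ * w⁻¹ = 1
    · rw [hr]; exact one_mem U
    · exfalso
      have h3 : Fixes (s * w * s⁻¹ * w⁻¹) X₂ := h₂.comp.fixes_of_mem C.h.comp hne r1
      have h4 := S.star h₂ C₀.h' r2 hr r3 r4 h3 r5 (S.normalizes h₂ C₀.h' C₀.comm)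
      exact C₀.nf ((typeZero_indep h₂ C.h C₀.h' C₀.comm).mp h4)

/-- `U` centralizes the involutions of the centre of `X / O(X)` -/
theorem Cfg.not_moves (S : Setting κ Λ G) (C : Cfg κ u v X Y U) {w₁ : G} (hw₁ : w₁ ∈ U) :
    ¬ Moves w₁ X := by
  rintro ⟨_, z, hz, hzz, hne⟩
  have hUN := C.hUN S
  obtain ⟨c1, c2, c3⟩ := mk_pair_center C.h
  have hactu : ∀ w (hw : w ∈ U), act X ⟨w, hUN hw⟩ (QuotientGroup.mk ⟨u, C.h.mem⟩) =
      QuotientGroup.mk ⟨u, C.h.mem⟩ := fun w hw => act_pair C.h (C.cu w hw).symm (hUN hw)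
  obtain ⟨u₀, hu₀⟩ : ∃ u₀ : ↥X ⧸ oddCore ↥X, u₀ = QuotientGroup.mk ⟨u, C.h.mem⟩ := ⟨_, rfl⟩
  rw [← hu₀] at c1 c2 c3
  have hactu' : ∀ w (hw : w ∈ U), act X ⟨w, hUN hw⟩ u₀ = u₀ := fun w hw => by
    rw [hu₀]; exact hactu w hw
  have hz1 : z ≠ 1 := by intro h1; apply hne; rw [h1, map_one]
  have hzu : z ≠ u₀ := by
    intro h1; apply hne; rw [h1]; exact hactu' w₁ hw₁
  -- the subgroup `{1, u, z, z u}`
  have hcz : ∀ g, g * z = z * g := fun g => mem_center_iff.mp hz g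
  have hcu : ∀ g, g * u₀ = u₀ * g := fun g => mem_center_iff.mp c1 g
  obtain ⟨a, ha, haa, ha1, hau, hall⟩ := S.om _ C.h.kind u₀ c1 c2 c3
  have hall' : ∀ b ∈ center (↥X ⧸ oddCore ↥X), b * b = 1 → b = 1 ∨ b = u₀ ∨ b = z ∨ b = z * u₀ := by
    intro b hb hbb
    rcases hall z hz hzz with f | f | f | f
    · exact absurd f hz1
    · exact absurd f hzu
    · rw [f]; exact hall b hb hbb
    · rcases hall b hb hbb with g | g | g | g
      · exact Or.inl g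
      · exact Or.inr (Or.inl g)
      · right; right; right
        rw [f, mul_assoc, c2, mul_one]; exact g
      · right; right; left
        rw [f]; exact g
  have hactz : ∀ w (hw : w ∈ U), act X ⟨w, hUN hw⟩ z = z ∨ act X ⟨w, hUN hw⟩ z = z * u₀ := by
    intro w hw
    set α := act X ⟨w, hUN hw⟩ with hα
    have e3 : α z ∈ center (↥X ⧸ oddCore ↥X) := by
      rw [mem_center_iff]
      intro g
      obtain ⟨g, rfl⟩ := α.surjective g
      rw [← map_mul, ← map_mul, mem_center_iff.mp hz g]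
    have e4 : α z * α z = 1 := by rw [← map_mul, hzz, map_one]
    rcases hall' _ e3 e4 with f | f | f | f
    · exact absurd ((map_eq_one_iff α α.injective).mp f) hz1
    · exact absurd (α.injective (f.trans (hactu' w hw).symm)) hzu
    · exact Or.inl f
    · exact Or.inr f
  -- a member of `U` centralizing `z`
  have hw₁1 : w₁ ≠ 1 := by
    rintro rfl
    apply hne
    have : act X ⟨1, hUN hw₁⟩ = 1 := map_one (act X)
    rw [this]; rfl
  obtain ⟨v₀, hv₀, hv₀1, hv₀z⟩ : ∃ v₀, ∃ hv₀ : v₀ ∈ U, v₀ ≠ 1 ∧ act X ⟨v₀, hUN hv₀⟩ z = z := by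
    obtain ⟨w₂, hw₂, hw₂1, hw₂₁⟩ := C.V.four.exists_ne w₁
    rcases hactz w₂ hw₂ with f | f
    · exact ⟨w₂, hw₂, hw₂1, f⟩
    · refine ⟨w₁ * w₂, mul_mem hw₁ hw₂, ?_, ?_⟩
      · intro h1
        apply hw₂₁
        rw [← inv_eq_of_mul_eq_one_right h1]
        exact inv_eq_of_mul_eq_one_left (C.V.four.elem w₁ hw₁)
      · have e1 : act X ⟨w₁ * w₂, hUN (mul_mem hw₁ hw₂)⟩ =
            act X ⟨w₁, hUN hw₁⟩ * act X ⟨w₂, hUN hw₂⟩ := act_mul (hUN hw₁) (hUN hw₂)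
        rw [e1, MulAut.mul_apply, f, map_mul, hactu' w₁ hw₁,
          (hactz w₁ hw₁).resolve_left hne, mul_assoc, c2, mul_one]
  -- lift `{1, u, z, z u}`
  let T : Subgroup (↥X ⧸ oddCore ↥X) :=
    { carrier := {b | b ∈ center (↥X ⧸ oddCore ↥X) ∧ b * b = 1}
      mul_mem' := by
        rintro x y ⟨hx, hxx⟩ ⟨hy, hyy⟩
        refine ⟨mul_mem hx hy, ?_⟩
        calc x * y * (x * y) = x * (y * x) * y := by group
          _ = (x * x) * (y * y) := by rw [mem_center_iff.mp hx y]; group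
          _ = 1 := by rw [hxx, hyy, one_mul]
      one_mem' := ⟨one_mem _, one_mul 1⟩
      inv_mem' := by
        rintro x ⟨hx, hxx⟩
        refine ⟨inv_mem hx, ?_⟩
        rw [← mul_inv_rev, hxx, inv_one] }
  have hT2 : IsPGroup 2 T := by
    rintro ⟨b, hb⟩
    exact ⟨1, Subtype.ext (by rw [pow_one, pow_two]; exact hb.2)⟩
  obtain ⟨B, hB, hUB, hl⟩ := exists_lift C.h.comp C.V.two hUN hT2 (by
    intro w hw s hs
    refine ⟨?_, ?_⟩
    · rw [mem_center_iff]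
      intro g
      obtain ⟨g, rfl⟩ := (act X ⟨w, hUN hw⟩).surjective g
      rw [← map_mul, ← map_mul, mem_center_iff.mp hs.1 g]
    · rw [← map_mul, hs.2, map_one])
  obtain ⟨x, hx, hxB, hxz⟩ := hl z ⟨hz, hzz⟩
  have hxf : Fixes x X := by
    rw [← mk_mem_center_iff hx, hxz]; exact hz
  have hxx : x * x = 1 := by
    apply eq_one_of_two_odd hB (odd_card_core X) (mul_mem hxB hxB)
    rw [← mk_eq_one_iff (mul_mem hx hx)]
    change (QuotientGroup.mk ⟨x, hx⟩ : ↥X ⧸ oddCore ↥X) * QuotientGroup.mk ⟨x, hx⟩ = 1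
    rw [hxz, hzz]
  have hVx : Vess u X x := by
    refine ⟨hx, hxx, ?_, ?_, hxf⟩
    · rintro rfl
      exact hz1 hxz.symm
    · rintro rfl
      exact hzu (hxz.symm.trans hu₀.symm)
  have hc : x * v₀ = v₀ * x := by
    have h1 := hv₀z
    rw [← hxz, act_mk (hUN hv₀) hx] at h1
    have h2 := (mk_eq_iff _ _).mp h1.symm
    have h3 : x⁻¹ * (v₀ * x * v₀⁻¹) ∈ B :=
      mul_mem (inv_mem hxB) (mul_mem (mul_mem (hUB hv₀) hxB) (inv_mem (hUB hv₀)))
    have h4 := inv_mul_eq_one.mp (eq_one_of_two_odd hB (odd_card_core X) h3 h2)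
    calc x * v₀ = (v₀ * x * v₀⁻¹) * v₀ := by rw [← h4]
      _ = v₀ * x := by group
  obtain ⟨L, C₀⟩ := C.change S hv₀ hv₀1
  obtain ⟨M, -, hM⟩ := S.exists_vess_pair C.h hVx
  have hxL : x ∈ normalizer (L : Set G) := S.normalizes C₀.h' hM hc.symm
  have hr := C₀.comm_mem S hB hUB hxB hxL hw₁
  have hrf : Fixes (x * w₁ * x⁻¹ * w₁⁻¹) X := by
    have e : x * w₁ * x⁻¹ * w₁⁻¹ = x * (w₁ * x⁻¹ * w₁⁻¹) := by group
    rw [e]
    exact fixes_mul hxf (fixes_conj (fixes_inv hxf) (hUN hw₁))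
  have hr1 := C.eq_one S hr hrf
  apply hne
  rw [← hxz, act_mk (hUN hw₁) hx]
  congr 1
  apply Subtype.ext
  change w₁ * x * w₁⁻¹ = x
  calc w₁ * x * w₁⁻¹ = (x * w₁ * x⁻¹ * w₁⁻¹)⁻¹ * x := by group
    _ = x := by rw [hr1, inv_one, one_mul]

theorem Cfg.false (S : Setting κ Λ G) (C : Cfg κ u v X Y U) : False := by
  refine C.endgame S fun v₀ hv₀ hv₀1 B hB hUB s hs hsB hsv w hw => ?_
  obtain ⟨L, C₀⟩ := C.change S hv₀ hv₀1
  -- `L` is the only member of `Ω_{v₀}`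
  have hv₀X := C.hUN S hv₀
  obtain ⟨U', V', hU'⟩ := S.exists_ves C.h C₀.h'.sq C₀.comm.symm hv₀X (C.not_moves S hv₀)
  have C₁ : Cfg κ v₀ u L X U' := ⟨C₀.h', C₀.h, C₀.comm.symm, C₀.nf', V', hU'⟩
  have hsvi : s * v₀ * s⁻¹ = v₀ := by rw [hsv, mul_inv_cancel_right]
  have h1 : IsPair κ v₀ (cj s L) := by
    have := C₀.h'.cj s
    rwa [hsvi] at this
  have h2 := C₁.unique S h1
  exact C₀.comm_mem S hB hUB hsB (mem_normalizer_iff_cj.mpr h2) hw

/-- **All commuting pairs are of type (0).** -/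
theorem Setting.typeZero (S : Setting κ Λ G) (h : IsPair κ u X) (h' : IsPair κ v Y)
    (huv : u * v = v * u) : Fixes v X := by
  by_contra hnf
  have hnf' : ¬ Fixes u Y := fun h1 => hnf (typeZero_symm' h' h huv.symm h1)
  have huY := S.normalizes h' h huv.symm
  have hvX := S.normalizes h h' huv
  by_cases hm : Moves u Y
  · have hm' : ¬ Moves v X := by
      intro hm'
      obtain ⟨i, hi, hii, hiv, hif⟩ := exists_root S h huv h'.sq hm'
      exact S.not_both h h' huv hnf hm hi hii hiv hif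
    obtain ⟨U, V, hU⟩ := S.exists_ves h h'.sq huv.symm hvX hm'
    exact Cfg.false S (⟨h', h, huv.symm, hnf', V, hU⟩ : Cfg κ v u Y X U)
  · obtain ⟨U, V, hU⟩ := S.exists_ves h' h.sq huv huY hm
    exact Cfg.false S (⟨h, h', huv, hnf, V, hU⟩ : Cfg κ u v X Y U)

end Cfsg.Agent.UGT.I34.Non
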