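import Cfsg.Agent.UGT.I34.NonM
import Cfsg.Agent.Intrinsic.TypeGTwo

/-!
# Theorem I34, centres `4 × 2` and `4 × 4`: type (2) does not occur

`noTwo`: `u`, `v` commuting involutions of pairs `(u, X)`, `(v, Y)`; then `v` normalizes `X`.
-/

set_option autoImplicit false
set_option linter.unusedSectionVars false

open Cfsg Subgroup
open Cfsg.Agent.SignalizersComponents Cfsg.Agent.Lib
open Cfsg.Agent.SignalizersComponents.IntrinsicBasic
open Cfsg.Agent.SignalizersComponents.PLayerAut
open Cfsg.Agent.Intrinsic.Basic hiding IsPair PQS Target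
open Cfsg.Agent.Intrinsic.Cen hiding pair_comm pair_mem_cen exists_pump pump_unique
open Cfsg.Agent.Intrinsic.Quot hiding Big small_or_big isPair_quot mk_eq_one_iff
open Cfsg.Agent.Intrinsic.Diag
open Cfsg.Agent.Intrinsic Cfsg.Agent.UGT.I34.Pair
open Cfsg.Agent.McLLyComp.Act
open scoped commutatorElement

universe u

namespace Cfsg.Agent.UGT.I34.Non

variable {κ : Kind.{u}} {G : Type u} [Group G] [Finite G]

/-- the diagonal lies in no member of a pair of 2-components swapped by `v` -/
theorem diag_not_le_of_moves {u v : G} {X Y : Subgroup G} (h : IsPair κ u X)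
    (h' : IsPair κ v Y) (huv : u * v = v * u) (hmove : cj v X ≠ X) (hmove' : cj u Y ≠ Y) :
    ¬ diag (centralizer ({v} : Set G)) Y u ≤ X := by
  intro hle
  have huC : u ∈ centralizer ({v} : Set G) := mem_c huv
  have hvC : v ∈ centralizer ({u} : Set G) := mem_c huv.symm
  obtain ⟨hE, -, -, -, -⟩ := exists_diag h'.comp huC h.sq hmove'
  set E := diag (centralizer ({v} : Set G)) Y u with hEdef
  have hE' : E ≤ cj v X := by
    intro x hx
    have h1 : x ∈ X := hle hx
    have h2 : x * v = v * x := mem_centralizer_singleton_iff.mp (hE.le hx).1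
    have h3 := conj_mem_cj (g := v) h1
    rwa [← h2, mul_inv_cancel_right] at h3
  have h1 : ⁅E, E⁆ ≤ ⁅X, cj v X⁆ := commutator_mono hle hE'
  have h2 := h1.trans (h.comp.comm_le_core (isComp_cj_of_mem h.comp hvC) (Ne.symm hmove))
  rw [hE.perfect] at h2
  exact hE.not_odd (odd_card_core X) (h2.trans inf_le_left)

/-- **(G)**: type (2) does not occur -/
theorem Setting.noTwo {Λ : Type*} [Group Λ] (S : Setting κ Λ G) {u v : G} {X Y : Subgroup G}
    (h : IsPair κ u X) (h' : IsPair κ v Y) (huv : u * v = v * u) : cj v X = X := by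
  by_contra hmove
  have hmove' := S.moveM h h' huv hmove
  have hvCu : v ∈ centralizer ({u} : Set G) := mem_c huv.symm
  have huCv : u ∈ centralizer ({v} : Set G) := mem_c huv
  have hu2 := h.sq
  have hv2 := h'.sq
  have huvi : u * v * u⁻¹ = v := by rw [huv, mul_inv_cancel_right]
  have hX2 := isComp_cj_of_mem h.comp hvCu
  -- a vessel involution commuting with its `v`-conjugate
  obtain ⟨a₀, V₀⟩ := S.exists_vess h
  obtain ⟨a, haX, haa, hac, hav⟩ := exists_comm_swap h.comp hvCu hv2 hmove V₀.mem V₀.sq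
  have V : Vess u X a := by
    have e : a = a₀ * (a₀⁻¹ * a) := by group
    refine ⟨haX, haa, ?_, ?_, ?_⟩
    · intro h1
      rw [h1, mul_one] at hac
      exact V₀.ne_one (inv_eq_one.mp (eq_one_of_mem_core_sq hac (by
        rw [← mul_inv_rev, V₀.sq, inv_one])))
    · intro h1
      rw [h1] at hac
      exact V₀.ne (Lifting.eq_of_commute (odd_card_core _) (n := 1) (m := 1)
        (by rw [pow_one, pow_two, V₀.sq]) (by rw [pow_one, pow_two, hu2]) (V₀.comm h) hac)
    · rw [e]
      exact fixes_mul V₀.fixes (h.comp.fixes_of_core hac)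
  obtain ⟨e, he⟩ : ∃ e, e = a * (v * a * v⁻¹) := ⟨_, rfl⟩
  obtain ⟨havx, hev, hea, hee⟩ := TypeGTwo.swap_facts haa hv2 hav he
  have hau := V.comm h
  have heu : e * u = u * e := by
    have h1 : v * a * v⁻¹ * u = u * (v * a * v⁻¹) := by
      have hvi : v⁻¹ = v := inv_eq_of_mul_eq_one_left hv2
      calc v * a * v⁻¹ * u = v * a * (v * u) := by rw [hvi]; group
        _ = v * (a * u) * v := by rw [← huv]; group
        _ = (v * u) * a * v := by rw [hau]; group
        _ = u * (v * a * v⁻¹) := by rw [← huv, hvi]; group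
    rw [he, mul_assoc, h1, ← mul_assoc, hau, mul_assoc]
  -- the two diagonals
  obtain ⟨hD, -, -, hDc, -⟩ := exists_diag h.comp hvCu hv2 hmove
  obtain ⟨hD', -, -, hD'c, -⟩ := exists_diag h'.comp huCv hu2 hmove'
  have heCu : e ∈ centralizer ({u} : Set G) := mem_c heu
  have heCv : e ∈ centralizer ({v} : Set G) := mem_c hev
  have heD : e ∈ diag (centralizer ({u} : Set G)) X v :=
    mem_diag heCu hev haX (by rw [← he, inv_mul_cancel]; exact one_mem _) (n := 1)
      (by rw [pow_one, pow_two]; exact hee)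
  have hD2 : IsComp (centralizer ({v} : Set G) ⊓ centralizer ({u} : Set G))
      (diag (centralizer ({u} : Set G)) X v) := by rw [inf_comm]; exact hD
  have hL2 := isComp_le_L2 huCv hu2 hD2
  have heY : e ∈ normalizer (Y : Set G) := h'.comp.L2_le_normalizer (hL2 heD)
  have heY2 : e ∈ normalizer (cj u Y : Set G) :=
    (isComp_cj_of_mem h'.comp huCv).L2_le_normalizer (hL2 heD)
  -- `e` fixes `X` and `X ^ v`
  have ha'X2 : v * a * v⁻¹ ∈ cj v X := conj_mem_cj haX
  have hfeX : Fixes e X := by
    rw [he]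
    exact fixes_mul V.fixes (h.comp.fixes_of_mem hX2 (Ne.symm hmove) ha'X2)
  have hfeX2 : Fixes e (cj v X) := by
    rw [he]
    exact fixes_mul (hX2.fixes_of_mem h.comp hmove haX) (V.fixes.cj v)
  by_cases he1 : e = 1
  · -- `a` commutes with `v`
    have hav' : a * v = v * a := by
      have h1 := havx
      rw [he1, mul_one] at h1
      calc a * v = a * v * a⁻¹ * a := by group
        _ = v * a := by rw [h1]
    have hnle := diag_not_le_of_moves h h' huv hmove hmove'
    have key : ∀ b, Vess u X b → b * v = v * b → cj b Y ≠ Y := by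
      intro b Vb hbv
      obtain ⟨M, P, hM⟩ := S.exists_vess_pair h Vb
      exact S.moveM hM h' hbv (P.moves h Vb.sq (Vb.comm h) Vb.fixes huv.symm hbv.symm hmove)
    rcases (perm h' h huv.symm hmove' hnle haX hav').1 with h1 | h1
    · exact key a V hav' h1
    · apply key (a * u) (V.mul h) (by rw [mul_assoc, huv, ← mul_assoc, hav', mul_assoc])
      rw [hau, cj_mul, h1, ← cj_mul, hu2, cj_one]
  by_cases heu' : e = u
  · exact hmove' (mem_normalizer_iff_cj.mp (heu' ▸ heY))
  -- `e` fixes `Y`
  have hfe : Fixes e Y := by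
    refine fixes_of_comm_diag h'.comp huCv hu2 hmove' heCv heY heY2 fun m hm => ?_
    by_cases hEE : diag (centralizer ({u} : Set G)) X v = diag (centralizer ({v} : Set G)) Y u
    · have hm' : m ∈ diag (centralizer ({u} : Set G)) X v := by rw [hEE]; exact hm
      have h1 : ⁅e, m⁆ ∈ core (centralizer ({u} : Set G)) := by
        obtain ⟨-, h2, -, -, -⟩ := exists_diag h.comp hvCu hv2 hmove
        obtain ⟨k, hk, hmk⟩ := h2 m hm'
        have hmX : m ∈ centralizer ({u} : Set G) := (hD.le hm').1
        have hk2 : v * k * v⁻¹ ∈ cj v X := conj_mem_cj hk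
        have c1 : ⁅e, k⁆ ∈ core (centralizer ({u} : Set G)) := h.comp.core_le_core (hfeX.2 k hk)
        have c2 : ⁅e, v * k * v⁻¹⁆ ∈ core (centralizer ({u} : Set G)) :=
          hX2.core_le_core (hfeX2.2 _ hk2)
        rw [commutator_mem_core_iff heCu (h.comp.le hk)] at c1
        rw [commutator_mem_core_iff heCu (hX2.le hk2)] at c2
        rw [commutator_mem_core_iff heCu hmX, mk_of_diag h.comp hvCu hmX hk hmk, ← mul_assoc, c1,
          mul_assoc, c2]
        exact (mul_assoc _ _ _).symm
      have h3 : ⁅e, m⁆ ∈ diag (centralizer ({u} : Set G)) X v := by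
        rw [commutatorElement_def]
        exact mul_mem (mul_mem (mul_mem heD hm') (inv_mem heD)) (inv_mem hm')
      have h4 : ⁅e, m⁆ ∈ core (diag (centralizer ({u} : Set G)) X v) := by
        rw [hDc]; exact ⟨h3, h1⟩
      rw [hEE, hD'c] at h4
      exact h4.2
    · have h1 := hD2.comm_le_core hD' hEE (commutator_mem_commutator heD hm)
      have h2 := h1.2
      rw [hD'c] at h2
      exact h2.2
  have huCe : u ∈ centralizer ({e} : Set G) := mem_c heu.symm
  have haCe : a ∈ centralizer ({e} : Set G) := mem_c hea.symm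
  -- the pump-up in `C(e)`
  obtain ⟨N, P⟩ := S.exists_pump h' hee he1 hev hfe
  have hvN := P.mem
  have hN13 : cj u N ≠ N := P.moves h' hee hev hfe huv heu.symm hmove'
  have heN : e ∉ N := by
    intro heN
    exact S.moveM (P.pair h' hee he1 hev hfe heN) h heu hN13
      (mem_normalizer_iff_cj.mp hfeX.1)
  have hvN3 : v ∈ cj u N := by
    have := conj_mem_cj (g := u) hvN
    rwa [huvi] at this
  have hveN2 : v * e ∈ cj a N := by rw [← havx]; exact conj_mem_cj hvN
  have hN12 : cj a N ≠ N := by
    intro h1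
    rw [h1] at hveN2
    apply heN
    have := mul_mem (inv_mem hvN) hveN2
    rwa [inv_mul_cancel_left] at this
  have hN32 : cj u N ≠ cj a N := by
    intro h1
    rw [← h1] at hveN2
    have h2 := mul_mem (inv_mem hvN3) hveN2
    rw [inv_mul_cancel_left, mem_cj] at h2
    apply heN
    have h3 : u⁻¹ * e * u = e := by rw [mul_assoc, heu, inv_mul_cancel_left]
    rwa [h3] at h2
  have hN3 := isComp_cj_of_mem P.comp huCe
  -- the diagonal of `N N ^ a`
  obtain ⟨hG, -, -, -, -⟩ := exists_diag P.comp haCe haa hN12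
  have huai : u * a * u⁻¹ = a := by rw [← hau, mul_inv_cancel_right]
  have hcjG : cj u (diag (centralizer ({e} : Set G)) N a) =
      diag (centralizer ({e} : Set G)) (cj u N) a := by
    rw [cj_diag, cj_eq_self_of_mem huCe, huai]
  have hne : cj u (diag (centralizer ({e} : Set G)) N a) ≠ diag (centralizer ({e} : Set G)) N a := by
    rw [hcjG]
    refine diag_ne P.comp haCe haa hN12 hN3 ?_ hN13 hN32
    intro h4
    rw [← cj_mul, hau, cj_mul] at h4
    exact hN12 (cj_injective u h4)
  -- but `u` lies in a 2-component of `C(a) ∩ C(e)`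
  apply hne
  obtain ⟨M1, P1, hM1⟩ := S.exists_vess_pair h V
  have hfeM1 : Fixes e M1 := (P1.fixes_iff h V.sq hau V.fixes hea hfeX.1).mp hfeX
  have h5 := (isComp_cen hM1.comp (mem_c hea) hee hfeM1).1
  rw [inf_comm] at h5
  have h6 : u ∈ cen M1 e := mem_cen_of_sq P1.mem heu.symm hu2
  exact mem_normalizer_iff_cj.mp (hG.L2_le_normalizer (h5.le_L2 h6))

theorem Setting.normalizes {Λ : Type*} [Group Λ] (S : Setting κ Λ G) {u v : G} {X Y : Subgroup G}
    (h : IsPair κ u X) (h' : IsPair κ v Y) (huv : u * v = v * u) : v ∈ normalizer (X : Set G) :=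
  mem_normalizer_iff_cj.mpr (S.noTwo h h' huv)

end Cfsg.Agent.UGT.I34.Non
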