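import Cfsg.Agent.UGT.I34.NonBase

/-!
# Theorem I34, centres `4 × 2` and `4 × 4`: (M)

If `v` moves `X ∈ Ω_u` then `u` moves every `Y ∈ Ω_v`.
-/

set_option autoImplicit false
set_option linter.unusedSectionVars false

open Cfsg Subgroup
open Cfsg.Agent.SignalizersComponents Cfsg.Agent.Lib
open Cfsg.Agent.SignalizersComponents.IntrinsicBasic
open Cfsg.Agent.SignalizersComponents.PLayerAut
open Cfsg.Agent.Intrinsic.Basic hiding IsPair PQS Target
open Cfsg.Agent.Intrinsic.Cen hiding pair_comm pair_mem_cen exists_pump pump_unique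
open Cfsg.Agent.Intrinsic.Quot hiding Big small_or_big isPair_quot mk_eq_one_iff
open Cfsg.Agent.Intrinsic.Diag
open Cfsg.Agent.Intrinsic Cfsg.Agent.UGT.I34.Pair
open Cfsg.Agent.McLLyComp.Act
open scoped commutatorElement

universe u

namespace Cfsg.Agent.UGT.I34.Non

variable {κ : Kind.{u}} {G : Type u} [Group G] [Finite G]

/-- `C_Y(u)` permutes `{X, X^v}` and its members normalizing `X` fix `X` -/
theorem perm {u v : G} {X Y : Subgroup G} (h : IsPair κ u X) (h' : IsPair κ v Y)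
    (huv : u * v = v * u) (hmove : cj v X ≠ X)
    (hnle : ¬ diag (centralizer ({u} : Set G)) X v ≤ Y) {q : G} (hq : q ∈ Y) (hqu : q * u = u * q) :
    (cj q X = X ∨ cj q X = cj v X) ∧ (q ∈ normalizer (X : Set G) → Fixes q X) := by
  have hvC : v ∈ centralizer ({u} : Set G) := mem_c huv.symm
  have hqC : q ∈ centralizer ({u} : Set G) := mem_c hqu
  have hqv : q * v = v * q := pair_comm h' hq
  have hqvi : q * v * q⁻¹ = v := by rw [hqv, mul_inv_cancel_right]
  obtain ⟨hE, -, -, hEc, -⟩ := exists_diag h.comp hvC h'.sq hmove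
  set E := diag (centralizer ({u} : Set G)) X v with hEdef
  have hsub : ((Y ⊓ centralizer ({u} : Set G)).subgroupOf
      (centralizer ({u} : Set G) ⊓ centralizer ({v} : Set G))).IsSubnormal :=
    TypeF.subnormal_inf h'.comp inf_le_right inf_le_left
  have hSM : Y ⊓ centralizer ({u} : Set G) ≤
      centralizer ({u} : Set G) ⊓ centralizer ({v} : Set G) := by
    rw [inf_comm]
    exact inf_le_inf_left _ h'.comp.le
  have hf : Fixes q E := hE.fixes_of_subnormal hSM hsub (fun hle => hnle (hle.trans inf_le_left))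
    ⟨hq, hqC⟩
  have hcjE : cj q E = diag (centralizer ({u} : Set G)) (cj q X) v := by
    rw [hEdef, cj_diag, cj_eq_self_of_mem hqC, hqvi]
  have hvq : cj v (cj q X) = cj q (cj v X) := by rw [← cj_mul, ← hqv, cj_mul]
  refine ⟨?_, ?_⟩
  · by_contra hcon
    push Not at hcon
    have hqvX : cj v (cj q X) ≠ cj q X := by
      rw [hvq]
      exact fun h1 => hmove (cj_injective q h1)
    have h1 := diag_ne h.comp hvC h'.sq hmove (isComp_cj_of_mem h.comp hqC) hqvX hcon.1 hcon.2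
    rw [← hcjE] at h1
    exact h1 (mem_normalizer_iff_cj.mp hf.1)
  · intro hqN
    have hqN' : q ∈ normalizer (cj v X : Set G) := by
      rw [mem_normalizer_iff_cj, ← hvq, mem_normalizer_iff_cj.mp hqN]
    refine fixes_of_comm_diag h.comp hvC h'.sq hmove hqC hqN hqN' fun m hm => ?_
    have h1 := hf.2 m hm
    rw [hEc] at h1
    exact h1.2

/-- the diagonal lies in no `Y ∈ Ω_v` normalized by `u` but not fixed -/
theorem diag_not_le {Λ : Type*} [Group Λ] (S : Setting κ Λ G) {u v : G} {X Y : Subgroup G}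
    (h : IsPair κ u X) (h' : IsPair κ v Y) (huv : u * v = v * u) (hmove : cj v X ≠ X)
    (huY : u ∈ normalizer (Y : Set G)) (hnf : ¬ Fixes u Y) :
    ¬ diag (centralizer ({u} : Set G)) X v ≤ Y := by
  intro hle
  have hvC : v ∈ centralizer ({u} : Set G) := mem_c huv.symm
  obtain ⟨hE, -, -, -, -⟩ := exists_diag h.comp hvC h'.sq hmove
  have hX : Lam Λ X := S.lam _ h.kind
  have hY : Lam Λ Y := S.lam _ h'.kind
  have hsm := sup_of_lam hE h'.comp (lam_diag h.comp hvC h'.sq hmove hX) hY hle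
  apply hnf
  rw [fixes_iff_conj]
  refine ⟨huY, fun x hx => ?_⟩
  obtain ⟨j, hj, hcj⟩ := exists_mul_of_sup hsm hx
  have hju : u * j * u⁻¹ = j := by
    have : j * u = u * j := mem_centralizer_singleton_iff.mp (hE.le hj).1
    rw [← this, mul_inv_cancel_right]
  have h2 : u * (j⁻¹ * x) * u⁻¹ ∈ core Y := conj_mem_core huY hcj
  have h3 : x⁻¹ * (u * x * u⁻¹) = (j⁻¹ * x)⁻¹ * (j⁻¹ * (u * j * u⁻¹)) * (u * (j⁻¹ * x) * u⁻¹) := by
    group
  rw [h3, hju, inv_mul_cancel, mul_one]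
  exact mul_mem (inv_mem hcj) h2

/-- `v` moves an involution of the centre of `X / O(X)` -/
def Moves (v : G) (X : Subgroup G) : Prop :=
  ∃ hv : v ∈ normalizer (X : Set G), ∃ z ∈ center (↥X ⧸ oddCore ↥X), z * z = 1 ∧ act X ⟨v, hv⟩ z ≠ z

theorem mk_pair_center {u : G} {X : Subgroup G} (h : IsPair κ u X) :
    (QuotientGroup.mk ⟨u, h.mem⟩ : ↥X ⧸ oddCore ↥X) ∈ center (↥X ⧸ oddCore ↥X) ∧
    (QuotientGroup.mk ⟨u, h.mem⟩ : ↥X ⧸ oddCore ↥X) * QuotientGroup.mk ⟨u, h.mem⟩ = 1 ∧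
    (QuotientGroup.mk ⟨u, h.mem⟩ : ↥X ⧸ oddCore ↥X) ≠ 1 := by
  refine ⟨(mk_mem_center_iff h.mem).mpr (fixes_pair h), ?_, ?_⟩
  · have : (⟨u, h.mem⟩ : ↥X) * ⟨u, h.mem⟩ = 1 := Subtype.ext h.sq
    rw [← QuotientGroup.mk_mul, this]; rfl
  · rw [Ne, mk_eq_one_iff]
    intro h1
    exact h.ne_one (eq_one_of_mem_core_sq h1 h.sq)

theorem act_pair {u v : G} {X : Subgroup G} (h : IsPair κ u X) (huv : u * v = v * u)
    (hv : v ∈ normalizer (X : Set G)) :
    act X ⟨v, hv⟩ (QuotientGroup.mk ⟨u, h.mem⟩) = QuotientGroup.mk ⟨u, h.mem⟩ := by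
  rw [act_mk hv h.mem]
  congr 1
  apply Subtype.ext
  show v * u * v⁻¹ = u
  rw [← huv, mul_inv_cancel_right]

/-- if `v` moves no involution of the centre there is a vessel involution commuting with `v` -/
theorem exists_vess_comm {Λ : Type*} [Group Λ] (S : Setting κ Λ G) {u v : G} {X : Subgroup G}
    (h : IsPair κ u X) (hvv : v * v = 1) (hv : v ∈ normalizer (X : Set G)) (hm : ¬ Moves v X) :
    ∃ a, Vess u X a ∧ a * v = v * a := by
  obtain ⟨a₀, V⟩ := S.exists_vess h
  have hfix : act X ⟨v, hv⟩ (QuotientGroup.mk ⟨a₀, V.mem⟩) = QuotientGroup.mk ⟨a₀, V.mem⟩ := by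
    by_contra hne
    exact hm ⟨hv, _, (mk_mem_center_iff V.mem).mpr V.fixes, by
      have : (⟨a₀, V.mem⟩ : ↥X) * ⟨a₀, V.mem⟩ = 1 := Subtype.ext V.sq
      rw [← QuotientGroup.mk_mul, this]; rfl, hne⟩
  rw [act_mk hv V.mem] at hfix
  have hc := (mk_eq_iff _ _).mp hfix.symm
  obtain ⟨o, ho, h1, h2⟩ := Lifting.exists_involution (odd_card_core X) (v := v) (x := a₀) (n := 1)
    (by rw [pow_one, pow_two, hvv]) (normalizer_le_normalizer_core X hv)
    (le_normalizer_core X V.mem) (by rw [V.sq]; exact one_mem _) hc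
  have haX : a₀ * o ∈ X := mul_mem V.mem (core_le X ho)
  refine ⟨a₀ * o, ⟨haX, h1, ?_, ?_, ?_⟩, h2.symm⟩
  · intro h3
    apply V.ne_one
    apply eq_one_of_mem_core_sq _ V.sq (K := X)
    rw [eq_inv_of_mul_eq_one_left h3]
    exact inv_mem ho
  · intro h3
    apply V.ne
    have h4 : a₀⁻¹ * u ∈ core X := by rw [← h3, inv_mul_cancel_left]; exact ho
    exact Lifting.eq_of_commute (odd_card_core X) (n := 1) (m := 1) (by rw [pow_one, pow_two, V.sq])
      (by rw [pow_one, pow_two, h.sq]) (V.comm h) h4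
  · exact fixes_mul V.fixes (h.comp.fixes_of_core (h.comp.core_le_core ho))

/-- if `v` moves an involution of the centre then `u` has a square root in `C_X(v)` fixing `X` -/
theorem exists_root {Λ : Type*} [Group Λ] (S : Setting κ Λ G) {u v : G} {X : Subgroup G}
    (h : IsPair κ u X) (huv : u * v = v * u) (hvv : v * v = 1) (hm : Moves v X) :
    ∃ i ∈ X, i * i = u ∧ i * v = v * i ∧ Fixes i X := by
  obtain ⟨hv, z, hz, hzz, hne⟩ := hm
  obtain ⟨c1, c2, c3⟩ := mk_pair_center h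
  obtain ⟨i₀, hi₀, hi1, hi2⟩ := S.k3 _ h.kind (act X ⟨v, hv⟩) (by
    rw [← act_mul hv hv, act_congr (b := 1) _ hvv]
    exact map_one (act X)) _ c1 c2 c3 (act_pair h huv hv) ⟨z, hz, hzz, hne⟩
  obtain ⟨⟨i, hi⟩, rfl⟩ := QuotientGroup.mk_surjective i₀
  rw [act_mk hv hi] at hi1
  have hc := (mk_eq_iff _ _).mp hi1.symm
  have hii : (i * i)⁻¹ * u ∈ core X := (mk_eq_iff (mul_mem hi hi) h.mem).mp hi2
  have hiN := le_normalizer_core X hi
  have h4 : i ^ 2 ^ 2 ∈ core X := by
    have e1 : i ^ 2 ^ 2 = (i * i) * (i * i) := by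
      show i ^ 4 = _
      simp only [pow_succ, pow_zero, one_mul, mul_assoc]
    obtain ⟨c, hcc⟩ : ∃ c, c = (i * i)⁻¹ * u := ⟨_, rfl⟩
    rw [← hcc] at hii
    have e2 : i * i = u * c⁻¹ := by rw [hcc, mul_inv_rev, inv_inv, mul_inv_cancel_left]
    have e3 : (i * i) * (i * i) = (u * c⁻¹ * u⁻¹) * (u * u) * c⁻¹ := by rw [e2]; group
    rw [e1, e3, h.sq, mul_one]
    exact mul_mem (conj_mem_core (le_normalizer h.mem) (inv_mem hii)) (inv_mem hii)
  obtain ⟨o, ho, p1, p2⟩ := Lifting.exists_two_element (odd_card_core X) (v := v) (x := i) (n := 1)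
    (m := 2) (by rw [pow_one, pow_two, hvv]) (normalizer_le_normalizer_core X hv) hiN h4 hc
  have hjX : i * o ∈ X := mul_mem hi (core_le X ho)
  have hmk : (QuotientGroup.mk ⟨i, hi⟩ : ↥X ⧸ oddCore ↥X) = QuotientGroup.mk ⟨i * o, hjX⟩ :=
    (mk_eq_iff hi hjX).mpr (by rw [inv_mul_cancel_left]; exact ho)
  refine ⟨i * o, hjX, ?_, p2.symm, ?_⟩
  · apply Lifting.eq_of_commute (odd_card_core X) (n := 1) (m := 1) (a := (i * o) * (i * o)) (b := u)
    · rw [← p1, ← pow_two, ← pow_mul]; rfl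
    · rw [pow_one, pow_two, h.sq]
    · exact pair_comm h (mul_mem hjX hjX)
    · rw [← mk_eq_iff (mul_mem hjX hjX) h.mem]
      rw [hmk] at hi2
      exact hi2
  · rw [hmk] at hi₀
    exact (mk_mem_center_iff hjX).mp hi₀

/-- **(M)** -/
theorem Setting.moveM {Λ : Type*} [Group Λ] (S : Setting κ Λ G) {u v : G} {X Y : Subgroup G}
    (h : IsPair κ u X) (h' : IsPair κ v Y) (huv : u * v = v * u) (hmove : cj v X ≠ X) :
    cj u Y ≠ Y := by
  intro hY
  have huY : u ∈ normalizer (Y : Set G) := mem_normalizer_iff_cj.mpr hY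
  have hnf : ¬ Fixes u Y := fun hf =>
    hmove (mem_normalizer_iff_cj.mp (typeZero_symm' h' h huv.symm hf).1)
  have hnle := diag_not_le S h h' huv hmove huY hnf
  have hvv : cj v (cj v X) = X := by rw [← cj_mul, h'.sq, cj_one]
  -- a vessel involution commuting with `u` does not normalize `X`
  have key : ∀ a, Vess v Y a → a * u = u * a → cj a X ≠ X := by
    intro a V hau haX
    have haN : a ∈ normalizer (X : Set G) := mem_normalizer_iff_cj.mpr haX
    have h1 := (perm h h' huv hmove hnle V.mem hau).2 haN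
    exact S.not_fixes_vess h h' V hau huY hnf h1
  by_cases hm : Moves u Y
  · obtain ⟨i, hi, hii, hiu, -⟩ := exists_root S h' huv.symm h.sq hm
    have hvX : cj v X = cj i (cj i X) := by rw [← cj_mul, hii]
    rcases (perm h h' huv hmove hnle hi hiu).1 with h1 | h1
    · apply hmove
      rw [hvX, h1, h1]
    · apply hmove
      have hiv : i * v = v * i := pair_comm h' hi
      rw [hvX, h1, ← cj_mul, hiv, cj_mul, h1, hvv]
  · obtain ⟨a, V, hau⟩ := exists_vess_comm S h' h.sq huY hm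
    have hne := key a V hau
    have hau' : a * v * u = u * (a * v) := by
      rw [mul_assoc, ← huv, ← mul_assoc, hau, mul_assoc]
    rcases (perm h h' huv hmove hnle V.mem hau).1 with h1 | h1
    · exact hne h1
    · apply key (a * v) (V.mul h') hau'
      have hav : a * v = v * a := V.comm h'
      rw [hav, cj_mul, h1, hvv]

end Cfsg.Agent.UGT.I34.Non
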