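import Cfsg.Agent.UGT.I34.Pair

/-!
(empty: the centres `4 × 2` and `4 × 4` are finished in `UGT/I34/NonEnd.lean`)
-/
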