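import Cfsg.Agent.UGT.I34.ONCoord
import Cfsg.Agent.Lib.KleinGen

/-!
# THEOREM I34, part [A]: an `ONRec` group is locally balanced

`lb_of`: `LB X` for an `ONRec` group `X`, if the automorphisms trivial on `L` are inner and `|Out X| ≤ 2`.
-/

set_option autoImplicit false
set_option linter.dupNamespace false
set_option linter.constructorNameAsVariable false
set_option linter.unusedSectionVars false

open Cfsg Subgroup
open Cfsg.Agent.SignalizersComponents Cfsg.Agent.Lib
open Cfsg.Agent.SignalizersComponents.IntrinsicBasic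
open Cfsg.Agent.SporadicA.FieldFour
open Cfsg.Agent.ONType.Psl (PSL3)
open Cfsg.Agent.StdL34 (Ty)
open Cfsg.Agent.UGT.Cov
open Cfsg.Agent.UGT.ThEL34 (fx mem_fx)
open Cfsg.Agent.UGT.End
open scoped commutatorElement

namespace Cfsg.Agent.UGT.I34.ONBal

universe u v

section K

variable {K : Type*} [Group K] [Finite K] {A : StdL34.Cov K} {π : K →* PSL3}
  {b : MulAut K →* MulAut PSL3}

/-- fixed points of involutory automorphisms of type `f`, `g` -/
theorem fix_facts (D : KC A π b) {φ : MulAut K} (h2 : φ * φ = 1) (h0 : ¬ A.HasTy φ (false, false))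
    (hc : ¬ A.HasTy φ (true, true)) :
    (∀ B : Subgroup K, B ≤ fx φ → (∀ g ∈ fx φ, ∀ b ∈ B, g * b * g⁻¹ ∈ B) → Odd (Nat.card B) →
      B = ⊥) ∧ ∃ s, φ s = s ∧ s * s = 1 ∧ s ∉ center K := by
  have h1 : φ ≠ 1 := by
    rintro rfl
    exact h0 StdL34.Cov.isTau_one.hasTy
  obtain ⟨l, hl⟩ := StdL34.Cov.inv_class (A := A) φ h1 h2
  obtain ⟨φ', hφ'⟩ : ∃ φ', φ' = MulAut.conj l * φ * (MulAut.conj l)⁻¹ := ⟨_, rfl⟩
  rw [← hφ'] at hl
  have hback : φ = (MulAut.conj l)⁻¹ * φ' * (MulAut.conj l)⁻¹⁻¹ := by rw [hφ']; group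
  have hty : ∀ τ, A.HasTy φ' τ → A.HasTy φ τ := by
    intro τ hτ
    rw [hback]
    exact hτ.conj _
  have hτ : ∃ τ, (τ = (true, false) ∨ τ = (false, true)) ∧ A.IsTau τ φ' := by
    rcases hl with ⟨⟨e, f⟩, hne, ht⟩ | ht
    · have h3 := hty _ ht.hasTy
      cases e <;> cases f
      · exact absurd rfl hne
      · exact ⟨_, Or.inr rfl, ht⟩
      · exact ⟨_, Or.inl rfl, ht⟩
      · exact absurd h3 hc
    · exfalso
      apply h0
      apply hty
      rw [ht]
      exact StdL34.Cov.hasTy_conj _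
  obtain ⟨τ, hτ, ht⟩ := hτ
  obtain ⟨R, -, -⟩ := D.res_tau hτ ht
  obtain ⟨J, hJ⟩ : ∃ J, J = ⁅(fx (b φ')).comap π, (fx (b φ')).comap π⁆ := ⟨_, rfl⟩
  rw [← hJ] at R
  have hfx : ∀ k, φ k = k → φ' (l * k * l⁻¹) = l * k * l⁻¹ := by
    intro k hk
    rw [hφ']
    change l * φ (l⁻¹ * (l * k * l⁻¹) * l) * l⁻¹ = _
    rw [show l⁻¹ * (l * k * l⁻¹) * l = k by group, hk]
  have hfx' : ∀ k, φ' k = k → φ (l⁻¹ * k * l) = l⁻¹ * k * l := by
    intro k hk
    rw [hφ'] at hk
    have h3 : l * φ (l⁻¹ * k * l) * l⁻¹ = k := hk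
    calc φ (l⁻¹ * k * l) = l⁻¹ * (l * φ (l⁻¹ * k * l) * l⁻¹) * l := by group
      _ = _ := by rw [h3]
  obtain ⟨s, hs, hs1, hss⟩ := R.inv
  constructor
  · intro B hB hBn hodd
    -- `l B l⁻¹ ∩ J = 1`
    obtain ⟨N, hN⟩ : ∃ N : Subgroup J, ∀ j : J, j ∈ N ↔ l⁻¹ * (j : K) * l ∈ B := by
      refine ⟨(B.comap (MulAut.conj l⁻¹).toMonoidHom).subgroupOf J, fun j => ?_⟩
      rw [mem_subgroupOf, mem_comap]
      change l⁻¹ * (j : K) * l⁻¹⁻¹ ∈ B ↔ _
      rw [inv_inv]
    have hNn : N.Normal := by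
      constructor
      intro n hn g
      rw [hN] at hn ⊢
      have h3 : l⁻¹ * (g : K) * l ∈ fx φ := hfx' g (R.le g.2)
      have h4 := hBn _ h3 _ hn
      have e : l⁻¹ * ((g * n * g⁻¹ : J) : K) * l =
          l⁻¹ * (g : K) * l * (l⁻¹ * (n : K) * l) * (l⁻¹ * (g : K) * l)⁻¹ := by
        push_cast; group
      rw [e]; exact h4
    have hN1 : N = ⊥ := by
      rcases R.simple.eq_bot_or_eq_top_of_normal N hNn with h3 | h3
      · exact h3
      · exfalso
        have h4 : (⟨s, hs⟩ : J) ∈ N := by rw [h3]; exact mem_top _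
        rw [hN] at h4
        have h5 : (l⁻¹ * s * l) = 1 := by
          apply IntrinsicBasic.eq_one_of_mem_odd hodd h4 (n := 1)
          rw [pow_one, pow_two]
          calc l⁻¹ * s * l * (l⁻¹ * s * l) = l⁻¹ * (s * s) * l := by group
            _ = 1 := by rw [hss]; group
        apply hs1
        calc s = l * (l⁻¹ * s * l) * l⁻¹ := by group
          _ = 1 := by rw [h5]; group
    have hcomm : ∀ x ∈ B, ∀ j ∈ J, j * (l * x * l⁻¹) = (l * x * l⁻¹) * j := by
      intro x hx j hj
      have h3 : l⁻¹ * j * l ∈ fx φ := hfx' j (R.le hj)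
      have h4 : l⁻¹ * ⁅j, l * x * l⁻¹⁆ * l ∈ B := by
        have h5 := mul_mem (hBn _ h3 x hx) (inv_mem hx)
        have e : l⁻¹ * ⁅j, l * x * l⁻¹⁆ * l = l⁻¹ * j * l * x * (l⁻¹ * j * l)⁻¹ * x⁻¹ := by
          rw [commutatorElement_def]; group
        rw [e]; exact h5
      have h5 : ⁅j, l * x * l⁻¹⁆ ∈ J := by
        rw [← R.comm]
        exact Subgroup.commutator_mem_commutator (R.le hj) (hfx x (hB hx))
      have h6 : (⟨_, h5⟩ : J) ∈ N := (hN _).mpr h4
      rw [hN1, mem_bot] at h6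
      exact commutatorElement_eq_one_iff_mul_comm.mp (congrArg Subtype.val h6)
    rw [eq_bot_iff]
    intro x hx
    have h3 := R.sup (hfx x (hB hx))
    obtain ⟨j, hj, c, hc, hjc⟩ := mem_sup_of_normal_right.mp h3
    -- `j` is central in `J`
    have hjJ : ∀ i ∈ J, i * j = j * i := by
      intro i hi
      have h4 := hcomm x hx i hi
      rw [← hjc] at h4
      have h5 := mem_center_iff.mp hc
      have h6 : i * j * c = j * i * c := by
        calc i * j * c = i * (j * c) := by group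
          _ = j * c * i := h4
          _ = j * (i * c) := by rw [h5 i]; group
          _ = _ := by group
      exact mul_right_cancel h6
    have hj1 : j = 1 := by
      have h4 : (⟨j, hj⟩ : J) ∈ center J := by
        rw [mem_center_iff]
        rintro ⟨i, hi⟩
        exact Subtype.ext (hjJ i hi)
      rcases R.simple.eq_bot_or_eq_top_of_normal (center J) inferInstance with h5 | h5
      · rw [h5, mem_bot] at h4
        exact congrArg Subtype.val h4
      · exfalso
        have h6 : ⁅J, J⁆ = ⊥ := by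
          rw [eq_bot_iff, Subgroup.commutator_le]
          intro x hx y hy
          rw [mem_bot, commutatorElement_eq_one_iff_mul_comm]
          have h7 : (⟨y, hy⟩ : J) ∈ center J := by rw [h5]; exact mem_top _
          exact congrArg Subtype.val (mem_center_iff.mp h7 ⟨x, hx⟩)
        rw [R.perf] at h6
        exact hs1 (mem_bot.mp (h6 ▸ hs))
    rw [hj1, one_mul] at hjc
    -- `x` is central, of odd order
    have hxc : x ∈ center K := by
      have e : x = l⁻¹ * c * l⁻¹⁻¹ := by rw [hjc]; group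
      rw [e]
      exact (inferInstance : (center K).Normal).conj_mem _ hc l⁻¹
    have h4 : x ∈ π.ker := by rw [D.ker]; exact hxc
    obtain ⟨n, hn⟩ := D.ker2 ⟨x, h4⟩
    exact mem_bot.mpr (IntrinsicBasic.eq_one_of_mem_odd hodd hx (n := n) (congrArg Subtype.val hn))
  · refine ⟨l⁻¹ * s * l, hfx' s (R.le hs), ?_, ?_⟩
    · calc l⁻¹ * s * l * (l⁻¹ * s * l) = l⁻¹ * (s * s) * l := by group
        _ = 1 := by rw [hss]; group
    · intro h3
      apply hs1
      apply R.inf s hs
      have h4 : s = l * (l⁻¹ * s * l) * l⁻¹ := by group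
      rw [h4]
      exact (inferInstance : (center K).Normal).conj_mem _ h3 l

end K

section general

/-- an automorphism of order two of a group of even order fixes an involution -/
theorem exists_fixed_inv {X : Type*} [Group X] [Finite X] (h2 : 2 ∣ Nat.card X) {α : MulAut X}
    (hα : α * α = 1) : ∃ w, α w = w ∧ w * w = 1 ∧ w ≠ 1 := by
  classical
  have hft : Fintype X := Fintype.ofFinite X
  have hp : Fact (Nat.Prime 2) := ⟨Nat.prime_two⟩
  let f : Function.End X := fun x => α x
  have hf : f ^ 2 ^ 1 = 1 := by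
    rw [pow_one, pow_two]
    funext x
    change (α * α) x = x
    rw [hα]; rfl
  have h3 := Equiv.Perm.card_fixedPoints_modEq (α := X) (f := f) (p := 2) (n := 1) hf
  have h4 : Nat.card (fx α) = Fintype.card f.fixedPoints := by
    rw [← Nat.card_eq_fintype_card]
    rfl
  have h5 : 2 ∣ Nat.card (fx α) := by
    rw [h4]
    rw [Nat.card_eq_fintype_card] at h2
    exact (Nat.ModEq.dvd_iff h3 (dvd_refl 2)).mp h2
  obtain ⟨w, hw⟩ := exists_prime_orderOf_dvd_card' 2 h5
  refine ⟨w, w.2, ?_, ?_⟩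
  · have h6 := pow_orderOf_eq_one w
    rw [hw, pow_two] at h6
    exact congrArg Subtype.val h6
  · intro h6
    have h7 : w = 1 := Subtype.ext h6
    rw [h7, orderOf_one] at hw
    exact absurd hw (by norm_num)

end general

section X

variable {X : Type u} [Group X] [Finite X] {z : X} {L : Subgroup X}

/-- elements of odd order of `C(z)` are in `L` -/
theorem mem_of_odd (R : ONRec.ONRec X z L) {x : X} (hx : x * z = z * x) (ho : Odd (orderOf x)) : x ∈ L := by
  have hn := R.mrec.norm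
  have hxC : x ∈ centralizer ({z} : Set X) := mem_centralizer_singleton_iff.mpr hx
  have h1 := Subgroup.mul_self_mem_of_index_two R.mrec.idx ⟨x, hxC⟩
  have h2 : x * x ∈ L := h1
  obtain ⟨k, hk⟩ := ho
  have h3 : x = (x * x) ^ (k + 1) := by
    rw [← pow_two, ← pow_mul, show 2 * (k + 1) = (2 * k + 1) + 1 by ring, pow_succ, ← hk,
      pow_orderOf_eq_one, one_mul]
  rw [h3]
  exact pow_mem h2 _

theorem L_eq (R : ONRec.ONRec X z L) :
    ⁅centralizer ({z} : Set X), centralizer ({z} : Set X)⁆ = L := by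
  apply le_antisymm
  · rw [Subgroup.commutator_le]
    intro a ha b hb
    have h3 : ⁅(⟨a, ha⟩ : ↥(centralizer ({z} : Set X))), ⟨b, hb⟩⁆ ∈
        L.subgroupOf (centralizer ({z} : Set X)) := by
      have hn := R.mrec.norm
      rw [commutatorElement_def, Subgroup.mul_mem_iff_of_index_two R.mrec.idx,
        Subgroup.mul_mem_iff_of_index_two R.mrec.idx, Subgroup.mul_mem_iff_of_index_two R.mrec.idx,
        inv_mem_iff, inv_mem_iff]
      tauto
    exact h3
  · have h1 : ⁅L, L⁆ = L := (KindA.isComp_of_onrec R).perfect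
    nth_rewrite 1 [← h1]
    exact Subgroup.commutator_mono R.le R.le

theorem map_L (R : ONRec.ONRec X z L) {α : MulAut X} (hz : α z = z) :
    L.map α.toMonoidHom = L := by
  have h1 : (centralizer ({z} : Set X)).map α.toMonoidHom = centralizer ({z} : Set X) := by
    ext y
    constructor
    · rintro ⟨x, hx, rfl⟩
      have h2 := mem_centralizer_singleton_iff.mp hx
      rw [mem_centralizer_singleton_iff]
      change α x * z = z * α x
      nth_rewrite 1 [← hz]
      rw [← map_mul, h2, map_mul, hz]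
    · intro hy
      have h2 := mem_centralizer_singleton_iff.mp hy
      refine ⟨α.symm y, ?_, α.apply_symm_apply y⟩
      change α.symm y ∈ centralizer ({z} : Set X)
      rw [mem_centralizer_singleton_iff]
      apply α.injective
      rw [map_mul, map_mul, α.apply_symm_apply, hz, h2]
  rw [← L_eq R, Subgroup.map_commutator, h1]

/-- restriction of an automorphism -/
def res (α : MulAut X) (h : L.map α.toMonoidHom = L) : MulAut ↥L :=
  (α.subgroupMap L).trans (MulEquiv.subgroupCongr h)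

omit [Finite X] in
theorem coe_res (α : MulAut X) (h : L.map α.toMonoidHom = L) (x : ↥L) : (res α h x : X) = α x := rfl

/-- **An outer automorphism `α` of order two fixing `z`.** -/
theorem aut_facts (R : ONRec.ONRec X z L)
    (hAut : ∀ α : MulAut X, (∀ x ∈ L, α x = x) → ∃ k, α = MulAut.conj k) {α : MulAut X}
    (h2 : α * α = 1) (hz : α z = z) (ho : ∀ k, α ≠ MulAut.conj k) :
    (∀ B : Subgroup X, B ≤ L → (∀ b ∈ B, α b = b) →
      (∀ g ∈ L, α g = g → ∀ b ∈ B, g * b * g⁻¹ ∈ B) → Odd (Nat.card B) → B = ⊥) ∧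
      ∃ s ∈ L, α s = s ∧ s * s = 1 ∧ s ≠ 1 ∧ s ≠ z := by
  obtain ⟨A, π, b, c, γ, D, hcz, hcL, hγ, hγc⟩ := ONCoord.exists_coord R
  have hL := map_L R hz
  obtain ⟨φ, hφd⟩ : ∃ φ, φ = res α hL := ⟨_, rfl⟩
  have hφ : ∀ x : ↥L, ((φ x : ↥L) : X) = α x := fun x => by rw [hφd]; rfl
  have hφ2 : φ * φ = 1 := by
    ext x
    change ((φ (φ x) : ↥L) : X) = x
    rw [hφ, hφ]
    exact DFunLike.congr_fun h2 (x : X)
  have h0 : ¬ A.HasTy φ (false, false) := by
    intro h
    obtain ⟨l, hl⟩ := h.inner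
    obtain ⟨k, hk⟩ := hAut ((MulAut.conj (l : X))⁻¹ * α) (by
      intro x hx
      change (l : X)⁻¹ * α x * l = x
      have h3 := hφ ⟨x, hx⟩
      rw [hl] at h3
      have h4 : (l : X) * x * (l : X)⁻¹ = α x := h3
      rw [← h4]; group)
    apply ho ((l : X) * k)
    rw [map_mul, ← hk]
    group
  have hc : ¬ A.HasTy φ (true, true) := by
    intro h
    have h3 := h.mul hγ
    have h4 : Ty.mul (true, true) (true, true) = (false, false) := rfl
    rw [h4] at h3
    obtain ⟨l, hl⟩ := h3.inner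
    obtain ⟨k, hk⟩ := hAut ((MulAut.conj (l : X))⁻¹ * α * MulAut.conj c) (by
      intro x hx
      change (l : X)⁻¹ * α (c * x * c⁻¹) * l = x
      have h5 := hφ (γ ⟨x, hx⟩)
      rw [hγc] at h5
      have h6 : ((φ (γ ⟨x, hx⟩) : ↥L) : X) = (l : X) * x * (l : X)⁻¹ := by
        have := congrArg (fun ψ : MulAut ↥L => ((ψ ⟨x, hx⟩ : ↥L) : X)) hl
        exact this
      rw [← h5, h6]
      group)
    apply ho ((l : X) * k * c⁻¹)
    rw [map_mul, map_mul, map_inv, ← hk]
    group
  obtain ⟨h3, s, hs, hss, hsc⟩ := fix_facts D hφ2 h0 hc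
  constructor
  · intro B hBL hB hBn hodd
    have h4 := h3 (B.subgroupOf L) (by
      intro y hy
      apply Subtype.ext
      change ((φ y : ↥L) : X) = y
      rw [hφ]
      exact hB y hy) (by
      intro g hg y hy
      refine hBn g g.2 ?_ y hy
      rw [← hφ]
      exact congrArg Subtype.val hg) (by
      rwa [Nat.card_congr (subgroupOfEquivOfLe hBL).toEquiv])
    rw [Subgroup.subgroupOf_eq_bot] at h4
    exact (disjoint_of_le_iff_left_eq_bot hBL).mp h4
  · refine ⟨s, s.2, ?_, congrArg Subtype.val hss, ?_, ?_⟩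
    · rw [← hφ, hs]
    · intro h4
      apply hsc
      rw [show s = 1 from Subtype.ext h4]
      exact one_mem _
    · intro h4
      apply hsc
      rw [mem_center_iff]
      intro y
      apply Subtype.ext
      change (y : X) * s = s * y
      rw [h4]
      exact mem_centralizer_singleton_iff.mp (R.le y.2)

theorem even_card (R : ONRec.ONRec X z L) : 2 ∣ Nat.card X := by
  rw [← R.ord]
  exact orderOf_dvd_natCard z

/-- **Odd subgroups fixed by an outer automorphism of order two, normalised by the fixed points.** -/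
theorem fixed_odd (R : ONRec.ONRec X z L)
    (hAut : ∀ α : MulAut X, (∀ x ∈ L, α x = x) → ∃ k, α = MulAut.conj k) {α : MulAut X}
    (h2 : α * α = 1) (ho : ∀ k, α ≠ MulAut.conj k) {B : Subgroup X} (hB : ∀ b ∈ B, α b = b)
    (hn : ∀ g, α g = g → ∀ b ∈ B, g * b * g⁻¹ ∈ B) (hodd : Odd (Nat.card B)) : B = ⊥ := by
  -- local facts at an involution fixed by `α`
  have key : ∀ g : X, α (g * z * g⁻¹) = g * z * g⁻¹ →
      (∀ b ∈ B, b * (g * z * g⁻¹) = g * z * g⁻¹ * b → b = 1) ∧
        ∃ s, α s = s ∧ s * s = 1 ∧ s ≠ 1 ∧ s ≠ g * z * g⁻¹ ∧ s * (g * z * g⁻¹) = g * z * g⁻¹ * s := by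
    intro g hg
    obtain ⟨β, hβ⟩ : ∃ β, β = (MulAut.conj g)⁻¹ * α * MulAut.conj g := ⟨_, rfl⟩
    have hβx : ∀ x, β x = g⁻¹ * α (g * x * g⁻¹) * g := fun x => by rw [hβ]; rfl
    have hβ2 : β * β = 1 := by
      rw [hβ]
      calc (MulAut.conj g)⁻¹ * α * MulAut.conj g * ((MulAut.conj g)⁻¹ * α * MulAut.conj g) =
          (MulAut.conj g)⁻¹ * (α * α) * MulAut.conj g := by group
        _ = 1 := by rw [h2]; group
    have hβz : β z = z := by
      rw [hβx, hg]; group
    have hβo : ∀ k, β ≠ MulAut.conj k := by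
      intro k hk
      apply ho (g * k * g⁻¹)
      rw [map_mul, map_mul, map_inv, ← hk, hβ]
      group
    obtain ⟨h3, s, hs, hβs, hss, hs1, hsz⟩ := aut_facts R hAut hβ2 hβz hβo
    constructor
    · intro b hb hbw
      have h4 : B.comap (MulAut.conj g).toMonoidHom ⊓ centralizer ({z} : Set X) = ⊥ := by
        refine h3 _ ?_ ?_ ?_ ?_
        · rintro x ⟨hx, hxz⟩
          have hx' : g * x * g⁻¹ ∈ B := hx
          refine mem_of_odd R (mem_centralizer_singleton_iff.mp hxz) ?_
          have h5 : orderOf (g * x * g⁻¹) = orderOf x :=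
            orderOf_injective (MulAut.conj g).toMonoidHom (MulAut.conj g).injective x
          rw [← h5]
          have h6 : orderOf (⟨_, hx'⟩ : B) ∣ Nat.card B := orderOf_dvd_natCard _
          rw [Subgroup.orderOf_mk] at h6
          exact Odd.of_dvd_nat hodd h6
        · rintro x ⟨hx, -⟩
          have hx' : g * x * g⁻¹ ∈ B := hx
          rw [hβx, hB _ hx']; group
        · rintro y hy hyβ x ⟨hx, hxz⟩
          have hx' : g * x * g⁻¹ ∈ B := hx
          have hyC : y ∈ centralizer ({z} : Set X) := R.le hy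
          refine ⟨?_, Subgroup.mul_mem _ (Subgroup.mul_mem _ hyC hxz) (Subgroup.inv_mem _ hyC)⟩
          change g * (y * x * y⁻¹) * g⁻¹ ∈ B
          have h5 : α (g * y * g⁻¹) = g * y * g⁻¹ := by
            have h6 := hβx y
            rw [hyβ] at h6
            calc α (g * y * g⁻¹) = g * (g⁻¹ * α (g * y * g⁻¹) * g) * g⁻¹ := by group
              _ = _ := by rw [← h6]
          have h6 := hn _ h5 _ hx'
          have e : g * (y * x * y⁻¹) * g⁻¹ = g * y * g⁻¹ * (g * x * g⁻¹) * (g * y * g⁻¹)⁻¹ := by group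
          rw [e]; exact h6
        · have h5 : Nat.card ↥(B.comap (MulAut.conj g).toMonoidHom ⊓ centralizer ({z} : Set X)) ∣
              Nat.card ↥(B.comap (MulAut.conj g).toMonoidHom) := Subgroup.card_dvd_of_le inf_le_left
          have h6 : Nat.card ↥(B.comap (MulAut.conj g).toMonoidHom) ∣ Nat.card B := by
            have h7 : Nat.card ↥((B.comap (MulAut.conj g).toMonoidHom).map (MulAut.conj g).toMonoidHom) =
                Nat.card ↥(B.comap (MulAut.conj g).toMonoidHom) :=
              Subgroup.card_map_of_injective (MulAut.conj g).injective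
            rw [← h7]
            exact Subgroup.card_dvd_of_le (Subgroup.map_comap_le _ _)
          exact Odd.of_dvd_nat hodd (h5.trans h6)
      have h5 : g⁻¹ * b * g ∈ B.comap (MulAut.conj g).toMonoidHom ⊓ centralizer ({z} : Set X) := by
        constructor
        · change g * (g⁻¹ * b * g) * g⁻¹ ∈ B
          rw [show g * (g⁻¹ * b * g) * g⁻¹ = b by group]; exact hb
        · change g⁻¹ * b * g ∈ centralizer ({z} : Set X)
          rw [mem_centralizer_singleton_iff]
          calc g⁻¹ * b * g * z = g⁻¹ * (b * (g * z * g⁻¹)) * g := by group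
            _ = g⁻¹ * (g * z * g⁻¹ * b) * g := by rw [hbw]
            _ = _ := by group
      rw [h4, mem_bot] at h5
      calc b = g * (g⁻¹ * b * g) * g⁻¹ := by group
        _ = 1 := by rw [h5]; group
    · refine ⟨g * s * g⁻¹, ?_, ?_, ?_, ?_, ?_⟩
      · have h6 := hβx s
        rw [hβs] at h6
        calc α (g * s * g⁻¹) = g * (g⁻¹ * α (g * s * g⁻¹) * g) * g⁻¹ := by group
          _ = _ := by rw [← h6]
      · calc g * s * g⁻¹ * (g * s * g⁻¹) = g * (s * s) * g⁻¹ := by group
          _ = 1 := by rw [hss]; group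
      · intro h6
        apply hs1
        calc s = g⁻¹ * (g * s * g⁻¹) * g := by group
          _ = 1 := by rw [h6]; group
      · intro h6
        apply hsz
        calc s = g⁻¹ * (g * s * g⁻¹) * g := by group
          _ = g⁻¹ * (g * z * g⁻¹) * g := by rw [h6]
          _ = z := by group
      · have h6 := mem_centralizer_singleton_iff.mp (R.le hs)
        calc g * s * g⁻¹ * (g * z * g⁻¹) = g * (s * z) * g⁻¹ := by group
          _ = g * (z * s) * g⁻¹ := by rw [h6]
          _ = _ := by group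
  obtain ⟨w, hαw, hww, hw1⟩ := exists_fixed_inv (even_card R) h2
  obtain ⟨g, hg⟩ := ONRec.one_class R hww hw1
  rw [← hg] at hαw
  obtain ⟨h3, s, hαs, hss, hs1, hsw, hcomm⟩ := key g hαw
  rw [hg] at h3 hαw hsw hcomm
  obtain ⟨g', hg'⟩ := ONRec.one_class R hss hs1
  have h4 := (key g' (by rw [hg']; exact hαs)).1
  rw [hg'] at h4
  have hws : w * s * (w * s) = 1 := by
    calc w * s * (w * s) = w * (s * w) * s := by group
      _ = (w * w) * (s * s) := by rw [hcomm]; group
      _ = 1 := by rw [hww, hss, one_mul]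
  have hws1 : w * s ≠ 1 := by
    intro h
    apply hsw
    rw [← inv_eq_of_mul_eq_one_left hss]
    exact (eq_inv_of_mul_eq_one_left h).symm
  obtain ⟨g'', hg''⟩ := ONRec.one_class R hws hws1
  have h5 := (key g'' (by rw [hg'', map_mul, hαw, hαs])).1
  rw [hg''] at h5
  rw [eq_bot_iff]
  refine KleinGen.le_of_klein B ⊥ hodd w s hww hss hcomm.symm (fun b hb => hn w hαw b hb)
    (fun b hb => hn s hαs b hb) ?_ ?_ ?_
  · rintro b ⟨hb, hbc⟩
    exact mem_bot.mpr (h3 b hb (mem_centralizer_singleton_iff.mp hbc))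
  · rintro b ⟨hb, hbc⟩
    exact mem_bot.mpr (h4 b hb (mem_centralizer_singleton_iff.mp hbc))
  · rintro b ⟨hb, hbc⟩
    exact mem_bot.mpr (h5 b hb (mem_centralizer_singleton_iff.mp hbc))

theorem core_z (R : ONRec.ONRec X z L) : Intrinsic.Basic.core (centralizer ({z} : Set X)) = ⊥ := by
  obtain ⟨hq, hO, -⟩ := KindA.quasisimple_of_mrec R.mrec
  obtain ⟨O, hOd⟩ : ∃ O, O = Intrinsic.Basic.core (centralizer ({z} : Set X)) := ⟨_, rfl⟩
  rw [← hOd]
  have hle : O ≤ centralizer ({z} : Set X) := hOd ▸ Intrinsic.Basic.core_le _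
  have hodd : Odd (Nat.card O) := hOd ▸ Intrinsic.Basic.odd_card_core _
  have hn : centralizer ({z} : Set X) ≤ normalizer (O : Set X) :=
    hOd ▸ Intrinsic.Basic.le_normalizer_core _
  have hOL : O ≤ L := by
    intro x hx
    refine mem_of_odd R (mem_centralizer_singleton_iff.mp (hle hx)) ?_
    have h6 : orderOf (⟨_, hx⟩ : O) ∣ Nat.card O := orderOf_dvd_natCard _
    rw [Subgroup.orderOf_mk] at h6
    exact Odd.of_dvd_nat hodd h6
  obtain ⟨M, hM⟩ : ∃ M, M = L.subgroupOf (centralizer ({z} : Set X)) := ⟨_, rfl⟩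
  rw [← hM] at hq hO
  obtain ⟨P, hP⟩ : ∃ P : Subgroup ↥M, P = (O.subgroupOf (centralizer ({z} : Set X))).subgroupOf M :=
    ⟨_, rfl⟩
  have hPn : P.Normal := by
    constructor
    intro n hn' g
    rw [hP] at hn' ⊢
    have h1 : ((n : ↥(centralizer ({z} : Set X))) : X) ∈ O := hn'
    have h2 := (mem_normalizer_iff.mp (hn (g : ↥(centralizer ({z} : Set X))).2) _).mp h1
    exact h2
  have hP1 : P ≤ oddCore ↥M := by
    apply Lib.Cores.le_pPrimeCore hPn
    rw [Nat.coprime_two_right]
    have h1 : Nat.card P ∣ Nat.card O := by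
      have h2 : Nat.card P = Nat.card ((P.map M.subtype).map (centralizer ({z} : Set X)).subtype) := by
        rw [Subgroup.card_map_of_injective (Subgroup.subtype_injective _),
          Subgroup.card_map_of_injective (Subgroup.subtype_injective _)]
      rw [h2]
      apply Subgroup.card_dvd_of_le
      rintro _ ⟨_, ⟨p, hp, rfl⟩, rfl⟩
      rw [hP] at hp
      exact hp
    exact Odd.of_dvd_nat hodd h1
  rw [hO] at hP1
  rw [eq_bot_iff]
  intro x hx
  have h3 : (⟨⟨x, hle hx⟩, by rw [hM]; exact hOL hx⟩ : ↥M) ∈ P := by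
    rw [hP]; exact hx
  have h4 := hP1 h3
  rw [mem_bot] at h4
  exact congrArg (fun y : ↥M => ((y : ↥(centralizer ({z} : Set X))) : X)) h4

theorem endInner (R : ONRec.ONRec X z L) : EndInner X := by
  intro t ht
  have htt : t * t = 1 := by rw [← pow_two, ← ht, pow_orderOf_eq_one]
  have ht1 : t ≠ 1 := by
    rintro rfl
    simp at ht
  obtain ⟨g, hg⟩ := ONRec.one_class R htt ht1
  have h1 := map_core' (MulAut.conj g) 2 z
  have h2 : centralizerPPrimeCore 2 z = ⊥ := core_z R
  rw [h2, Subgroup.map_bot] at h1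
  have h3 : (MulAut.conj g) z = t := hg
  rw [h3] at h1
  exact h1.symm

theorem endOuter (R : ONRec.ONRec X z L)
    (hAut : ∀ α : MulAut X, (∀ x ∈ L, α x = x) → ∃ k, α = MulAut.conj k) : EndOuter X := by
  intro G _ _ N hN hX hc hidx x hxN hx
  obtain ⟨f⟩ := hX
  change Intrinsic.Basic.core (centralizer ({x} : Set G)) = ⊥
  obtain ⟨O, hOd⟩ : ∃ O, O = Intrinsic.Basic.core (centralizer ({x} : Set G)) := ⟨_, rfl⟩
  rw [← hOd]
  have hle : O ≤ centralizer ({x} : Set G) := hOd ▸ Intrinsic.Basic.core_le _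
  have hodd : Odd (Nat.card O) := hOd ▸ Intrinsic.Basic.odd_card_core _
  have hn : centralizer ({x} : Set G) ≤ normalizer (O : Set G) :=
    hOd ▸ Intrinsic.Basic.le_normalizer_core _
  have hxx : x * x = 1 := by rw [← pow_two, ← hx, pow_orderOf_eq_one]
  have hxi : x⁻¹ = x := inv_eq_of_mul_eq_one_left hxx
  have hON : O ≤ N := by
    intro y hy
    have h1 := Subgroup.mul_self_mem_of_index_two hidx y
    have h6 : orderOf (⟨_, hy⟩ : O) ∣ Nat.card O := orderOf_dvd_natCard _
    rw [Subgroup.orderOf_mk] at h6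
    obtain ⟨k, hk⟩ := Odd.of_dvd_nat hodd h6
    have h3 : y = (y * y) ^ (k + 1) := by
      rw [← pow_two, ← pow_mul, show 2 * (k + 1) = (2 * k + 1) + 1 by ring, pow_succ, ← hk,
        pow_orderOf_eq_one, one_mul]
    rw [h3]
    exact pow_mem h1 _
  obtain ⟨ν, hν⟩ : ∃ ν : MulAut ↥N, ν = MulAut.conjNormal x := ⟨_, rfl⟩
  obtain ⟨α, hα⟩ : ∃ α : MulAut X, α = MulAut.congr f.symm ν := ⟨_, rfl⟩
  have hαf : ∀ y, ((f (α y) : ↥N) : G) = x * f y * x⁻¹ := by
    intro y
    rw [hα]
    change ((f (f.symm (ν (f y))) : ↥N) : G) = _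
    rw [f.apply_symm_apply, hν, MulAut.conjNormal_apply]
  have hinj : ∀ a b : X, ((f a : ↥N) : G) = f b → a = b := fun a b h => f.injective (Subtype.ext h)
  have hα2 : α * α = 1 := by
    ext y
    apply hinj
    change ((f (α (α y)) : ↥N) : G) = f y
    rw [hαf, hαf]
    calc x * (x * f y * x⁻¹) * x⁻¹ = (x * x) * f y * (x * x)⁻¹ := by group
      _ = f y := by rw [hxx, one_mul, inv_one, mul_one]
  have hαo : ∀ k, α ≠ MulAut.conj k := by
    intro k hk
    apply hxN
    have h1 : (f k : G)⁻¹ * x ∈ centralizer (N : Set G) := by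
      rw [mem_centralizer_iff]
      intro y hy
      have h2 := hαf (f.symm ⟨y, hy⟩)
      rw [hk] at h2
      change ((f (k * f.symm ⟨y, hy⟩ * k⁻¹) : ↥N) : G) = _ at h2
      rw [map_mul, map_mul, map_inv, f.apply_symm_apply] at h2
      have h3 : (f k : G) * y * (f k : G)⁻¹ = x * y * x⁻¹ := h2
      calc y * ((f k : G)⁻¹ * x) = (f k : G)⁻¹ * ((f k : G) * y * (f k : G)⁻¹) * x := by group
        _ = (f k : G)⁻¹ * (x * y * x⁻¹) * x := by rw [h3]
        _ = (f k : G)⁻¹ * x * y := by group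
    rw [hc, mem_bot, inv_mul_eq_one] at h1
    rw [← h1]
    exact (f k).2
  obtain ⟨B, hB⟩ : ∃ B : Subgroup X, ∀ y, y ∈ B ↔ ((f y : ↥N) : G) ∈ O :=
    ⟨(O.subgroupOf N).comap f.toMonoidHom, fun y => Iff.rfl⟩
  have hB1 : B = ⊥ := by
    refine fixed_odd R hAut hα2 hαo ?_ ?_ ?_
    · intro b hb
      rw [hB] at hb
      apply hinj
      rw [hαf]
      have h1 := mem_centralizer_singleton_iff.mp (hle hb)
      rw [← h1, mul_inv_cancel_right]
    · intro g hg b hb
      rw [hB] at hb ⊢
      have h1 := hαf g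
      rw [hg] at h1
      have h2 : ((f g : ↥N) : G) ∈ centralizer ({x} : Set G) := by
        rw [mem_centralizer_singleton_iff]
        nth_rewrite 1 [h1]
        group
      have h3 := (mem_normalizer_iff.mp (hn h2) _).mp hb
      rw [map_mul, map_mul, map_inv]
      exact h3
    · have h1 : Nat.card B ∣ Nat.card O := by
        have h2 : Nat.card B = Nat.card ((B.map f.toMonoidHom).map N.subtype) := by
          rw [Subgroup.card_map_of_injective (Subgroup.subtype_injective _),
            Subgroup.card_map_of_injective f.injective]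
        rw [h2]
        apply Subgroup.card_dvd_of_le
        rintro _ ⟨_, ⟨p, hp, rfl⟩, rfl⟩
        exact (hB p).mp hp
      exact Odd.of_dvd_nat hodd h1
  rw [eq_bot_iff]
  intro y hy
  have h1 : f.symm ⟨y, hON hy⟩ ∈ B := by
    rw [hB, f.apply_symm_apply]; exact hy
  rw [hB1, mem_bot] at h1
  have h2 : (⟨y, hON hy⟩ : ↥N) = 1 := by
    rw [← f.apply_symm_apply ⟨y, hON hy⟩, h1, map_one]
  exact congrArg Subtype.val h2

omit [Finite X] in
theorem endOdd (hidx : (MulAut.conj : X →* MulAut X).range.index ≤ 2)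
    (h0 : (MulAut.conj : X →* MulAut X).range.index ≠ 0) : EndOdd X := by
  intro G _ _ N hN hX hc x hx D hDx hDn hodd hDN hDc
  obtain ⟨f⟩ := hX
  have hDN' : D ≤ N := by
    intro d hd
    have h6 : orderOf (⟨_, hd⟩ : D) ∣ Nat.card D := orderOf_dvd_natCard _
    rw [Subgroup.orderOf_mk] at h6
    obtain ⟨k, hk⟩ := Odd.of_dvd_nat hodd h6
    obtain ⟨ν, hν⟩ : ∃ ν : MulAut ↥N, ν = MulAut.conjNormal d := ⟨_, rfl⟩
    obtain ⟨α, hα⟩ : ∃ α : MulAut X, α = MulAut.congr f.symm ν := ⟨_, rfl⟩
    have hαf : ∀ y, ((f (α y) : ↥N) : G) = d * f y * d⁻¹ := by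
      intro y
      rw [hα]
      change ((f (f.symm (ν (f y))) : ↥N) : G) = _
      rw [f.apply_symm_apply, hν, MulAut.conjNormal_apply]
    have hαn : α ^ (2 * k + 1) = 1 := by
      rw [hα, ← map_pow, hν, ← map_pow, ← hk, pow_orderOf_eq_one, map_one, map_one]
    have h3 : α ∈ (MulAut.conj : X →* MulAut X).range := by
      have h4 : α * α ∈ (MulAut.conj : X →* MulAut X).range := by
        rcases (by omega : (MulAut.conj : X →* MulAut X).range.index = 1 ∨
          (MulAut.conj : X →* MulAut X).range.index = 2) with h5 | h5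
        · rw [Subgroup.index_eq_one] at h5
          rw [h5]; exact mem_top _
        · exact Subgroup.mul_self_mem_of_index_two h5 α
      have h5 : α = (α * α) ^ (k + 1) := by
        rw [← pow_two, ← pow_mul, show 2 * (k + 1) = (2 * k + 1) + 1 by ring, pow_succ, hαn, one_mul]
      rw [h5]
      exact pow_mem h4 _
    obtain ⟨m, hm⟩ := h3
    have h1 : (f m : G)⁻¹ * d ∈ centralizer (N : Set G) := by
      rw [mem_centralizer_iff]
      intro y hy
      have h2 := hαf (f.symm ⟨y, hy⟩)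
      rw [← hm] at h2
      change ((f (m * f.symm ⟨y, hy⟩ * m⁻¹) : ↥N) : G) = _ at h2
      rw [map_mul, map_mul, map_inv, f.apply_symm_apply] at h2
      have h3 : (f m : G) * y * (f m : G)⁻¹ = d * y * d⁻¹ := h2
      calc y * ((f m : G)⁻¹ * d) = (f m : G)⁻¹ * ((f m : G) * y * (f m : G)⁻¹) * d := by group
        _ = (f m : G)⁻¹ * (d * y * d⁻¹) * d := by rw [h3]
        _ = (f m : G)⁻¹ * d * y := by group
    rw [hc, mem_bot, inv_mul_eq_one] at h1
    rw [← h1]
    exact (f m).2
  rw [← inf_of_le_left hDN']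
  exact hDN

/-- **`ONRec` groups are locally balanced.** -/
theorem lb_of (R : ONRec.ONRec X z L)
    (hAut : ∀ α : MulAut X, (∀ x ∈ L, α x = x) → ∃ k, α = MulAut.conj k)
    (hidx : (MulAut.conj : X →* MulAut X).range.index ≤ 2)
    (h0 : (MulAut.conj : X →* MulAut X).range.index ≠ 0) : LB X :=
  LB.of_pieces (endInner R) (endOuter R hAut) (endOdd hidx h0)

end X

end Cfsg.Agent.UGT.I34.ONBal
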