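import Cfsg.Agent.UGT.I34.KindA

/-!
# THEOREM I34, part [A]: coordinates of `L` in an `ONRec` group

`exists_coord`: coordinates over `PSL(3,4)` of `L` such that some element of `C(z)` outside `L` induces an automorphism
of type `(true, true)` (type `c`, unitary polarity).
-/

set_option autoImplicit false
set_option linter.dupNamespace false
set_option linter.constructorNameAsVariable false

open Cfsg Subgroup
open Cfsg.Agent.SporadicA.FieldFour
open Cfsg.Agent.ONType.Psl (PSL3 t kap)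
open Cfsg.Agent.ONType.Lift (CExt)
open Cfsg.Agent.ONType Cfsg.Agent.ONType.Data
open Cfsg.Agent.ONType.SFacts Cfsg.Agent.ONType.SChk Cfsg.Agent.ONType.SGroup
open Cfsg.Agent.ONType.OuterL (rv rv_ne rv_rv)
open Cfsg.Agent.UGT.Cov
open Cfsg.Agent.StdL34 (fr gty imgx Ty)
open Cfsg.Agent.OddHalf.D9.L34Mult (CE)

namespace Cfsg.Agent.UGT.I34.ONCoord

universe u

/-- coordinates with a given table -/
theorem exists_kc_of {M : Type*} [Group M] [Finite M] {π : M →* PSL3} (C : CExt π) (z : M)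
    (hker : π.ker = center M) (hcz : center M = zpowers z) (oz : orderOf z = 4)
    (hperf : commutator M = ⊤) (ty : Bool) (R : MRel C.x z C.h (gty ty)) :
    ∃ (A : StdL34.Cov M) (b : MulAut M →* MulAut PSL3), KC A π b ∧ A.x = C.x := by
  have hcen : ∀ k : M, (∀ m, k * m = m * k) → π k = 1 := by
    intro k hk
    have : k ∈ π.ker := by
      rw [hker, Subgroup.mem_center_iff]
      exact fun m => (hk m).symm
    exact this
  obtain ⟨A, hA, hAx⟩ := exists_cov_of' C z ty (hker.trans hcz) oz hperf R hcen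
  have hce : CE π := ⟨C.surj, C.cen⟩
  obtain ⟨b, hb⟩ := hce.exists_bar hcen
  refine ⟨A, b, ⟨⟨hce, hperf, ?_, hcen, hb⟩, ?_, hker, ?_, ?_⟩, hAx⟩
  · rw [hker]
    exact IsPGroup.of_card (n := 2) (by rw [hcz, Nat.card_zpowers, oz]; norm_num)
  · intro i j hij u
    rw [hAx]
    exact C.map_x i j hij u
  · rw [hA, hcz]
  · rw [hA, oz]

theorem exists_sdata' {C₀ : Type*} [Group C₀] [Finite C₀] (t : C₀) (ht : orderOf t = 2)
    (htc : ∀ c : C₀, c * t = t * c) (M : Subgroup C₀) [M.Normal] (hM : M.index = 2)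
    (hout : Subgroup.centralizer (M : Set C₀) ≤ M) (hZc : IsCyclic (Subgroup.center M))
    (hZ4 : Nat.card (Subgroup.center M) = 4) (hperf : commutator M = ⊤)
    (F : Type) [Field F] [Fintype F] (hF : Fintype.card F = 4)
    (e : M ⧸ Subgroup.center M ≃* Matrix.ProjectiveSpecialLinearGroup (Fin 3) F) :
    ∃ P ∈ pars, ∃ (x : Fin 3 → Fin 3 → F4 → C₀) (z h τ : C₀), SData P t M x z h τ ∧
      ∃ (A : StdL34.Cov M) (π : M →* PSL3) (b : MulAut M →* MulAut PSL3), KC A π b ∧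
        A.IsTau (P.fld, P.gr) (MulAut.conjNormal τ⁻¹) := by
  obtain ⟨π, C, z, τ, hker, hcz, oz, zz, τM, hR⟩ :=
    OuterZ.partA t ht htc M hM hout hZc hZ4 hperf F hF e
  have key : ∀ P ∈ pars, MRel C.x z C.h (gt P.two) →
      (∀ i j : Fin 3, i ≠ j → ∀ u : F4, τ⁻¹ * (C.x i j u : C₀) * τ =
      (if P.gr then (C.x (OuterL.rv j) (OuterL.rv i) (if P.fld then u * u else u) : C₀)
        else (C.x i j (if P.fld then u * u else u) : C₀))) →
      (τ⁻¹ * (z : C₀) * τ = if P.neg then (z : C₀)⁻¹ else z) → (τ * τ = (z : C₀) ^ P.q) →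
      ∃ P ∈ pars, ∃ (x : Fin 3 → Fin 3 → F4 → C₀) (z h τ : C₀), SData P t M x z h τ ∧
      ∃ (A : StdL34.Cov M) (π : M →* PSL3) (b : MulAut M →* MulAut PSL3), KC A π b ∧
        A.IsTau (P.fld, P.gr) (MulAut.conjNormal τ⁻¹) := by
    intro P hP R tx tz tt
    refine ⟨P, hP, _, _, _, _, sdata_of hM C hperf hker hcz oz zz τM R tx tz tt, ?_⟩
    have hg : gt P.two = gty P.two := by
      cases P.two <;> rfl
    rw [hg] at R
    obtain ⟨A, b, D, hA⟩ := exists_kc_of C z hker hcz oz hperf P.two R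
    refine ⟨A, π, b, D, ?_⟩
    intro i j hij u
    apply Subtype.ext
    rw [MulAut.conjNormal_apply, inv_inv, hA, tx i j hij u]
    unfold imgx
    have hfr : ∀ (e : Bool) (u : F4), (if e then u * u else u) = fr e u := by decide
    rw [hfr]
    split_ifs <;> rfl
  have e0 : ∀ y : C₀, y = 1 → y = (z : C₀) ^ 0 := fun y hy => by rw [pow_zero, hy]
  have e2 : ∀ y : C₀, y = t → y = (z : C₀) ^ 2 := fun y hy => by rw [pow_two, zz, hy]
  have e1 : ∀ y : C₀, y = (z : C₀) → y = (z : C₀) ^ 1 := fun y hy => by rw [pow_one, hy]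
  rcases hR with ⟨R, ⟨hs, tz, tt⟩ | ⟨hs, tz, tt⟩ | ⟨hs, tz, tt⟩⟩ |
    ⟨R, ⟨hs, tz, tt⟩ | ⟨hs, tz, tt⟩ | ⟨hs, tz, tt⟩⟩
  · rcases tt with tt | tt
    · exact key ⟨false, true, false, true, 0⟩ (by simp [pars]) R hs tz (e0 _ tt)
    · exact key ⟨false, true, false, true, 2⟩ (by simp [pars]) R hs tz (e2 _ tt)
  · rcases tt with tt | tt
    · exact key ⟨false, false, true, false, 0⟩ (by simp [pars]) R hs tz (e0 _ tt)
    · exact key ⟨false, false, true, false, 1⟩ (by simp [pars]) R hs tz (e1 _ tt)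
  · rcases tt with tt | tt
    · exact key ⟨false, true, true, true, 0⟩ (by simp [pars]) R hs tz (e0 _ tt)
    · exact key ⟨false, true, true, true, 2⟩ (by simp [pars]) R hs tz (e2 _ tt)
  · rcases tt with tt | tt
    · exact key ⟨true, true, false, false, 0⟩ (by simp [pars]) R hs tz (e0 _ tt)
    · exact key ⟨true, true, false, false, 1⟩ (by simp [pars]) R hs tz (e1 _ tt)
  · rcases tt with tt | tt
    · exact key ⟨true, false, true, true, 0⟩ (by simp [pars]) R hs tz (e0 _ tt)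
    · exact key ⟨true, false, true, true, 2⟩ (by simp [pars]) R hs tz (e2 _ tt)
  · rcases tt with tt | tt
    · exact key ⟨true, true, true, true, 0⟩ (by simp [pars]) R hs tz (e0 _ tt)
    · exact key ⟨true, true, true, true, 2⟩ (by simp [pars]) R hs tz (e2 _ tt)

variable {X : Type u} [Group X] [Finite X] {z : X} {L : Subgroup X}

/-- **Coordinates of `L`** such that some `c ∈ C(z)` outside `L` has type `(true, true)`. -/
theorem exists_coord (R : ONRec.ONRec X z L) :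
    ∃ (A : StdL34.Cov ↥L) (π : ↥L →* PSL3) (b : MulAut ↥L →* MulAut PSL3) (c : X) (γ : MulAut ↥L),
      KC A π b ∧ c * z = z * c ∧ c ∉ L ∧ A.HasTy γ (true, true) ∧
        ∀ l : ↥L, ((γ l : ↥L) : X) = c * l * c⁻¹ := by
  have := R.simple
  have := R.mrec.norm
  obtain ⟨F, _, _, hF, ⟨e⟩⟩ := R.mrec.psl
  obtain ⟨C₀, hC₀⟩ : ∃ C₀, C₀ = centralizer ({z} : Set X) := ⟨_, rfl⟩
  have htC : z ∈ centralizer ({z} : Set X) := mem_centralizer_singleton_iff.2 rfl
  have hord : orderOf (⟨z, htC⟩ : ↥(centralizer ({z} : Set X))) = 2 := by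
    rw [← R.ord]; exact Subgroup.orderOf_mk z htC
  have htc : ∀ c : ↥(centralizer ({z} : Set X)), c * ⟨z, htC⟩ = ⟨z, htC⟩ * c := fun c =>
    Subtype.ext (mem_centralizer_singleton_iff.1 c.2)
  obtain ⟨P, hP, x, ζ, h, τ, D, A, π, b, KD, hτ⟩ := exists_sdata'
    (⟨z, htC⟩ : ↥(centralizer ({z} : Set X))) hord htc _ R.mrec.idx R.mrec.cc R.mrec.cyc R.mrec.card
    R.mrec.perf F hF e
  obtain ⟨h1, -, -⟩ := Fusion.main D (centralizer ({z} : Set X)).subtype
    (Subgroup.subtype_injective _)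
    (fun y hy => ⟨⟨y, mem_centralizer_singleton_iff.2 hy⟩, rfl⟩) htc hP
  subst h1
  let E : ↥(L.subgroupOf (centralizer ({z} : Set X))) ≃* ↥L := subgroupOfEquivOfLe R.le
  let γ₀ : MulAut ↥(L.subgroupOf (centralizer ({z} : Set X))) := MulAut.conjNormal τ⁻¹
  refine ⟨At.mapCov E A, _, _, (τ : X)⁻¹, MulAut.congr E γ₀, KindA.kc_map KD E, ?_, ?_, ?_, ?_⟩
  · have h1 := mem_centralizer_singleton_iff.mp (τ⁻¹).2
    exact h1
  · intro h1
    apply D.τM
    have h2 := inv_mem h1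
    rw [inv_inv] at h2
    exact h2
  · refine StdL34.Cov.IsTau.hasTy ?_
    intro i j hij u
    change E (γ₀ (E.symm (E (A.x i j u)))) = _
    rw [E.symm_apply_apply, hτ i j hij u]
    exact (At.imgx_map E A _ i j u).symm
  · intro l
    change ((E (γ₀ (E.symm l)) : ↥L) : X) = _
    change ((γ₀ (E.symm l) : ↥(L.subgroupOf (centralizer ({z} : Set X)))) : X) = _
    rw [MulAut.conjNormal_apply]
    rfl

end Cfsg.Agent.UGT.I34.ONCoord
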