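import Cfsg.Agent.UGT.I34.ONTrans
import Cfsg.Agent.ONType.CzLoc

/-!
# Theorem I34, part [A]: the end of the O'Nan case

* `exists_rec` : `Sit.Frame n S T` gives a strongly embedded subgroup or a record `ONRec G z₀ L₀`;
* `onrec_of_loc` : the local data `OnLoc T F A` give a strongly embedded subgroup or `ONRec G z L`.
-/

set_option autoImplicit false

open Cfsg Subgroup
open Cfsg.Agent.SignalizersComponents
open Cfsg.Agent.Intrinsic.Basic
open Cfsg.Agent.UGT.I34.ONRec Cfsg.Agent.UGT.I34.ONTrans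

namespace Cfsg.Agent.UGT.I34.ONEnd

universe u

/-! ### the end -/

section frame

open Cfsg.Agent.ONType.Cz Cfsg.Agent.ONType Cfsg.Agent.TypeL3 Cfsg.Agent.Lib.FieldFour

variable {G : Type u} [Group G] [Finite G]

theorem mrec_of_xout {X : Type u} [Group X] [Finite X] {S : Sylow 2 X} {τ : ℤ → ℤ → ℤ → X} {x3 s : X}
    {Y : Subgroup X} (XO : XOut S τ x3 s Y) : MRec Y :=
  ⟨XO.normal, XO.idx, XO.cc, XO.cyc, XO.card, XO.perf, F4, inferInstance, inferInstance, F4.card, XO.psl⟩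

theorem rec_of_gIn [IsSimpleGroup G] {T : Subgroup G} {S : Sylow 2 G} {τ : ℤ → ℤ → ℤ → G}
    {x1 x2 x3 s ξ h : G} (D : GIn T S τ x1 x2 x3 s ξ h) : ∃ L₀, ONRec G (τ 2 2 2) L₀ := by
  have R := D.rel
  have hz2 : τ 2 2 2 * τ 2 2 2 = 1 := by rw [R.mul, R.one]; omega
  have hz1 : τ 2 2 2 ≠ 1 := by rw [Ne, R.one]; omega
  have hoz : orderOf (τ 2 2 2) = 2 := orderOf_eq_prime (by rw [pow_two]; exact hz2) hz1
  have hcore := D.core_eq_bot h1169 h1171 h1296 h0205 h1221
  have DI := D.toIn (H := centralizer ({τ 2 2 2} : Set G)) rfl D.S_le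
  have DX := DI.toX (MonoidHom.id _) Function.surjective_id (by
    rw [hcore]
    exact MonoidHom.ker_id)
  have XO := DX.xout h1169 h1171 h1296
  obtain ⟨M, hMR⟩ : ∃ M : Subgroup ↥(centralizer ({τ 2 2 2} : Set G)), MRec M := ⟨_, mrec_of_xout XO⟩
  refine ⟨M.map (centralizer ({τ 2 2 2} : Set G)).subtype, inferInstance, hoz, map_subtype_le _, ?_⟩
  rw [subgroupOf, comap_map_eq_self_of_injective (subtype_injective _)]
  exact hMR

/-- **`Frame` gives a strongly embedded subgroup or a record** -/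
theorem exists_rec [IsSimpleGroup G] {n : ℕ} {S : Sylow 2 G} {T : Subgroup G} (F : Sit.Frame n S T) :
    (∃ H : Subgroup G, Cfsg.IsStronglyEmbedded H) ∨ ∃ (z₀ : G) (L₀ : Subgroup G), ONRec G z₀ L₀ := by
  by_cases hns : ∃ a ∈ T, a * a = 1 ∧ a ≠ 1 ∧ ∃ g : G, g * a * g⁻¹ ∈ (S : Subgroup G) ∧ g * a * g⁻¹ ∉ T
  · obtain ⟨rfl, S', O, τ, x1, x2, x3, s, ξ, k, hS, hC⟩ := FusMain.main F hns
    obtain ⟨L₀, hL⟩ := rec_of_gIn (gIn_of_sit hS hC)
    exact Or.inr ⟨_, L₀, hL⟩
  · left
    push Not at hns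
    let A : Subgroup G :=
      { carrier := {t | t ∈ T ∧ t * t = 1}
        one_mem' := ⟨one_mem _, one_mul _⟩
        mul_mem' := by
          rintro a b ⟨ha, ha2⟩ ⟨hb, hb2⟩
          refine ⟨mul_mem ha hb, ?_⟩
          rw [show a * b * (a * b) = a * (b * a) * b by group, F.comm b hb a ha,
            show a * (a * b) * b = (a * a) * (b * b) by group, ha2, hb2, one_mul]
        inv_mem' := by
          rintro a ⟨ha, ha2⟩
          refine ⟨inv_mem ha, ?_⟩
          rw [← mul_inv_rev, ha2, inv_one] }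
    have hA : ∀ g, g ∈ A ↔ g ∈ T ∧ g * g = 1 := fun g => Iff.rfl
    obtain ⟨y, hy, hyT, hy2⟩ := F.inv
    have hnc : ¬ IsMulCommutative (S : Subgroup G) := by
      rintro ⟨⟨hc⟩⟩
      apply hyT
      refine F.self y hy (fun t ht _ => ?_)
      exact congrArg Subtype.val (hc ⟨y, hy⟩ ⟨t, F.le ht⟩)
    have hAne : A ≠ ⊥ := by
      have h2 : 2 ∣ Nat.card T := by
        rw [F.card]
        have := F.hn
        exact dvd_pow (by norm_num) (by omega)
      obtain ⟨t, ht⟩ := exists_prime_orderOf_dvd_card' (p := 2) h2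
      intro h0
      have h3 : (t : G) ∈ A := by
        refine (hA _).2 ⟨t.2, ?_⟩
        have h4 := pow_orderOf_eq_one t
        rw [ht, pow_two] at h4
        exact congrArg Subtype.val h4
      rw [h0, mem_bot] at h3
      have h5 : t = 1 := Subtype.ext h3
      rw [h5, orderOf_one] at ht
      exact absurd ht (by norm_num)
    have hAc : IsMulCommutative A := ⟨⟨fun a b => Subtype.ext (F.comm a a.2.1 b b.2.1)⟩⟩
    have hcl : Cfsg.IsStronglyClosed A (S : Subgroup G) := by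
      refine ⟨fun a ha => F.le ha.1, ?_⟩
      intro a ha g hg
      refine (hA _).2 ⟨?_, ?_⟩
      · rcases eq_or_ne a 1 with rfl | ha1
        · rw [mul_one, mul_inv_cancel]
          exact one_mem _
        · exact hns a ha.1 ha.2 ha1 g hg
      · rw [show g * a * g⁻¹ * (g * a * g⁻¹) = g * (a * a) * g⁻¹ by group, ha.2]
        group
    exact (h1169 G S A hAne hAc hcl).resolve_left hnc

end frame

/-- **The end of (5.5).** -/
theorem onrec_of_loc {G : Type u} [Group G] [Finite G] [IsSimpleGroup G] {T : Sylow 2 G} {F A : Subgroup G}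
    (h : Cfsg.Agent.ONType.Loc.OnLoc T F A) {z : G} {L : Subgroup G} (hz : orderOf z = 2)
    (hL : IsComp (centralizer ({z} : Set G)) L) :
    (∃ H : Subgroup G, Cfsg.IsStronglyEmbedded H) ∨ ONRec G z L := by
  rcases exists_rec h.frame with h1 | ⟨z₀, L₀, h1⟩
  · exact Or.inl h1
  · exact Or.inr (of_comp h1 hz hL)

end Cfsg.Agent.UGT.I34.ONEnd
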