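import Cfsg.Agent.UGT.I34.ONRec
import Cfsg.Agent.Intrinsic.Basic
import Cfsg.Agent.S0249
import Cfsg.Agent.SignalizersComponents.EvenComponent

/-!
# Theorem I34, part [A]: transport of the record `ONRec`

* `mrec_map`, `rec_cj`, `isComp_rec`;
* `of_comp` : if `ONRec G z₀ L₀` then `ONRec G z L` for every involution `z` and every 2-component `L` of `C(z)`.
-/

set_option autoImplicit false

open Cfsg Subgroup
open Cfsg.Agent.SignalizersComponents
open Cfsg.Agent.SignalizersComponents.IntrinsicBasic
open Cfsg.Agent.Intrinsic.Basic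
open Cfsg.Agent.UGT.I34.ONRec

namespace Cfsg.Agent.UGT.I34.ONTrans

universe u

/-! ### transport of the record -/

section transport

variable {A B : Type u} [Group A] [Group B]

theorem commutator_top_of_surjective {X Y : Type*} [Group X] [Group Y] (f : X →* Y)
    (hf : Function.Surjective f) (h : commutator X = ⊤) : commutator Y = ⊤ := by
  rw [_root_.commutator_def] at h ⊢
  have h1 : (⊤ : Subgroup X).map f = ⊤ := by
    rw [← MonoidHom.range_eq_map, MonoidHom.range_eq_top.mpr hf]
  have h2 := congrArg (Subgroup.map f) h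
  rwa [map_commutator, h1] at h2

theorem mrec_map (e : A ≃* B) {M : Subgroup A} (h : MRec M) : MRec (M.map e.toMonoidHom) := by
  have hn := h.norm
  let f : ↥M ≃* ↥(M.map e.toMonoidHom) := M.equivMapOfInjective e.toMonoidHom e.injective
  have hcy := h.cyc
  refine
    { norm := Subgroup.Normal.map hn _ e.surjective
      idx := ?_
      cc := ?_
      cyc := isCyclic_of_surjective (centerCongr f) (centerCongr f).surjective
      card := by rw [← h.card]; exact Nat.card_congr (centerCongr f).symm.toEquiv
      perf := commutator_top_of_surjective f.toMonoidHom f.surjective h.perf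
      psl := ?_ }
  · rw [← h.idx]
    exact Subgroup.index_map_equiv M e
  · intro x hx
    refine ⟨e.symm x, h.cc ?_, e.apply_symm_apply x⟩
    rw [mem_centralizer_iff] at hx ⊢
    intro m hm
    apply e.injective
    rw [map_mul, map_mul, e.apply_symm_apply]
    exact hx (e m) ⟨m, hm, rfl⟩
  · obtain ⟨F, i, j, hF, ⟨a⟩⟩ := h.psl
    refine ⟨F, i, j, hF, ⟨(QuotientGroup.congr _ _ f ?_).symm.trans a⟩⟩
    ext x
    constructor
    · rintro ⟨y, hy, rfl⟩
      rw [mem_center_iff]
      intro w
      obtain ⟨w, rfl⟩ := f.surjective w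
      change f w * f y = f y * f w
      rw [← map_mul, ← map_mul, mem_center_iff.mp hy w]
    · intro hx
      obtain ⟨y, rfl⟩ := f.surjective x
      refine ⟨y, ?_, rfl⟩
      rw [SetLike.mem_coe, mem_center_iff]
      intro w
      apply f.injective
      rw [map_mul, map_mul, mem_center_iff.mp hx (f w)]

end transport

section

variable {X : Type u} [Group X]

/-- conjugation `C(z) ≃* C(g z g⁻¹)` -/
noncomputable def conjC (z g z' : X) (h : g * z * g⁻¹ = z') :
    ↥(centralizer ({z} : Set X)) ≃* ↥(centralizer ({z'} : Set X)) :=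
  ((centralizer ({z} : Set X)).equivMapOfInjective (MulAut.conj g).toMonoidHom (MulAut.conj g).injective).trans
    (MulEquiv.subgroupCongr (by
      have := cj_centralizer g z
      rw [h] at this
      exact this))

theorem conjC_coe {z g z' : X} (h : g * z * g⁻¹ = z') (x : ↥(centralizer ({z} : Set X))) :
    (conjC z g z' h x : X) = g * x * g⁻¹ := rfl

theorem rec_cj {z : X} {L : Subgroup X} (h : ONRec X z L) {g z' : X} (hg : g * z * g⁻¹ = z') :
    ONRec X z' (cj g L) := by
  have hC : cj g (centralizer ({z} : Set X)) = centralizer ({z'} : Set X) := by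
    rw [cj_centralizer, hg]
  refine ⟨h.simple, ?_, ?_, ?_⟩
  · rw [← hg, ← h.ord]
    exact orderOf_injective (MulAut.conj g).toMonoidHom (MulAut.conj g).injective z
  · rw [← hC]
    exact cj_mono h.le
  · have h1 := mrec_map (conjC z g z' hg) h.mrec
    convert h1 using 1
    ext ⟨x, hx⟩
    rw [mem_subgroupOf]
    constructor
    · rintro ⟨y, hy, hyx⟩
      refine ⟨⟨y, h.le hy⟩, mem_subgroupOf.mpr hy, ?_⟩
      apply Subtype.ext
      exact hyx
    · rintro ⟨y, hy, hyx⟩
      exact ⟨y, mem_subgroupOf.mp hy, congrArg Subtype.val hyx⟩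

variable [Finite X]

/-- the subgroup `L` of a record is a 2-component of `C(z)` -/
theorem isComp_rec {z : X} {L : Subgroup X} (h : ONRec X z L) : IsComp (centralizer ({z} : Set X)) L := by
  have h2 : Fact (Nat.Prime 2) := ⟨Nat.prime_two⟩
  have hn := h.mrec.norm
  have hq : IsQuasisimple ↥(L.subgroupOf (centralizer ({z} : Set X))) := by
    refine ⟨⟨h.mrec.perf⟩, ?_⟩
    obtain ⟨F, i, j, hF, ⟨e⟩⟩ := h.mrec.psl
    have hs : IsSimpleGroup (Matrix.ProjectiveSpecialLinearGroup (Fin 3) F) :=
      Cfsg.Agent.S0249.result 3 le_rfl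
    have : Nontrivial (↥(L.subgroupOf (centralizer ({z} : Set X))) ⧸ center _) :=
      e.toEquiv.nontrivial
    exact IsSimpleGroup.isSimpleGroup_of_surjective e.symm.toMonoidHom e.symm.surjective
  have hc : IsComponent (L.subgroupOf (centralizer ({z} : Set X))) := ⟨hn.isSubnormal, hq⟩
  have hd : 2 ∣ Nat.card ↥(L.subgroupOf (centralizer ({z} : Set X))) := by
    refine dvd_trans ?_ (Subgroup.card_subgroup_dvd_card (center _))
    rw [h.mrec.card]
    norm_num
  have h3 := isComp_of_subtype (EvenComponent.isPComponent_of_isComponent hc hd)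
  rwa [map_subgroupOf_eq_of_le h.le] at h3

/-- **transport to any involution and any 2-component of its centralizer** -/
theorem of_comp {z₀ : X} {L₀ : Subgroup X} (h : ONRec X z₀ L₀) {z : X} {L : Subgroup X}
    (hz : orderOf z = 2) (hL : IsComp (centralizer ({z} : Set X)) L) : ONRec X z L := by
  have hz2 : z * z = 1 := by rw [← pow_two, ← hz, pow_orderOf_eq_one]
  have hz1 : z ≠ 1 := by
    rintro rfl
    simp at hz
  obtain ⟨g, hg⟩ := one_class h hz2 hz1
  have h1 := rec_cj h hg
  have hc := isComp_rec h1
  have hle : L ≤ cj g L₀ := by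
    have hn := h1.mrec.norm
    have hcard : Nat.card (↥(centralizer ({z} : Set X)) ⧸ (cj g L₀).subgroupOf (centralizer ({z} : Set X))) = 2 :=
      h1.mrec.idx
    have hab : commutator ↥(centralizer ({z} : Set X)) ≤ (cj g L₀).subgroupOf (centralizer ({z} : Set X)) := by
      have : Fact (Nat.Prime 2) := ⟨Nat.prime_two⟩
      have hcy := isCyclic_of_prime_card hcard
      rw [_root_.commutator_def, Subgroup.commutator_le]
      intro a _ b _
      rw [← QuotientGroup.eq_one_iff]
      obtain ⟨f, hf⟩ : ∃ f, f = QuotientGroup.mk' ((cj g L₀).subgroupOf (centralizer ({z} : Set X))) := ⟨_, rfl⟩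
      have e : f (a * b * a⁻¹ * b⁻¹) = 1 := by
        have h5 : f a * f b = f b * f a := hcy.isMulCommutative.is_comm.comm _ _
        rw [map_mul, map_mul, map_mul, map_inv, map_inv, h5]
        group
      rw [hf] at e
      exact e
    intro x hx
    rw [← hL.perfect] at hx
    have h3 : ⁅L, L⁆ ≤ (commutator ↥(centralizer ({z} : Set X))).map (centralizer ({z} : Set X)).subtype := by
      rw [_root_.commutator_def, Subgroup.map_commutator]
      have h4 : (⊤ : Subgroup ↥(centralizer ({z} : Set X))).map (centralizer ({z} : Set X)).subtype =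
          centralizer ({z} : Set X) := by
        rw [← MonoidHom.range_eq_map, range_subtype]
      rw [h4]
      exact Subgroup.commutator_mono hL.le hL.le
    obtain ⟨y, hy, rfl⟩ := h3 hx
    exact mem_subgroupOf.mp (hab hy)
  rw [hL.eq_of_le hc hle]
  exact h1

end

end Cfsg.Agent.UGT.I34.ONTrans
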