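import Cfsg.Agent.StdL34.Facts

/-!
# THEOREM I34, part [A], (5.5), second half: facts on codes

Finite facts on the codes of `StdL34` (of the Sylow 2-subgroup of `4₁.L₃(4)`, `ty = true`).
-/

set_option autoImplicit false
set_option linter.constructorNameAsVariable false

open Cfsg.Agent.StdL34 Cfsg.Agent.SporadicA.FieldFour

namespace Cfsg.Agent.UGT.I34.OnT

/-! ### codes -/

/-- the codes of the elements of `⟨u⟩` -/
def tw (b : Bool) : Fin 4 := if b then 2 else 0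

theorem F_mul : ∀ c c' b b', cmul true ⟨0, 0, c, tw b⟩ ⟨0, 0, c', tw b'⟩ = ⟨0, 0, c + c', tw (xor b b')⟩ := by
  decide +kernel

theorem tw_inj : ∀ b b', tw b = tw b' → b = b' := by decide

theorem F_sq : ∀ c b, cmul true ⟨0, 0, c, tw b⟩ ⟨0, 0, c, tw b⟩ = cone := by decide +kernel

theorem k_cases : ∀ k : Fin 4, (k = 0 ∨ k = 2) → ∃ b, k = tw b := by decide

theorem A_comm : ∀ a c k a' c' k', cmul true ⟨a, a, c, k⟩ ⟨a', a', c', k'⟩ = cmul true ⟨a', a', c', k'⟩ ⟨a, a, c, k⟩ := by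
  decide +kernel

theorem A_exp : ∀ a c k, cmul true (cmul true ⟨a, a, c, k⟩ ⟨a, a, c, k⟩) (cmul true ⟨a, a, c, k⟩ ⟨a, a, c, k⟩) = cone := by
  decide +kernel

theorem A_inv : ∀ a c k, cmul true ⟨a, a, c, k⟩ ⟨a, a, c, k⟩ = cone → a = 0 ∧ (k = 0 ∨ k = 2) := by decide +kernel

theorem C_F : ∀ p, cmul true p ⟨0, 0, 1, 0⟩ = cmul true ⟨0, 0, 1, 0⟩ p →
    cmul true p ⟨0, 0, F4.w, 0⟩ = cmul true ⟨0, 0, F4.w, 0⟩ p → p.a = p.b := by decide +kernel

theorem act_F : ∀ (τ : Ty) p, cact true p τ ⟨0, 0, 1, 0⟩ = ⟨0, 0, 1, 0⟩ →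
    cact true p τ ⟨0, 0, F4.w, 0⟩ = ⟨0, 0, F4.w, 0⟩ → τ.1 = false := by decide +kernel

theorem norm_F : ∀ (τ : Ty) p c b, (cact true p τ ⟨0, 0, c, tw b⟩).a = 0 ∧ (cact true p τ ⟨0, 0, c, tw b⟩).b = 0 ∧
    ((cact true p τ ⟨0, 0, c, tw b⟩).k = 0 ∨ (cact true p τ ⟨0, 0, c, tw b⟩).k = 2) := by decide +kernel

theorem ctau_ctau : ∀ (τ ρ : Ty) y, ctau true τ (ctau true ρ y) = ctau true (τ.mul ρ) y := by decide +kernel

theorem ctau_id : ∀ y, ctau true (false, false) y = y := by decide +kernel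

theorem ty_uniq : ∀ (τ : Ty) p, cmul true (cmul true p ⟨0, 0, F4.w, 0⟩) (cinv true p) = ctau true τ ⟨0, 0, F4.w, 0⟩ →
    cmul true (cmul true p ⟨1, 0, 0, 0⟩) (cinv true p) = ctau true τ ⟨1, 0, 0, 0⟩ → τ = (false, false) := by
  decide +kernel

theorem g_F : ∀ c b, ctau true (false, true) ⟨0, 0, c, tw b⟩ = ⟨0, 0, c, tw b⟩ := by decide +kernel

theorem g_A : ∀ a c k, ctau true (false, true) ⟨a, a, c, k⟩ = cinv true ⟨a, a, c, k⟩ := by decide +kernel

theorem g_Z : ∀ k, ctau true (false, true) ⟨0, 0, 0, k⟩ = ⟨0, 0, 0, k⟩ → k = 0 ∨ k = 2 := by decide +kernel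

theorem Z_comm : ∀ k y, cmul true ⟨0, 0, 0, k⟩ y = cmul true y ⟨0, 0, 0, k⟩ := by decide +kernel

theorem c_pow : ctau true (true, true) ⟨F4.w, F4.v, F4.w, 1⟩ = cmul true ⟨F4.w, F4.v, F4.w, 1⟩ ⟨0, 0, 0, 1⟩ := by
  decide +kernel

theorem Z_mul : ∀ k l, cmul true ⟨0, 0, 0, k⟩ ⟨0, 0, 0, l⟩ = ⟨0, 0, 0, k + l⟩ := by decide +kernel

theorem nk_mul : ∀ p, p = cmul true (nk p) ⟨0, 0, 0, p.k⟩ := by decide +kernel

theorem cz_flip : ∀ (τ : Ty) p, cz (cmul true (cinv true p) (ctau true τ (cinv true p))) →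
    cz (cmul true (ctau true τ ⟨p.a, p.b, p.c, 0⟩) ⟨p.a, p.b, p.c, 0⟩) := by decide +kernel

theorem cmul_one : ∀ p, cmul true p cone = p := by decide +kernel

theorem one_cmul : ∀ p, cmul true cone p = p := by decide +kernel

/-- the fixed involutions of `c` -/
def cfix : Finset Code := {⟨0, 0, 0, 0⟩, ⟨0, 0, 0, 2⟩, ⟨0, 0, 1, 0⟩, ⟨0, 0, 1, 2⟩}

theorem mem_cfix : ∀ p, ctau true (true, true) p = p → cmul true p p = cone → p ∈ cfix := by decide +kernel

theorem card_cfix : cfix.card = 4 := by decide +kernel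

instance : Fintype Code := Fintype.ofEquiv (F4 × F4 × F4 × Fin 4)
  { toFun := fun t => ⟨t.1, t.2.1, t.2.2.1, t.2.2.2⟩
    invFun := fun p => (p.a, p.b, p.c, p.k)
    left_inv := fun _ => rfl
    right_inv := fun _ => rfl }

theorem card_code : Nat.card Code = 256 := by
  rw [Nat.card_eq_fintype_card]; decide +kernel

set_option maxRecDepth 100000 in
theorem card_two : ∀ p, cmul true p p = cone → ¬ (p.a = 0 ∧ p.b = 0) → ∀ q, cmul true q q = cone →
    cmul true q p = cmul true p q → ¬ (q.a = 0 ∧ q.b = 0) → ¬ (q.a = p.a ∧ q.b = p.b) →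
    (Finset.univ.filter fun r => cmul true r r = cone ∧ cmul true r p = cmul true p r ∧
      cmul true r q = cmul true q r).card ≤ 8 := by decide +kernel

set_option maxRecDepth 100000 in
theorem card_one : ∀ p, cmul true p p = cone → ¬ (p.a = 0 ∧ p.b = 0) →
    (Finset.univ.filter fun r => cmul true r r = cone ∧ cmul true r p = cmul true p r ∧
      ((r.a = 0 ∧ r.b = 0) ∨ (r.a = p.a ∧ r.b = p.b))).card ≤ 8 := by decide +kernel

set_option maxRecDepth 100000 in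
theorem card_zero : (Finset.univ.filter fun r : Code => cmul true r r = cone ∧ r.a = 0 ∧ r.b = 0).card ≤ 8 := by
  decide +kernel

end Cfsg.Agent.UGT.I34.OnT
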