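import Cfsg.Agent.UGT.Cov.KFPure
import Cfsg.Agent.UGT.Cov.ROut
import Cfsg.Agent.StdL34.Inv2

/-!
# THEOREM I34, part [A], (5.5): facts on one Sylow 2-subgroup of `4₁.L₃(4)` in coordinates
-/

set_option autoImplicit false
set_option linter.constructorNameAsVariable false

namespace Cfsg.Agent.UGT.I34.OnSupK

open Cfsg.Agent.SporadicA.FieldFour Cfsg.Agent.StdL34 Subgroup
open Cfsg.Agent.UGT.Cov.FourK
open Cfsg.Agent.UGT.Cov.KFPure (Y_eq cen_sp sp_mem t_NInv exists_cov_t el_mem_cen)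
open Cfsg.Agent.UGT.I34.KF (NInv Y mem_Y)
open scoped commutatorElement

variable {L : Type*} [Group L] (A : StdL34.Cov L)

theorem center_eq : center L = zpowers A.s := by
  apply le_antisymm
  · intro l hl
    have h1 : MulAut.conj l = 1 := by
      apply MulEquiv.ext
      intro y
      rw [MulAut.conj_apply, MulAut.one_apply, ← mem_center_iff.mp hl y, mul_inv_cancel_right]
    obtain ⟨k, rfl⟩ := Cov.conj_eq_one (A := A) h1
    exact pow_mem (mem_zpowers _) _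
  · rw [zpowers_le, mem_center_iff]
    exact fun g => (A.s_cen g).symm

theorem sp_inj {k l : Fin 4} (h : A.sp k = A.sp l) : k = l := by
  rw [← A.el_sp, ← A.el_sp] at h
  exact congrArg Code.k (A.inj h)

theorem orderOf_s : orderOf A.s = 4 := by
  have h1 : orderOf A.s ∣ 4 := orderOf_dvd_of_pow_eq_one A.s_pow
  have h2 : A.s ^ 2 ≠ 1 := by
    intro h
    have : A.sp 2 = A.sp 0 := by rw [A.sp_zero]; exact h
    exact absurd (sp_inj A this) (by decide)
  have h3 : orderOf A.s ≤ 4 := Nat.le_of_dvd (by norm_num) h1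
  have h4 : orderOf A.s ≠ 0 := fun h => by rw [h] at h1; omega
  interval_cases h : orderOf A.s
  · omega
  · exact absurd (by rw [orderOf_eq_one_iff.mp h, one_pow]) h2
  · exact absurd (h ▸ pow_orderOf_eq_one A.s) h2
  · omega
  · rfl

theorem card_T : Nat.card A.T = 256 := by
  have h1 : Nat.card A.T = Nat.card Code := by
    symm
    refine Nat.card_congr (Equiv.ofBijective (fun p => (⟨A.el p, A.el_mem p⟩ : A.T)) ⟨?_, ?_⟩)
    · intro p q h
      exact A.inj (congrArg Subtype.val h)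
    · rintro ⟨_, p, rfl⟩
      exact ⟨p, rfl⟩
  rw [h1, Nat.card_eq_fintype_card]
  decide +kernel

theorem z_sq : A.z * A.z = 1 := by
  rw [A.z_eq, A.sp_add]
  exact A.sp_zero

theorem z_ne : A.z ≠ 1 := by
  rw [A.z_eq]
  intro h
  have : A.sp 2 = A.sp 0 := by rw [A.sp_zero]; exact h
  exact absurd (sp_inj A this) (by decide)

theorem z_cen (m : L) : A.z * m = m * A.z := by rw [A.z_eq]; exact A.sp_cen 2 m

/-- the only central involution -/
theorem sp_sq {k : Fin 4} (h : A.sp k * A.sp k = 1) : A.sp k = 1 ∨ A.sp k = A.z := by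
  rw [A.sp_add, ← A.sp_zero] at h
  have h1 := sp_inj A h
  have h2 : ∀ k : Fin 4, k + k = 0 → k = 0 ∨ k = 2 := by decide
  replace h2 := h2 k h1
  rcases h2 with rfl | rfl
  · left; exact A.sp_zero
  · right; exact A.z_eq.symm

theorem cen_inv {c : L} (hc : c ∈ center L) (h : c * c = 1) : c = 1 ∨ c = A.z := by
  obtain ⟨k, rfl⟩ := cen_sp A (center_eq A) hc
  exact sp_sq A h

theorem t_not_cen : t A ∉ center L := (t_NInv A (center_eq A)).2

theorem swap_code : ∀ ty, cmul ty (cmul ty ⟨F4.w, 0, 0, 0⟩ ct) (cinv ty ⟨F4.w, 0, 0, 0⟩) = cmul ty ct ⟨0, 0, 0, 2⟩ := by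
  decide +kernel

theorem swap_t : A.x 0 1 F4.w * t A * (A.x 0 1 F4.w)⁻¹ = t A * A.z := by
  rw [t_eq, ← A.el_x01, A.el_inv, A.el_mul, A.el_mul, swap_code, A.z_eq, ← A.el_sp, A.el_mul]

theorem mem_T_of {x : L} (hx : x * t A * x⁻¹ = t A ∨ x * t A * x⁻¹ = t A * A.z) : x ∈ A.T := by
  have key : ∀ y : L, y * t A * y⁻¹ = t A → y ∈ A.T := by
    intro y hy
    exact S_le_T A ((mem_S A).2 (mul_inv_eq_iff_eq_mul.mp hy))
  rcases hx with hx | hx
  · exact key x hx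
  · have h1 := swap_t A
    have h2 : (A.x 0 1 F4.w)⁻¹ * x ∈ A.T := by
      apply key
      have e : (A.x 0 1 F4.w)⁻¹ * x * t A * ((A.x 0 1 F4.w)⁻¹ * x)⁻¹ =
          (A.x 0 1 F4.w)⁻¹ * (x * t A * x⁻¹) * A.x 0 1 F4.w := by group
      rw [e, hx, ← h1]; group
    have h3 : A.x 0 1 F4.w ∈ A.T := by rw [← A.el_x01]; exact A.el_mem _
    have := mul_mem h3 h2
    rwa [mul_inv_cancel_left] at this

theorem eq_T {P : Subgroup L} (hP : Nat.card P = 256)
    (h : ∀ p ∈ P, p * t A * p⁻¹ = t A ∨ p * t A * p⁻¹ = t A * A.z) : P = A.T := by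
  have h1 : P ≤ A.T := fun p hp => mem_T_of A (h p hp)
  have hf : Finite A.T := Nat.finite_of_card_ne_zero (by rw [card_T]; norm_num)
  exact Subgroup.eq_of_le_of_card_ge h1 (by rw [hP, card_T])

theorem F_code : ∀ ty p, cmul ty p p = cone → (∀ q ∈ ([⟨1, 0, 0, 0⟩, ⟨F4.w, 0, 0, 0⟩, ⟨0, 1, 0, 0⟩, ⟨0, F4.w, 0, 0⟩] : List Code),
    cc ty p q = cone ∨ cc ty p q = ⟨0, 0, 0, 2⟩) → fk p := by decide +kernel

theorem F_code' : ∀ ty c k a b c', fk ⟨0, 0, c, k⟩ → cc ty ⟨0, 0, c, k⟩ ⟨a, b, c', 0⟩ = cone ∨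
    cc ty ⟨0, 0, c, k⟩ ⟨a, b, c', 0⟩ = ⟨0, 0, 0, 2⟩ := by decide +kernel

theorem el_two : A.el ⟨0, 0, 0, 2⟩ = A.z := by rw [A.el_sp, A.z_eq]

theorem cc_nk_right (ty : Bool) (p q : Code) : cc ty p q = cc ty p (nk q) := by
  rw [cc_nk, cc_nk ty p (nk q)]; rfl

theorem F_comm {w p : L} (hw : w ∈ F A) (hp : p ∈ A.T) : ⁅w, p⁆ = 1 ∨ ⁅w, p⁆ = A.z := by
  obtain ⟨q, hq, rfl⟩ := hw
  obtain ⟨p, rfl⟩ := hp
  rw [el_cc, cc_nk_right, ← A.el_one, ← el_two A]
  obtain ⟨a, b, c, k⟩ := q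
  obtain ⟨a', b', c', k'⟩ := p
  obtain ⟨h1, h2, -⟩ := id hq
  simp only at h1 h2
  subst h1 h2
  rcases F_code' A.ty c k a' b' c' hq with h | h
  · left; exact congrArg A.el h
  · right; exact congrArg A.el h

theorem F_sq {w : L} (hw : w ∈ F A) : w * w = 1 := by
  obtain ⟨q, hq, rfl⟩ := hw
  rw [A.el_mul, ← A.el_one]
  exact congrArg A.el ((inv_yk A.ty q ⟨hq.1, hq.2.1⟩).2 hq)

theorem F_of {w : L} (hw : w ∈ A.T) (h2 : w * w = 1) (h : ∀ p ∈ A.T, ⁅w, p⁆ = 1 ∨ ⁅w, p⁆ = A.z) : w ∈ F A := by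
  obtain ⟨p, rfl⟩ := hw
  refine (el_mem_sub A).2 (F_code A.ty p ?_ ?_)
  · apply A.inj
    rw [← A.el_mul, h2, A.el_one]
  · intro q _
    have h3 := h (A.el q) (A.el_mem q)
    rw [el_cc, ← A.el_one, ← el_two A] at h3
    rcases h3 with h3 | h3
    · left; exact A.inj h3
    · right; exact A.inj h3

theorem F_iff_Y {w : L} : w ∈ F A ↔ w * w = 1 ∧ w ∈ Y (t A) := by
  rw [Y_eq A (center_eq A)]
  constructor
  · exact fun h => ⟨F_sq A h, F_le_YS A h⟩
  · rintro ⟨h, p, hp, rfl⟩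
    refine (el_mem_sub A).2 ((inv_yk A.ty p hp).1 ?_)
    apply A.inj
    rw [← A.el_mul, h, A.el_one]

/-- **(9)** a subgroup of order 256 containing `C(t)` -/
theorem conj_t_of {P : Subgroup L} (hP : Nat.card P = 256) (hS : S A ≤ P) :
    ∀ p ∈ P, p * t A * p⁻¹ = t A ∨ p * t A * p⁻¹ = t A * A.z := by
  intro p hp
  have hf : Finite P := Nat.finite_of_card_ne_zero (by rw [hP]; norm_num)
  have hidx : ((S A).subgroupOf P).index = 2 := by
    have h1 : Nat.card ((S A).subgroupOf P) = 128 := by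
      rw [← card_S A]; exact Nat.card_congr (subgroupOfEquivOfLe hS).toEquiv
    have h2 := ((S A).subgroupOf P).card_mul_index
    rw [h1, hP] at h2
    omega
  have hn : ((S A).subgroupOf P).Normal := Subgroup.normal_of_index_eq_two hidx
  have h1 : ∀ y ∈ S A, p⁻¹ * y * p ∈ S A := by
    intro y hy
    have := hn.conj_mem ⟨y, hS hy⟩ hy ⟨p⁻¹, inv_mem hp⟩
    have h2 : p⁻¹ * y * p⁻¹⁻¹ ∈ S A := this
    rwa [inv_inv] at h2
  have h2 : ∀ y ∈ S A, p * t A * p⁻¹ * y = y * (p * t A * p⁻¹) := by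
    intro y hy
    have h3 := (mem_S A).1 (h1 y hy)
    calc p * t A * p⁻¹ * y = p * (t A * (p⁻¹ * y * p)) * p⁻¹ := by group
      _ = p * (p⁻¹ * y * p * t A) * p⁻¹ := by rw [h3]
      _ = y * (p * t A * p⁻¹) := by group
  have h3 : p * t A * p⁻¹ ∈ S A := (mem_S A).2 (h2 _ (t_mem_S A))
  have h4 : p * t A * p⁻¹ * (p * t A * p⁻¹) = 1 := by
    calc p * t A * p⁻¹ * (p * t A * p⁻¹) = p * (t A * t A) * p⁻¹ := by group
      _ = 1 := by rw [t_sq]; group
  obtain ⟨k, h5 | h5⟩ := center_S A h3 h2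
  · exfalso
    apply t_not_cen A
    have : t A = p⁻¹ * A.sp k * p := by rw [← h5]; group
    rw [this, mul_assoc, A.sp_cen, inv_mul_cancel_left]
    exact sp_mem A k
  · rw [h5] at h4 ⊢
    have h6 : A.sp k * A.sp k = 1 := by
      calc A.sp k * A.sp k = (t A * t A) * (A.sp k * A.sp k) := by rw [t_sq, one_mul]
        _ = t A * (t A * A.sp k) * A.sp k := by group
        _ = t A * (A.sp k * t A) * A.sp k := by rw [A.sp_cen]
        _ = t A * A.sp k * (t A * A.sp k) := by group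
        _ = 1 := h4
    rcases sp_sq A h6 with h | h
    · left; rw [h, mul_one]
    · right; rw [h]

/-- `C(t)` contains an involution not commuting with `F` -/
theorem moved' : ∃ s w, s * t A = t A * s ∧ s * s = 1 ∧ w ∈ F A ∧ s * w ≠ w * s := by
  refine ⟨A.x 0 1 1, A.x 0 2 F4.w, ?_, A.x_sq 0 1 (by decide) _, ?_, ?_⟩
  · rw [← mem_S, ← A.el_x01, el_mem_S]; decide
  · rw [← A.el_x02]
    exact (el_mem_sub A).2 (by decide)
  · rw [← A.el_x01, ← A.el_x02, A.el_mul, A.el_mul]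
    intro h
    have := A.inj h
    revert this
    generalize A.ty = ty
    revert ty
    decide +kernel

end Cfsg.Agent.UGT.I34.OnSupK
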