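import Cfsg.Agent.McLLyComp.Act
import Cfsg.Agent.LFourB.RelExt
import Cfsg.Agent.UGT.I34.OnSupK

/-!
# THEOREM I34, part [A], (5.5), second half: the group side, basics

`bar X x`: the image of `x` in `X / O(X)`. `Wd D L`: the world (W1) without big elements, `4₁`.

* `Wd.inn`: a 2-element of `C(u)` inducing an inner automorphism of `L u / O(L u)` lies in `L u`
* `Wd.sq_mem`: squares of 2-elements of `C(u)` lie in `L u`
* `Wd.surjC`: `R` Sylow in `C(u, t)` covers `C(t̄)`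
-/

set_option autoImplicit false

open Cfsg Subgroup
open Cfsg.Agent.SignalizersComponents Cfsg.Agent.Lib
open Cfsg.Agent.SignalizersComponents.IntrinsicBasic
open Cfsg.Agent.SignalizersComponents.PLayerAut
open Cfsg.Agent.Intrinsic
open Cfsg.Agent.Intrinsic.Basic
open Cfsg.Agent.McLLyComp.Act
open Cfsg.Agent.Lib.GoldschmidtFusion (exists_sylow_in exists_conj_le_in)
open scoped commutatorElement

namespace Cfsg.Agent.UGT.I34.OnSupA

variable {G : Type*} [Group G]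

/-! ### the bar map -/

section bar

open Classical in
/-- the image of `x` in `X / O(X)` -/
noncomputable def bar (X : Subgroup G) (x : G) : ↥X ⧸ oddCore ↥X :=
  if h : x ∈ X then QuotientGroup.mk ⟨x, h⟩ else 1

variable {X : Subgroup G} {x y a : G}

theorem bar_of (hx : x ∈ X) : bar X x = QuotientGroup.mk ⟨x, hx⟩ := dif_pos hx

theorem bar_mul (hx : x ∈ X) (hy : y ∈ X) : bar X (x * y) = bar X x * bar X y := by
  rw [bar_of hx, bar_of hy, bar_of (X.mul_mem hx hy)]; rfl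

theorem bar_one : bar X 1 = 1 := by rw [bar_of X.one_mem]; rfl

theorem bar_inv (hx : x ∈ X) : bar X x⁻¹ = (bar X x)⁻¹ := by
  rw [bar_of hx, bar_of (X.inv_mem hx)]; rfl

theorem bar_pow (hx : x ∈ X) (n : ℕ) : bar X (x ^ n) = bar X x ^ n := by
  rw [bar_of hx, bar_of (X.pow_mem hx n)]; rfl

theorem bar_conj (hx : x ∈ X) (hy : y ∈ X) : bar X (x * y * x⁻¹) = bar X x * bar X y * (bar X x)⁻¹ := by
  rw [bar_mul (X.mul_mem hx hy) (X.inv_mem hx), bar_mul hx hy, bar_inv hx]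

theorem bar_commutator (hx : x ∈ X) (hy : y ∈ X) : bar X ⁅x, y⁆ = ⁅bar X x, bar X y⁆ := by
  rw [commutatorElement_def, commutatorElement_def, bar_mul (X.mul_mem (X.mul_mem hx hy) (X.inv_mem hx)) (X.inv_mem hy),
    bar_conj hx hy, bar_inv hy]

theorem bar_surj (k : ↥X ⧸ oddCore ↥X) : ∃ x ∈ X, bar X x = k := by
  obtain ⟨⟨x, hx⟩, rfl⟩ := QuotientGroup.mk_surjective k
  exact ⟨x, hx, bar_of hx⟩

theorem bar_eq_iff (hx : x ∈ X) (hy : y ∈ X) : bar X x = bar X y ↔ x⁻¹ * y ∈ core X := by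
  rw [bar_of hx, bar_of hy]
  exact Cfsg.Agent.McLLyComp.Act.mk_eq_iff hx hy

theorem bar_eq_one_iff (hx : x ∈ X) : bar X x = 1 ↔ x ∈ core X := by
  rw [bar_of hx]
  exact Cfsg.Agent.McLLyComp.Act.mk_eq_one_iff hx

theorem bar_act (ha : a ∈ normalizer (X : Set G)) (hx : x ∈ X) :
    bar X (a * x * a⁻¹) = act X ⟨a, ha⟩ (bar X x) := by
  rw [bar_of hx, bar_of (conj_mem ha hx)]
  exact (act_mk ha hx).symm

theorem act_of_mem' (hx : x ∈ X) : act X ⟨x, le_normalizer hx⟩ = MulAut.conj (bar X x) := by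
  rw [bar_of hx]; exact act_of_mem hx

variable [Finite G]

/-- `bar` is injective on 2-subgroups -/
theorem bar_inj {R : Subgroup G} (hR : IsPGroup 2 R) (hx : x ∈ R) (hy : y ∈ R) (hxX : x ∈ X) (hyX : y ∈ X)
    (h : bar X x = bar X y) : x = y := by
  rw [bar_eq_iff hxX hyX] at h
  obtain ⟨n, hn⟩ := hR ⟨x⁻¹ * y, R.mul_mem (R.inv_mem hx) hy⟩
  have h1 : (x⁻¹ * y) ^ 2 ^ n = 1 := congrArg Subtype.val hn
  exact inv_mul_eq_one.mp (eq_one_of_mem_core h h1)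

theorem bar_ne_one (hx : x ∈ X) (h2 : x * x = 1) (h1 : x ≠ 1) : bar X x ≠ 1 := by
  rw [Ne, bar_eq_one_iff hx]
  exact fun h => h1 (eq_one_of_mem_core_sq h h2)

theorem bar_comm_iff {R : Subgroup G} (hR : IsPGroup 2 R) (hx : x ∈ R) (hy : y ∈ R) (hxX : x ∈ X) (hyX : y ∈ X) :
    bar X x * bar X y = bar X y * bar X x ↔ x * y = y * x := by
  constructor
  · intro h
    rw [← bar_mul hxX hyX, ← bar_mul hyX hxX] at h
    exact bar_inj hR (R.mul_mem hx hy) (R.mul_mem hy hx) (X.mul_mem hxX hyX) (X.mul_mem hyX hxX) h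
  · intro h
    rw [← bar_mul hxX hyX, ← bar_mul hyX hxX, h]

end bar

/-! ### the world -/

/-- The world (W1) without big elements, `4₁`. -/
structure Wd (D : Set G) (L : G → Subgroup G) : Prop where
  sq : ∀ {u : G}, u ∈ D → u * u = 1
  ne_one : ∀ {u : G}, u ∈ D → u ≠ 1
  conj : ∀ {u : G}, u ∈ D → ∀ g : G, g * u * g⁻¹ ∈ D
  L_conj : ∀ {u : G}, u ∈ D → ∀ g : G, L (g * u * g⁻¹) = cj g (L u)
  one_class : ∀ {u v : G}, u ∈ D → v ∈ D → ∃ g : G, g * u * g⁻¹ = v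
  comm : ∀ {u x : G}, u ∈ D → x ∈ L u → x * u = u * x
  mem : ∀ {u : G}, u ∈ D → u ∈ L u
  inv_mem : ∀ {u t : G}, u ∈ D → t ∈ L u → t * t = 1 → t ≠ 1 → t ∈ D
  /-- (5.1) -/
  symm : ∀ {u t : G}, u ∈ D → t ∈ L u → t * t = 1 → t ≠ 1 → u ∈ L t
  cov : ∀ {u : G}, u ∈ D → ∃ A : StdL34.Cov (↥(L u) ⧸ oddCore ↥(L u)), A.ty = true
  /-- no big elements -/
  nb : ∀ {u x : G}, u ∈ D → x * u = u * x → ∀ n : ℕ, x ^ 2 ^ n = 1 → Fixes x (L u) → x ∈ L u
  /-- (EPS) -/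
  eps : ∀ {u v : G}, u ∈ D → v ∈ D → v * u = u * v → ∀ hv : v ∈ normalizer (L u : Set G),
    (∀ c ∈ center (↥(L u) ⧸ oddCore ↥(L u)), act (L u) ⟨v, hv⟩ c = c) → ∃ k, act (L u) ⟨v, hv⟩ = MulAut.conj k

theorem pow_two_of {R : Subgroup G} (hR : IsPGroup 2 R) {x : G} (hx : x ∈ R) : ∃ n : ℕ, x ^ 2 ^ n = 1 := by
  obtain ⟨n, hn⟩ := hR ⟨x, hx⟩
  exact ⟨n, congrArg Subtype.val hn⟩

/-- a 2-element of `N` commuting with the Sylow 2-subgroup `R` of `N` lies in `R` -/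
theorem mem_of_comm [Finite G] {N R : Subgroup G} (hRN : R ≤ N) (hR : IsPGroup 2 R) (hRi : ¬ 2 ∣ R.relIndex N) {x : G}
    (hx : x ∈ N) {n : ℕ} (hn : x ^ 2 ^ n = 1) (hc : ∀ r ∈ R, x * r * x⁻¹ ∈ R) : x ∈ R := by
  have : Fact (Nat.Prime 2) := ⟨Nat.prime_two⟩
  have h1 : IsPGroup 2 (zpowers x) := by
    rintro ⟨_, k, rfl⟩
    refine ⟨n, Subtype.ext ?_⟩
    change (x ^ k) ^ 2 ^ n = 1
    rw [← zpow_natCast, ← zpow_mul, mul_comm, zpow_mul, zpow_natCast, hn, one_zpow]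
  have hxN : x ∈ normalizer (R : Set G) := by
    rw [mem_normalizer_iff_cj]
    refine Subgroup.eq_of_le_of_card_ge ?_ (by rw [cj_def, Cfsg.Agent.Lib.GoldschmidtFusion.card_map_conj])
    rintro _ ⟨r, hr, rfl⟩
    exact hc r hr
  have h2 : IsPGroup 2 (zpowers x ⊔ R : Subgroup G) :=
    h1.to_sup_of_normal_right' hR (by rwa [zpowers_le])
  have h3 : zpowers x ⊔ R ≤ N := sup_le (by rwa [zpowers_le]) hRN
  obtain ⟨n, hn, h4⟩ := exists_conj_le_in hR hRi h3 h2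
  have h5 : Nat.card (zpowers x ⊔ R : Subgroup G) ≤ Nat.card R := by
    rw [← Cfsg.Agent.Lib.GoldschmidtFusion.card_map_conj _ n]
    exact Nat.le_of_dvd Nat.card_pos (card_dvd_of_le h4)
  have h6 : R = zpowers x ⊔ R := Subgroup.eq_of_le_of_card_ge le_sup_right h5
  rw [h6]
  exact (le_sup_left : zpowers x ≤ _) (mem_zpowers x)

namespace Wd

variable {D : Set G} {L : G → Subgroup G} {u t x : G}

theorem norm (h : Wd D L) (hu : u ∈ D) {a : G} (ha : a * u = u * a) : a ∈ normalizer (L u : Set G) := by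
  have h1 := h.L_conj hu a
  rw [ha, mul_inv_cancel_right] at h1
  rw [mem_normalizer_iff_cj]
  exact h1.symm

theorem norm' (h : Wd D L) (hu : u ∈ D) {a : G} (ha : a ∈ centralizer ({u} : Set G)) : a ∈ normalizer (L u : Set G) :=
  h.norm hu (mem_centralizer_singleton_iff.mp ha)

variable [Finite G]

theorem bar_self (h : Wd D L) (hu : u ∈ D) (A : StdL34.Cov (↥(L u) ⧸ oddCore ↥(L u))) : bar (L u) u = A.z := by
  have h1 : bar (L u) u ∈ center (↥(L u) ⧸ oddCore ↥(L u)) := by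
    rw [mem_center_iff]
    intro y
    obtain ⟨m, hm, rfl⟩ := bar_surj y
    rw [← bar_mul hm (h.mem hu), ← bar_mul (h.mem hu) hm, h.comm hu hm]
  have h2 : bar (L u) u * bar (L u) u = 1 := by
    rw [← bar_mul (h.mem hu) (h.mem hu), h.sq hu, bar_one]
  exact (OnSupK.cen_inv A h1 h2).resolve_left (bar_ne_one (h.mem hu) (h.sq hu) (h.ne_one hu))

/-- **2-elements inducing inner automorphisms of `L u / O(L u)` lie in `L u`** -/
theorem inn (h : Wd D L) (hu : u ∈ D) {n : ℕ} (hn : x ^ 2 ^ n = 1) (hx : x * u = u * x)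
    {k : ↥(L u) ⧸ oddCore ↥(L u)} (hk : act (L u) ⟨x, h.norm hu hx⟩ = MulAut.conj k) : x ∈ L u := by
  obtain ⟨A, -⟩ := h.cov hu
  have h1 : act (L u) ⟨x, h.norm hu hx⟩ ^ 2 ^ n = 1 := by
    rw [← map_pow]
    have : (⟨x, h.norm hu hx⟩ : ↥(normalizer (L u : Set G))) ^ 2 ^ n = 1 := Subtype.ext hn
    rw [this, map_one]
  -- `k` is a 2-element
  have h2 : k ^ 2 ^ (n + 2) = 1 := by
    rw [hk, ← map_pow] at h1
    obtain ⟨l, hl⟩ := StdL34.Cov.conj_eq_one (A := A) h1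
    rw [pow_add, pow_mul, hl]
    change (A.s ^ (l : ℕ)) ^ 2 ^ 2 = 1
    rw [← pow_mul, mul_comm, pow_mul, show (2 : ℕ) ^ 2 = 4 from rfl, A.s_pow, one_pow]
  obtain ⟨m, hm, rfl⟩ := bar_surj k
  have h3 : m ^ 2 ^ (n + 2) ∈ core (L u) := by
    rw [← bar_eq_one_iff ((L u).pow_mem hm _), bar_pow hm, h2]
  have hxN := h.norm hu hx
  have h4 : m⁻¹ * (x * m * x⁻¹) ∈ core (L u) := by
    rw [← bar_eq_iff hm (conj_mem hxN hm), bar_act hxN hm, hk, MulAut.conj_apply, mul_inv_cancel_right]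
  obtain ⟨o, ho, h5, h6⟩ := Lifting.exists_two_element (odd_card_core (L u)) (v := x) (x := m) (n := n) (m := n + 2)
    hn (normalizer_le_normalizer_core _ hxN) (le_normalizer_core _ hm) h3 h4
  have hm' : m * o ∈ L u := (L u).mul_mem hm (core_le _ ho)
  have hbar : bar (L u) (m * o) = bar (L u) m := by
    rw [bar_mul hm (core_le _ ho), (bar_eq_one_iff (core_le _ ho)).mpr ho, mul_one]
  have hmu : (m * o) * u = u * (m * o) := h.comm hu hm'
  -- `y = x (m o)⁻¹`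
  have hyc : x * (m * o)⁻¹ = (m * o)⁻¹ * x := ((show Commute x (m * o) from h6).inv_right).eq
  have hy2 : (x * (m * o)⁻¹) ^ 2 ^ (n + (n + 2)) = 1 := by
    rw [(show Commute x (m * o)⁻¹ from hyc).mul_pow]
    have e1 : x ^ 2 ^ (n + (n + 2)) = 1 := by rw [pow_add, pow_mul, hn, one_pow]
    have e2 : ((m * o)⁻¹) ^ 2 ^ (n + (n + 2)) = 1 := by
      rw [inv_pow, pow_add, mul_comm, pow_mul, h5, one_pow, inv_one]
    rw [e1, e2, one_mul]
  have hyu : (x * (m * o)⁻¹) * u = u * (x * (m * o)⁻¹) := by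
    have e : (m * o)⁻¹ * u = u * (m * o)⁻¹ := ((show Commute (m * o) u from hmu).inv_left).eq
    rw [mul_assoc, e, ← mul_assoc, hx, mul_assoc]
  have hf : Fixes (x * (m * o)⁻¹) (L u) := by
    rw [← act_eq_one_iff (mul_mem hxN (InvMemClass.inv_mem (le_normalizer hm'))), act_mul hxN (InvMemClass.inv_mem (le_normalizer hm')),
      act_inv (le_normalizer hm'), act_of_mem' hm', hk, hbar, mul_inv_cancel]
  have h7 := (L u).mul_mem (h.nb hu hyu _ hy2 hf) hm'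
  rwa [inv_mul_cancel_right] at h7

/-- squares of 2-elements of `C(u)` lie in `L u` -/
theorem sq_mem (h : Wd D L) (hu : u ∈ D) {n : ℕ} (hn : x ^ 2 ^ n = 1) (hx : x * u = u * x) : x * x ∈ L u := by
  obtain ⟨A, -⟩ := h.cov hu
  obtain ⟨k, hk⟩ := Cfsg.Agent.UGT.Cov.ROut.sq_inner A (act (L u) ⟨x, h.norm hu hx⟩)
  have hxx : x * x * u = u * (x * x) := by rw [mul_assoc, hx, ← mul_assoc, hx, mul_assoc]
  refine h.inn hu (n := n) ?_ hxx (k := k) ?_
  · rw [← pow_two, ← pow_mul, mul_comm, pow_mul, hn, one_pow]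
  · rw [← hk, ← act_mul (h.norm hu hx) (h.norm hu hx)]

/-- noncentral involutions of `L u / O(L u)` -/
theorem not_cen (h : Wd D L) (hu : u ∈ D) (ht : t ∈ L u) (htt : t * t = 1) (ht1 : t ≠ 1) (htu : t ≠ u) :
    KF.NInv (bar (L u) t) := by
  refine ⟨by rw [← bar_mul ht ht, htt, bar_one], fun hc => htu ?_⟩
  obtain ⟨A, -⟩ := h.cov hu
  have h2 : bar (L u) t * bar (L u) t = 1 := by rw [← bar_mul ht ht, htt, bar_one]
  have h3 := (OnSupK.cen_inv A hc h2).resolve_left (bar_ne_one ht htt ht1)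
  rw [← h.bar_self hu A, bar_eq_iff ht (h.mem hu)] at h3
  exact Lifting.eq_of_commute (odd_card_core (L u)) (n := 1) (m := 1)
    (by rw [pow_one, pow_two, htt]) (by rw [pow_one, pow_two, h.sq hu]) (h.comm hu ht) h3

/-- elements of `C(t̄)` lift to `L u ∩ C(t)` -/
theorem lift_comm (ht : t * t = 1) (htu : t ∈ L u) {k : ↥(L u) ⧸ oddCore ↥(L u)}
    (hk : k * bar (L u) t = bar (L u) t * k) : ∃ m ∈ L u, m * t = t * m ∧ bar (L u) m = k := by
  obtain ⟨m, hm, rfl⟩ := bar_surj k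
  have h1 : m⁻¹ * (t * m * t⁻¹) ∈ core (L u) := by
    rw [← bar_eq_iff hm ((L u).mul_mem ((L u).mul_mem htu hm) ((L u).inv_mem htu)), bar_conj htu hm, ← hk,
      mul_inv_cancel_right]
  obtain ⟨o, ho, h2⟩ := Lifting.exists_commute (odd_card_core (L u)) (v := t) (m := m) (n := 1)
    (by rw [pow_one, pow_two, ht]) (le_normalizer_core _ htu) h1
  refine ⟨m * o, (L u).mul_mem hm (core_le _ ho), h2.symm, ?_⟩
  rw [bar_mul hm (core_le _ ho), (bar_eq_one_iff (core_le _ ho)).mpr ho, mul_one]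

/-- **A Sylow 2-subgroup of `C(u, t)` covers `C(t̄)`.** -/
theorem surjC (h : Wd D L) (hu : u ∈ D) (ht : t ∈ L u) (htt : t * t = 1) (ht1 : t ≠ 1) (htu : t ≠ u)
    {R : Subgroup G} (hRN : R ≤ centralizer ({u} : Set G) ⊓ centralizer ({t} : Set G)) (hR : IsPGroup 2 R)
    (hRi : ¬ 2 ∣ R.relIndex (centralizer ({u} : Set G) ⊓ centralizer ({t} : Set G)))
    {k : ↥(L u) ⧸ oddCore ↥(L u)} (hk : k * bar (L u) t = bar (L u) t * k) :
    ∃ s ∈ R, s ∈ L u ∧ bar (L u) s = k := by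
  have : Fact (Nat.Prime 2) := ⟨Nat.prime_two⟩
  obtain ⟨A, -⟩ := h.cov hu
  obtain ⟨B, -, -, hB⟩ := Cfsg.Agent.UGT.Cov.KFPure.exists_cov_t A (h.not_cen hu ht htt ht1 htu)
  have h128 : Nat.card (centralizer ({bar (L u) t} : Set (↥(L u) ⧸ oddCore ↥(L u)))) = 128 := by
    rw [← hB]; exact Cfsg.Agent.UGT.Cov.KFPure.card_C B
  obtain ⟨W, hW⟩ : ∃ W : Subgroup G, W = L u ⊓ centralizer ({t} : Set G) := ⟨_, rfl⟩
  have hWN : W ≤ centralizer ({u} : Set G) ⊓ centralizer ({t} : Set G) := by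
    rw [hW]
    refine le_inf (fun x hx => mem_centralizer_singleton_iff.mpr (h.comm hu hx.1)) inf_le_right
  have hn : ∀ n ∈ centralizer ({u} : Set G) ⊓ centralizer ({t} : Set G), ∀ k ∈ W, n * k * n⁻¹ ∈ W := by
    intro n hn k hk
    rw [hW] at hk ⊢
    exact ⟨conj_mem (h.norm' hu hn.1) hk.1, mul_mem (mul_mem hn.2 hk.2) ((centralizer ({t} : Set G)).inv_mem hn.2)⟩
  have h1 := LFourB.RelExt.sylow_inf hR hRN hRi hWN hn
  -- the map to the centralizer
  have hmem : ∀ x ∈ W, bar (L u) x ∈ centralizer ({bar (L u) t} : Set (↥(L u) ⧸ oddCore ↥(L u))) := by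
    intro x hx
    rw [hW] at hx
    rw [mem_centralizer_singleton_iff, ← bar_mul hx.1 ht, ← bar_mul ht hx.1, mem_centralizer_singleton_iff.mp hx.2]
  let f : ↥W →* ↥(centralizer ({bar (L u) t} : Set (↥(L u) ⧸ oddCore ↥(L u)))) :=
    { toFun := fun x => ⟨bar (L u) x, hmem x x.2⟩
      map_one' := Subtype.ext bar_one
      map_mul' := fun x y => Subtype.ext (bar_mul ((hW ▸ x.2 : (x : G) ∈ L u ⊓ centralizer ({t} : Set G)).1)
        ((hW ▸ y.2 : (y : G) ∈ L u ⊓ centralizer ({t} : Set G)).1)) }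
  have hf : Function.Surjective f := by
    rintro ⟨k, hk⟩
    obtain ⟨m, hm, h2, h3⟩ := lift_comm htt ht (mem_centralizer_singleton_iff.mp hk)
    exact ⟨⟨m, hW ▸ ⟨hm, mem_centralizer_singleton_iff.mpr h2⟩⟩, Subtype.ext h3⟩
  have h2 : 128 ∣ Nat.card W := by
    rw [← h128]; exact Subgroup.card_dvd_of_surjective f hf
  have h3 : 128 ∣ Nat.card (R ⊓ W : Subgroup G) := by
    have h4 : Nat.card (R ⊓ W : Subgroup G) * (R ⊓ W).relIndex W = Nat.card W := by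
      rw [← relIndex_bot_left, ← relIndex_bot_left]
      exact relIndex_mul_relIndex _ _ _ bot_le inf_le_right
    rw [← h4] at h2
    refine Nat.Coprime.dvd_of_dvd_mul_right ?_ h2
    have : (128 : ℕ) = 2 ^ 7 := by norm_num
    rw [this]
    exact Nat.Coprime.pow_left 7 ((Nat.Prime.coprime_iff_not_dvd Nat.prime_two).mpr h1)
  let g : ↥(R ⊓ W : Subgroup G) → ↥(centralizer ({bar (L u) t} : Set (↥(L u) ⧸ oddCore ↥(L u)))) :=
    fun x => ⟨bar (L u) x, hmem x x.2.2⟩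
  have hg : Function.Injective g := by
    intro x y hxy
    have h4 : bar (L u) (x : G) = bar (L u) (y : G) := congrArg Subtype.val hxy
    have hWL : W ≤ L u := hW ▸ inf_le_left
    exact Subtype.ext (bar_inj hR x.2.1 y.2.1 (hWL x.2.2) (hWL y.2.2) h4)
  have hfin : Finite (↥(L u) ⧸ oddCore ↥(L u)) := inferInstance
  have hb := hg.bijective_of_nat_card_le (by rw [h128]; exact Nat.le_of_dvd Nat.card_pos h3)
  obtain ⟨⟨s, hs⟩, hs'⟩ := hb.2 ⟨k, mem_centralizer_singleton_iff.mpr hk⟩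
  refine ⟨s, hs.1, ?_, congrArg Subtype.val hs'⟩
  have := hs.2
  rw [hW] at this
  exact this.1

end Wd

end Cfsg.Agent.UGT.I34.OnSupA
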