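import Cfsg.Agent.UGT.I34.OnSupA

/-!
# THEOREM I34, part [A], (5.5), second half: `F(z, e) = F(e, z)` and the transvections

`FR R u t`: the involutions of `R ∩ L u` over `Y t̄`. `Fi T u`: the involutions of `T ∩ L u` commuting with `T ∩ L u`
modulo `⟨u⟩`.
-/

set_option autoImplicit false

open Cfsg Subgroup
open Cfsg.Agent.SignalizersComponents Cfsg.Agent.Lib
open Cfsg.Agent.SignalizersComponents.IntrinsicBasic
open Cfsg.Agent.SignalizersComponents.PLayerAut
open Cfsg.Agent.Intrinsic
open Cfsg.Agent.Intrinsic.Basic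
open Cfsg.Agent.McLLyComp.Act
open Cfsg.Agent.Lib.GoldschmidtFusion (exists_sylow_in exists_conj_le_in)
open Cfsg.Agent.UGT.I34.KF (NInv Y mem_Y)
open Cfsg.Agent.UGT.Cov.FourK (S YS F t)
open scoped commutatorElement

namespace Cfsg.Agent.UGT.I34.OnSupB

open OnSupA

/-! ### automorphisms and `Y t` -/

section aut

variable {K : Type*} [Group K]

theorem map_center {α : MulAut K} {c : K} (hc : c ∈ center K) : α c ∈ center K := by
  rw [mem_center_iff] at hc ⊢
  intro g
  have h := congrArg α (hc (α⁻¹ g))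
  rw [map_mul, map_mul] at h
  have e : α (α⁻¹ g) = g := by rw [← MulAut.mul_apply, mul_inv_cancel, MulAut.one_apply]
  rwa [e] at h

theorem map_Y {α : MulAut K} {t y : K} (hy : y ∈ Y t) : α y ∈ Y (α t) := by
  rw [mem_Y] at hy ⊢
  refine ⟨by rw [← map_mul, hy.1, map_mul], fun b hb => ?_⟩
  have e : α (α⁻¹ b) = b := by rw [← MulAut.mul_apply, mul_inv_cancel, MulAut.one_apply]
  have h1 : α⁻¹ b * t = t * α⁻¹ b := by
    apply α.injective
    rw [map_mul, map_mul, e, hb]
  have h2 := map_center (α := α) (hy.2 _ h1)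
  rwa [map_commutatorElement, e] at h2

end aut

variable {G : Type*} [Group G]

/-- a Sylow 2-subgroup of `C(u, t)` -/
def SylC (R : Subgroup G) (u t : G) : Prop :=
  R ≤ centralizer ({u} : Set G) ⊓ centralizer ({t} : Set G) ∧ IsPGroup 2 R ∧
    ¬ 2 ∣ R.relIndex (centralizer ({u} : Set G) ⊓ centralizer ({t} : Set G))

theorem SylC.left_mem [Finite G] {R : Subgroup G} {u t : G} (h : SylC R u t) (hu : u * u = 1) (hut : u * t = t * u) :
    u ∈ R := by
  refine mem_of_comm h.1 h.2.1 h.2.2 (n := 1)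
    ⟨mem_centralizer_singleton_iff.mpr rfl, mem_centralizer_singleton_iff.mpr hut⟩
    (by rw [pow_one, pow_two, hu]) fun r hr => ?_
  rw [← mem_centralizer_singleton_iff.mp (h.1 hr).1, mul_inv_cancel_right]
  exact hr

theorem SylC.symm {R : Subgroup G} {u t : G} (h : SylC R u t) : SylC R t u := by
  unfold SylC at h ⊢
  rwa [inf_comm (centralizer ({t} : Set G))]

/-- the involutions of `R ∩ L u` over `Y t̄` -/
def FR (L : G → Subgroup G) (R : Subgroup G) (u t : G) : Set G :=
  {w | w ∈ R ∧ w ∈ L u ∧ w * w = 1 ∧ bar (L u) w ∈ Y (bar (L u) t)}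

/-- the involutions of `T ∩ L u` commuting with `T ∩ L u` modulo `⟨u⟩` -/
def Fi (L : G → Subgroup G) (T : Subgroup G) (u : G) : Set G :=
  {w | w ∈ T ∧ w ∈ L u ∧ w * w = 1 ∧ ∀ p ∈ T, p ∈ L u → ⁅w, p⁆ = 1 ∨ ⁅w, p⁆ = u}

variable {D : Set G} {L : G → Subgroup G} {R T : Subgroup G} {u t z e w : G}

section

variable [Finite G]

omit [Finite G] in
/-- data of a pair: `e` a noncentral involution of `L z` -/
theorem ne_of (h : Wd D L) (hz : z ∈ D) (he : e ∈ L z) (hez : e ≠ z) (hee : e * e = 1) (he1 : e ≠ 1) :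
    e ∈ D ∧ z ∈ L e ∧ z ≠ e :=
  ⟨h.inv_mem hz he hee he1, h.symm hz he hee he1, fun h => hez h.symm⟩

/-- **`F(z, e) ≤ F(e, z)`** -/
theorem FR_le (h : Wd D L) (hz : z ∈ D) (he : e ∈ L z) (hez : e ≠ z) (hee : e * e = 1) (he1 : e ≠ 1)
    (hR : SylC R z e) (hw : w ∈ FR L R z e) : w ∈ FR L R e z := by
  obtain ⟨heD, hzL, hze⟩ := ne_of h hz he hez hee he1
  have hzz := h.sq hz
  have hz1 := h.ne_one hz
  have hz2 := hR.symm
  obtain ⟨hRN, hR2, hRi⟩ := id hR
  obtain ⟨hRN', -, hRi'⟩ := id hz2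
  obtain ⟨hwR, hwL, hww, hwY⟩ := hw
  obtain ⟨A, hAty⟩ := h.cov hz
  obtain ⟨B, hBs, -, hB⟩ := Cfsg.Agent.UGT.Cov.KFPure.exists_cov_t A (h.not_cen hz he hee he1 hez)
  obtain ⟨A', hAty'⟩ := h.cov heD
  obtain ⟨B', hBs', -, hB'⟩ := Cfsg.Agent.UGT.Cov.KFPure.exists_cov_t A' (h.not_cen heD hzL hzz hz1 hze)
  have hwe : w * e = e * w := mem_centralizer_singleton_iff.mp (hRN hwR).2
  have hwz : w * z = z * w := mem_centralizer_singleton_iff.mp (hRN hwR).1
  -- `w ∈ L e`
  have hwLe : w ∈ L e := by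
    have h1 : bar (L z) w ∈ closure {s | ∃ x, x * bar (L z) e = bar (L z) e * x ∧ s = x * x} := by
      have := Cfsg.Agent.UGT.Cov.KFPure.Y_sq B (OnSupK.center_eq B) (y := bar (L z) w) (by rw [hB]; exact hwY)
      rwa [hB] at this
    have h2 : ∀ k ∈ closure {s | ∃ x, x * bar (L z) e = bar (L z) e * x ∧ s = x * x},
        ∃ y ∈ R, y ∈ L z ∧ y ∈ L e ∧ bar (L z) y = k := by
      intro k hk
      induction hk using closure_induction with
      | mem s hs =>
        obtain ⟨x, hx, rfl⟩ := hs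
        obtain ⟨y, hyR, hyL, rfl⟩ := h.surjC hz he hee he1 hez hRN hR2 hRi hx
        obtain ⟨n, hn⟩ := pow_two_of hR2 hyR
        exact ⟨y * y, R.mul_mem hyR hyR, (L z).mul_mem hyL hyL,
          h.sq_mem heD hn (mem_centralizer_singleton_iff.mp (hRN hyR).2), bar_mul hyL hyL⟩
      | one => exact ⟨1, R.one_mem, (L z).one_mem, (L e).one_mem, bar_one⟩
      | mul a b _ _ ha hb =>
        obtain ⟨y, h1, h2, h3, rfl⟩ := ha
        obtain ⟨y', h4, h5, h6, rfl⟩ := hb
        exact ⟨y * y', R.mul_mem h1 h4, (L z).mul_mem h2 h5, (L e).mul_mem h3 h6, bar_mul h2 h5⟩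
      | inv a _ ha =>
        obtain ⟨y, h1, h2, h3, rfl⟩ := ha
        exact ⟨y⁻¹, R.inv_mem h1, (L z).inv_mem h2, (L e).inv_mem h3, bar_inv h2⟩
    obtain ⟨y, h3, h4, h5, h6⟩ := h2 _ h1
    rwa [← bar_inj hR2 h3 hwR h4 hwL h6]
  refine ⟨hwR, hwLe, hww, ?_⟩
  -- trivial cases
  have hYz : bar (L e) z ∈ Y (bar (L e) z) := by
    rw [← hB']
    exact ((OnSupK.F_iff_Y B').1 (by
      rw [Cfsg.Agent.UGT.Cov.FourK.t_eq]
      exact (Cfsg.Agent.UGT.Cov.FourK.el_mem_sub B').2 (by decide))).2
  have hYe : bar (L e) e ∈ Y (bar (L e) z) := by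
    rw [h.bar_self heD B', ← hB']
    exact ((OnSupK.F_iff_Y B').1 (by
      rw [← OnSupK.el_two]
      exact (Cfsg.Agent.UGT.Cov.FourK.el_mem_sub B').2 (by decide))).2
  by_cases w1 : w = 1
  · rw [w1, bar_one]; exact one_mem _
  by_cases wz : w = z
  · rw [wz]; exact hYz
  by_cases we : w = e
  · rw [we]; exact hYe
  by_cases wze : w = z * e
  · rw [wze, bar_mul hzL (h.mem heD)]; exact mul_mem hYz hYe
  -- `w̄` is not in `⟨t̄⟩ Z`
  have hez' : e * z = z * e := h.comm hz he
  have notin : ∀ {u v : G} (hu : u ∈ D) (hv : v ∈ L u) (hvv : v * v = 1) (huv : v * u = u * v)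
      (hw : w ∈ L u) (hwu : w * u = u * w) (hwv : w * v = v * w) (hw1 : w ≠ 1) (hwu' : w ≠ u) (hwv' : w ≠ v)
      (hwvu : w ≠ v * u), ∀ c ∈ center (↥(L u) ⧸ oddCore ↥(L u)), bar (L u) w ≠ c ∧ bar (L u) w ≠ bar (L u) v * c := by
    intro u v hu hv hvv huv hw hwu hwv hw1 hwu' hwv' hwvu c hc
    constructor
    · intro h1
      exact (h.not_cen hu hw hww hw1 hwu').2 (h1 ▸ hc)
    · intro h1
      have h2 : bar (L u) (v * w) = c := by
        rw [bar_mul hv hw, h1, ← mul_assoc, ← bar_mul hv hv, hvv, bar_one, one_mul]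
      have h3 : v * w * (v * w) = 1 := by
        calc v * w * (v * w) = v * (w * v) * w := by group
          _ = (v * v) * (w * w) := by rw [hwv]; group
          _ = 1 := by rw [hvv, hww, one_mul]
      have h4 : v * w ≠ 1 := fun h4 => hwv' (by
        have : w = v * (v * w) := by rw [← mul_assoc, hvv, one_mul]
        rw [this, h4, mul_one])
      have h5 : v * w ≠ u := fun h5 => hwvu (by
        have : w = v * (v * w) := by rw [← mul_assoc, hvv, one_mul]
        rw [this, h5])
      exact (h.not_cen hu ((L u).mul_mem hv hw) h3 h4 h5).2 (h2 ▸ hc)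
  have hne := notin hz he hee hez' hwL hwz hwe w1 wz we (by rw [hez']; exact wze)
  have hne' := notin heD hzL hzz hez'.symm hwLe hwe hwz w1 we wz wze
  -- the field `four`
  have hfour := Cfsg.Agent.UGT.Cov.KFPure.four B' (OnSupK.center_eq B') (w := bar (L e) w)
  rw [hB'] at hfour
  refine hfour ?_ ?_ ?_
  · rw [← bar_mul hwLe hzL, ← bar_mul hzL hwLe, hwz]
  · rw [← bar_mul hwLe hwLe, hww, bar_one]; exact one_mem _
  · intro b hb
    obtain ⟨s, hsR, hsL, rfl⟩ := h.surjC heD hzL hzz hz1 hze hRN' hR2 hRi' hb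
    have hsz : s * z = z * s := mem_centralizer_singleton_iff.mp (hRN hsR).1
    have hse : s * e = e * s := mem_centralizer_singleton_iff.mp (hRN hsR).2
    have hsN := h.norm hz hsz
    have h1 : s * w * s⁻¹ ∈ L z := conj_mem hsN hwL
    have h2 : s * w * s⁻¹ ∈ R := R.mul_mem (R.mul_mem hsR hwR) (R.inv_mem hsR)
    have h3 : bar (L z) (s * w * s⁻¹) ∈ Y (bar (L z) e) := by
      have h4 := map_Y (α := act (L z) ⟨s, hsN⟩) hwY
      rw [← bar_act hsN hwL, ← bar_act hsN he, hse, mul_inv_cancel_right] at h4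
      exact h4
    have h5 : s * w * s⁻¹ * (s * w * s⁻¹) = 1 := by
      calc s * w * s⁻¹ * (s * w * s⁻¹) = s * (w * w) * s⁻¹ := by group
        _ = 1 := by rw [hww]; group
    obtain ⟨c, hc, h6⟩ := Cfsg.Agent.UGT.Cov.KFPure.Y_cases B (OnSupK.center_eq B) (w := bar (L z) w)
      (y := bar (L z) (s * w * s⁻¹)) (by rw [hB]; exact hwY) (by rw [hB]; exact hne) (by rw [hB]; exact h3)
    rw [hB] at h6
    -- `c` is an involution or 1
    have hcc : c * c = 1 := by
      have h7 : bar (L z) (s * w * s⁻¹) * bar (L z) (s * w * s⁻¹) = 1 := by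
        rw [← bar_mul h1 h1, h5, bar_one]
      have hcm : ∀ y, c * y = y * c := fun y => (mem_center_iff.mp hc y).symm
      have key : ∀ g ∈ L z, g * g = 1 → bar (L z) (s * w * s⁻¹) = bar (L z) g * c → c * c = 1 := by
        intro g hg hgg h8
        rw [h8] at h7
        calc c * c = (bar (L z) g * bar (L z) g) * (c * c) := by rw [← bar_mul hg hg, hgg, bar_one, one_mul]
          _ = bar (L z) g * (bar (L z) g * c) * c := by group
          _ = bar (L z) g * (c * bar (L z) g) * c := by rw [hcm]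
          _ = bar (L z) g * c * (bar (L z) g * c) := by group
          _ = 1 := h7
      rcases h6 with h6 | h6 | h6 | h6
      · exact key 1 (L z).one_mem (mul_one 1) (by rw [bar_one, one_mul]; exact h6)
      · exact key e he hee h6
      · exact key w hwL hww h6
      · refine key (e * w) ((L z).mul_mem he hwL) ?_ (by rw [bar_mul he hwL]; exact h6)
        calc e * w * (e * w) = e * (w * e) * w := by group
          _ = (e * e) * (w * w) := by rw [hwe]; group
          _ = 1 := by rw [hee, hww, one_mul]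
    -- `c = bar d`, `d = 1` or `d = z`
    obtain ⟨d, hd, hdR, hdL, hdc⟩ : ∃ d, (d = 1 ∨ d = z) ∧ d ∈ R ∧ d ∈ L z ∧ bar (L z) d = c := by
      rcases OnSupK.cen_inv B hc hcc with h8 | h8
      · exact ⟨1, Or.inl rfl, R.one_mem, (L z).one_mem, by rw [bar_one, h8]⟩
      · exact ⟨z, Or.inr rfl, hR.left_mem hzz hez'.symm, h.mem hz, by rw [h.bar_self hz B, h8]⟩
    have hdd : d * d = 1 := by rcases hd with rfl | rfl; exact mul_one 1; exact hzz
    have hdw : d * w = w * d := by
      rcases hd with rfl | rfl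
      · rw [one_mul, mul_one]
      · exact hwz.symm
    have hde : d * e = e * d := by
      rcases hd with rfl | rfl
      · rw [one_mul, mul_one]
      · exact hez'.symm
    have hdLe : d ∈ L e := by
      rcases hd with rfl | rfl
      · exact (L e).one_mem
      · exact hzL
    have heR : e ∈ R := hz2.left_mem hee hez'
    have hLeC : ∀ x ∈ L e, bar (L e) x * bar (L e) e = bar (L e) e * bar (L e) x := fun x hx => by
      rw [← bar_mul hx (h.mem heD), ← bar_mul (h.mem heD) hx, h.comm heD hx]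
    have hece : bar (L e) e ∈ center (↥(L e) ⧸ oddCore ↥(L e)) := by
      rw [mem_center_iff]
      intro y
      obtain ⟨m, hm, rfl⟩ := bar_surj y
      exact hLeC m hm
    have hwi : w⁻¹ = w := inv_eq_of_mul_eq_one_left hww
    have hcomm : ∀ v, s * w * s⁻¹ = v → v * v = 1 → ⁅w, s⁆ = w * v := by
      intro v hv hvv
      have : ⁅w, s⁆ = w * (s * w * s⁻¹)⁻¹ := by
        rw [commutatorElement_def]; group
      rw [this, hv, inv_eq_of_mul_eq_one_left hvv]
    -- the commutator
    have hfin : ∃ a b : G, (a = 1 ∨ a = w) ∧ (b = 1 ∨ b = e) ∧ ⁅w, s⁆ = d * a * b := by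
      rw [← hdc] at h6
      rcases h6 with h6 | h6 | h6 | h6
      · have h7 := bar_inj hR2 h2 hdR h1 hdL h6
        exact ⟨w, 1, Or.inr rfl, Or.inl rfl, by rw [hcomm d h7 hdd, mul_one, hdw]⟩
      · rw [← bar_mul he hdL] at h6
        have h7 := bar_inj hR2 h2 (R.mul_mem heR hdR) h1 ((L z).mul_mem he hdL) h6
        refine ⟨w, e, Or.inr rfl, Or.inr rfl, ?_⟩
        rw [hcomm _ h7 (by
          calc e * d * (e * d) = e * (d * e) * d := by group
            _ = (e * e) * (d * d) := by rw [hde]; group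
            _ = 1 := by rw [hee, hdd, one_mul]), ← hde, ← mul_assoc, hdw]
      · rw [← bar_mul hwL hdL] at h6
        have h7 := bar_inj hR2 h2 (R.mul_mem hwR hdR) h1 ((L z).mul_mem hwL hdL) h6
        refine ⟨1, 1, Or.inl rfl, Or.inl rfl, ?_⟩
        rw [hcomm _ h7 (by
          calc w * d * (w * d) = w * (d * w) * d := by group
            _ = (w * w) * (d * d) := by rw [hdw]; group
            _ = 1 := by rw [hww, hdd, one_mul]), ← mul_assoc, hww, one_mul, mul_one, mul_one]
      · rw [← bar_mul he hwL, ← bar_mul ((L z).mul_mem he hwL) hdL] at h6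
        have h7 := bar_inj hR2 h2 (R.mul_mem (R.mul_mem heR hwR) hdR) h1
          ((L z).mul_mem ((L z).mul_mem he hwL) hdL) h6
        refine ⟨1, e, Or.inl rfl, Or.inr rfl, ?_⟩
        rw [hcomm _ h7 (by
          calc e * w * d * (e * w * d) = e * (w * (d * e)) * w * d := by group
            _ = e * (w * e) * d * w * d := by rw [hde]; group
            _ = (e * e) * w * (d * w) * d := by rw [hwe]; group
            _ = (e * e) * (w * w) * (d * d) := by rw [hdw]; group
            _ = 1 := by rw [hee, hdd, hww, one_mul, one_mul])]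
        calc w * (e * w * d) = (w * e) * w * d := by group
          _ = e * (w * w) * d := by rw [hwe]; group
          _ = e * d := by rw [hww, mul_one]
          _ = d * 1 * e := by rw [mul_one, hde]
    obtain ⟨a, b', ha, hb', h7⟩ := hfin
    have haL : a ∈ L e := by
      rcases ha with rfl | rfl
      · exact (L e).one_mem
      · exact hwLe
    have hbL : b' ∈ L e := by
      rcases hb' with rfl | rfl
      · exact (L e).one_mem
      · exact h.mem heD
    refine ⟨bar (L e) b', ?_, ?_⟩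
    · rcases hb' with rfl | rfl
      · rw [bar_one]; exact one_mem _
      · exact hece
    · rw [← bar_commutator hwLe hsL, h7, bar_mul ((L e).mul_mem hdLe haL) hbL, bar_mul hdLe haL]
      rcases ha with rfl | rfl <;> rcases hd with rfl | rfl
      · left; rw [bar_one, one_mul, one_mul]
      · right; left; rw [bar_one, mul_one]
      · right; right; left; rw [bar_one, one_mul]
      · right; right; right; rfl

end

end Cfsg.Agent.UGT.I34.OnSupB
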