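import Cfsg.Agent.UGT.I34.OnSupB
import Cfsg.Agent.ONType.Span

/-!
# THEOREM I34, part [A], (5.5), second half: `F` is the same for `z` and `e`; transvections
-/

set_option autoImplicit false

open Cfsg Subgroup
open Cfsg.Agent.SignalizersComponents Cfsg.Agent.Lib
open Cfsg.Agent.SignalizersComponents.IntrinsicBasic
open Cfsg.Agent.SignalizersComponents.PLayerAut
open Cfsg.Agent.Intrinsic
open Cfsg.Agent.Intrinsic.Basic
open Cfsg.Agent.McLLyComp.Act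
open Cfsg.Agent.Lib.GoldschmidtFusion (exists_sylow_in exists_conj_le_in card_map_conj)
open Cfsg.Agent.UGT.I34.KF (NInv Y mem_Y)
open Cfsg.Agent.UGT.Cov.FourK (S YS F)
open Cfsg.Agent.SporadicA.FieldFour
open Cfsg.Agent.ONType.Span (Indep)
open scoped commutatorElement

namespace Cfsg.Agent.UGT.I34.OnSupC

open OnSupA OnSupB

variable {G : Type*} [Group G]

/-- a Sylow 2-subgroup of `C(u)` -/
def SylT (T : Subgroup G) (u : G) : Prop :=
  T ≤ centralizer ({u} : Set G) ∧ IsPGroup 2 T ∧ ¬ 2 ∣ T.relIndex (centralizer ({u} : Set G))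

/-- the image of `T ∩ X` in `X / O(X)` -/
noncomputable def Pb (X T : Subgroup G) : Subgroup (↥X ⧸ oddCore ↥X) where
  carrier := {k | ∃ p ∈ T, p ∈ X ∧ bar X p = k}
  one_mem' := ⟨1, T.one_mem, X.one_mem, bar_one⟩
  mul_mem' := by
    rintro _ _ ⟨p, h1, h2, rfl⟩ ⟨q, h3, h4, rfl⟩
    exact ⟨p * q, T.mul_mem h1 h3, X.mul_mem h2 h4, bar_mul h2 h4⟩
  inv_mem' := by
    rintro _ ⟨p, h1, h2, rfl⟩
    exact ⟨p⁻¹, T.inv_mem h1, X.inv_mem h2, bar_inv h2⟩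

theorem mem_Pb {X T : Subgroup G} {k : ↥X ⧸ oddCore ↥X} : k ∈ Pb X T ↔ ∃ p ∈ T, p ∈ X ∧ bar X p = k := Iff.rfl

variable {D : Set G} {L : G → Subgroup G} {R T T' : Subgroup G} {u z e w a b : G}

section

variable [Finite G]

theorem card_Pb {X : Subgroup G} (hT2 : IsPGroup 2 T) : Nat.card (Pb X T) = Nat.card (T ⊓ X : Subgroup G) := by
  symm
  refine Nat.card_congr (Equiv.ofBijective (fun p => (⟨bar X p, p, p.2.1, p.2.2, rfl⟩ : Pb X T)) ⟨?_, ?_⟩)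
  · intro p q h
    exact Subtype.ext (bar_inj hT2 p.2.1 q.2.1 p.2.2 q.2.2 (congrArg Subtype.val h))
  · rintro ⟨_, p, h1, h2, rfl⟩
    exact ⟨⟨p, h1, h2⟩, rfl⟩

/-- **`|T ∩ L z| = 256`** -/
theorem card_inf (h : Wd D L) (hz : z ∈ D) (hT : SylT T z) : Nat.card (T ⊓ L z : Subgroup G) = 256 := by
  have : Fact (Nat.Prime 2) := ⟨Nat.prime_two⟩
  obtain ⟨A, -⟩ := h.cov hz
  obtain ⟨hTN, hT2, hTi⟩ := hT
  have hLN : L z ≤ centralizer ({z} : Set G) := fun x hx => mem_centralizer_singleton_iff.mpr (h.comm hz hx)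
  have h1 := LFourB.RelExt.sylow_inf hT2 hTN hTi hLN fun n hn k hk => conj_mem (h.norm' hz hn) hk
  have h2 : Nat.card (T ⊓ L z : Subgroup G) * (T ⊓ L z).relIndex (L z) = Nat.card (L z) := by
    rw [← relIndex_bot_left, ← relIndex_bot_left]
    exact relIndex_mul_relIndex _ _ _ bot_le inf_le_right
  have h3 : Nat.card (↥(L z) ⧸ oddCore ↥(L z)) ∣ Nat.card (L z) := Subgroup.card_quotient_dvd_card _
  have h4 : Nat.card A.T * A.T.index = Nat.card (↥(L z) ⧸ oddCore ↥(L z)) := A.T.card_mul_index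
  rw [OnSupK.card_T] at h4
  have h5 : (256 : ℕ) = 2 ^ 8 := by norm_num
  have h6 : 256 ∣ Nat.card (T ⊓ L z : Subgroup G) := by
    have h7 : 256 ∣ Nat.card (T ⊓ L z : Subgroup G) * (T ⊓ L z).relIndex (L z) := by
      rw [h2]
      exact (Dvd.intro _ h4).trans h3
    refine Nat.Coprime.dvd_of_dvd_mul_right ?_ h7
    rw [h5]
    exact Nat.Coprime.pow_left 8 ((Nat.Prime.coprime_iff_not_dvd Nat.prime_two).mpr h1)
  have h7 : Nat.card (T ⊓ L z : Subgroup G) ∣ 256 := by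
    have h8 : Nat.card (T ⊓ L z : Subgroup G) ∣ 256 * A.T.index := by
      rw [h4, ← card_Pb hT2]
      exact Subgroup.card_subgroup_dvd_card _
    refine Nat.Coprime.dvd_of_dvd_mul_right ?_ h8
    obtain ⟨n, hn⟩ := (IsPGroup.iff_card.mp (hT2.to_le inf_le_left : IsPGroup 2 (T ⊓ L z : Subgroup G)))
    rw [hn]
    exact Nat.Coprime.pow_left n ((Nat.Prime.coprime_iff_not_dvd Nat.prime_two).mpr A.T_index)
  exact Nat.dvd_antisymm h7 h6

theorem Fi_mem (h : Wd D L) (hz : z ∈ D) (hT : SylT T z) : z ∈ Fi L T z := by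
  refine ⟨?_, h.mem hz, h.sq hz, fun p hp _ => Or.inl ?_⟩
  · refine mem_of_comm hT.1 hT.2.1 hT.2.2 (n := 1) (mem_centralizer_singleton_iff.mpr rfl)
      (by rw [pow_one, pow_two, h.sq hz]) fun r hr => ?_
    rw [← mem_centralizer_singleton_iff.mp (hT.1 hr), mul_inv_cancel_right]
    exact hr
  · rw [commutatorElement_eq_one_iff_mul_comm]
    exact (mem_centralizer_singleton_iff.mp (hT.1 hp)).symm

/-- coordinates adapted to `T` and `e` -/
theorem exists_cov (h : Wd D L) (hz : z ∈ D) (hT : SylT T z) (he : e ∈ Fi L T z) (hez : e ≠ z) (he1 : e ≠ 1) :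
    ∃ B : StdL34.Cov (↥(L z) ⧸ oddCore ↥(L z)), Cov.FourK.t B = bar (L z) e ∧ Pb (L z) T = B.T := by
  obtain ⟨heT, heL, hee, hc⟩ := he
  obtain ⟨A, -⟩ := h.cov hz
  obtain ⟨B, -, -, hB⟩ := Cfsg.Agent.UGT.Cov.KFPure.exists_cov_t A (h.not_cen hz heL hee he1 hez)
  refine ⟨B, hB, OnSupK.eq_T B (by rw [card_Pb hT.2.1, card_inf h hz hT]) ?_⟩
  rintro _ ⟨p, hp, hpL, rfl⟩
  rw [hB, ← bar_conj hpL heL, ← h.bar_self hz B, ← bar_mul heL (h.mem hz)]
  have hzz := h.sq hz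
  rcases hc p hp hpL with h1 | h1
  · left
    rw [commutatorElement_eq_one_iff_mul_comm] at h1
    rw [← h1, mul_inv_cancel_right]
  · right
    congr 1
    have h2 : e * p * e⁻¹ * p⁻¹ = z := by rw [← h1, commutatorElement_def]
    have hei : e⁻¹ = e := inv_eq_of_mul_eq_one_left hee
    have hzi : z⁻¹ = z := inv_eq_of_mul_eq_one_left hzz
    calc p * e * p⁻¹ = (e * p * e⁻¹ * p⁻¹)⁻¹ * e := by rw [← hei]; group
      _ = z * e := by rw [h2, hzi]
      _ = e * z := (h.comm hz heL).symm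

/-- **(5a)** -/
theorem Fi_eq (h : Wd D L) (hz : z ∈ D) (hT : SylT T z) (he : e ∈ Fi L T z) (hez : e ≠ z) (he1 : e ≠ 1)
    (hR2 : IsPGroup 2 R)
    (hRT : ∀ p ∈ T, p ∈ L z → p * e = e * p → p ∈ R) : Fi L T z = FR L R z e := by
  obtain ⟨B, hB, hP⟩ := exists_cov h hz hT he hez he1
  obtain ⟨heT, heL, hee, -⟩ := id he
  have hT2 := hT.2.1
  have hzz := h.sq hz
  have hzT := (Fi_mem h hz hT).1
  ext w
  constructor
  · rintro ⟨hwT, hwL, hww, hwc⟩
    have h1 : bar (L z) w ∈ F B := by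
      refine OnSupK.F_of B (hP ▸ ⟨w, hwT, hwL, rfl⟩) (by rw [← bar_mul hwL hwL, hww, bar_one]) ?_
      intro k hk
      rw [← hP] at hk
      obtain ⟨p, hp, hpL, rfl⟩ := hk
      rw [← bar_commutator hwL hpL, ← h.bar_self hz B]
      rcases hwc p hp hpL with h2 | h2
      · left; rw [h2, bar_one]
      · right; rw [h2]
    have h2 := (OnSupK.F_iff_Y B).1 h1
    rw [hB] at h2
    have h3 : w * e = e * w := (bar_comm_iff hT2 hwT heT hwL heL).1 h2.2.1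
    exact ⟨hRT w hwT hwL h3, hwL, hww, h2.2⟩
  · rintro ⟨hwR, hwL, hww, hwY⟩
    have h1 : bar (L z) w ∈ F B := (OnSupK.F_iff_Y B).2 ⟨by rw [← bar_mul hwL hwL, hww, bar_one], by rw [hB]; exact hwY⟩
    -- `w ∈ T`
    have h2 : bar (L z) w ∈ Pb (L z) T := by
      rw [hP]
      exact Cfsg.Agent.UGT.Cov.FourK.S_le_T B (Cfsg.Agent.UGT.Cov.FourK.YS_le_S B
        (Cfsg.Agent.UGT.Cov.FourK.F_le_YS B h1))
    obtain ⟨w', hw', hwL', h3⟩ := h2
    have h4 : w' * e = e * w' := by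
      rw [← bar_comm_iff hT2 hw' heT hwL' heL, h3]
      exact hwY.1
    have h5 : w' = w := bar_inj hR2 (hRT w' hw' hwL' h4) hwR hwL' hwL h3
    subst h5
    refine ⟨hw', hwL, hww, fun p hp hpL => ?_⟩
    have h6 := OnSupK.F_comm B h1 (p := bar (L z) p) (hP ▸ ⟨p, hp, hpL, rfl⟩)
    rw [← bar_commutator hwL hpL, ← h.bar_self hz B, ← bar_one] at h6
    have h7 : ⁅w', p⁆ ∈ T := by
      rw [commutatorElement_def]
      exact T.mul_mem (T.mul_mem (T.mul_mem hw' hp) (T.inv_mem hw')) (T.inv_mem hp)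
    have h8 : ⁅w', p⁆ ∈ L z := by
      rw [commutatorElement_def]
      exact (L z).mul_mem ((L z).mul_mem ((L z).mul_mem hwL hpL) ((L z).inv_mem hwL)) ((L z).inv_mem hpL)
    rcases h6 with h6 | h6
    · left; exact bar_inj hT2 h7 T.one_mem h8 (L z).one_mem h6
    · right; exact bar_inj hT2 h7 hzT h8 (h.mem hz) h6

/-- **(5b)** -/
theorem mem_Fi (h : Wd D L) (hz : z ∈ D) (he : e ∈ L z) (hez : e ≠ z) (hee : e * e = 1) (he1 : e ≠ 1)
    (hR : SylC R z e) (hT : SylT T' e) (hRT : R ≤ T') : z ∈ Fi L T' e := by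
  obtain ⟨heD, hzL, hze⟩ := ne_of h hz he hez hee he1
  have hzz := h.sq hz
  have hz1 := h.ne_one hz
  have hcomm := h.comm hz he
  have hzR : z ∈ R := hR.left_mem hzz hcomm.symm
  have heR : e ∈ R := hR.symm.left_mem hee hcomm
  refine ⟨hRT hzR, hzL, hzz, fun p hp hpL => ?_⟩
  obtain ⟨A, -⟩ := h.cov heD
  obtain ⟨B, -, -, hB⟩ := Cfsg.Agent.UGT.Cov.KFPure.exists_cov_t A (h.not_cen heD hzL hzz hz1 hze)
  have h1 := OnSupK.conj_t_of B (P := Pb (L e) T') (by rw [card_Pb hT.2.1, card_inf h heD hT]) (by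
    intro k hk
    rw [Cfsg.Agent.UGT.Cov.FourK.mem_S, hB] at hk
    obtain ⟨s, hs, hsL, rfl⟩ := h.surjC heD hzL hzz hz1 hze hR.symm.1 hR.2.1 hR.symm.2.2 hk
    exact ⟨s, hRT hs, hsL, rfl⟩) (bar (L e) p) ⟨p, hp, hpL, rfl⟩
  rw [hB, ← bar_conj hpL hzL, ← h.bar_self heD B, ← bar_mul hzL (h.mem heD)] at h1
  have h2 : p * z * p⁻¹ ∈ T' := T'.mul_mem (T'.mul_mem hp (hRT hzR)) (T'.inv_mem hp)
  have h3 : p * z * p⁻¹ ∈ L e := conj_mem (le_normalizer hpL) hzL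
  have hzi : z⁻¹ = z := inv_eq_of_mul_eq_one_left hzz
  have e1 : ⁅z, p⁆ = z * (p * z * p⁻¹)⁻¹ := by rw [commutatorElement_def]; group
  rcases h1 with h1 | h1
  · have h4 := bar_inj hT.2.1 h2 (hRT hzR) h3 hzL h1
    left
    rw [e1, h4, mul_inv_cancel]
  · have h4 := bar_inj hT.2.1 h2 (T'.mul_mem (hRT hzR) (hRT heR)) h3 ((L e).mul_mem hzL (h.mem heD)) h1
    right
    rw [e1, h4, mul_inv_rev, inv_eq_of_mul_eq_one_left hee, hzi, hcomm, ← mul_assoc, hzz, one_mul]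

/-- conjugates of `T` -/
theorem exists_conj_T (hT : SylT T z) (hT' : SylT T' e) (hc : ∃ g : G, g * z * g⁻¹ = e) :
    ∃ g : G, g * z * g⁻¹ = e ∧ cj g T = T' := by
  have : Fact (Nat.Prime 2) := ⟨Nat.prime_two⟩
  obtain ⟨g, hg⟩ := hc
  have key : ∀ {T T' : Subgroup G} {z e g : G}, SylT T z → SylT T' e → g * z * g⁻¹ = e →
      ∃ k, k * z * k⁻¹ = e ∧ cj k T ≤ T' := by
    intro T T' z e g hT hT' hg
    have h1 : cj g T ≤ centralizer ({e} : Set G) := by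
      rw [← hg, ← cj_centralizer]
      exact cj_mono hT.1
    obtain ⟨n, hn, h2⟩ := exists_conj_le_in hT'.2.1 hT'.2.2 h1 (hT.2.1.map _)
    refine ⟨n * g, ?_, ?_⟩
    · have h3 := mem_centralizer_singleton_iff.mp hn
      calc n * g * z * (n * g)⁻¹ = n * (g * z * g⁻¹) * n⁻¹ := by group
        _ = e := by rw [hg, h3, mul_inv_cancel_right]
    · rintro _ ⟨x, hx, rfl⟩
      have h3 := h2 ⟨g * x * g⁻¹, conj_mem_cj hx, rfl⟩
      change n * (g * x * g⁻¹) * n⁻¹ ∈ T' at h3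
      change n * g * x * (n * g)⁻¹ ∈ T'
      convert h3 using 1
      group
  obtain ⟨k, hk, h1⟩ := key hT hT' hg
  obtain ⟨k', -, h2⟩ := key (g := g⁻¹) hT' hT (by rw [← hg]; group)
  refine ⟨k, hk, Subgroup.eq_of_le_of_card_ge h1 ?_⟩
  rw [cj_def, card_map_conj, ← card_map_conj T' k', ← cj_def]
  exact Nat.le_of_dvd Nat.card_pos (card_dvd_of_le h2)

omit [Finite G] in
theorem Fi_conj (h : Wd D L) (hz : z ∈ D) {g : G} (hw : w ∈ Fi L T z) : g * w * g⁻¹ ∈ Fi L (cj g T) (g * z * g⁻¹) := by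
  obtain ⟨h1, h2, h3, h4⟩ := hw
  refine ⟨conj_mem_cj h1, by rw [h.L_conj hz]; exact conj_mem_cj h2, ?_, ?_⟩
  · calc g * w * g⁻¹ * (g * w * g⁻¹) = g * (w * w) * g⁻¹ := by group
      _ = 1 := by rw [h3]; group
  · rintro _ ⟨p, hp, rfl⟩ hpL
    change g * p * g⁻¹ ∈ _ at hpL
    rw [h.L_conj hz, mem_cj] at hpL
    have h5 : p ∈ L z := by
      have e : g⁻¹ * (g * p * g⁻¹) * g = p := by group
      rwa [e] at hpL
    have e : ⁅g * w * g⁻¹, (MulAut.conj g).toMonoidHom p⁆ = g * ⁅w, p⁆ * g⁻¹ := by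
      change ⁅g * w * g⁻¹, g * p * g⁻¹⁆ = _
      rw [commutatorElement_def, commutatorElement_def]; group
    rw [e]
    rcases h4 p hp h5 with h6 | h6
    · left; rw [h6]; group
    · right; rw [h6]

/-- **the fusion in `F`** -/
theorem exists_h (h : Wd D L) (hz : z ∈ D) (hT : SylT T z) (he : e ∈ Fi L T z) (he1 : e ≠ 1) :
    ∃ g : G, g * z * g⁻¹ = e ∧ ∀ w, w ∈ Fi L T z → g * w * g⁻¹ ∈ Fi L T z := by
  have : Fact (Nat.Prime 2) := ⟨Nat.prime_two⟩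
  by_cases hez : e = z
  · exact ⟨1, by rw [hez]; group, fun w hw => by rwa [one_mul, inv_one, mul_one]⟩
  obtain ⟨heT, heL, hee, -⟩ := id he
  obtain ⟨heD, hzL, hze⟩ := ne_of h hz heL hez hee he1
  have hzz := h.sq hz
  have hz1 := h.ne_one hz
  obtain ⟨R, h1, h2, h3, h4⟩ := exists_sylow_in (p := 2)
    (N := centralizer ({z} : Set G) ⊓ centralizer ({e} : Set G)) (D := T ⊓ L z ⊓ centralizer ({e} : Set G))
    (inf_le_inf_right _ (inf_le_left.trans hT.1)) (hT.2.1.to_le (inf_le_left.trans inf_le_left))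
  have hR : SylC R z e := ⟨h2, h3, h4⟩
  obtain ⟨T', h5, h6, h7, h8⟩ := exists_sylow_in (p := 2) (N := centralizer ({e} : Set G)) (D := R)
    (h2.trans inf_le_right) h3
  have hT' : SylT T' e := ⟨h6, h7, h8⟩
  have e1 := Fi_eq h hz hT he hez he1 h3 fun p hp hpL hpe =>
    h1 ⟨⟨hp, hpL⟩, mem_centralizer_singleton_iff.mpr hpe⟩
  have hzF := mem_Fi h hz heL hez hee he1 hR hT' h5
  have e2 := Fi_eq h heD hT' hzF hze hz1 h3 fun p hp hpL hpz => by
    obtain ⟨s, hs, hsL, h9⟩ := h.surjC heD hzL hzz hz1 hze hR.symm.1 hR.2.1 hR.symm.2.2 (k := bar (L e) p)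
      (by rw [← bar_mul hpL hzL, ← bar_mul hzL hpL, hpz])
    rwa [← bar_inj h7 (h5 hs) hp hsL hpL h9]
  have e3 : Fi L T z = Fi L T' e := by
    rw [e1, e2]
    ext w
    exact ⟨fun hw => FR_le h hz heL hez hee he1 hR hw, fun hw => FR_le h heD hzL hze hzz hz1 hR.symm hw⟩
  obtain ⟨g, hg, hgT⟩ := exists_conj_T hT hT' (h.one_class hz heD)
  refine ⟨g, hg, fun w hw => ?_⟩
  have h9 := Fi_conj (g := g) h hz hw
  rw [hgT, hg, ← e3] at h9
  exact h9

/-- bijective on `F` -/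
theorem iff_of_le {s : Set G} {g : G} (hg : ∀ w, w ∈ s → g * w * g⁻¹ ∈ s) (w : G) : w ∈ s ↔ g * w * g⁻¹ ∈ s := by
  refine ⟨hg w, fun hw => ?_⟩
  have h0 : ∀ x y : G, g * x * g⁻¹ = g * y * g⁻¹ → x = y := fun x y hxy => mul_left_cancel (mul_right_cancel hxy)
  let f : s → s := fun x => ⟨g * x * g⁻¹, hg x x.2⟩
  have h1 : Function.Surjective f :=
    Finite.surjective_of_injective fun x y hxy => Subtype.ext (h0 _ _ (congrArg Subtype.val hxy))
  obtain ⟨⟨y, hy⟩, h2⟩ := h1 ⟨_, hw⟩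
  replace h2 : g * y * g⁻¹ = g * w * g⁻¹ := congrArg Subtype.val h2
  have h3 : y = w := mul_left_cancel (mul_right_cancel h2)
  rwa [← h3]

theorem code_tv : ∀ ty c k, c ≠ 0 → c ≠ 1 → StdL34.cmul ty ⟨1, 0, 0, 0⟩ ⟨0, 0, c, k⟩ ≠ StdL34.cmul ty ⟨0, 0, c, k⟩ ⟨1, 0, 0, 0⟩ := by
  decide +kernel

/-- the transvections with centre `z` -/
theorem tv_z (h : Wd D L) (hz : z ∈ D) (hT : SylT T z) (ha : a ∈ Fi L T z) (hb : b ∈ Fi L T z)
    (hI : Indep z a b) : ∃ p ∈ T, p ∈ L z ∧ p * a = a * p ∧ p * b * p⁻¹ = b * z := by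
  obtain ⟨hz1, ha1, haz, hb1, hbz, hba, hbza⟩ := hI
  obtain ⟨B, hB, hP⟩ := exists_cov h hz hT ha haz ha1
  have hzz := h.sq hz
  have hT2 := hT.2.1
  have haa := ha.2.2.1
  have hbb := hb.2.2.1
  have hzT := (Fi_mem h hz hT).1
  have hx : B.x 0 1 1 ∈ Pb (L z) T := by
    rw [hP, ← B.el_x01]; exact B.el_mem _
  obtain ⟨p, hp, hpL, hpx⟩ := hx
  refine ⟨p, hp, hpL, ?_, ?_⟩
  · rw [← bar_comm_iff hT2 hp ha.1 hpL ha.2.1, hpx, ← hB]
    have : B.x 0 1 1 ∈ S B := by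
      rw [← B.el_x01, Cfsg.Agent.UGT.Cov.FourK.el_mem_S]; decide
    exact (Cfsg.Agent.UGT.Cov.FourK.mem_S B).1 this
  · -- `b̄ ∈ F`
    have h1 : bar (L z) b ∈ F B := by
      refine OnSupK.F_of B (hP ▸ ⟨b, hb.1, hb.2.1, rfl⟩) (by rw [← bar_mul hb.2.1 hb.2.1, hbb, bar_one]) ?_
      intro k hk
      rw [← hP] at hk
      obtain ⟨p, hp, hpL, rfl⟩ := hk
      rw [← bar_commutator hb.2.1 hpL, ← h.bar_self hz B]
      rcases hb.2.2.2 p hp hpL with h2 | h2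
      · left; rw [h2, bar_one]
      · right; rw [h2]
    obtain ⟨⟨a', b', c, k⟩, ⟨h2, h3, h4⟩, h5⟩ := h1
    simp only at h2 h3 h4
    subst h2 h3
    have hzb : z * b = b * z := (h.comm hz hb.2.1).symm
    have hza : z * a = a * z := (h.comm hz ha.2.1).symm
    have hk2 : ∀ k : Fin 4, k = 0 ∨ k = 2 → B.sp k = 1 ∨ B.sp k = bar (L z) z := by
      rintro k (rfl | rfl)
      · left; exact B.sp_zero
      · right; rw [h.bar_self hz B, B.z_eq]
    have hmem : ∀ {x y : G}, x ∈ T → x ∈ L z → y ∈ T → y ∈ L z → bar (L z) x = bar (L z) y → x = y :=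
      fun h1 h2 h3 h4 h5 => bar_inj hT2 h1 h3 h2 h4 h5
    have hc0 : c ≠ 0 := by
      rintro rfl
      rw [B.el_sp] at h5
      rcases hk2 k h4 with h6 | h6
      · exact hb1 (hmem hb.1 hb.2.1 T.one_mem (L z).one_mem (by rw [h5, h6, bar_one]))
      · exact hbz (hmem hb.1 hb.2.1 hzT (h.mem hz) (by rw [h5, h6]))
    have hc1 : c ≠ 1 := by
      rintro rfl
      have h6 : bar (L z) b = bar (L z) a * B.sp k := by
        rw [h5, ← hB, Cfsg.Agent.UGT.Cov.FourK.t_eq, ← B.el_sp, B.el_mul]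
        congr 1
        generalize B.ty = ty
        clear * -
        revert ty k; decide +kernel
      rcases hk2 k h4 with h7 | h7
      · exact hba (hmem hb.1 hb.2.1 ha.1 ha.2.1 (by rw [h6, h7, mul_one]))
      · refine hbza (hmem hb.1 hb.2.1 (T.mul_mem hzT ha.1) ((L z).mul_mem (h.mem hz) ha.2.1) ?_)
        rw [h6, h7, ← bar_mul ha.2.1 (h.mem hz), hza]
    have h6 : ¬ p * b = b * p := by
      rw [← bar_comm_iff hT2 hp hb.1 hpL hb.2.1, hpx, h5, ← B.el_x01, B.el_mul, B.el_mul]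
      intro h7
      exact code_tv B.ty c k hc0 hc1 (B.inj h7)
    rcases hb.2.2.2 p hp hpL with h7 | h7
    · rw [commutatorElement_eq_one_iff_mul_comm] at h7
      exact absurd h7.symm h6
    · have hbi : b⁻¹ = b := inv_eq_of_mul_eq_one_left hbb
      have hzi : z⁻¹ = z := inv_eq_of_mul_eq_one_left hzz
      calc p * b * p⁻¹ = (b * p * b⁻¹ * p⁻¹)⁻¹ * b := by rw [← hbi]; group
        _ = z * b := by rw [← commutatorElement_def, h7, hzi]
        _ = b * z := hzb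

/-- **all transvections of `F` are induced by elements normalizing `F`** -/
theorem tv (h : Wd D L) (hz : z ∈ D) (hT : SylT T z) (he : e ∈ Fi L T z) (ha : a ∈ Fi L T z) (hb : b ∈ Fi L T z)
    (hI : Indep e a b) : ∃ g : G, (∀ w, w ∈ Fi L T z ↔ g * w * g⁻¹ ∈ Fi L T z) ∧ g * e = e * g ∧ g * a = a * g ∧
      g * b * g⁻¹ = b * e := by
  obtain ⟨k, hk, hkF⟩ := exists_h h hz hT he hI.1
  have hkF' := iff_of_le hkF
  have hconj : ∀ {x : G}, x ∈ Fi L T z → k⁻¹ * x * k ∈ Fi L T z := by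
    intro x hx
    rw [hkF' (k⁻¹ * x * k)]
    have e : k * (k⁻¹ * x * k) * k⁻¹ = x := by group
    rwa [e]
  have hI' : Indep z (k⁻¹ * a * k) (k⁻¹ * b * k) := by
    obtain ⟨h1, h2, h3, h4, h5, h6, h7⟩ := hI
    have inj : ∀ {x y : G}, k⁻¹ * x * k = k⁻¹ * y * k → x = y := fun {x y} hxy =>
      mul_left_cancel (mul_right_cancel hxy)
    have ez : z = k⁻¹ * e * k := by rw [← hk]; group
    have e1 : (1 : G) = k⁻¹ * 1 * k := by group
    refine ⟨h.ne_one hz, fun h8 => h2 (inj (h8.trans e1)), fun h8 => h3 (inj (h8.trans ez)),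
      fun h8 => h4 (inj (h8.trans e1)), fun h8 => h5 (inj (h8.trans ez)), fun h8 => h6 (inj h8),
      fun h8 => h7 (inj (h8.trans ?_))⟩
    conv_lhs => rw [ez]
    group
  obtain ⟨p, hp, hpL, h1, h2⟩ := tv_z h hz hT (hconj ha) (hconj hb) hI'
  have hpF : ∀ w, w ∈ Fi L T z → p * w * p⁻¹ ∈ Fi L T z := by
    intro w hw
    have h3 := Fi_conj (g := p) h hz hw
    have h4 : cj p T = T := cj_eq_self_of_mem hp
    rw [h4, h.comm hz hpL, mul_inv_cancel_right] at h3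
    exact h3
  have hpz : p * z = z * p := h.comm hz hpL
  refine ⟨k * p * k⁻¹, ?_, ?_, ?_, ?_⟩
  · intro w
    have h3 := iff_of_le hpF
    rw [show w ∈ Fi L T z ↔ k⁻¹ * w * k ∈ Fi L T z from ⟨hconj, fun h4 => by
      have := (hkF' _).1 h4
      have e : k * (k⁻¹ * w * k) * k⁻¹ = w := by group
      rwa [e] at this⟩, h3, hkF']
    have e : k * (p * (k⁻¹ * w * k) * p⁻¹) * k⁻¹ = k * p * k⁻¹ * w * (k * p * k⁻¹)⁻¹ := by group
    rw [e]
  · rw [← hk]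
    calc k * p * k⁻¹ * (k * z * k⁻¹) = k * (p * z) * k⁻¹ := by group
      _ = k * (z * p) * k⁻¹ := by rw [hpz]
      _ = k * z * k⁻¹ * (k * p * k⁻¹) := by group
  · calc k * p * k⁻¹ * a = k * (p * (k⁻¹ * a * k)) * k⁻¹ := by group
      _ = k * ((k⁻¹ * a * k) * p) * k⁻¹ := by rw [h1]
      _ = a * (k * p * k⁻¹) := by group
  · calc k * p * k⁻¹ * b * (k * p * k⁻¹)⁻¹ = k * (p * (k⁻¹ * b * k) * p⁻¹) * k⁻¹ := by group
      _ = k * ((k⁻¹ * b * k) * z) * k⁻¹ := by rw [h2]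
      _ = b * (k * z * k⁻¹) := by group
      _ = b * e := by rw [hk]

end

end Cfsg.Agent.UGT.I34.OnSupC
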