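import Cfsg.Agent.UGT.I34.OnSupC

/-!
# THEOREM I34, part [A], (5.5), second half: coordinates on `T`

`Al L T z B E`: coordinates `B` of `L z / O(L z)` adapted to the Sylow 2-subgroup `T` of `C(z)`; `E p` is the element of
`T ∩ L z` over `B.el p`.
-/

set_option autoImplicit false
set_option linter.unusedSectionVars false

open Cfsg Subgroup
open Cfsg.Agent.SignalizersComponents Cfsg.Agent.Lib
open Cfsg.Agent.SignalizersComponents.IntrinsicBasic
open Cfsg.Agent.SignalizersComponents.PLayerAut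
open Cfsg.Agent.Intrinsic
open Cfsg.Agent.Intrinsic.Basic
open Cfsg.Agent.McLLyComp.Act
open Cfsg.Agent.Lib.GoldschmidtFusion (exists_sylow_in exists_conj_le_in card_map_conj)
open Cfsg.Agent.UGT.I34.KF (NInv Y mem_Y)
open Cfsg.Agent.UGT.Cov.FourK (S YS F)
open Cfsg.Agent.SporadicA.FieldFour
open Cfsg.Agent.StdL34 (Code cmul ctau Ty cone)
open Cfsg.Agent.ONType.Span (Indep)
open scoped commutatorElement

namespace Cfsg.Agent.UGT.I34.OnSupD

open OnSupA OnSupB OnSupC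

/-! ### transport of `MT` -/

section K

variable {K : Type*} [Group K] (A : StdL34.Cov K)

open Cfsg.Agent.UGT.Cov.KFPure (mapC)

theorem mapC_x (l : K) (i j : Fin 3) (u : F4) : (mapC A (MulAut.conj l⁻¹)).x i j u = l⁻¹ * A.x i j u * l := by
  change l⁻¹ * A.x i j u * l⁻¹⁻¹ = _
  rw [inv_inv]

theorem mapC_isTau (l : K) {τ : Ty} {β : MulAut K} (h : A.IsTau τ (MulAut.conj l * β * (MulAut.conj l)⁻¹)) :
    (mapC A (MulAut.conj l⁻¹)).IsTau τ β := by
  intro i j hij u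
  have h1 := h i j hij u
  rw [mapC_x]
  have e1 : (MulAut.conj l * β * (MulAut.conj l)⁻¹) (A.x i j u) = l * β (l⁻¹ * A.x i j u * l) * l⁻¹ := by
    rw [MulAut.mul_apply, MulAut.mul_apply, ← map_inv, MulAut.conj_apply, MulAut.conj_apply, inv_inv]
  rw [e1] at h1
  have h2 : β (l⁻¹ * A.x i j u * l) = l⁻¹ * StdL34.imgx A.x τ i j u * l := by rw [← h1]; group
  rw [h2]
  unfold StdL34.imgx
  split
  · rw [mapC_x]
  · rw [mapC_x]

theorem mapC_el (l : K) (p : Code) : (mapC A (MulAut.conj l⁻¹)).el p = l⁻¹ * A.el p * l := by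
  rw [StdL34.Cov.el_eq, StdL34.Cov.el_eq, mapC_x, mapC_x, mapC_x]
  have e1 : (mapC A (MulAut.conj l⁻¹)).sp p.k = l⁻¹ * A.sp p.k * l := by
    change (l⁻¹ * A.s * l⁻¹⁻¹) ^ (p.k : ℕ) = l⁻¹ * A.s ^ (p.k : ℕ) * l
    rw [conj_pow, inv_inv]
  rw [e1]; group

theorem mapC_MT (l : K) {α : MulAut K} (h : MulAut.conj l * α * (MulAut.conj l)⁻¹ ∈ A.MT) :
    α ∈ (mapC A (MulAut.conj l⁻¹)).MT := by
  obtain ⟨p, τ, h1⟩ := h
  refine ⟨p, τ, ?_⟩
  unfold StdL34.Cov.Cd at h1 ⊢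
  apply mapC_isTau
  convert h1 using 1
  rw [mapC_el, map_mul, map_mul, map_inv]
  group

/-- inner automorphisms in `MT` come from `T` -/
theorem mem_T_of_MT {k : K} (h : MulAut.conj k ∈ A.MT) : k ∈ A.T := by
  obtain ⟨p, τ, h1⟩ := h
  unfold StdL34.Cov.Cd at h1
  rw [← map_mul] at h1
  have h2 : τ = (false, false) := h1.hasTy.unique (StdL34.Cov.hasTy_conj _)
  rw [h2] at h1
  obtain ⟨l, hl⟩ := StdL34.Cov.conj_eq_one (h1.ext StdL34.Cov.isTau_one)
  have h3 : k = (A.el p)⁻¹ * A.sp l := by rw [← hl]; group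
  rw [h3, ← A.el_sp]
  exact mul_mem (inv_mem (A.el_mem p)) (A.el_mem _)

end K

variable {G : Type*} [Group G]

/-- coordinates adapted to `T` -/
structure Al (L : G → Subgroup G) (T : Subgroup G) (z : G) (B : StdL34.Cov (↥(L z) ⧸ oddCore ↥(L z)))
    (E : Code → G) : Prop where
  ty : B.ty = true
  PT : Pb (L z) T = B.T
  MT : ∀ g ∈ T, ∀ hg : g ∈ normalizer (L z : Set G), act (L z) ⟨g, hg⟩ ∈ B.MT
  memT : ∀ p, E p ∈ T
  memL : ∀ p, E p ∈ L z
  bar : ∀ p, bar (L z) (E p) = B.el p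

variable {D : Set G} {L : G → Subgroup G} {R T T' : Subgroup G} {u z e w a b : G}
  {B : StdL34.Cov (↥(L z) ⧸ oddCore ↥(L z))} {E : Code → G}

theorem SylT.norm (h : Wd D L) (hz : z ∈ D) (hT : SylT T z) {g : G} (hg : g ∈ T) : g ∈ normalizer (L z : Set G) :=
  h.norm' hz (hT.1 hg)

variable [Finite G]

theorem exists_al (h : Wd D L) (hz : z ∈ D) (hT : SylT T z) : ∃ B E, Al L T z B E := by
  obtain ⟨A, hA⟩ := h.cov hz
  have hN : T ≤ normalizer (L z : Set G) := fun g hg => SylT.norm h hz hT hg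
  obtain ⟨Q, hQ⟩ : ∃ Q, Q = (T.subgroupOf (normalizer (L z : Set G))).map (act (L z)) := ⟨_, rfl⟩
  have hQ2 : IsPGroup 2 Q := by
    rw [hQ]
    refine IsPGroup.map ?_ _
    exact hT.2.1.comap_of_injective _ (Subgroup.subtype_injective _)
  obtain ⟨l, hl⟩ := A.exists_conj_MT Q hQ2
  obtain ⟨B, hB⟩ : ∃ B, B = Cfsg.Agent.UGT.Cov.KFPure.mapC A (MulAut.conj l⁻¹) := ⟨_, rfl⟩
  have hMT : ∀ g ∈ T, ∀ hg : g ∈ normalizer (L z : Set G), act (L z) ⟨g, hg⟩ ∈ B.MT := by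
    intro g hg hg'
    rw [hB]
    apply mapC_MT
    apply hl
    rw [hQ]
    exact ⟨⟨g, hg'⟩, hg, rfl⟩
  have hle : Pb (L z) T ≤ B.T := by
    rintro _ ⟨p, hp, hpL, rfl⟩
    apply mem_T_of_MT
    rw [← act_of_mem' hpL]
    exact hMT p hp _
  have hf : Finite B.T := inferInstance
  have hPT : Pb (L z) T = B.T := Subgroup.eq_of_le_of_card_ge hle (by
    rw [card_Pb hT.2.1, card_inf h hz hT, OnSupK.card_T])
  have hE : ∀ p : Code, ∃ x ∈ T, x ∈ L z ∧ bar (L z) x = B.el p := fun p => by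
    have := B.el_mem p
    rw [← hPT] at this
    exact this
  choose E h1 h2 h3 using hE
  exact ⟨B, E, ⟨by rw [hB]; exact hA, hPT, hMT, h1, h2, h3⟩⟩

namespace Al

variable (h : Wd D L) (hz : z ∈ D) (hT : SylT T z) (hA : Al L T z B E)

include hT hA

theorem eq_of {x y : G} (hx : x ∈ T) (hxL : x ∈ L z) (hy : y ∈ T) (hyL : y ∈ L z) (h : OnSupA.bar (L z) x = OnSupA.bar (L z) y) :
    x = y := bar_inj hT.2.1 hx hy hxL hyL h

theorem exists_E {x : G} (hx : x ∈ T) (hxL : x ∈ L z) : ∃ p, x = E p := by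
  have h1 : OnSupA.bar (L z) x ∈ B.T := hA.PT ▸ ⟨x, hx, hxL, rfl⟩
  obtain ⟨p, hp⟩ := h1
  exact ⟨p, hA.eq_of hT hx hxL (hA.memT p) (hA.memL p) (by rw [hA.bar, ← hp])⟩

theorem mul (p q : Code) : E p * E q = E (cmul true p q) := by
  refine hA.eq_of hT (T.mul_mem (hA.memT p) (hA.memT q)) ((L z).mul_mem (hA.memL p) (hA.memL q)) (hA.memT _) (hA.memL _) ?_
  rw [bar_mul (hA.memL p) (hA.memL q), hA.bar, hA.bar, hA.bar, B.el_mul, hA.ty]

omit hT in
theorem inj {p q : Code} (hpq : E p = E q) : p = q := by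
  apply B.inj
  rw [← hA.bar, ← hA.bar, hpq]

theorem one : E cone = 1 := by
  refine hA.eq_of hT (hA.memT _) (hA.memL _) T.one_mem (L z).one_mem ?_
  rw [hA.bar, B.el_one, bar_one]

include h hz

theorem z_eq : E ⟨0, 0, 0, 2⟩ = z := by
  refine hA.eq_of hT (hA.memT _) (hA.memL _) (Fi_mem h hz hT).1 (h.mem hz) ?_
  rw [hA.bar, OnSupK.el_two, h.bar_self hz B]

/-- the type of an element of `T` -/
theorem exists_ty {g : G} (hg : g ∈ T) : ∃ p τ, B.Cd (act (L z) ⟨g, SylT.norm h hz hT hg⟩) p τ :=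
  hA.MT g hg _

theorem act_E {g : G} (hg : g ∈ T) {p : Code} {τ : Ty} (hc : B.Cd (act (L z) ⟨g, SylT.norm h hz hT hg⟩) p τ) (y : Code) :
    (E p * g) * E y * (E p * g)⁻¹ = E (ctau true τ y) := by
  have hgN := SylT.norm h hz hT hg
  have h1 : g * E y * g⁻¹ ∈ L z := conj_mem hgN (hA.memL y)
  have e1 : (E p * g) * E y * (E p * g)⁻¹ = E p * (g * E y * g⁻¹) * (E p)⁻¹ := by group
  have h2 := hc.el y
  rw [MulAut.mul_apply, ← hA.bar y, ← bar_act hgN (hA.memL y), MulAut.conj_apply, ← hA.bar p,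
    ← bar_conj (hA.memL p) h1, hA.ty, ← hA.bar (ctau true τ y)] at h2
  rw [e1]
  refine hA.eq_of hT ?_ ?_ (hA.memT _) (hA.memL _) h2
  · exact T.mul_mem (T.mul_mem (hA.memT p) (T.mul_mem (T.mul_mem hg (hA.memT y)) (T.inv_mem hg))) (T.inv_mem (hA.memT p))
  · exact (L z).mul_mem ((L z).mul_mem (hA.memL p) h1) ((L z).inv_mem (hA.memL p))

/-- elements of `T` of type `(false, false)` lie in `L z` -/
theorem mem_L_of_ty {g : G} (hg : g ∈ T) {p : Code} (hc : B.Cd (act (L z) ⟨g, SylT.norm h hz hT hg⟩) p (false, false)) :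
    g ∈ L z := by
  obtain ⟨k, hk⟩ := hc.hasTy.inner
  obtain ⟨n, hn⟩ := pow_two_of hT.2.1 hg
  exact h.inn hz hn (mem_centralizer_singleton_iff.mp (hT.1 hg)) hk

theorem ker {g : G} (hg : g ∈ T) (hc : ∀ y, g * E y = E y * g) : ∃ k, g = E ⟨0, 0, 0, k⟩ := by
  obtain ⟨p, τ, hp⟩ := hA.exists_ty h hz hT hg
  have hgN := SylT.norm h hz hT hg
  have h1 := hp.eq_one (fun y _ => by
    rw [← hA.bar, ← bar_act hgN (hA.memL y), hc, mul_inv_cancel_right])
  have h2 : Fixes g (L z) := (act_eq_one_iff hgN).mp h1.2.2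
  obtain ⟨n, hn⟩ := pow_two_of hT.2.1 hg
  have h3 := h.nb hz (mem_centralizer_singleton_iff.mp (hT.1 hg)) n hn h2
  obtain ⟨q, rfl⟩ := hA.exists_E hT hg h3
  have h4 : ∀ y ∈ B.T, B.el q * y = y * B.el q := by
    rintro _ ⟨y, rfl⟩
    rw [← hA.bar, ← hA.bar, ← bar_mul (hA.memL q) (hA.memL y), hc y, bar_mul (hA.memL y) (hA.memL q)]
  obtain ⟨k, hk⟩ := Cfsg.Agent.UGT.Cov.FourK.center_T B (B.el_mem q) h4
  rw [← B.el_sp] at hk
  exact ⟨k, by rw [B.inj hk]⟩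

theorem mem_Fi_iff {x : G} : x ∈ Fi L T z ↔ ∃ (c : F4) (k : Fin 4), (k = 0 ∨ k = 2) ∧ x = E ⟨0, 0, c, k⟩ := by
  have hzT := (Fi_mem h hz hT).1
  constructor
  · rintro ⟨h1, h2, h3, h4⟩
    obtain ⟨p, rfl⟩ := hA.exists_E hT h1 h2
    have h5 : B.el p ∈ F B := by
      refine OnSupK.F_of B (B.el_mem p) (by rw [← hA.bar, ← bar_mul h2 h2, h3, bar_one]) ?_
      rintro _ ⟨q, rfl⟩
      rw [← hA.bar, ← hA.bar, ← bar_commutator h2 (hA.memL q), ← h.bar_self hz B]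
      rcases h4 _ (hA.memT q) (hA.memL q) with h6 | h6
      · left; rw [h6, bar_one]
      · right; rw [h6]
    have h6 := (Cfsg.Agent.UGT.Cov.FourK.el_mem_sub B).1 h5
    obtain ⟨a, b, c, k⟩ := p
    obtain ⟨h7, h8, h9⟩ := h6
    simp only at h7 h8 h9
    subst h7 h8
    exact ⟨c, k, h9, rfl⟩
  · rintro ⟨c, k, hk, rfl⟩
    have h1 : B.el ⟨0, 0, c, k⟩ ∈ F B := (Cfsg.Agent.UGT.Cov.FourK.el_mem_sub B).2 ⟨rfl, rfl, hk⟩
    refine ⟨hA.memT _, hA.memL _, ?_, fun p hp hpL => ?_⟩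
    · refine hA.eq_of hT (T.mul_mem (hA.memT _) (hA.memT _)) ((L z).mul_mem (hA.memL _) (hA.memL _)) T.one_mem
        (L z).one_mem ?_
      rw [bar_mul (hA.memL _) (hA.memL _), hA.bar, OnSupK.F_sq B h1, bar_one]
    · have h2 := OnSupK.F_comm B h1 (p := OnSupA.bar (L z) p) (hA.PT ▸ ⟨p, hp, hpL, rfl⟩)
      rw [← hA.bar, ← bar_commutator (hA.memL _) hpL, ← h.bar_self hz B, ← bar_one] at h2
      have h3 : ⁅E ⟨0, 0, c, k⟩, p⁆ ∈ T := by
        rw [commutatorElement_def]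
        exact T.mul_mem (T.mul_mem (T.mul_mem (hA.memT _) hp) (T.inv_mem (hA.memT _))) (T.inv_mem hp)
      have h4 : ⁅E ⟨0, 0, c, k⟩, p⁆ ∈ L z := by
        rw [commutatorElement_def]
        exact (L z).mul_mem ((L z).mul_mem ((L z).mul_mem (hA.memL _) hpL) ((L z).inv_mem (hA.memL _)))
          ((L z).inv_mem hpL)
      rcases h2 with h2 | h2
      · left; exact hA.eq_of hT h3 h4 T.one_mem (L z).one_mem h2
      · right; exact hA.eq_of hT h3 h4 hzT (h.mem hz) h2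

end Al

/-! ### `T` is a Sylow 2-subgroup of `G` -/

theorem sylow (h : Wd D L) (hz : z ∈ D) (hT : SylT T z) (hA : Al L T z B E) : ∃ S : Sylow 2 G, (S : Subgroup G) = T := by
  have : Fact (Nat.Prime 2) := ⟨Nat.prime_two⟩
  obtain ⟨S, hS⟩ := hT.2.1.exists_le_sylow
  refine ⟨S, (Subgroup.eq_of_le_of_card_ge hS ?_).symm⟩
  by_contra hlt
  have hlt' : T < S := lt_of_le_of_ne hS fun e => hlt (by rw [e])
  have h1 := Cfsg.Agent.Lib.GoldschmidtFusion.lt_inf_normalizer S.2 hlt'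
  -- the normalizer of `T` centralizes `z`
  have hzT := (Fi_mem h hz hT).1
  have hzz := h.sq hz
  have h2 : ∀ g ∈ normalizer (T : Set G), g * z = z * g := by
    intro g hg
    have h3 : g * z * g⁻¹ ∈ T := (mem_normalizer_iff.mp hg z).mp hzT
    have h4 : ∀ y, (g * z * g⁻¹) * E y = E y * (g * z * g⁻¹) := by
      intro y
      have h5 : g⁻¹ * E y * g ∈ T := by
        have := (mem_normalizer_iff.mp (inv_mem hg) (E y)).mp (hA.memT y)
        rwa [inv_inv] at this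
      have h6 := mem_centralizer_singleton_iff.mp (hT.1 h5)
      calc g * z * g⁻¹ * E y = g * (z * (g⁻¹ * E y * g)) * g⁻¹ := by group
        _ = g * (g⁻¹ * E y * g * z) * g⁻¹ := by rw [h6]
        _ = E y * (g * z * g⁻¹) := by group
    obtain ⟨k, hk⟩ := hA.ker h hz hT h3 h4
    have h5 : E ⟨0, 0, 0, k⟩ * E ⟨0, 0, 0, k⟩ = 1 := by
      rw [← hk]
      calc g * z * g⁻¹ * (g * z * g⁻¹) = g * (z * z) * g⁻¹ := by group
        _ = 1 := by rw [hzz]; group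
    rw [hA.mul hT, ← hA.one hT] at h5
    have h6 : ∀ k : Fin 4, cmul true ⟨0, 0, 0, k⟩ ⟨0, 0, 0, k⟩ = cone → k = 0 ∨ k = 2 := by decide +kernel
    rcases h6 k (hA.inj h5) with rfl | rfl
    · exfalso
      have h7 : E ⟨0, 0, 0, 0⟩ = 1 := hA.one hT
      rw [h7] at hk
      apply h.ne_one hz
      have : z = g⁻¹ * (g * z * g⁻¹) * g := by group
      rw [this, hk]; group
    · rw [hA.z_eq h hz hT] at hk
      exact mul_inv_eq_iff_eq_mul.mp hk
  have h3 : (S : Subgroup G) ⊓ normalizer (T : Set G) ≤ centralizer ({z} : Set G) := fun g hg =>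
    mem_centralizer_singleton_iff.mpr (h2 g hg.2)
  -- maximality of `T` in `C(z)`
  obtain ⟨n, -, h4⟩ := exists_conj_le_in hT.2.1 hT.2.2 h3 (S.2.to_le inf_le_left)
  have h5 := Nat.le_of_dvd Nat.card_pos (card_dvd_of_le h4)
  rw [card_map_conj] at h5
  have h6 := Subgroup.eq_of_le_of_card_ge h1.le h5
  exact h1.ne h6

end Cfsg.Agent.UGT.I34.OnSupD
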