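import Cfsg.Agent.UGT.I34.OnSupD

/-!
# THEOREM I34, part [A], (5.5), second half: the elements of `D ∩ T` outside `L z`

* `xc`: some `x ∈ D ∩ T` is pure of type `(true, true)` up to `E p`
* `nog`: `D ∩ C_T(F) ⊆ F`
-/

set_option autoImplicit false
set_option linter.unusedSectionVars false

open Cfsg Subgroup
open Cfsg.Agent.SignalizersComponents Cfsg.Agent.Lib
open Cfsg.Agent.SignalizersComponents.IntrinsicBasic
open Cfsg.Agent.SignalizersComponents.PLayerAut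
open Cfsg.Agent.Intrinsic
open Cfsg.Agent.Intrinsic.Basic
open Cfsg.Agent.McLLyComp.Act
open Cfsg.Agent.Lib.GoldschmidtFusion (exists_sylow_in exists_conj_le_in card_map_conj)
open Cfsg.Agent.UGT.I34.KF (NInv Y mem_Y)
open Cfsg.Agent.UGT.Cov.FourK (S YS F)
open Cfsg.Agent.SporadicA.FieldFour
open Cfsg.Agent.StdL34 (Code cmul ctau Ty cone cinv)
open Cfsg.Agent.ONType.Span (Indep)
open scoped commutatorElement

namespace Cfsg.Agent.UGT.I34.OnSupE

open OnSupA OnSupB OnSupC OnSupD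

variable {G : Type*} [Group G] [Finite G]

variable {D : Set G} {L : G → Subgroup G} {R T T' : Subgroup G} {u z e w a b : G}
  {B : StdL34.Cov (↥(L z) ⧸ oddCore ↥(L z))} {E : Code → G}

/-! ### type `c` -/

theorem tau_e0 : ∀ τ : Ty, ctau true τ ⟨0, 0, 1, 0⟩ = ⟨0, 0, 1, 0⟩ := by decide +kernel

theorem conj_e0 : ∀ p : Code, cmul true (cmul true (cinv true p) ⟨0, 0, 1, 0⟩) p = ⟨0, 0, 1, 0⟩ ∨
    cmul true (cmul true (cinv true p) ⟨0, 0, 1, 0⟩) p = ⟨0, 0, 1, 2⟩ := by decide +kernel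

theorem tau_F : ∀ (f : Bool) (c : F4) (k : Fin 4), (k = 0 ∨ k = 2) →
    (ctau true (false, f) ⟨0, 0, c, k⟩ = ⟨0, 0, c, k⟩) := by decide +kernel

theorem conj_F : ∀ (p : Code) (c : F4) (k : Fin 4), (k = 0 ∨ k = 2) →
    cmul true (cmul true (cinv true p) ⟨0, 0, c, k⟩) p = ⟨0, 0, c, k⟩ ∨
    cmul true (cmul true (cinv true p) ⟨0, 0, c, k⟩) p = cmul true ⟨0, 0, c, k⟩ ⟨0, 0, 0, 2⟩ := by decide +kernel

theorem tau_sp : ∀ (f : Bool) (k : Fin 4), ctau true (f, false) ⟨0, 0, 0, k⟩ = ⟨0, 0, 0, k⟩ := by decide +kernel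

theorem ak_of : ∀ p : Code, (∀ c : F4, cmul true p ⟨0, 0, c, 0⟩ = cmul true ⟨0, 0, c, 0⟩ p) → cmul true p p = cone →
    p.a = 0 ∧ p.b = 0 ∧ (p.k = 0 ∨ p.k = 2) := by decide +kernel

section

variable (h : Wd D L) (hz : z ∈ D) (hT : SylT T z) (hA : Al L T z B E)

include h hz hT hA

theorem E_inv (p : Code) : (E p)⁻¹ = E (cinv true p) := by
  apply inv_eq_of_mul_eq_one_right
  rw [hA.mul hT, StdL34.cmul_cinv, hA.one hT]

/-- conjugation by an element of `T` on `E y` -/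
theorem conj_E {g : G} (hg : g ∈ T) {p : Code} {τ : Ty} (hc : B.Cd (act (L z) ⟨g, SylT.norm h hz hT hg⟩) p τ) (y : Code) :
    g * E y * g⁻¹ = E (cmul true (cmul true (cinv true p) (ctau true τ y)) p) := by
  have h1 := hA.act_E h hz hT hg hc y
  rw [← hA.mul hT, ← hA.mul hT, ← E_inv h hz hT hA, ← h1]
  group

theorem e0_mem : E ⟨0, 0, 1, 0⟩ ∈ Fi L T z := (hA.mem_Fi_iff h hz hT).2 ⟨1, 0, Or.inl rfl, rfl⟩

theorem conj_e0' {g : G} (hg : g ∈ T) : g * E ⟨0, 0, 1, 0⟩ * g⁻¹ = E ⟨0, 0, 1, 0⟩ ∨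
    g * E ⟨0, 0, 1, 0⟩ * g⁻¹ = E ⟨0, 0, 1, 0⟩ * z := by
  obtain ⟨p, τ, hp⟩ := hA.exists_ty h hz hT hg
  rw [conj_E h hz hT hA hg hp, tau_e0]
  rcases conj_e0 p with h1 | h1
  · left; rw [h1]
  · right
    rw [h1]
    have h2 : cmul true ⟨0, 0, 1, 0⟩ ⟨0, 0, 0, 2⟩ = ⟨0, 0, 1, 2⟩ := by decide +kernel
    rw [← h2, ← hA.mul hT, hA.z_eq h hz hT]

/-- an element of `T` normalizing... : `F` is normal in `T` -/
theorem conj_Fi {g x : G} (hg : g ∈ T) (hx : x ∈ Fi L T z) : g * x * g⁻¹ ∈ Fi L T z := by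
  have h3 := Fi_conj (g := g) h hz hx
  have h4 := mem_centralizer_singleton_iff.mp (hT.1 hg)
  rwa [cj_eq_self_of_mem hg, h4, mul_inv_cancel_right] at h3

/-- `C_T(e₀)` is a Sylow 2-subgroup of `C(z, e₀)` -/
theorem sylC_e0 : SylC (T ⊓ centralizer ({E ⟨0, 0, 1, 0⟩} : Set G)) z (E ⟨0, 0, 1, 0⟩) := by
  have : Fact (Nat.Prime 2) := ⟨Nat.prime_two⟩
  obtain ⟨e0, he0⟩ : ∃ e0, e0 = E ⟨0, 0, 1, 0⟩ := ⟨_, rfl⟩
  have hF := e0_mem h hz hT hA
  have hconj := fun {g} => conj_e0' h hz hT hA (g := g)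
  rw [← he0] at hF hconj ⊢
  obtain ⟨N, hN⟩ : ∃ N, N = centralizer ({z} : Set G) ⊓ centralizer ({e0} : Set G) := ⟨_, rfl⟩
  have hle : T ⊓ centralizer ({e0} : Set G) ≤ N := hN ▸ inf_le_inf_right _ hT.1
  obtain ⟨R, h1, h2, h3, h4⟩ := exists_sylow_in (p := 2) hle (hT.2.1.to_le inf_le_left)
  obtain ⟨T₁, h5, h6, h7, h8⟩ := exists_sylow_in (p := 2) (N := centralizer ({z} : Set G)) (D := R)
    (h2.trans (hN ▸ inf_le_left)) h3
  have hT₁ : SylT T₁ z := ⟨h6, h7, h8⟩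
  -- `|T₁| = |T|`
  obtain ⟨g, hg, hgT⟩ := exists_conj_T hT hT₁ ⟨1, by group⟩
  have hcard : Nat.card T₁ = Nat.card T := by rw [← hgT, cj_def, card_map_conj]
  -- `|T : C_T(e0)| ≤ 2`
  have hidx : Nat.card T ≤ 2 * Nat.card (T ⊓ centralizer ({e0} : Set G) : Subgroup G) := by
    obtain ⟨C, hC⟩ : ∃ C, C = T ⊓ centralizer ({e0} : Set G) := ⟨_, rfl⟩
    rw [← hC]
    by_cases hall : ∀ g ∈ T, g ∈ C
    · have : Nat.card T ≤ Nat.card C := Nat.le_of_dvd Nat.card_pos (card_dvd_of_le hall)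
      omega
    · push Not at hall
      obtain ⟨k, hk, hkC⟩ := hall
      have hk1 : k * e0 * k⁻¹ = e0 * z := by
        refine (hconj hk).resolve_left fun h9 => hkC ?_
        rw [hC]
        exact ⟨hk, mem_centralizer_singleton_iff.mpr (mul_inv_eq_iff_eq_mul.mp h9)⟩
      have h9 : (C.subgroupOf T).index ≤ 2 := by
        rcases Nat.lt_or_ge 2 (C.subgroupOf T).index with h10 | h10
        swap
        · exact h10
        exfalso
        have h11 : (C.subgroupOf T).index = 2 := by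
          rw [index_eq_two_iff_exists_notMem_and]
          refine ⟨⟨k, hk⟩, hkC, ?_⟩
          rintro ⟨x, hx⟩
          by_cases hxC : x ∈ C
          · right; exact hxC
          · left
            have hx1 : x * e0 * x⁻¹ = e0 * z := by
              refine (hconj hx).resolve_left fun h9 => hxC ?_
              rw [hC]
              exact ⟨hx, mem_centralizer_singleton_iff.mpr (mul_inv_eq_iff_eq_mul.mp h9)⟩
            change x * k ∈ C
            rw [hC]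
            refine ⟨T.mul_mem hx hk, mem_centralizer_singleton_iff.mpr (mul_inv_eq_iff_eq_mul.mp ?_)⟩
            have hxz := mem_centralizer_singleton_iff.mp (hT.1 hx)
            calc x * k * e0 * (x * k)⁻¹ = x * (k * e0 * k⁻¹) * x⁻¹ := by group
              _ = x * (e0 * z) * x⁻¹ := by rw [hk1]
              _ = (x * e0 * x⁻¹) * (x * z) * x⁻¹ := by group
              _ = (e0 * z) * (z * x) * x⁻¹ := by rw [hx1, hxz]
              _ = e0 * (z * z) := by group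
              _ = e0 := by rw [h.sq hz, mul_one]
        omega
      have h10 := (C.subgroupOf T).card_mul_index
      have h11 : Nat.card (C.subgroupOf T) = Nat.card C :=
        Nat.card_congr (subgroupOfEquivOfLe (hC ▸ inf_le_left)).toEquiv
      rw [h11] at h10
      rw [← h10, mul_comm]
      exact Nat.mul_le_mul_right _ h9
  -- `R < T₁`
  have hRT : R ≠ T₁ := by
    intro h9
    obtain ⟨B₁, E₁, hA₁⟩ := exists_al h hz hT₁
    have h10 : ∀ y, e0 * E₁ y = E₁ y * e0 := fun y => by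
      have h11 : E₁ y ∈ R := h9 ▸ hA₁.memT y
      have hNe : N ≤ centralizer ({e0} : Set G) := hN ▸ inf_le_right
      exact (mem_centralizer_singleton_iff.mp (hNe (h2 h11))).symm
    have h12 : e0 ∈ T₁ := h5 (h1 ⟨hF.1, mem_centralizer_singleton_iff.mpr rfl⟩)
    obtain ⟨k, hk⟩ := hA₁.ker h hz hT₁ h12 h10
    have h13 : e0 ∈ L z := hF.2.1
    have h14 : bar (L z) e0 = B₁.sp k := by rw [hk, hA₁.bar, B₁.el_sp]
    have h15 : e0 ≠ 1 := by
      rw [he0, ← hA.one hT]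
      intro h16
      exact absurd (hA.inj h16) (by decide)
    have h16 : e0 ≠ z := by
      rw [he0, ← hA.z_eq h hz hT]
      intro h16
      exact absurd (hA.inj h16) (by decide)
    exact (h.not_cen hz h13 hF.2.2.1 h15 h16).2 (h14 ▸ Cfsg.Agent.UGT.Cov.KFPure.sp_mem B₁ k)
  have h9 : 2 * Nat.card R ≤ Nat.card T₁ := by
    have h10 : Nat.card R ∣ Nat.card T₁ := card_dvd_of_le h5
    obtain ⟨m, hm⟩ := h10
    have h11 : m ≠ 1 := by
      rintro rfl
      rw [mul_one] at hm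
      exact hRT (Subgroup.eq_of_le_of_card_ge h5 hm.le)
    have h12 : 0 < Nat.card T₁ := Nat.card_pos
    have h13 : m ≠ 0 := by
      rintro rfl
      rw [mul_zero] at hm
      omega
    have h14 : 2 ≤ m := by omega
    rw [hm, mul_comm]
    exact Nat.mul_le_mul_left _ h14
  have h10 : T ⊓ centralizer ({e0} : Set G) = R :=
    Subgroup.eq_of_le_of_card_ge h1 (by omega)
  rw [h10]
  exact ⟨hN ▸ h2, h3, hN ▸ h4⟩

theorem e0_ne_one : E ⟨0, 0, 1, 0⟩ ≠ 1 := by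
  rw [← hA.one hT]
  intro h1
  exact absurd (hA.inj h1) (by decide)

theorem e0_ne_z : E ⟨0, 0, 1, 0⟩ ≠ z := by
  rw [← hA.z_eq h hz hT]
  intro h1
  exact absurd (hA.inj h1) (by decide)

/-- **type `c`** -/
theorem xc : ∃ x ∈ T, x ∈ D ∧ ∃ p, ∀ y, (E p * x) * E y * (E p * x)⁻¹ = E (ctau true (true, true) y) := by
  have hR := sylC_e0 h hz hT hA
  have hF := e0_mem h hz hT hA
  have he1 := e0_ne_one h hz hT hA
  have hez := e0_ne_z h hz hT hA
  obtain ⟨e0, he0⟩ : ∃ e0, e0 = E ⟨0, 0, 1, 0⟩ := ⟨_, rfl⟩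
  rw [← he0] at hF he1 hez hR
  obtain ⟨hF1, hF2, hF3, -⟩ := id hF
  obtain ⟨heD, hzL, hze⟩ := ne_of h hz hF2 hez hF3 he1
  have hzz := h.sq hz
  have hz1 := h.ne_one hz
  have hcomm := h.comm hz hF2
  obtain ⟨A, -⟩ := h.cov heD
  obtain ⟨B', -, -, hB'⟩ := Cfsg.Agent.UGT.Cov.KFPure.exists_cov_t A (h.not_cen heD hzL hzz hz1 hze)
  obtain ⟨s', w', h1, h2, h3, h4⟩ := OnSupK.moved' B'
  rw [hB'] at h1
  obtain ⟨s, hs, hsL, rfl⟩ := h.surjC heD hzL hzz hz1 hze hR.symm.1 hR.symm.2.1 hR.symm.2.2 h1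
  have h5 := (OnSupK.F_iff_Y B').1 h3
  rw [hB'] at h5
  obtain ⟨w, hw, hwL, rfl⟩ := h.surjC heD hzL hzz hz1 hze hR.symm.1 hR.symm.2.1 hR.symm.2.2 h5.2.1
  have hR2 := hR.2.1
  have hR1 := (T ⊓ centralizer ({e0} : Set G)).one_mem
  have hss : s * s = 1 := bar_inj hR2 (mul_mem hs hs) hR1 (mul_mem hsL hsL) (L e0).one_mem (by
    rw [bar_mul hsL hsL, h2, bar_one])
  have hww : w * w = 1 := bar_inj hR2 (mul_mem hw hw) hR1 (mul_mem hwL hwL) (L e0).one_mem (by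
    rw [bar_mul hwL hwL, h5.1, bar_one])
  have hsw : s * w ≠ w * s := fun h6 => h4 ((bar_comm_iff hR2 hs hw hsL hwL).2 h6)
  have hs1 : s ≠ 1 := by rintro rfl; exact hsw (by rw [one_mul, mul_one])
  have hwF : w ∈ Fi L T z := by
    rw [Fi_eq (R := T ⊓ centralizer ({e0} : Set G)) h hz hT hF hez he1 hR2 fun p hp _ hpe =>
      ⟨hp, mem_centralizer_singleton_iff.mpr hpe⟩]
    exact FR_le h heD hzL hze hzz hz1 hR.symm ⟨hw, hwL, hww, h5.2⟩
  have hwz : w * z = z * w := mem_centralizer_singleton_iff.mp (hR.1 hw).1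
  -- `s w s⁻¹ = e₀ w`
  have h6 : ⁅w, s⁆ = e0 := by
    have h7 := OnSupK.F_comm B' h3 (p := bar (L e0) s)
      (Cfsg.Agent.UGT.Cov.FourK.S_le_T B' ((Cfsg.Agent.UGT.Cov.FourK.mem_S B').2 (by rw [hB']; exact h1)))
    rw [← bar_commutator hwL hsL, ← h.bar_self heD B'] at h7
    have h8 : ⁅w, s⁆ ∈ T ⊓ centralizer ({e0} : Set G) := by
      rw [commutatorElement_def]
      exact mul_mem (mul_mem (mul_mem hw hs) (inv_mem hw)) (inv_mem hs)
    have h9 : ⁅w, s⁆ ∈ L e0 := by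
      rw [commutatorElement_def]
      exact mul_mem (mul_mem (mul_mem hwL hsL) (inv_mem hwL)) (inv_mem hsL)
    rcases h7 with h7 | h7
    · exfalso
      rw [← bar_one] at h7
      have h10 := bar_inj hR2 h8 hR1 h9 (L e0).one_mem h7
      rw [commutatorElement_eq_one_iff_mul_comm] at h10
      exact hsw h10.symm
    · exact bar_inj hR2 h8 ⟨hF1, mem_centralizer_singleton_iff.mpr rfl⟩ h9 (h.mem heD) h7
  have h7 : s * w * s⁻¹ = e0 * w := by
    have hwi : w⁻¹ = w := inv_eq_of_mul_eq_one_left hww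
    calc s * w * s⁻¹ = (w * s * w⁻¹ * s⁻¹)⁻¹ * w := by rw [← hwi]; group
      _ = e0⁻¹ * w := by rw [← commutatorElement_def, h6]
      _ = e0 * w := by rw [inv_eq_of_mul_eq_one_left hF3]
  have hsT : s ∈ T := hs.1
  have hsD : s ∈ D := h.inv_mem heD hsL hss hs1
  obtain ⟨p, τ, hp⟩ := hA.exists_ty h hz hT hsT
  obtain ⟨c, k, hk, hwE⟩ := (hA.mem_Fi_iff h hz hT).1 hwF
  have hτ : τ = (true, true) := by
    obtain ⟨f, g⟩ := τ
    cases f
    · exfalso
      have h8 := conj_E h hz hT hA hsT hp ⟨0, 0, c, k⟩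
      rw [tau_F g c k hk] at h8
      rw [← hwE, h7] at h8
      rcases conj_F p c k hk with h9 | h9
      · rw [h9, ← hwE] at h8
        exact he1 (mul_eq_right.mp h8)
      · rw [h9, ← hA.mul hT, ← hwE, hA.z_eq h hz hT, hwz] at h8
        exact hez (mul_right_cancel h8)
    · cases g
      · exfalso
        have hsN := SylT.norm h hz hT hsT
        obtain ⟨k', hk'⟩ := h.eps hz hsD (mem_centralizer_singleton_iff.mp (hT.1 hsT)) hsN (by
          intro c hc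
          obtain ⟨l, rfl⟩ := Cfsg.Agent.UGT.Cov.KFPure.cen_sp B (OnSupK.center_eq B) hc
          have h8 := hp.el ⟨0, 0, 0, l⟩
          rw [hA.ty, tau_sp, B.el_sp, MulAut.mul_apply, MulAut.conj_apply] at h8
          have h9 : ∀ x y : ↥(L z) ⧸ oddCore ↥(L z), y * x * y⁻¹ = B.sp l → x = B.sp l := by
            intro x y hxy
            have h10 : x = y⁻¹ * (y * x * y⁻¹) * y := by group
            rw [h10, hxy, mul_assoc, B.sp_cen, inv_mul_cancel_left]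
          exact h9 _ _ h8)
        have h8 := hp.hasTy
        have h9 : B.HasTy (act (L z) ⟨s, hsN⟩) (false, false) := by
          rw [hk']; exact StdL34.Cov.hasTy_conj _
        exact absurd (h8.unique h9) (by decide)
      · rfl
  subst hτ
  exact ⟨s, hsT, hsD, p, fun y => hA.act_E h hz hT hsT hp y⟩

/-- `F` as a subgroup -/
theorem exists_FG : ∃ FG : Subgroup G, (FG : Set G) = Fi L T z := by
  refine ⟨{ carrier := Fi L T z, mul_mem' := ?_, one_mem' := ?_, inv_mem' := ?_ }, rfl⟩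
  swap
  · rw [hA.mem_Fi_iff h hz hT]
    exact ⟨0, 0, Or.inl rfl, (hA.one hT).symm⟩
  · rintro x y hx hy
    rw [hA.mem_Fi_iff h hz hT] at hx hy ⊢
    obtain ⟨c, k, hk, rfl⟩ := hx
    obtain ⟨c', k', hk', rfl⟩ := hy
    rw [hA.mul hT]
    have h1 : ∀ (c c' : F4) (k k' : Fin 4), (k = 0 ∨ k = 2) → (k' = 0 ∨ k' = 2) →
        ∃ (c'' : F4) (k'' : Fin 4), (k'' = 0 ∨ k'' = 2) ∧ cmul true ⟨0, 0, c, k⟩ ⟨0, 0, c', k'⟩ = ⟨0, 0, c'', k''⟩ := by
      intro c c' k k' h1 h2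
      have h3 := Cfsg.Agent.UGT.Cov.FourK.fk_mul true c k c' k' ⟨rfl, rfl, h1⟩ ⟨rfl, rfl, h2⟩
      generalize cmul true ⟨0, 0, c, k⟩ ⟨0, 0, c', k'⟩ = q at h3
      obtain ⟨a, b, c'', k''⟩ := q
      obtain ⟨h4, h5, h6⟩ := h3
      simp only at h4 h5 h6
      subst h4 h5
      exact ⟨c'', k'', h6, rfl⟩
    obtain ⟨c'', k'', h2, h3⟩ := h1 c c' k k' hk hk'
    exact ⟨c'', k'', h2, by rw [h3]⟩
  · intro x hx
    have : x⁻¹ = x := inv_eq_of_mul_eq_one_left hx.2.2.1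
    change x⁻¹ ∈ Fi L T z
    rwa [this]

/-- involutions of `T ∩ L z` commuting with `F` are in `F` -/
theorem mem_Fi_of {x : G} (hx : x ∈ T) (hxL : x ∈ L z) (hxx : x * x = 1) (hc : ∀ f ∈ Fi L T z, x * f = f * x) :
    x ∈ Fi L T z := by
  obtain ⟨p, rfl⟩ := hA.exists_E hT hx hxL
  obtain ⟨h1, h2, h3⟩ := ak_of p (fun c => by
    have h4 := hc (E ⟨0, 0, c, 0⟩) ((hA.mem_Fi_iff h hz hT).2 ⟨c, 0, Or.inl rfl, rfl⟩)
    rw [hA.mul hT, hA.mul hT] at h4
    exact hA.inj h4) (by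
    rw [hA.mul hT, ← hA.one hT] at hxx
    exact hA.inj hxx)
  rw [hA.mem_Fi_iff h hz hT]
  obtain ⟨a, b, c, k⟩ := p
  simp only at h1 h2 h3
  subst h1 h2
  exact ⟨c, k, h3, rfl⟩

/-- **no element of `D` centralises `F` except those of `F`** -/
theorem nog {y : G} (hy : y ∈ T) (hyD : y ∈ D) (hc : ∀ f ∈ Fi L T z, y * f = f * y) (hyL : y ∉ L z) : False := by
  have : Fact (Nat.Prime 2) := ⟨Nat.prime_two⟩
  obtain ⟨FG, hFG⟩ := exists_FG h hz hT hA
  have hmF : ∀ {x}, x ∈ FG ↔ x ∈ Fi L T z := fun {x} => by rw [← hFG]; rfl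
  have hyy := h.sq hyD
  -- conjugate `y` to `z`
  obtain ⟨k, hk, hkT⟩ : ∃ k, k * y * k⁻¹ = z ∧ ∀ f ∈ Fi L T z, k * f * k⁻¹ ∈ T := by
    obtain ⟨g, hg⟩ := h.one_class hyD hz
    have h1 : (T ⊓ centralizer ({y} : Set G)).map (MulAut.conj g).toMonoidHom ≤ centralizer ({z} : Set G) := by
      rintro _ ⟨x, hx, rfl⟩
      rw [mem_centralizer_singleton_iff, ← hg]
      have h2 := mem_centralizer_singleton_iff.mp hx.2
      change g * x * g⁻¹ * (g * y * g⁻¹) = g * y * g⁻¹ * (g * x * g⁻¹)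
      calc g * x * g⁻¹ * (g * y * g⁻¹) = g * (x * y) * g⁻¹ := by group
        _ = g * (y * x) * g⁻¹ := by rw [h2]
        _ = _ := by group
    obtain ⟨n, hn, h2⟩ := exists_conj_le_in hT.2.1 hT.2.2 h1 ((hT.2.1.to_le inf_le_left).map _)
    refine ⟨n * g, ?_, fun f hf => ?_⟩
    · have h3 := mem_centralizer_singleton_iff.mp hn
      calc n * g * y * (n * g)⁻¹ = n * (g * y * g⁻¹) * n⁻¹ := by group
        _ = z := by rw [hg, h3, mul_inv_cancel_right]
    · have h3 := h2 ⟨g * f * g⁻¹, ⟨f, ⟨hf.1, mem_centralizer_singleton_iff.mpr (hc f hf).symm⟩, rfl⟩, rfl⟩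
      change n * (g * f * g⁻¹) * n⁻¹ ∈ T at h3
      convert h3 using 1
      group
  -- an element of `F` in `L y`
  obtain ⟨f, hf, hf1, hfL⟩ : ∃ f ∈ Fi L T z, f ≠ 1 ∧ f ∈ L y := by
    let kk : Bool → Fin 4 := fun b => if b then 2 else 0
    have hkk : ∀ b, kk b = 0 ∨ kk b = 2 := by
      intro b; cases b
      · left; rfl
      · right; rfl
    have hmem : ∀ x : F4 × Bool, E ⟨0, 0, x.1, kk x.2⟩ ∈ Fi L T z := fun x =>
      (hA.mem_Fi_iff h hz hT).2 ⟨_, _, hkk _, rfl⟩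
    have hty : ∀ x : F4 × Bool, ∃ τ : Ty, ∃ p, B.Cd (act (L z) ⟨k * E ⟨0, 0, x.1, kk x.2⟩ * k⁻¹,
        SylT.norm h hz hT (hkT _ (hmem x))⟩) p τ := fun x => by
      obtain ⟨p, τ, hp⟩ := hA.exists_ty h hz hT (hkT _ (hmem x))
      exact ⟨τ, p, hp⟩
    choose τ hτ using hty
    obtain ⟨x, y', hne, hxy⟩ := Fintype.exists_ne_map_eq_of_card_lt τ (by decide)
    obtain ⟨p, hp⟩ := hτ x
    obtain ⟨q, hq⟩ := hτ y'
    have hx := hmem x
    have hy' := hmem y'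
    refine ⟨E ⟨0, 0, x.1, kk x.2⟩ * E ⟨0, 0, y'.1, kk y'.2⟩, hmF.1 (FG.mul_mem (hmF.2 hx) (hmF.2 hy')), ?_, ?_⟩
    · intro h1
      have h2 : E ⟨0, 0, x.1, kk x.2⟩ = E ⟨0, 0, y'.1, kk y'.2⟩ := by
        rw [eq_inv_of_mul_eq_one_left h1, inv_eq_of_mul_eq_one_left hy'.2.2.1]
      have h3 := hA.inj h2
      apply hne
      have h4 : x.1 = y'.1 := congrArg Code.c h3
      have h5 : kk x.2 = kk y'.2 := congrArg Code.k h3
      have h6 : ∀ a b : Bool, kk a = kk b → a = b := by decide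
      exact Prod.ext h4 (h6 _ _ h5)
    · -- type `(false, false)`
      have h1 := hp.mul hq
      rw [hxy, StdL34.Cov.Ty.mul_self, ← act_mul] at h1
      have h2 := T.mul_mem (hkT _ hx) (hkT _ hy')
      have h3 := hA.mem_L_of_ty h hz hT h2 h1
      have h4 : y = k⁻¹ * z * k⁻¹⁻¹ := by rw [← hk]; group
      rw [h4, h.L_conj hz, mem_cj, inv_inv]
      convert h3 using 1
      group
  have hyLf : y ∈ L f := h.symm hyD hfL hf.2.2.1 hf1
  -- Frattini
  obtain ⟨g, hg, hgF⟩ := exists_h h hz hT hf hf1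
  obtain ⟨S, hS⟩ := sylow h hz hT hA
  have hTN : T ≤ normalizer (FG : Set G) := by
    intro t ht
    rw [mem_normalizer_iff]
    intro x
    rw [hmF, hmF]
    exact iff_of_le (fun w hw => conj_Fi h hz hT hA ht hw) x
  have hTi : ¬ 2 ∣ T.relIndex (normalizer (FG : Set G)) := fun hd =>
    S.not_dvd_index (by rw [hS]; exact hd.trans (relIndex_dvd_index_of_le hTN))
  obtain ⟨K, hK⟩ : ∃ K, K = centralizer (FG : Set G) := ⟨_, rfl⟩
  have hKN : K ≤ normalizer (FG : Set G) := hK ▸ centralizer_le_normalizer _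
  have hKn : ∀ n ∈ normalizer (FG : Set G), ∀ c ∈ K, n * c * n⁻¹ ∈ K := by
    intro n hn c hc'
    rw [hK, mem_centralizer_iff] at hc' ⊢
    intro x hx
    have hx' : n⁻¹ * x * n ∈ (FG : Set G) := by
      have := (mem_normalizer_iff.mp (inv_mem hn) x).mp hx
      rwa [inv_inv] at this
    have h1 := hc' _ hx'
    calc x * (n * c * n⁻¹) = n * ((n⁻¹ * x * n) * c) * n⁻¹ := by group
      _ = n * (c * (n⁻¹ * x * n)) * n⁻¹ := by rw [h1]
      _ = n * c * n⁻¹ * x := by group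
  have h1 := LFourB.RelExt.sylow_inf (p := 2) (R := T) hT.2.1 hTN hTi hKN hKn
  have hgN : g ∈ normalizer (FG : Set G) := by
    rw [mem_normalizer_iff]
    intro x
    rw [hmF, hmF]
    exact iff_of_le hgF x
  have hmap : K.map (MulAut.conj g).toMonoidHom = K := by
    refine Subgroup.eq_of_le_of_card_ge ?_ (by rw [card_map_conj])
    rintro _ ⟨c, hc', rfl⟩
    exact hKn g hgN c hc'
  obtain ⟨c, hcK, hcT⟩ := LFourB.RelExt.frattini (p := 2) (hT.2.1.to_le inf_le_left : IsPGroup 2 (T ⊓ K : Subgroup G))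
    inf_le_right h1 hmap
  have hcf : c * f * c⁻¹ = f := by
    rw [hK, mem_centralizer_iff] at hcK
    rw [← hcK f (hmF.2 hf), mul_inv_cancel_right]
  have hn : c * g * z * (c * g)⁻¹ = f := by
    calc c * g * z * (c * g)⁻¹ = c * (g * z * g⁻¹) * c⁻¹ := by group
      _ = f := by rw [hg, hcf]
  -- `y' = (c g)⁻¹ y (c g)`
  have hyK : y ∈ T ⊓ K := by
    refine ⟨hy, ?_⟩
    change y ∈ K
    rw [hK, mem_centralizer_iff]
    exact fun x hx => (hc x (hmF.1 hx)).symm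
  rw [← hcT] at hyK
  obtain ⟨y', hy', h2⟩ := hyK
  change c * g * y' * (c * g)⁻¹ = y at h2
  have h3 : y' ∈ L z := by
    rw [← hn, h.L_conj hz, mem_cj, ← h2] at hyLf
    have e : (c * g)⁻¹ * (c * g * y' * (c * g)⁻¹) * (c * g) = y' := by group
    rwa [e] at hyLf
  have h4 : y' * y' = 1 := by
    have h5 : c * g * (y' * y') * (c * g)⁻¹ = 1 := by
      rw [← hyy, ← h2]; group
    have : y' * y' = (c * g)⁻¹ * (c * g * (y' * y') * (c * g)⁻¹) * (c * g) := by group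
    rw [this, h5]; group
  have h5 : y' ∈ Fi L T z := by
    refine mem_Fi_of h hz hT hA hy'.1 h3 h4 fun x hx => ?_
    have h6 := hy'.2
    rw [hK] at h6
    exact (mem_centralizer_iff.mp h6 x (hmF.2 hx)).symm
  have h6 : c * g ∈ normalizer (FG : Set G) := mul_mem (hKN hcK) hgN
  have h7 : y ∈ Fi L T z := by
    rw [← hmF, ← h2]
    exact (mem_normalizer_iff.mp h6 y').mp (hmF.2 h5)
  exact hyL h7.2.1

end

end Cfsg.Agent.UGT.I34.OnSupE
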