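import Cfsg.Agent.UGT.I34.OnT4
import Cfsg.Agent.ONType.CzLoc

/-!
# THEOREM I34, part [A], (5.5), second half: the local data of the O'Nan branch

`onLoc`: a Sylow 2-subgroup `S` of `G` with `TS S E`, the transvections of `F = {E ⟨0, 0, c, k⟩ : k = 0, 2}` in
`N_G(F)`, a class `D` of involutions containing those of `P` and one of type `c` of `S`, no element of `C_S(F) ∖ A` in
`D`: `OnLoc S F A`.
-/

set_option autoImplicit false
set_option linter.constructorNameAsVariable false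

open Subgroup Cfsg.Agent.StdL34 Cfsg.Agent.SporadicA.FieldFour
open Cfsg.Agent.ONType.Span Cfsg.Agent.ONType.Loc

namespace Cfsg.Agent.UGT.I34.OnT

universe u

/-- (5.5), second half, T-side. -/
theorem onLoc {G : Type u} [Group G] [Finite G] [IsSimpleGroup G] {S : Sylow 2 G} {E : Code → G}
    (h : TS (S : Subgroup G) E) {F A : Subgroup G} (hF : IsF E F) (hA : IsA E A)
    (tv : ∀ e a b : G, e ∈ F → a ∈ F → b ∈ F → Indep e a b →
      ∃ g ∈ normalizer (F : Set G), g * e = e * g ∧ g * a = a * g ∧ g * b * g⁻¹ = b * e)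
    {D : Set G} (hD : ∀ g : G, ∀ x ∈ D, g * x * g⁻¹ ∈ D)
    (inv : ∀ p, E p * E p = 1 → E p ≠ 1 → E p ∈ D)
    (nog : ∀ y ∈ (S : Subgroup G), y ∈ D → (∀ f ∈ F, y * f = f * y) → y ∉ A → False)
    (xc : ∃ x ∈ (S : Subgroup G), x ∈ D ∧ x * x = 1 ∧ HasTy E x (true, true)) :
    OnLoc S F A := by
  have tv' : ∃ n ∈ normalizer (F : Set G), n * E ⟨0, 0, 0, 2⟩ * n⁻¹ ≠ E ⟨0, 0, 0, 2⟩ := by
    have hind : Indep (E ⟨0, 0, 1, 0⟩) (E ⟨0, 0, F4.w, 0⟩) (E ⟨0, 0, 0, 2⟩) := by
      refine ⟨?_, ?_, h.ne (by decide), ?_, h.ne (by decide), h.ne (by decide), ?_⟩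
      · rw [← h.one]; exact h.ne (by decide)
      · rw [← h.one]; exact h.ne (by decide)
      · rw [← h.one]; exact h.ne (by decide)
      · rw [h.mul]; exact h.ne (by decide)
    obtain ⟨g, hg, -, -, h3⟩ := tv _ _ _ (mem_one_F hF) (mem_w_F hF) (mem_z_F hF) hind
    refine ⟨g, hg, fun e => ?_⟩
    rw [h3] at e
    have h4 : E ⟨0, 0, 1, 0⟩ = 1 := mul_eq_left.1 e
    exact absurd (h.eq_one h4) (by decide)
  have ng : ∀ y ∈ (S : Subgroup G), ¬ HasTy E y (false, true) := fun y hy hyt =>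
    no_g h hF hA tv' hD inv nog xc hy hyt
  obtain ⟨x, hx, hxD, hxx, hxt⟩ := xc
  refine
    { cardT := card_T h ng hx hxt
      norm := T_norm h hF
      Finv := inv_F h hF
      cardF := card_F h hF
      Adef := fun y => ⟨fun hy => ⟨A_le h hA hy, fun f hf => comm_A h hA y hy f (F_le_A hF hA hf)⟩, fun hy => ?_⟩
      cardA := card_A h hA
      comm := comm_A h hA
      exp := exp_A h hA
      invF := inv_A h hF hA
      FA := F_le_A hF hA
      tv := tv
      inv := ⟨E ⟨1, 0, 0, 0⟩, h.mem _, fun hy => ?_, ?_⟩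
      no16 := fun B hB hBe => no16 h ng hx hxt B hB hBe }
  · rcases cent_F h hF hy.1 hy.2 with ht | ht
    · exact cent_F_P h hF hA hy.1 hy.2 ht
    · exact absurd ht (ng y hy.1)
  · obtain ⟨a, c, k, e⟩ := (hA _).1 hy
    have e1 := h.inj _ _ e
    simp only [Code.mk.injEq] at e1
    have : (1 : F4) = 0 := e1.1.trans e1.2.1.symm
    exact absurd this (by decide)
  · rw [h.mul, ← h.one]
    congr 1

end Cfsg.Agent.UGT.I34.OnT
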