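import Cfsg.Agent.UGT.I34.OnSupW
import Cfsg.Agent.UGT.I34.OnTMain

/-!
# THEOREM I34, part [A], (5.5), second half: the local data of the O'Nan branch from the world (W1) without big elements
-/

set_option autoImplicit false

open Cfsg Subgroup
open Cfsg.Agent.UGT.I34.OnSupA Cfsg.Agent.UGT.I34.OnSupC Cfsg.Agent.UGT.I34.OnSupD Cfsg.Agent.UGT.I34.OnSupE
open Cfsg.Agent.Lib.GoldschmidtFusion (exists_sylow_in)

namespace Cfsg.Agent.UGT.I34.OnSupEnd

universe v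

theorem exists_sylT {G : Type*} [Group G] [Finite G] (z : G) : ∃ T : Subgroup G, SylT T z := by
  have : Fact (Nat.Prime 2) := ⟨Nat.prime_two⟩
  obtain ⟨T, -, h1, h2, h3⟩ := exists_sylow_in (p := 2) (N := centralizer ({z} : Set G)) (D := ⊥) bot_le IsPGroup.of_bot
  exact ⟨T, h1, h2, h3⟩

/-- **(5.5), second half**, for the record `Wd`. -/
theorem exists_onLoc_of {G : Type v} [Group G] [Finite G] [IsSimpleGroup G] {D : Set G} {L : G → Subgroup G}
    (h : Wd D L) {z : G} (hz : z ∈ D) {T : Subgroup G} (hT : SylT T z) :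
    ∃ (S : Sylow 2 G) (F A : Subgroup G), (S : Subgroup G) = T ∧ ONType.Loc.OnLoc S F A := by
  obtain ⟨B, E, hA⟩ := exists_al h hz hT
  obtain ⟨S, hS⟩ := sylow h hz hT hA
  have hTS : OnT.TS (S : Subgroup G) E := by
    rw [hS]
    refine ⟨hA.memT, hA.mul hT, fun p q => hA.inj, fun g hg => ?_, fun g hg hc => hA.ker h hz hT hg hc⟩
    obtain ⟨p, τ, hp⟩ := hA.exists_ty h hz hT hg
    exact ⟨p, τ, fun y => hA.act_E h hz hT hg hp y⟩
  have hF := OnT.isF_subF hTS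
  have hA' := OnT.isA_subA hTS
  have hFi : ∀ {x}, x ∈ OnT.subF hTS ↔ x ∈ OnSupB.Fi L T z := fun {x} => by
    rw [hF x, hA.mem_Fi_iff h hz hT]
  refine ⟨S, OnT.subF hTS, OnT.subA hTS, hS, OnT.onLoc hTS hF hA' ?_ (D := D) (fun g x hx => h.conj hx g) ?_ ?_ ?_⟩
  · intro e a b he ha hb hI
    obtain ⟨g, hg, h1, h2, h3⟩ := tv h hz hT (hFi.1 he) (hFi.1 ha) (hFi.1 hb) hI
    refine ⟨g, ?_, h1, h2, h3⟩
    rw [mem_normalizer_iff]
    intro x
    rw [hFi, hFi]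
    exact hg x
  · intro p h1 h2
    exact h.inv_mem hz (hA.memL p) h1 h2
  · intro y hy hyD hc hyA
    have hyT : y ∈ T := hS ▸ hy
    refine nog h hz hT hA hyT hyD (fun f hf => hc f (hFi.2 hf)) fun hyL => hyA ?_
    obtain ⟨p, rfl⟩ := hA.exists_E hT hyT hyL
    exact OnT.cent_F_P hTS hF hA' hy hc (OnT.HasTy.of hTS p)
  · obtain ⟨x, hx, hxD, p, hp⟩ := xc h hz hT hA
    exact ⟨x, hS.symm ▸ hx, hxD, h.sq hxD, p, hp⟩

/-- **THEOREM I34, part [A], (5.5)**: the world (W1) of type `4₁` without big elements gives the local data of the O'Nan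
branch, for every Sylow 2-subgroup of `C(z)`. -/
theorem exists_onLoc {G : Type v} [Group G] [Finite G] [IsSimpleGroup G] {κ : Pair.Kind.{v}} {D : Set G}
    {L : G → Subgroup G} (h : WOne.W1 κ true D L) (hb : Four.NoBig κ D L) (he : WSupply.NoEps D L)
    (hcov : ∀ u ∈ D, ∃ A : StdL34.Cov (↥(L u) ⧸ oddCore ↥(L u)), A.ty = true) {z : G} (hz : z ∈ D)
    {T : Subgroup G} (hT : SylT T z) :
    ∃ (S : Sylow 2 G) (F A : Subgroup G), (S : Subgroup G) = T ∧ ONType.Loc.OnLoc S F A :=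
  exists_onLoc_of (OnSupW.wd_of h hb he hcov) hz hT

/-- The same, for some Sylow 2-subgroup. -/
theorem exists_onLoc' {G : Type v} [Group G] [Finite G] [IsSimpleGroup G] {κ : Pair.Kind.{v}} {D : Set G}
    {L : G → Subgroup G} (h : WOne.W1 κ true D L) (hb : Four.NoBig κ D L) (he : WSupply.NoEps D L)
    (hcov : ∀ u ∈ D, ∃ A : StdL34.Cov (↥(L u) ⧸ oddCore ↥(L u)), A.ty = true) {z : G} (hz : z ∈ D) :
    ∃ (S : Sylow 2 G) (F A : Subgroup G), (S : Subgroup G) ≤ centralizer ({z} : Set G) ∧ ONType.Loc.OnLoc S F A := by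
  obtain ⟨T, hT⟩ := exists_sylT z
  obtain ⟨S, F, A, rfl, h1⟩ := exists_onLoc h hb he hcov hz hT
  exact ⟨S, F, A, hT.1, h1⟩

end Cfsg.Agent.UGT.I34.OnSupEnd
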