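import Cfsg.Agent.UGT.I34.GTwo
import Cfsg.Agent.UGT.I34.WOne
import Cfsg.Agent.UGT.I34.Zero

/-!
# THEOREM I34, part [A]: the supply of the worlds W0 and W1

`(z, L)` a pair, `D` the class of `z`.

* `exists_elt`: if `u`, `v ∈ D` commute, `X ∈ Ω_u` and `v` does not fix `X`, then `X` contains `w ∈ D` not fixing `X`;
* `mem_cls_of_sq`: then all involutions of `X` are in `D`; `unique`: `|Ω_u| = 1`;
* `exists_w1`: the world `W1 κ τ D Lf`;
* `false_of_zero`: otherwise the world `W0`, impossible in a simple group;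
* `exists_world`: in a simple group there is a world `W1`.
-/

set_option autoImplicit false

open Cfsg Subgroup
open Cfsg.Agent.SignalizersComponents Cfsg.Agent.Lib
open Cfsg.Agent.SignalizersComponents.IntrinsicBasic
open Cfsg.Agent.Intrinsic
open Cfsg.Agent.Intrinsic.Basic hiding IsPair PQS Target
open Cfsg.Agent.Intrinsic.Cen hiding pair_comm pair_mem_cen exists_pump pump_unique
open Cfsg.Agent.Intrinsic.Quot hiding Big small_or_big isPair_quot mk_eq_one_iff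
open Cfsg.Agent.Intrinsic.TypesDef (Om exists_om sup_of_card)
open Cfsg.Agent.McLLyComp.Act
open Cfsg.Agent.UGT.I34.Pair Cfsg.Agent.UGT.I34.KAut Cfsg.Agent.UGT.I34.FixLift Cfsg.Agent.UGT.I34.Elem
open Cfsg.Agent.UGT.I34.GOne Cfsg.Agent.UGT.I34.GTwo
open Cfsg.Agent.UGT.I34.KF (Facts NInv)
open Cfsg.Agent.UGT.I34.WOne (Tgt W1)
open scoped commutatorElement

namespace Cfsg.Agent.UGT.I34.WSupply

universe u

section lift

variable {G : Type*} [Group G] [Finite G]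

/-- lifting of conjugacy of involutions -/
theorem conj_lift {M : Subgroup G} {s t : G} (hs : s ∈ M) (ht : t ∈ M) (hs2 : s * s = 1)
    (ht2 : t * t = 1) {k : ↥M ⧸ oddCore ↥M}
    (hk : k * QuotientGroup.mk ⟨s, hs⟩ * k⁻¹ = QuotientGroup.mk ⟨t, ht⟩) :
    ∃ g ∈ M, g * s * g⁻¹ = t := by
  obtain ⟨⟨g, hg⟩, rfl⟩ := QuotientGroup.mk_surjective k
  have h1 : (QuotientGroup.mk ⟨g * s * g⁻¹, mul_mem (mul_mem hg hs) (inv_mem hg)⟩ :
      ↥M ⧸ oddCore ↥M) = QuotientGroup.mk ⟨t, ht⟩ := hk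
  rw [mk_eq_iff] at h1
  obtain ⟨o, ho, hob⟩ := Lifting.exists_conj_eq (odd_card_core M) (v := g * s * g⁻¹) (v' := t)
    (n := 1) (m := 1)
    (by rw [pow_one, pow_two, show g * s * g⁻¹ * (g * s * g⁻¹) = g * (s * s) * g⁻¹ by group,
      hs2, mul_one, mul_inv_cancel]) (by rw [pow_one, pow_two, ht2])
    (le_normalizer_core M (mul_mem (mul_mem hg hs) (inv_mem hg))) h1
  refine ⟨o * g, mul_mem (core_le M ho) hg, ?_⟩
  rw [← hob]
  group

end lift

variable {κ : Kind.{u}} {G : Type u} [Group G]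

/-- the class of `z` -/
def cls {G : Type*} [Group G] (z : G) : Set G := {u | ∃ g, g * z * g⁻¹ = u}

theorem exists_om_of_mem {z : G} (L : Subgroup G) {u : G} (h : u ∈ cls z) : ∃ X, Om z L u X := by
  obtain ⟨g, rfl⟩ := h
  exact ⟨_, g, rfl, rfl⟩

theorem mem_cls {z : G} {L : Subgroup G} {u : G} {X : Subgroup G} (h : Om z L u X) : u ∈ cls z := by
  obtain ⟨g, h1, -⟩ := h
  exact ⟨g, h1⟩

theorem mem_cls_of_conj {z u v : G} (h : u ∈ cls z) {g : G} (hg : g * u * g⁻¹ = v) : v ∈ cls z := by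
  obtain ⟨k, rfl⟩ := h
  exact ⟨g * k, by rw [← hg]; group⟩

theorem exists_conj_of_mem {z u v : G} (hu : u ∈ cls z) (hv : v ∈ cls z) : ∃ g, g * u * g⁻¹ = v := by
  obtain ⟨k, rfl⟩ := hu
  obtain ⟨l, rfl⟩ := hv
  exact ⟨l * k⁻¹, by group⟩

variable [Finite G] {z u v : G} {L X X' : Subgroup G}

/-- an involution of `D` in `X` not fixing `X` -/
theorem exists_elt (F : KF κ) (E : KG κ) (hN : PQS κ (Nat.card G)) (hT : OneComp κ)
    (hC : ∀ x : G, orderOf x = 2 → centralizer ({x} : Set G) ≠ ⊤) (hp : IsPair κ z L)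
    (hX : Om z L u X) (hX' : Om z L v X') (huv : u * v = v * u) (hnf : ¬ Fixes v X) :
    ∃ w ∈ X, w ∈ cls z ∧ w * w = 1 ∧ ¬ Fixes w X := by
  have hpu := Om.pair' hX hp
  have hpv := Om.pair' hX' hp
  have hn : v ∈ normalizer (X : Set G) :=
    mem_normalizer_iff_cj.mpr (no_type_two F E hN hT hC hp huv hX hX')
  obtain ⟨w, hwX, hw2, hwv, hwf, ⟨g, hg, hgw⟩, ⟨g', hg', hgw'⟩, -⟩ :=
    exists_w F E hN hT hC hp hX hX' huv hn hnf
  -- the main step for `w'`
  have key : ∀ w' ∈ X, w' * w' = 1 → w' * v = v * w' → ¬ Fixes w' X → v * w' ∈ cls z →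
      ¬ Fixes (v * w') X' → ∃ w ∈ X, w ∈ cls z ∧ w * w = 1 ∧ ¬ Fixes w X := by
    intro w' hw'X hw'2 hw'v hw'f hD hf'
    obtain ⟨Y, hY⟩ := exists_om_of_mem L hD
    have hcomm : v * (v * w') = v * w' * v := by rw [mul_assoc, hw'v]
    have hn' : v * w' ∈ normalizer (X' : Set G) :=
      mem_normalizer_iff_cj.mpr (no_type_two F E hN hT hC hp hcomm hX' hY)
    obtain ⟨k, -, hk⟩ := swap F E hN hT hC hp hX' hY hcomm hn' hf'
    refine ⟨w', hw'X, mem_cls_of_conj hD (g := k) ?_, hw'2, hw'f⟩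
    rw [hk, mul_assoc, hw'v, ← mul_assoc, hpv.sq, one_mul]
  by_cases h1 : Fixes (v * w) X'
  · have h2 : ¬ Fixes (v * (w * u)) X' := by
      intro h2
      apply hnf
      refine typeZero_symm hp hX' hX huv.symm ?_
      have h3 := WZero.fixes_mul (WZero.fixes_inv h1) h2
      rwa [show (v * w)⁻¹ * (v * (w * u)) = u by group] at h3
    have hwu := pair_comm hpu hwX
    refine key (w * u) (mul_mem hwX hpu.mem) ?_ ?_ ?_ (mem_cls_of_conj (mem_cls hX') hgw') h2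
    · rw [show w * u * (w * u) = w * (u * w) * u by group, ← hwu,
        show w * (w * u) * u = (w * w) * (u * u) by group, hw2, hpu.sq, one_mul]
    · rw [mul_assoc, huv, ← mul_assoc, hwv, mul_assoc]
    · intro h3
      apply hwf
      have h4 := WZero.fixes_mul h3 (WZero.fixes_inv (fixes_pair hpu))
      rwa [mul_inv_cancel_right] at h4
  · exact key w hwX hw2 hwv hwf (mem_cls_of_conj (mem_cls hX') hgw) h1

/-- all involutions of `X` are in `D` -/
theorem mem_cls_of_sq {τ : Bool} (E : KG κ) (hF : ∀ (K : Type u) [Group K] [Finite K], κ.P K → Facts K τ)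
    (hp : IsPair κ z L) (hX : Om z L u X) {w : G} (hw : w ∈ X) (hwD : w ∈ cls z) (hw2 : w * w = 1)
    (hwf : ¬ Fixes w X) {t : G} (ht : t ∈ X) (ht2 : t * t = 1) (ht1 : t ≠ 1) : t ∈ cls z := by
  have hpu := Om.pair' hX hp
  by_cases htf : Fixes t X
  · rw [eq_of_fixes E hpu.kind ht hpu.mem ht2 hpu.sq ht1 hpu.ne_one htf (fixes_pair hpu)
      (pair_comm hpu ht)]
    exact mem_cls hX
  · have hninv : ∀ s (hs : s ∈ X), s * s = 1 → ¬ Fixes s X →
        NInv (QuotientGroup.mk ⟨s, hs⟩ : ↥X ⧸ oddCore ↥X) := by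
      intro s hs hs2 hsf
      refine ⟨?_, fun h => hsf (fixes_of_mk_mem_center hs h)⟩
      change (QuotientGroup.mk ⟨s * s, _⟩ : ↥X ⧸ oddCore ↥X) = 1
      rw [mk_eq_one_iff, hs2]
      exact one_mem _
    obtain ⟨k, hk⟩ := (hF _ hpu.kind).conj (hninv w hw hw2 hwf) (hninv t ht ht2 htf)
    obtain ⟨g, -, hg⟩ := conj_lift hw ht hw2 ht2 hk
    exact mem_cls_of_conj hwD hg

/-- `|Ω_u| = 1` -/
theorem unique {u : G} {X X₁ : Subgroup G} (hp : IsPair κ z L) (hX : Om z L u X) (hX₁ : Om z L u X₁)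
    {w : G} (hw : w ∈ X) (hwD : w ∈ cls z) (hwf : ¬ Fixes w X) : X₁ = X := by
  by_contra hne
  obtain ⟨Y, hY⟩ := exists_om_of_mem L hwD
  have h1 := Om.pair' hX hp
  have h2 := Om.pair' hX₁ hp
  have h3 := Om.pair' hY hp
  apply hwf
  rw [typeZero_indep h1 h2 h3 (pair_comm h1 hw).symm]
  exact h2.comp.fixes_of_mem h1.comp hne hw

/-- type `eps` does not occur (`HEps` of `WOneC/ExY.lean`) -/
def NoEps (D : Set G) (Lf : G → Subgroup G) : Prop :=
  ∀ u ∈ D, ∀ v ∈ D, v * u = u * v → ∀ hn : v ∈ normalizer (Lf u : Set G),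
    act (Lf u) ⟨v, hn⟩ ∈ Inn (↥(Lf u) ⧸ oddCore ↥(Lf u)) ∨
      ¬ ∀ i ∈ center (↥(Lf u) ⧸ oddCore ↥(Lf u)), act (Lf u) ⟨v, hn⟩ i = i

/-- **The world W1**, with more information. -/
theorem exists_w1_eps {τ : Bool} (F : KF κ) (E : KG κ)
    (hF : ∀ (K : Type u) [Group K] [Finite K], κ.P K → Facts K τ)
    (hN : PQS κ (Nat.card G)) (hT : OneComp κ) (hT' : Tgt κ)
    (hC : ∀ x : G, orderOf x = 2 → centralizer ({x} : Set G) ≠ ⊤) (hp : IsPair κ z L)
    (hX : Om z L u X) (hX' : Om z L v X') (huv : u * v = v * u) (hnf : ¬ Fixes v X) :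
    ∃ Lf : G → Subgroup G, W1 κ τ (cls z) Lf ∧ Lf z = L ∧ NoEps (cls z) Lf ∧
      ∀ u ∈ cls z, Om z L u (Lf u) := by
  classical
  obtain ⟨w, hw, hwD, hw2, hwf⟩ := exists_elt F E hN hT hC hp hX hX' huv hnf
  -- for all pairs
  have hall : ∀ u₁ X₁, Om z L u₁ X₁ → ∃ w ∈ X₁, w ∈ cls z ∧ w * w = 1 ∧ ¬ Fixes w X₁ := by
    intro u₁ X₁ h₁
    obtain ⟨k, rfl, rfl⟩ := hX
    obtain ⟨l, rfl, rfl⟩ := h₁
    have h2 : cj l L = cj (l * k⁻¹) (cj k L) := by rw [← cj_mul, inv_mul_cancel_right]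
    refine ⟨l * k⁻¹ * w * (l * k⁻¹)⁻¹, ?_, mem_cls_of_conj hwD rfl, ?_, ?_⟩
    · rw [h2]; exact conj_mem_cj hw
    · rw [show l * k⁻¹ * w * (l * k⁻¹)⁻¹ * (l * k⁻¹ * w * (l * k⁻¹)⁻¹) =
        l * k⁻¹ * (w * w) * (l * k⁻¹)⁻¹ by group, hw2, mul_one, mul_inv_cancel]
    · intro hf
      apply hwf
      rw [h2] at hf
      have h3 := hf.cj (l * k⁻¹)⁻¹
      rw [← cj_mul, inv_mul_cancel, cj_one] at h3
      rwa [show (l * k⁻¹)⁻¹ * (l * k⁻¹ * w * (l * k⁻¹)⁻¹) * (l * k⁻¹)⁻¹⁻¹ = w by group] at h3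
  have huniq : ∀ u₁ X₁ X₂, Om z L u₁ X₁ → Om z L u₁ X₂ → X₁ = X₂ := by
    intro u₁ X₁ X₂ h₁ h₂
    obtain ⟨w, hw, hwD, -, hwf⟩ := hall u₁ X₂ h₂
    exact unique hp h₂ h₁ hw hwD hwf
  obtain ⟨Lf, hLf⟩ : ∃ Lf : G → Subgroup G, ∀ u₁ ∈ cls z, Om z L u₁ (Lf u₁) := by
    refine ⟨fun u₁ => if h : ∃ Y, Om z L u₁ Y then h.choose else ⊥, fun u₁ hu₁ => ?_⟩
    have h := exists_om_of_mem L hu₁
    change Om z L u₁ (if h : ∃ Y, Om z L u₁ Y then h.choose else ⊥)
    rw [dif_pos h]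
    exact h.choose_spec
  refine ⟨Lf, ?_, huniq z _ _ (hLf z ⟨1, by group⟩) (TypesDef.Om.refl z L),
    fun a ha b hb hab hn => inn_or F hN hT hC hp (hLf a ha) (hLf b hb) hab.symm hn, hLf⟩
  refine
    { ih := hN
      tgt := hT'
      cent := hC
      pair := fun hu => Om.pair' (hLf _ hu) hp
      facts := fun hu => hF _ (Om.pair' (hLf _ hu) hp).kind
      conj := fun hu g => mem_cls_of_conj hu rfl
      L_conj := fun {u} hu g => huniq _ _ _ (hLf _ (mem_cls_of_conj hu rfl)) ((hLf _ hu).cj g)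
      one_class := fun hu hv => exists_conj_of_mem hu hv
      swap := ?_
      inv_mem := ?_ }
  · intro a b ha hb hab hf
    have hn : b ∈ normalizer (Lf a : Set G) :=
      mem_normalizer_iff_cj.mpr (no_type_two F E hN hT hC hp hab (hLf a ha) (hLf b hb))
    obtain ⟨g, hg, hgb⟩ := swap F E hN hT hC hp (hLf a ha) (hLf b hb) hab hn hf
    exact ⟨g⁻¹, InvMemClass.inv_mem hg, by rw [inv_inv]; exact hgb⟩
  · intro a t ha ht ht2 ht1
    obtain ⟨w, hw, hwD, hw2, hwf⟩ := hall a _ (hLf a ha)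
    exact mem_cls_of_sq E hF hp (hLf a ha) hw hwD hw2 hwf ht ht2 ht1

/-- **The world W1.** -/
theorem exists_w1 {τ : Bool} (F : KF κ) (E : KG κ)
    (hF : ∀ (K : Type u) [Group K] [Finite K], κ.P K → Facts K τ)
    (hN : PQS κ (Nat.card G)) (hT : OneComp κ) (hT' : Tgt κ)
    (hC : ∀ x : G, orderOf x = 2 → centralizer ({x} : Set G) ≠ ⊤) (hp : IsPair κ z L)
    (hX : Om z L u X) (hX' : Om z L v X') (huv : u * v = v * u) (hnf : ¬ Fixes v X) :
    ∃ Lf : G → Subgroup G, W1 κ τ (cls z) Lf ∧ Lf z = L := by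
  obtain ⟨Lf, h1, h2, -⟩ := exists_w1_eps F E hF hN hT hT' hC hp hX hX' huv hnf
  exact ⟨Lf, h1, h2⟩

/-! ### the world W0 -/

/-- in world `W0` all pump-ups are small -/
theorem small (E : KG κ) (hN : PQS κ (Nat.card G)) (hT' : Tgt κ)
    (hC : ∀ x : G, orderOf x = 2 → centralizer ({x} : Set G) ≠ ⊤) (hp : IsPair κ z L)
    (h0 : ∀ u X v Y, Om z L u X → Om z L v Y → v * u = u * v → Fixes v X)
    {x : G} (hX : Om z L u X) (hx : x * x = 1) (hx1 : x ≠ 1) (hxu : x * u = u * x) (hf : Fixes x X)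
    {M : Subgroup G} (hM : IsComp (centralizer ({x} : Set G)) M) (hle : cen X x ≤ M) :
    Small (cen X x) M := by
  have h := Om.pair' hX hp
  have hxC : x ∈ centralizer ({u} : Set G) := mem_centralizer_singleton_iff.mpr hxu
  obtain ⟨hJc, hJs⟩ := isComp_cen h.comp hxC hx hf
  have hJc' := hJc
  rw [inf_comm] at hJc'
  have hJk : κ.P (↥(cen X x) ⧸ oddCore ↥(cen X x)) := (kind_cen h.comp hxC hx hf).mpr h.kind
  have huJ : u ∈ cen X x := pair_mem_cen h hxu
  have hx2 : orderOf x = 2 := orderOf_eq_prime (by rw [pow_two, hx]) hx1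
  have hcard : Nat.card M < Nat.card G := by
    refine lt_of_le_of_lt (Subgroup.card_le_of_le hM.le) ?_
    refine lt_of_le_of_ne (Subgroup.card_le_card_group _) fun h1 => hC x hx2 ?_
    exact Subgroup.eq_top_of_card_eq _ h1
  rcases small_or_big hN h.inv huJ hJc' hJk hM hle hcard with h1 | h1
  · exact h1
  exfalso
  obtain ⟨hu', hbig⟩ := h1
  have hpq := isPair_quot h.sq h.ne_one huJ hu' (isComp_inf hJc' hM hle) hJk
  obtain ⟨-, hone⟩ := hT' _ _ _ hbig hpq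
  -- a noncentral involution of `cen X x`
  obtain ⟨g, hg2, hgc⟩ := E.inv hJk
  obtain ⟨⟨c, hc⟩, rfl⟩ := QuotientGroup.mk_surjective g
  have hc2 : c ^ 2 ^ 1 ∈ core (cen X x) := by
    rw [pow_one, pow_two, ← mk_eq_one_iff (mul_mem hc hc)]
    exact hg2
  obtain ⟨k, hk1, hk2⟩ := Lifting.exists_two_part (odd_card_core (cen X x)) hc2
  have ht : c ^ k ∈ cen X x := pow_mem hc k
  have ht2 : c ^ k * c ^ k = 1 := by rw [pow_one, pow_two] at hk1; exact hk1
  have hmk : (QuotientGroup.mk ⟨c, hc⟩ : ↥(cen X x) ⧸ oddCore ↥(cen X x)) =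
      QuotientGroup.mk ⟨c ^ k, ht⟩ := (mk_eq_iff hc ht).mpr hk2
  rw [hmk] at hgc
  obtain ⟨t, htd⟩ : ∃ t, t = c ^ k := ⟨_, rfl⟩
  simp only [← htd] at ht ht2 hgc
  have ht1 : t ≠ 1 := by
    rintro rfl
    apply hgc
    have : (QuotientGroup.mk ⟨1, ht⟩ : ↥(cen X x) ⧸ oddCore ↥(cen X x)) = 1 := rfl
    rw [this]
    exact one_mem _
  have htX : t ∈ X := cen_le X x ht
  have htf : ¬ Fixes t X := by
    intro hf'
    apply hgc
    obtain ⟨e, he⟩ := exists_quotEquiv hJs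
    rw [mem_center_iff]
    intro y
    apply e.injective
    rw [map_mul, map_mul, he t ht htX]
    exact mem_center_iff.mp (mk_mem_center htX hf') (e y)
  apply htf
  -- `t` is conjugate to `u` in `M`
  have htq : (QuotientGroup.mk ⟨t, hle ht⟩ : ↥M ⧸ oddCore ↥M) ≠ 1 := by
    rw [Ne, mk_eq_one_iff]
    exact fun h2 => ht1 (eq_one_of_mem_core_sq h2 ht2)
  obtain ⟨k', hk'⟩ := hone (QuotientGroup.mk ⟨t, hle ht⟩) (by
    change (QuotientGroup.mk ⟨t * t, _⟩ : ↥M ⧸ oddCore ↥M) = 1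
    rw [mk_eq_one_iff, ht2]
    exact one_mem _) htq
  obtain ⟨m, -, hm⟩ := conj_lift hu' (hle ht) h.sq ht2 hk'
  obtain ⟨Y, hY⟩ := exists_om_of_mem L (mem_cls_of_conj (mem_cls hX) hm)
  exact h0 u X t Y hX hY (pair_comm h htX)

theorem worldZero (E : KG κ) (hN : PQS κ (Nat.card G)) (hT' : Tgt κ)
    (hC : ∀ x : G, orderOf x = 2 → centralizer ({x} : Set G) ≠ ⊤) (hp : IsPair κ z L)
    (h0 : ∀ u X v Y, Om z L u X → Om z L v Y → v * u = u * v → Fixes v X) :
    Zero.World (Om z L) := by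
  refine
    { ex := ⟨z, L, TypesDef.Om.refl z L⟩
      inv := fun u X h => (Om.pair' h hp).sq
      ne := fun u X h => (Om.pair' h hp).ne_one
      mem := fun u X h => (Om.pair' h hp).mem
      comp := fun u X h => (Om.pair' h hp).comp
      conj := fun u X g h => h.cj g
      type0 := h0
      pump := ?_ }
  intro u X x hX hx hx1 hxu hf
  have h := Om.pair' hX hp
  obtain ⟨M, hM, hle, huM⟩ := exists_pump h hx hxu hf
  have hs := small E hN hT' hC hp h0 hX hx hx1 hxu hf hM hle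
  have hMk : κ.P (↥M ⧸ oddCore ↥M) := kind_of_small hs
    ((kind_cen h.comp (mem_centralizer_singleton_iff.mpr hxu) hx hf).mpr h.kind)
  have huf : Fixes u M := hs.fixes (pair_mem_cen h hxu) fun y hy =>
    mem_centralizer_singleton_iff.mpr (pair_comm h (cen_le X x hy))
  refine ⟨M, hM, hle, huM, huf, fun hxM => ?_, fun a ha ha2 ha1 haf => ?_⟩
  · -- `x = u`, `M = X`
    have hxf : Fixes x M := WZero.fixes_of_comm fun y hy =>
      (mem_centralizer_singleton_iff.mp (hM.le hy)).symm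
    have hxu' : x = u := eq_of_fixes E hMk hxM huM hx h.sq hx1 h.ne_one hxf huf hxu
    subst hxu'
    rw [pump_unique h hx hxu hf hM h.comp hle (cen_le X x)]
    exact hX
  · have h3 := E.uniq hMk _ (mk_mem_center ha haf) _ (mk_mem_center huM huf)
      (by change (QuotientGroup.mk ⟨a * a, _⟩ : ↥M ⧸ oddCore ↥M) = 1
          rw [mk_eq_one_iff, ha2]
          exact one_mem _)
      (by change (QuotientGroup.mk ⟨u * u, _⟩ : ↥M ⧸ oddCore ↥M) = 1
          rw [mk_eq_one_iff, h.sq]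
          exact one_mem _)
      (by rw [Ne, mk_eq_one_iff]; exact fun h2 => ha1 (eq_one_of_mem_core_sq h2 ha2))
      (by rw [Ne, mk_eq_one_iff]; exact fun h2 => h.ne_one (eq_one_of_mem_core_sq h2 h.sq))
    obtain ⟨m, -, hm⟩ := conj_lift huM ha h.sq ha2 (k := 1)
      (by rw [one_mul, inv_one, mul_one]; exact h3.symm)
    exact exists_om_of_mem L (mem_cls_of_conj (mem_cls hX) hm)

omit [Finite G] in
/-- centralizers of involutions of a simple group containing a pair are proper -/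
theorem cent_ne_top [IsSimpleGroup G] (hp : IsPair κ z L) (x : G) (hx : orderOf x = 2) :
    centralizer ({x} : Set G) ≠ ⊤ := by
  intro h
  have h1 : x ∈ center G := by
    rw [mem_center_iff]
    intro g
    exact mem_centralizer_singleton_iff.mp (h ▸ mem_top g)
  have hx1 : x ≠ 1 := by
    rintro rfl
    simp at hx
  have h2 : center G = ⊤ := by
    rcases IsSimpleGroup.eq_bot_or_eq_top_of_normal (center G) inferInstance with h3 | h3
    · exact absurd (mem_bot.mp (h3 ▸ h1)) hx1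
    · exact h3
  have h3 : ⁅L, L⁆ = ⊥ := by
    rw [commutator_eq_bot_iff_le_centralizer]
    intro y _
    rw [mem_centralizer_iff]
    intro b _
    exact mem_center_iff.mp (h2 ▸ mem_top y : y ∈ center G) b
  rw [hp.comp.perfect] at h3
  exact hp.ne_one (mem_bot.mp (h3 ▸ hp.mem))

/-- **The worlds of part [A]**, with `NoEps`. -/
theorem exists_world_eps [IsSimpleGroup G] {τ : Bool} (F : KF κ) (E : KG κ)
    (hF : ∀ (K : Type u) [Group K] [Finite K], κ.P K → Facts K τ)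
    (hN : PQS κ (Nat.card G)) (hT : OneComp κ) (hT' : Tgt κ) (hp : IsPair κ z L)
    (h1173 : ∀ (S : Sylow 2 G) (T : Subgroup G), IsStronglyClosed T (S : Subgroup G) →
      ((⨅ n : ℕ, derivedSeries ↥(centralizer (T : Set G)) n).map
        (centralizer (T : Set G)).subtype).Normal) :
    ∃ Lf : G → Subgroup G, W1 κ τ (cls z) Lf ∧ Lf z = L ∧ NoEps (cls z) Lf ∧
      ∀ u ∈ cls z, Om z L u (Lf u) := by
  have hC := cent_ne_top hp
  by_cases h0 : ∀ u X v Y, Om z L u X → Om z L v Y → v * u = u * v → Fixes v X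
  · exact ((worldZero E hN hT' hC hp h0).false_of h1173).elim
  · push Not at h0
    obtain ⟨u, X, v, Y, hX, hY, huv, hf⟩ := h0
    exact exists_w1_eps F E hF hN hT hT' hC hp hX hY huv.symm hf

/-- **The worlds of part [A].** -/
theorem exists_world [IsSimpleGroup G] {τ : Bool} (F : KF κ) (E : KG κ)
    (hF : ∀ (K : Type u) [Group K] [Finite K], κ.P K → Facts K τ)
    (hN : PQS κ (Nat.card G)) (hT : OneComp κ) (hT' : Tgt κ) (hp : IsPair κ z L)
    (h1173 : ∀ (S : Sylow 2 G) (T : Subgroup G), IsStronglyClosed T (S : Subgroup G) →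
      ((⨅ n : ℕ, derivedSeries ↥(centralizer (T : Set G)) n).map
        (centralizer (T : Set G)).subtype).Normal) :
    ∃ Lf : G → Subgroup G, W1 κ τ (cls z) Lf ∧ Lf z = L := by
  obtain ⟨Lf, h1, h2, -⟩ := exists_world_eps F E hF hN hT hT' hp h1173
  exact ⟨Lf, h1, h2⟩

end Cfsg.Agent.UGT.I34.WSupply
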