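import Cfsg.Agent.UGT.I34.OnSupE
import Cfsg.Agent.UGT.I34.Four
import Cfsg.Agent.UGT.I34.WSupply

/-!
# THEOREM I34, part [A], (5.5), second half: the record `Wd` from the world W1 without big elements
-/

set_option autoImplicit false

open Cfsg Subgroup
open Cfsg.Agent.SignalizersComponents Cfsg.Agent.Lib
open Cfsg.Agent.SignalizersComponents.IntrinsicBasic
open Cfsg.Agent.SignalizersComponents.PLayerAut
open Cfsg.Agent.Intrinsic.Basic (Fixes)
open Cfsg.Agent.McLLyComp.Act
open Cfsg.Agent.UGT.I34.Pair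
open Cfsg.Agent.UGT.I34.WOne (W1)
open Cfsg.Agent.UGT.I34.Four (NoBig mem_of_noBig)
open Cfsg.Agent.UGT.I34.WSupply (NoEps)

namespace Cfsg.Agent.UGT.I34.OnSupW

universe v

variable {G : Type v} [Group G] [Finite G] {κ : Kind.{v}} {D : Set G} {L : G → Subgroup G}

theorem wd_of (h : W1 κ true D L) (hb : NoBig κ D L) (he : NoEps D L)
    (hcov : ∀ u ∈ D, ∃ A : StdL34.Cov (↥(L u) ⧸ oddCore ↥(L u)), A.ty = true) : OnSupA.Wd D L where
  sq := h.sq
  ne_one := h.ne_one
  conj := h.conj
  L_conj := h.L_conj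
  one_class := h.one_class
  comm := h.comm
  mem := h.mem
  inv_mem := h.inv_mem
  symm := h.mem_of_mem
  cov := fun hu => hcov _ hu
  nb := fun hu hx _ hn hf => mem_of_noBig h hb hu hn hx hf
  eps := by
    intro u v hu hv huv hn hc
    rcases he u hu v hv huv hn with h1 | h1
    · obtain ⟨k, hk⟩ := h1
      exact ⟨k, hk.symm⟩
    · exact absurd hc h1

end Cfsg.Agent.UGT.I34.OnSupW
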