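import Cfsg.Agent.UGT.I34.OnCode
import Cfsg.Agent.Lib.GoldschmidtFusion
import Cfsg.Agent.LFourB.RelExt
import Cfsg.Agent.Transfer.ThompsonTransfer

/-!
# THEOREM I34, part [A], (5.5), second half: the Sylow 2-subgroup

`TS T E`: the 2-group `T` contains the Sylow 2-subgroup `P = {E p}` of `4₁.L₃(4)` (in the codes of `StdL34`), every
element of `T` acts on `P` as an element of `P` times a pure outer type, and an element of `T` centralising `P` is in
`Z(P)`. This file: types of elements, involutions of type `c`, elementary abelian subgroups.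
-/

set_option autoImplicit false
set_option linter.constructorNameAsVariable false

open Subgroup Cfsg.Agent.StdL34 Cfsg.Agent.SporadicA.FieldFour

namespace Cfsg.Agent.UGT.I34.OnT

universe u

variable {G : Type u} [Group G]

/-- `T` contains `P = {E p}` and acts on it by `P` and outer types. -/
structure TS (T : Subgroup G) (E : Code → G) : Prop where
  mem : ∀ p, E p ∈ T
  mul : ∀ p q, E p * E q = E (cmul true p q)
  inj : ∀ p q, E p = E q → p = q
  act : ∀ g ∈ T, ∃ p τ, ∀ y, (E p * g) * E y * (E p * g)⁻¹ = E (ctau true τ y)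
  ker : ∀ g ∈ T, (∀ y, g * E y = E y * g) → ∃ k, g = E ⟨0, 0, 0, k⟩

/-- `g` acts on `P` as the outer type `τ` -/
def Pure (E : Code → G) (g : G) (τ : Ty) : Prop := ∀ y, g * E y * g⁻¹ = E (ctau true τ y)

/-- `g` has type `τ` -/
def HasTy (E : Code → G) (g : G) (τ : Ty) : Prop := ∃ p, Pure E (E p * g) τ

variable {T : Subgroup G} {E : Code → G}

theorem TS.one (h : TS T E) : E cone = 1 := by
  have := h.mul cone cone
  rw [cmul_one] at this
  exact mul_eq_left.1 this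

theorem TS.inv (h : TS T E) (p : Code) : (E p)⁻¹ = E (cinv true p) := by
  rw [inv_eq_iff_mul_eq_one, h.mul, cmul_cinv, h.one]

theorem TS.ne (h : TS T E) {p q : Code} (e : p ≠ q) : E p ≠ E q := fun e' => e (h.inj _ _ e')

theorem TS.eq_one (h : TS T E) {p : Code} (e : E p = 1) : p = cone := h.inj _ _ (e.trans h.one.symm)

theorem TS.comm (h : TS T E) {p q : Code} (e : E p * E q = E q * E p) : cmul true p q = cmul true q p := by
  rw [h.mul, h.mul] at e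
  exact h.inj _ _ e

theorem Pure.mul {g k : G} {τ ρ : Ty} (hg : Pure E g τ) (hk : Pure E k ρ) : Pure E (g * k) (τ.mul ρ) := by
  intro y
  have e : g * k * E y * (g * k)⁻¹ = g * (k * E y * k⁻¹) * g⁻¹ := by group
  rw [e, hk, hg, ctau_ctau]

theorem Pure.comm {g : G} {τ : Ty} (hg : Pure E g τ) (y : Code) : g * E y = E (ctau true τ y) * g := by
  rw [← hg y]; group

theorem mul_self : ∀ τ : Ty, τ.mul τ = (false, false) := by decide

theorem mul_ff : ∀ τ : Ty, τ.mul (false, false) = τ := by decide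

theorem ff_mul : ∀ τ : Ty, Ty.mul (false, false) τ = τ := by decide

theorem eq_of_mul : ∀ τ ρ : Ty, τ.mul ρ = (false, false) → τ = ρ := by decide

theorem cinv_Z : ∀ k, cinv true ⟨0, 0, 0, k⟩ = ⟨0, 0, 0, -k⟩ := by decide +kernel

theorem Pure.inv {g : G} {τ : Ty} (hg : Pure E g τ) : Pure E g⁻¹ τ := by
  intro y
  have h1 := hg (ctau true τ y)
  rw [ctau_ctau, mul_self, ctau_id] at h1
  rw [← h1]; group

theorem Pure.one : Pure E 1 (false, false) := by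
  intro y
  rw [ctau_id]; group

/-- conjugation by an element of type `τ` -/
theorem HasTy.conj (h : TS T E) {g : G} {p : Code} {τ : Ty} (hg : Pure E (E p * g) τ) (y : Code) :
    g * E y * g⁻¹ = E (cact true p τ y) := by
  have h1 := hg y
  have e : g * E y * g⁻¹ = (E p)⁻¹ * (E p * g * E y * (E p * g)⁻¹) * E p := by group
  rw [e, h1, h.inv, h.mul, h.mul]
  rfl

theorem HasTy.mul (h : TS T E) {g k : G} {τ ρ : Ty} (hg : HasTy E g τ) (hk : HasTy E k ρ) :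
    HasTy E (g * k) (τ.mul ρ) := by
  obtain ⟨p, hp⟩ := hg
  obtain ⟨q, hq⟩ := hk
  refine ⟨cmul true p (cact true p τ q), ?_⟩
  have e : E (cmul true p (cact true p τ q)) * (g * k) = (E p * g) * (E q * k) := by
    rw [← h.mul, ← HasTy.conj h hp]; group
  rw [e]
  exact hp.mul hq

theorem HasTy.of (h : TS T E) (p : Code) : HasTy E (E p) (false, false) := by
  refine ⟨cinv true p, ?_⟩
  rw [← h.inv, inv_mul_cancel]
  exact Pure.one

theorem HasTy.pure (h : TS T E) {g : G} {τ : Ty} (hg : Pure E g τ) : HasTy E g τ := by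
  refine ⟨cone, ?_⟩
  rw [h.one, one_mul]
  exact hg

theorem HasTy.inv (h : TS T E) {g : G} {τ : Ty} (hg : HasTy E g τ) : HasTy E g⁻¹ τ := by
  obtain ⟨p, hp⟩ := hg
  have h1 : g⁻¹ = (E p * g)⁻¹ * E p := by group
  rw [h1]
  have h2 := (HasTy.pure h hp.inv).mul h (HasTy.of h p)
  rwa [mul_ff] at h2

theorem HasTy.one_eq (h : TS T E) {τ : Ty} (hg : HasTy E (1 : G) τ) : τ = (false, false) := by
  obtain ⟨p, hp⟩ := hg
  rw [mul_one] at hp
  refine ty_uniq τ p ?_ ?_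
  · have := hp ⟨0, 0, F4.w, 0⟩
    rw [h.inv, h.mul, h.mul] at this
    exact h.inj _ _ this
  · have := hp ⟨1, 0, 0, 0⟩
    rw [h.inv, h.mul, h.mul] at this
    exact h.inj _ _ this

/-- the type is unique -/
theorem HasTy.uniq (h : TS T E) {g : G} {τ ρ : Ty} (hg : HasTy E g τ) (hg' : HasTy E g ρ) : τ = ρ := by
  have h1 := hg.mul h (hg'.inv h)
  rw [mul_inv_cancel] at h1
  exact eq_of_mul _ _ (h1.one_eq h)

/-- an element of inner type is in `P` -/
theorem HasTy.inner (h : TS T E) {g : G} (hg : g ∈ T) (ht : HasTy E g (false, false)) : ∃ p, g = E p := by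
  obtain ⟨p, hp⟩ := ht
  obtain ⟨k, hk⟩ := h.ker (E p * g) (T.mul_mem (h.mem p) hg) (fun y => by
    have := hp.comm y
    rwa [ctau_id] at this)
  refine ⟨cmul true (cinv true p) ⟨0, 0, 0, k⟩, ?_⟩
  rw [← h.mul, ← h.inv, ← hk]; group

theorem TS.ty (h : TS T E) {g : G} (hg : g ∈ T) : ∃ τ, HasTy E g τ := by
  obtain ⟨p, τ, hp⟩ := h.act g hg
  exact ⟨τ, p, hp⟩

/-- the subgroup `P` -/
def P (h : TS T E) : Subgroup G where
  carrier := {g | ∃ p, g = E p}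
  one_mem' := ⟨cone, h.one.symm⟩
  mul_mem' := by
    rintro _ _ ⟨p, rfl⟩ ⟨q, rfl⟩
    exact ⟨_, h.mul p q⟩
  inv_mem' := by
    rintro _ ⟨p, rfl⟩
    exact ⟨_, h.inv p⟩

theorem mem_P (h : TS T E) {g : G} : g ∈ P h ↔ ∃ p, g = E p := Iff.rfl

theorem P_le (h : TS T E) : P h ≤ T := by
  rintro _ ⟨p, rfl⟩
  exact h.mem p

theorem card_P (h : TS T E) : Nat.card (P h) = 256 := by
  rw [← card_code]
  refine (Nat.card_congr (Equiv.ofBijective (fun p : Code => (⟨E p, p, rfl⟩ : P h)) ⟨?_, ?_⟩)).symm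
  · intro p q e
    exact h.inj _ _ (Subtype.ext_iff.1 e)
  · rintro ⟨_, p, rfl⟩
    exact ⟨p, rfl⟩

theorem mem_P_iff (h : TS T E) {g : G} (hg : g ∈ T) : g ∈ P h ↔ HasTy E g (false, false) :=
  ⟨fun ⟨p, hp⟩ => hp ▸ HasTy.of h p, fun ht => ht.inner h hg⟩

/-! ### involutions of type `c` -/

/-- an involution of outer type is conjugate under `P` to a pure one -/
theorem exists_pure (h : TS T E) {g : G} (hg : g ∈ T) (hgg : g * g = 1) {τ : Ty} (hτ : τ ≠ (false, false))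
    (ht : HasTy E g τ) : ∃ r, Pure E (E r * g * (E r)⁻¹) τ := by
  obtain ⟨p, hp⟩ := ht
  -- `x₀ = E p * g`
  have e0 : g = E (cinv true p) * (E p * g) := by rw [← h.inv]; group
  have h2 : HasTy E ((E p * g) * (E p * g)) (false, false) := by
    have := (HasTy.pure h hp).mul h (HasTy.pure h hp)
    rwa [mul_self] at this
  have hx0 : E p * g ∈ T := T.mul_mem (h.mem p) hg
  obtain ⟨k, hk⟩ := h.ker _ (T.mul_mem hx0 hx0) (fun y => by
    have := (hp.mul hp).comm y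
    rwa [mul_self, ctau_id] at this)
  have h3 : E (cmul true (cinv true p) (ctau true τ (cinv true p))) * E ⟨0, 0, 0, k⟩ = 1 := by
    rw [← hk, ← h.mul, ← hp (cinv true p)]
    have e1 : E (cinv true p) * (E p * g * E (cinv true p) * (E p * g)⁻¹) * (E p * g * (E p * g)) =
        (E (cinv true p) * (E p * g)) * (E (cinv true p) * (E p * g)) := by group
    rw [e1, ← e0, hgg]
  have h4 : cz (cmul true (cinv true p) (ctau true τ (cinv true p))) := by
    have h5 : E (cmul true (cinv true p) (ctau true τ (cinv true p))) = E (cinv true ⟨0, 0, 0, k⟩) := by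
      rw [← h.inv]; exact eq_inv_of_mul_eq_one_left h3
    rw [h.inj _ _ h5, cinv_Z]
    exact ⟨rfl, rfl, rfl⟩
  obtain ⟨a, b, c, h5⟩ := inv_outer true τ p.a p.b p.c hτ (cz_flip τ p h4)
  refine ⟨⟨a, b, c, 0⟩, ?_⟩
  -- the element `E r * g * (E r)⁻¹ = Y * (E p * g)`
  have e2 : E ⟨a, b, c, 0⟩ * g * (E ⟨a, b, c, 0⟩)⁻¹ =
      ((E p * g) * E ⟨a, b, c, 0⟩ * (E p * g)⁻¹ * E p * (E ⟨a, b, c, 0⟩)⁻¹)⁻¹ * (E p * g) := by
    group
  obtain ⟨l, hl⟩ : ∃ l, (E p * g) * E ⟨a, b, c, 0⟩ * (E p * g)⁻¹ * E p * (E ⟨a, b, c, 0⟩)⁻¹ = E ⟨0, 0, 0, l⟩ := by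
    have e3 : E p = E ⟨p.a, p.b, p.c, 0⟩ * E ⟨0, 0, 0, p.k⟩ := by
      rw [h.mul]
      exact congrArg E (nk_mul p)
    have e4 : E ⟨0, 0, 0, p.k⟩ * (E ⟨a, b, c, 0⟩)⁻¹ = (E ⟨a, b, c, 0⟩)⁻¹ * E ⟨0, 0, 0, p.k⟩ := by
      rw [h.inv, h.mul, h.mul, Z_comm]
    have e5 : (E p * g) * E ⟨a, b, c, 0⟩ * (E p * g)⁻¹ * E p * (E ⟨a, b, c, 0⟩)⁻¹ =
        E (cmul true (ctau true τ ⟨a, b, c, 0⟩) (cmul true ⟨p.a, p.b, p.c, 0⟩ (cinv true ⟨a, b, c, 0⟩))) *
          E ⟨0, 0, 0, p.k⟩ := by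
      rw [hp, ← h.mul (ctau true τ ⟨a, b, c, 0⟩), ← h.mul ⟨p.a, p.b, p.c, 0⟩, ← h.inv]
      conv_lhs => rw [e3]
      calc E (ctau true τ ⟨a, b, c, 0⟩) * (E ⟨p.a, p.b, p.c, 0⟩ * E ⟨0, 0, 0, p.k⟩) * (E ⟨a, b, c, 0⟩)⁻¹
          = E (ctau true τ ⟨a, b, c, 0⟩) * (E ⟨p.a, p.b, p.c, 0⟩ * (E ⟨0, 0, 0, p.k⟩ * (E ⟨a, b, c, 0⟩)⁻¹)) := by group
        _ = E (ctau true τ ⟨a, b, c, 0⟩) * (E ⟨p.a, p.b, p.c, 0⟩ * ((E ⟨a, b, c, 0⟩)⁻¹ * E ⟨0, 0, 0, p.k⟩)) := by rw [e4]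
        _ = _ := by group
    obtain ⟨c1, c2, c3⟩ := h5
    rw [e5]
    generalize cmul true (ctau true τ ⟨a, b, c, 0⟩) (cmul true ⟨p.a, p.b, p.c, 0⟩ (cinv true ⟨a, b, c, 0⟩)) = q at *
    obtain ⟨qa, qb, qc, qk⟩ := q
    simp only at c1 c2 c3
    subst c1 c2 c3
    exact ⟨_, by rw [h.mul, Z_mul]⟩
  rw [e2, hl, h.inv, cinv_Z]
  have h6 : Pure E (E ⟨0, 0, 0, -l⟩) (false, false) := by
    intro y
    rw [h.mul, Z_comm, ← h.mul, ctau_id]; group
  have h7 := h6.mul hp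
  rwa [ff_mul] at h7

end Cfsg.Agent.UGT.I34.OnT
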