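import Cfsg.Agent.UGT.I34.OnT

/-!
# THEOREM I34, part [A], (5.5), second half: `C_T(F)` and involutions of type `c`
-/

set_option autoImplicit false
set_option linter.constructorNameAsVariable false

open Subgroup Cfsg.Agent.StdL34 Cfsg.Agent.SporadicA.FieldFour

namespace Cfsg.Agent.UGT.I34.OnT

universe u

variable {G : Type u} [Group G] {T : Subgroup G} {E : Code → G} {F A : Subgroup G}

/-- `F = {E ⟨0, 0, c, k⟩ : k = 0, 2}` -/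
def IsF (E : Code → G) (F : Subgroup G) : Prop := ∀ x, x ∈ F ↔ ∃ c k, (k = 0 ∨ k = 2) ∧ x = E ⟨0, 0, c, k⟩

/-- `A = {E ⟨a, a, c, k⟩}` -/
def IsA (E : Code → G) (A : Subgroup G) : Prop := ∀ x, x ∈ A ↔ ∃ a c k, x = E ⟨a, a, c, k⟩

theorem IsF.mem (hF : IsF E F) {x : G} : x ∈ F ↔ ∃ c b, x = E ⟨0, 0, c, tw b⟩ := by
  rw [hF x]
  constructor
  · rintro ⟨c, k, hk, rfl⟩
    obtain ⟨b, rfl⟩ := k_cases k hk
    exact ⟨c, b, rfl⟩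
  · rintro ⟨c, b, rfl⟩
    refine ⟨c, tw b, ?_, rfl⟩
    cases b
    · left; rfl
    · right; rfl

/-- the subgroup `F` -/
def subF (h : TS T E) : Subgroup G where
  carrier := {x | ∃ c b, x = E ⟨0, 0, c, tw b⟩}
  one_mem' := ⟨0, false, h.one.symm⟩
  mul_mem' := by
    rintro _ _ ⟨c, b, rfl⟩ ⟨c', b', rfl⟩
    exact ⟨_, _, by rw [h.mul, F_mul]⟩
  inv_mem' := by
    rintro _ ⟨c, b, rfl⟩
    refine ⟨c, b, ?_⟩
    rw [inv_eq_iff_mul_eq_one, h.mul, F_sq, h.one]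

theorem isF_subF (h : TS T E) : IsF E (subF h) := by
  intro x
  constructor
  · rintro ⟨c, b, rfl⟩
    refine ⟨c, tw b, ?_, rfl⟩
    cases b
    · left; rfl
    · right; rfl
  · rintro ⟨c, k, hk, rfl⟩
    obtain ⟨b, rfl⟩ := k_cases k hk
    exact ⟨c, b, rfl⟩

theorem A_mul : ∀ a c k a' c' k', ∃ a'' c'' k'', cmul true ⟨a, a, c, k⟩ ⟨a', a', c', k'⟩ = ⟨a'', a'', c'', k''⟩ := by
  intro a c k a' c' k'
  have key : ∀ a c k a' c' k', (cmul true ⟨a, a, c, k⟩ ⟨a', a', c', k'⟩).a = (cmul true ⟨a, a, c, k⟩ ⟨a', a', c', k'⟩).b :=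
    by decide +kernel
  have := key a c k a' c' k'
  refine ⟨(cmul true ⟨a, a, c, k⟩ ⟨a', a', c', k'⟩).a, (cmul true ⟨a, a, c, k⟩ ⟨a', a', c', k'⟩).c,
    (cmul true ⟨a, a, c, k⟩ ⟨a', a', c', k'⟩).k, ?_⟩
  conv_rhs => enter [2]; rw [this]

theorem A_cinv : ∀ a c k, ∃ a'' c'' k'', cinv true ⟨a, a, c, k⟩ = ⟨a'', a'', c'', k''⟩ := by
  intro a c k
  have key : ∀ a c k, (cinv true ⟨a, a, c, k⟩).a = (cinv true ⟨a, a, c, k⟩).b := by decide +kernel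
  have := key a c k
  refine ⟨(cinv true ⟨a, a, c, k⟩).a, (cinv true ⟨a, a, c, k⟩).c, (cinv true ⟨a, a, c, k⟩).k, ?_⟩
  conv_rhs => enter [2]; rw [this]

/-- the subgroup `A` -/
def subA (h : TS T E) : Subgroup G where
  carrier := {x | ∃ a c k, x = E ⟨a, a, c, k⟩}
  one_mem' := ⟨0, 0, 0, h.one.symm⟩
  mul_mem' := by
    rintro _ _ ⟨a, c, k, rfl⟩ ⟨a', c', k', rfl⟩
    obtain ⟨a'', c'', k'', e⟩ := A_mul a c k a' c' k'
    exact ⟨a'', c'', k'', by rw [h.mul, e]⟩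
  inv_mem' := by
    rintro _ ⟨a, c, k, rfl⟩
    obtain ⟨a'', c'', k'', e⟩ := A_cinv a c k
    exact ⟨a'', c'', k'', by rw [h.inv, e]⟩

theorem isA_subA (h : TS T E) : IsA E (subA h) := fun _ => Iff.rfl

theorem F_le_A (hF : IsF E F) (hA : IsA E A) : F ≤ A := by
  intro x hx
  obtain ⟨c, b, rfl⟩ := hF.mem.1 hx
  exact (hA _).2 ⟨0, c, _, rfl⟩

theorem A_le (h : TS T E) (hA : IsA E A) : A ≤ T := by
  intro x hx
  obtain ⟨a, c, b, rfl⟩ := (hA x).1 hx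
  exact h.mem _

theorem comm_A (h : TS T E) (hA : IsA E A) : ∀ x ∈ A, ∀ y ∈ A, x * y = y * x := by
  intro x hx y hy
  obtain ⟨a, c, k, rfl⟩ := (hA x).1 hx
  obtain ⟨a', c', k', rfl⟩ := (hA y).1 hy
  rw [h.mul, h.mul, A_comm]

theorem exp_A (h : TS T E) (hA : IsA E A) : ∀ x ∈ A, x ^ 4 = 1 := by
  intro x hx
  obtain ⟨a, c, k, rfl⟩ := (hA x).1 hx
  have e : E ⟨a, a, c, k⟩ ^ 4 = (E ⟨a, a, c, k⟩ * E ⟨a, a, c, k⟩) * (E ⟨a, a, c, k⟩ * E ⟨a, a, c, k⟩) := by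
    rw [← sq, ← sq, ← pow_mul]
  rw [e, h.mul, h.mul, A_exp, h.one]

theorem inv_A (h : TS T E) (hF : IsF E F) (hA : IsA E A) : ∀ x ∈ A, x * x = 1 → x ∈ F := by
  intro x hx hxx
  obtain ⟨a, c, k, rfl⟩ := (hA x).1 hx
  rw [h.mul] at hxx
  obtain ⟨rfl, hk⟩ := A_inv a c k (h.eq_one hxx)
  exact (hF _).2 ⟨c, k, hk, rfl⟩

theorem inv_F (h : TS T E) (hF : IsF E F) : ∀ x ∈ F, x * x = 1 := by
  intro x hx
  obtain ⟨c, b, rfl⟩ := hF.mem.1 hx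
  rw [h.mul, F_sq, h.one]

theorem card_F (h : TS T E) (hF : IsF E F) : Nat.card F = 8 := by
  have e : Nat.card (F4 × Bool) = Nat.card F := by
    refine Nat.card_congr (Equiv.ofBijective
      (fun p : F4 × Bool => (⟨E ⟨0, 0, p.1, tw p.2⟩, hF.mem.2 ⟨_, _, rfl⟩⟩ : F)) ⟨?_, ?_⟩)
    · rintro ⟨c, b⟩ ⟨c', b'⟩ e
      have e1 := h.inj _ _ (Subtype.ext_iff.1 e)
      simp only [Code.mk.injEq, true_and] at e1
      exact Prod.ext e1.1 (tw_inj _ _ e1.2)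
    · rintro ⟨x, hx⟩
      obtain ⟨c, b, rfl⟩ := hF.mem.1 hx
      exact ⟨(c, b), rfl⟩
  rw [← e, Nat.card_eq_fintype_card]
  decide

theorem card_A (h : TS T E) (hA : IsA E A) : Nat.card A = 64 := by
  have e : Nat.card (F4 × F4 × Fin 4) = Nat.card A := by
    refine Nat.card_congr (Equiv.ofBijective
      (fun p : F4 × F4 × Fin 4 => (⟨E ⟨p.1, p.1, p.2.1, p.2.2⟩, (hA _).2 ⟨_, _, _, rfl⟩⟩ : A)) ⟨?_, ?_⟩)
    · rintro ⟨a, c, b⟩ ⟨a', c', b'⟩ e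
      have e1 := h.inj _ _ (Subtype.ext_iff.1 e)
      simp only [Code.mk.injEq] at e1
      exact Prod.ext e1.1 (Prod.ext e1.2.2.1 e1.2.2.2)
    · rintro ⟨x, hx⟩
      obtain ⟨a, c, b, rfl⟩ := (hA x).1 hx
      exact ⟨(a, c, b), rfl⟩
  rw [← e, Nat.card_eq_fintype_card]
  decide

theorem conj_F (h : TS T E) (hF : IsF E F) {g x : G} (hg : g ∈ T) (hx : x ∈ F) : g * x * g⁻¹ ∈ F := by
  obtain ⟨p, τ, hp⟩ := h.act g hg
  obtain ⟨c, b, rfl⟩ := hF.mem.1 hx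
  rw [HasTy.conj h hp]
  obtain ⟨h1, h2, h3⟩ := norm_F τ p c b
  refine (hF _).2 ⟨(cact true p τ ⟨0, 0, c, tw b⟩).c, (cact true p τ ⟨0, 0, c, tw b⟩).k, h3, ?_⟩
  congr 1
  generalize cact true p τ ⟨0, 0, c, tw b⟩ = q at *
  obtain ⟨qa, qb, qc, qk⟩ := q
  simp only at h1 h2
  rw [h1, h2]

theorem T_norm (h : TS T E) (hF : IsF E F) : T ≤ normalizer (F : Set G) := by
  intro g hg
  rw [mem_normalizer_iff]
  intro x
  refine ⟨fun hx => conj_F h hF hg hx, fun hx => ?_⟩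
  have := conj_F h hF (T.inv_mem hg) hx
  have e : g⁻¹ * (g * x * g⁻¹) * g⁻¹⁻¹ = x := by group
  rwa [e] at this

theorem mem_one_F (hF : IsF E F) : E ⟨0, 0, 1, 0⟩ ∈ F := (hF _).2 ⟨1, 0, Or.inl rfl, rfl⟩
theorem mem_w_F (hF : IsF E F) : E ⟨0, 0, F4.w, 0⟩ ∈ F := (hF _).2 ⟨F4.w, 0, Or.inl rfl, rfl⟩
theorem mem_z_F (hF : IsF E F) : E ⟨0, 0, 0, 2⟩ ∈ F := (hF _).2 ⟨0, 2, Or.inr rfl, rfl⟩

/-- the centraliser of `F` in `T`: type `(false, *)` -/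
theorem cent_F (h : TS T E) (hF : IsF E F) {g : G} (hg : g ∈ T) (hc : ∀ f ∈ F, g * f = f * g) :
    HasTy E g (false, false) ∨ HasTy E g (false, true) := by
  obtain ⟨p, τ, hp⟩ := h.act g hg
  have h1 : ∀ y, E y ∈ F → cact true p τ y = y := by
    intro y hy
    apply h.inj
    rw [← HasTy.conj h hp, hc _ hy]; group
  have h2 := act_F τ p (h1 _ (mem_one_F hF)) (h1 _ (mem_w_F hF))
  obtain ⟨τ1, τ2⟩ := τ
  simp only at h2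
  subst h2
  cases τ2
  · exact Or.inl ⟨p, hp⟩
  · exact Or.inr ⟨p, hp⟩

/-- the centraliser of `F` in `P` -/
theorem cent_F_P (h : TS T E) (hF : IsF E F) (hA : IsA E A) {g : G} (hg : g ∈ T) (hc : ∀ f ∈ F, g * f = f * g)
    (ht : HasTy E g (false, false)) : g ∈ A := by
  obtain ⟨p, rfl⟩ := ht.inner h hg
  have h1 := C_F p (h.comm (hc _ (mem_one_F hF))) (h.comm (hc _ (mem_w_F hF)))
  obtain ⟨a, b, c, k⟩ := p
  simp only at h1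
  subst h1
  exact (hA _).2 ⟨_, _, _, rfl⟩

/-! ### involutions of type `c` -/

theorem conj_D {D : Set G} (hD : ∀ g : G, ∀ x ∈ D, g * x * g⁻¹ ∈ D) {g x : G} (h : g * x * g⁻¹ ∈ D) : x ∈ D := by
  have := hD g⁻¹ _ h
  have e : g⁻¹ * (g * x * g⁻¹) * g⁻¹⁻¹ = x := by group
  rwa [e] at this

/-- all involutions of type `c` are in `D` if one is -/
theorem c_D (h : TS T E) {D : Set G} (hD : ∀ g : G, ∀ x ∈ D, g * x * g⁻¹ ∈ D) {x : G} (hx : x ∈ T) (hxD : x ∈ D)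
    (hxx : x * x = 1) (ht : HasTy E x (true, true)) {y : G} (hy : y ∈ T) (hyy : y * y = 1)
    (hty : HasTy E y (true, true)) : y ∈ D := by
  obtain ⟨r, hr⟩ := exists_pure h hx hxx (by decide) ht
  obtain ⟨s, hs⟩ := exists_pure h hy hyy (by decide) hty
  apply conj_D hD (g := E s)
  have h1 := hD (E r) _ hxD
  have h2 : E s * y * (E s)⁻¹ ∈ T := T.mul_mem (T.mul_mem (h.mem s) hy) (T.inv_mem (h.mem s))
  have h3 : E r * x * (E r)⁻¹ ∈ T := T.mul_mem (T.mul_mem (h.mem r) hx) (T.inv_mem (h.mem r))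
  generalize E s * y * (E s)⁻¹ = y' at *
  generalize E r * x * (E r)⁻¹ = x' at *
  obtain ⟨k, hk⟩ := h.ker (y' * x'⁻¹) (T.mul_mem h2 (T.inv_mem h3)) (fun z => by
    have := (hs.mul hr.inv).comm z
    rwa [mul_self, ctau_id] at this)
  have hk' : y' = E ⟨0, 0, 0, k⟩ * x' := by rw [← hk]; group
  rw [hk']
  have step : ∀ k, E ⟨0, 0, 0, k⟩ * x' ∈ D → E ⟨0, 0, 0, k + 1⟩ * x' ∈ D := by
    intro k hk
    have e1 := hD (E ⟨F4.w, F4.v, F4.w, 1⟩)⁻¹ _ hk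
    have e2 : x' * E ⟨F4.w, F4.v, F4.w, 1⟩ = E ⟨F4.w, F4.v, F4.w, 1⟩ * E ⟨0, 0, 0, 1⟩ * x' := by
      rw [hr.comm, c_pow, ← h.mul]
    have e3 : E ⟨0, 0, 0, k⟩ * E ⟨F4.w, F4.v, F4.w, 1⟩ = E ⟨F4.w, F4.v, F4.w, 1⟩ * E ⟨0, 0, 0, k⟩ := by
      rw [h.mul, h.mul, Z_comm]
    have e4 : (E ⟨F4.w, F4.v, F4.w, 1⟩)⁻¹ * (E ⟨0, 0, 0, k⟩ * x') * (E ⟨F4.w, F4.v, F4.w, 1⟩)⁻¹⁻¹ =
        E ⟨0, 0, 0, k + 1⟩ * x' := by
      rw [inv_inv]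
      calc (E ⟨F4.w, F4.v, F4.w, 1⟩)⁻¹ * (E ⟨0, 0, 0, k⟩ * x') * E ⟨F4.w, F4.v, F4.w, 1⟩
          = (E ⟨F4.w, F4.v, F4.w, 1⟩)⁻¹ * (E ⟨0, 0, 0, k⟩ * (x' * E ⟨F4.w, F4.v, F4.w, 1⟩)) := by group
        _ = (E ⟨F4.w, F4.v, F4.w, 1⟩)⁻¹ * ((E ⟨0, 0, 0, k⟩ * E ⟨F4.w, F4.v, F4.w, 1⟩) * E ⟨0, 0, 0, 1⟩ * x') := by
          rw [e2]; group
        _ = E ⟨0, 0, 0, k⟩ * E ⟨0, 0, 0, 1⟩ * x' := by rw [e3]; group
        _ = _ := by rw [h.mul, Z_mul]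
    rwa [e4] at e1
  have h0 : E ⟨0, 0, 0, 0⟩ * x' ∈ D := by
    have : E ⟨0, 0, 0, 0⟩ = 1 := h.one
    rwa [this, one_mul]
  have h1' := step _ h0
  have h2' := step _ h1'
  have h3' := step _ h2'
  clear hk hk'
  fin_cases k
  · exact h0
  · exact h1'
  · exact h2'
  · exact h3'

end Cfsg.Agent.UGT.I34.OnT
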