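import Cfsg.Agent.UGT.I34.OnT2

/-!
# THEOREM I34, part [A], (5.5), second half: no element of type `g`, elementary abelian subgroups
-/

set_option autoImplicit false
set_option linter.constructorNameAsVariable false

open Subgroup Cfsg.Agent.StdL34 Cfsg.Agent.SporadicA.FieldFour

namespace Cfsg.Agent.UGT.I34.OnT

universe u

section

variable {G : Type u} [Group G] [Finite G]

/-- Frattini: an element normalising `F` acts on `F` like an element preserving `C_S(F)` -/
theorem frattini {S : Sylow 2 G} {F : Subgroup G} (hn : (S : Subgroup G) ≤ normalizer (F : Set G)) {g : G}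
    (hg : g ∈ normalizer (F : Set G)) : ∃ k : G, (∀ f ∈ F, k * f = f * k) ∧
      ∀ x, x ∈ (S : Subgroup G) → (∀ f ∈ F, x * f = f * x) →
        (k * g) * x * (k * g)⁻¹ ∈ (S : Subgroup G) ∧ ∀ f ∈ F, (k * g) * x * (k * g)⁻¹ * f = f * ((k * g) * x * (k * g)⁻¹) := by
  have : Fact (Nat.Prime 2) := ⟨Nat.prime_two⟩
  have hmc : ∀ {g x : G}, g ∈ normalizer (F : Set G) → x ∈ F → g * x * g⁻¹ ∈ F := fun {g x} hg hx =>
    (mem_normalizer_iff.1 hg x).1 hx
  let K : Subgroup G := centralizer (F : Set G)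
  have hKN : K ≤ normalizer (F : Set G) := by
    intro x hx
    rw [mem_normalizer_iff]
    have hx' := (mem_centralizer_iff.1 hx)
    intro f
    constructor
    · intro hf
      have e : x * f * x⁻¹ = f := by rw [← hx' f hf]; group
      rwa [e]
    · intro hf
      have e : x⁻¹ * (x * f * x⁻¹) * x = x * f * x⁻¹ := by
        rw [mul_assoc, hx' _ hf]; group
      have e2 : x⁻¹ * (x * f * x⁻¹) * x = f := by group
      rwa [← e2, e]
  have hK : ∀ n ∈ normalizer (F : Set G), ∀ k ∈ K, n * k * n⁻¹ ∈ K := by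
    intro n hn k hk
    rw [mem_centralizer_iff] at hk ⊢
    intro f hf
    have hf' : n⁻¹ * f * n ∈ (F : Set G) := by
      have := hmc (inv_mem hn) hf
      rwa [inv_inv] at this
    have := hk _ hf'
    calc f * (n * k * n⁻¹) = n * ((n⁻¹ * f * n) * k) * n⁻¹ := by group
      _ = n * (k * (n⁻¹ * f * n)) * n⁻¹ := by rw [this]
      _ = n * k * n⁻¹ * f := by group
  have hTi : ¬ 2 ∣ (S : Subgroup G).relIndex (normalizer (F : Set G)) := fun hd =>
    S.not_dvd_index (hd.trans (relIndex_dvd_index_of_le hn))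
  have hAi := Cfsg.Agent.LFourB.RelExt.sylow_inf (p := 2) (R := (S : Subgroup G)) S.2 hn hTi hKN hK
  have hmap : K.map (MulAut.conj g).toMonoidHom = K := by
    refine Subgroup.eq_of_le_of_card_ge ?_ (by rw [Cfsg.Agent.Lib.GoldschmidtFusion.card_map_conj])
    rintro _ ⟨k, hk, rfl⟩
    exact hK g hg k hk
  obtain ⟨k, hk, hkA⟩ := Cfsg.Agent.LFourB.RelExt.frattini (p := 2) (S.2.to_le inf_le_left) inf_le_right hAi hmap
  refine ⟨k, fun f hf => (mem_centralizer_iff.1 hk f hf).symm, fun x hx hxF => ?_⟩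
  have h1 : k * g * x * (k * g)⁻¹ ∈ (S : Subgroup G) ⊓ K := by
    rw [← hkA]
    exact ⟨x, ⟨hx, mem_centralizer_iff.2 fun f hf => (hxF f hf).symm⟩, rfl⟩
  exact ⟨h1.1, fun f hf => ((mem_centralizer_iff.1 h1.2) f hf).symm⟩

end

section

variable {G : Type u} [Group G] {T : Subgroup G} {E : Code → G} {F A : Subgroup G}

/-- a pure element of type `g`: centralises `F`, inverts `A`, its square is `1` or `z` -/
theorem g_facts (h : TS T E) (hF : IsF E F) (hA : IsA E A) {y : G} (hy : y ∈ T) (hg : Pure E y (false, true)) :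
    (∀ f ∈ F, y * f = f * y) ∧ (∀ a ∈ A, y * a * y⁻¹ = a⁻¹) ∧ (y * y = 1 ∨ y * y = E ⟨0, 0, 0, 2⟩) := by
  refine ⟨fun f hf => ?_, fun a ha => ?_, ?_⟩
  · obtain ⟨c, b, rfl⟩ := hF.mem.1 hf
    rw [hg.comm, g_F]
  · obtain ⟨a, c, k, rfl⟩ := (hA a).1 ha
    rw [hg, g_A, h.inv]
  · obtain ⟨k, hk⟩ := h.ker _ (T.mul_mem hy hy) (fun z => by
      have := (hg.mul hg).comm z
      rwa [mul_self, ctau_id] at this)
    have h1 : y * E ⟨0, 0, 0, k⟩ * y⁻¹ = E ⟨0, 0, 0, k⟩ := by rw [← hk]; group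
    rw [hg] at h1
    rcases g_Z k (h.inj _ _ h1) with rfl | rfl
    · left; rw [hk]; exact h.one
    · right; exact hk

end

section

variable {G : Type u} [Group G] [Finite G] {S : Sylow 2 G} {E : Code → G} {F A : Subgroup G}

/-- a pure element of type `g` is an involution -/
theorem g_invol (h : TS (S : Subgroup G) E) (hF : IsF E F) (hA : IsA E A)
    (tv : ∃ n ∈ normalizer (F : Set G), n * E ⟨0, 0, 0, 2⟩ * n⁻¹ ≠ E ⟨0, 0, 0, 2⟩)
    {y : G} (hy : y ∈ (S : Subgroup G)) (hg : Pure E y (false, true)) : y * y = 1 := by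
  obtain ⟨hyF, hyA, h1 | h1⟩ := g_facts h hF hA hy hg
  · exact h1
  exfalso
  obtain ⟨n, hn, hnz⟩ := tv
  obtain ⟨k, hk, hkn⟩ := frattini (T_norm h hF) hn
  have hzA : E ⟨0, 0, 0, 2⟩ ∈ A := F_le_A hF hA (mem_z_F hF)
  have hyA' : y ∉ A := fun hy' => by
    obtain ⟨a, c, l, e⟩ := (hA y).1 hy'
    have h2 := HasTy.of h ⟨a, a, c, l⟩
    rw [← e] at h2
    have := h2.uniq h (HasTy.pure h hg)
    exact absurd this (by decide)
  -- elements of `C_S(F)` outside `A` have square `z`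
  have sq : ∀ x ∈ (S : Subgroup G), (∀ f ∈ F, x * f = f * x) → x ∉ A → x * x = E ⟨0, 0, 0, 2⟩ := by
    intro x hx hxF hxA
    rcases cent_F h hF hx hxF with ht | ht
    · exact absurd (cent_F_P h hF hA hx hxF ht) hxA
    have h2 : x * y⁻¹ ∈ A := by
      refine cent_F_P h hF hA ((S : Subgroup G).mul_mem hx ((S : Subgroup G).inv_mem hy)) (fun f hf => ?_) ?_
      · have e : y⁻¹ * f = f * y⁻¹ := by
          have := hyF f hf
          rw [inv_mul_eq_iff_eq_mul, ← mul_assoc, this, mul_assoc, mul_inv_cancel, mul_one]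
        rw [mul_assoc, e, ← mul_assoc, hxF f hf, mul_assoc]
      · have := ht.mul h ((HasTy.pure h hg).inv h)
        rwa [mul_self] at this
    have e1 : x = x * y⁻¹ * y := by group
    have e2 := hyA _ h2
    generalize x * y⁻¹ = a at *
    rw [e1]
    calc a * y * (a * y) = a * (y * a * y⁻¹) * (y * y) := by group
      _ = y * y := by rw [e2]; group
      _ = _ := h1
  have hCA : ∀ a ∈ A, ∀ f ∈ F, a * f = f * a := fun a ha f hf => comm_A h hA a ha f (F_le_A hF hA hf)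
  set m := k * n with hm
  have hmz : m * E ⟨0, 0, 0, 2⟩ * m⁻¹ ≠ E ⟨0, 0, 0, 2⟩ := by
    have e : m * E ⟨0, 0, 0, 2⟩ * m⁻¹ = k * (n * E ⟨0, 0, 0, 2⟩ * n⁻¹) * k⁻¹ := by rw [hm]; group
    have e2 : n * E ⟨0, 0, 0, 2⟩ * n⁻¹ ∈ F := (mem_normalizer_iff.1 hn _).1 (mem_z_F hF)
    rw [e, hk _ e2, mul_inv_cancel_right]
    exact hnz
  -- conjugates of elements of `C_S(F) ∖ A` are in `A`
  have hcA : ∀ x ∈ (S : Subgroup G), (∀ f ∈ F, x * f = f * x) → x ∉ A → m * x * m⁻¹ ∈ A := by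
    intro x hx hxF hxA
    by_contra hc
    obtain ⟨h3, h4⟩ := hkn x hx hxF
    have h5 := sq _ h3 h4 hc
    apply hmz
    have h6 : m * (x * x) * m⁻¹ = E ⟨0, 0, 0, 2⟩ := by rw [← h5]; group
    rwa [sq x hx hxF hxA] at h6
  have hya : ∀ a ∈ A, m * a * m⁻¹ ∈ A := by
    intro a ha
    have h3 : a * y ∉ A := fun h4 => hyA' ((A.mul_mem_cancel_left ha).1 h4)
    have h4 := hcA _ ((S : Subgroup G).mul_mem (A_le h hA ha) hy) (fun f hf => by
      rw [mul_assoc, hyF f hf, ← mul_assoc, hCA a ha f hf, mul_assoc]) h3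
    have h5 := hcA _ hy hyF hyA'
    have e : m * a * m⁻¹ = (m * (a * y) * m⁻¹) * (m * y * m⁻¹)⁻¹ := by group
    rw [e]
    exact A.mul_mem h4 (A.inv_mem h5)
  have hmap : A.map (MulAut.conj m).toMonoidHom = A := by
    refine Subgroup.eq_of_le_of_card_ge ?_ (by rw [Cfsg.Agent.Lib.GoldschmidtFusion.card_map_conj])
    rintro _ ⟨a, ha, rfl⟩
    exact hya a ha
  have h5 := hcA _ hy hyF hyA'
  rw [← hmap] at h5
  obtain ⟨a, ha, e⟩ := h5
  have e' : m * a * m⁻¹ = m * y * m⁻¹ := e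
  have := mul_left_cancel (mul_right_cancel e')
  exact hyA' (this ▸ ha)

/-- **no element of type `g`** -/
theorem no_g [IsSimpleGroup G] (h : TS (S : Subgroup G) E) (hF : IsF E F) (hA : IsA E A)
    (tv : ∃ n ∈ normalizer (F : Set G), n * E ⟨0, 0, 0, 2⟩ * n⁻¹ ≠ E ⟨0, 0, 0, 2⟩)
    {D : Set G} (hD : ∀ g : G, ∀ x ∈ D, g * x * g⁻¹ ∈ D) (inv : ∀ p, E p * E p = 1 → E p ≠ 1 → E p ∈ D)
    (nog : ∀ y ∈ (S : Subgroup G), y ∈ D → (∀ f ∈ F, y * f = f * y) → y ∉ A → False)
    (xc : ∃ x ∈ (S : Subgroup G), x ∈ D ∧ x * x = 1 ∧ HasTy E x (true, true))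
    {y : G} (hy : y ∈ (S : Subgroup G)) (hg : HasTy E y (false, true)) : False := by
  obtain ⟨p, hp⟩ := hg
  have hy' : E p * y ∈ (S : Subgroup G) := (S : Subgroup G).mul_mem (h.mem p) hy
  clear hy
  generalize E p * y = y' at *
  have hyy := g_invol h hF hA tv hy' hp
  obtain ⟨hyF, hyA, -⟩ := g_facts h hF hA hy' hp
  have hyA' : y' ∉ A := fun hy' => by
    obtain ⟨a, c, l, e⟩ := (hA y').1 hy'
    have h2 := HasTy.of h ⟨a, a, c, l⟩
    rw [← e] at h2
    have := h2.uniq h (HasTy.pure h hp)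
    exact absurd this (by decide)
  -- the subgroup of types `1`, `c`
  let Q : Subgroup G :=
    { carrier := {g | g ∈ (S : Subgroup G) ∧ (HasTy E g (false, false) ∨ HasTy E g (true, true))}
      one_mem' := ⟨one_mem _, Or.inl (HasTy.pure h Pure.one)⟩
      mul_mem' := by
        rintro a b ⟨ha, h1⟩ ⟨hb, h2⟩
        refine ⟨(S : Subgroup G).mul_mem ha hb, ?_⟩
        rcases h1 with h1 | h1 <;> rcases h2 with h2 | h2
        · left; exact h1.mul h h2
        · right; exact h1.mul h h2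
        · right; exact h1.mul h h2
        · left; exact h1.mul h h2
      inv_mem' := by
        rintro a ⟨ha, h1⟩
        refine ⟨(S : Subgroup G).inv_mem ha, ?_⟩
        rcases h1 with h1 | h1
        · left; exact h1.inv h
        · right; exact h1.inv h }
  have hQm : ∀ g, g ∈ Q ↔ g ∈ (S : Subgroup G) ∧ (HasTy E g (false, false) ∨ HasTy E g (true, true)) :=
    fun _ => Iff.rfl
  have hQS : Q ≤ (S : Subgroup G) := fun g hg => hg.1
  have hQi : Q.relIndex (S : Subgroup G) = 2 := by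
    rw [relIndex_eq_two_iff]
    refine ⟨y', hy', fun b hb => ?_⟩
    obtain ⟨τ, hτ⟩ := h.ty hb
    have h1 : HasTy E (b * y') (τ.mul (false, true)) := hτ.mul h (HasTy.pure h hp)
    have h2 : ∀ {g : G} {τ : Ty}, g ∈ (S : Subgroup G) → HasTy E g τ → (g ∈ Q ↔ τ = (false, false) ∨ τ = (true, true)) := by
      intro g τ hgS hgτ
      rw [hQm]
      constructor
      · rintro ⟨-, h3 | h3⟩
        · left; exact hgτ.uniq h h3
        · right; exact hgτ.uniq h h3
      · rintro (rfl | rfl)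
        · exact ⟨hgS, Or.inl hgτ⟩
        · exact ⟨hgS, Or.inr hgτ⟩
    rw [h2 ((S : Subgroup G).mul_mem hb hy') h1, h2 hb hτ]
    clear h1 h2 hτ
    revert τ; decide
  rcases Cfsg.Agent.Transfer.ThompsonTransfer.thompson_transfer S Q hQS hQi y' (by rw [sq, hyy]) with
    ⟨M, hM, hM2, hyM⟩ | ⟨g, hg⟩
  · rcases IsSimpleGroup.eq_bot_or_eq_top_of_normal M hM with rfl | rfl
    · rw [index_bot] at hM2
      have h3 := Nat.card_le_card_of_injective E (fun p q e => h.inj p q e)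
      rw [card_code, hM2] at h3
      omega
    · exact hyM (mem_top _)
  · have h3 : g * y' * g⁻¹ * (g * y' * g⁻¹) = 1 := by
      have e : g * y' * g⁻¹ * (g * y' * g⁻¹) = g * (y' * y') * g⁻¹ := by group
      rw [e, hyy]; group
    have h4 : g * y' * g⁻¹ ≠ 1 := fun e => by
      apply hyA'
      have : y' = 1 := by
        have e2 : y' = g⁻¹ * (g * y' * g⁻¹) * g := by group
        rw [e2, e]; group
      rw [this]; exact one_mem _
    have h5 : g * y' * g⁻¹ ∈ D := by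
      rcases hg.2 with h6 | h6
      · obtain ⟨q, hq⟩ := h6.inner h hg.1
        rw [hq] at h3 h4 ⊢
        exact inv _ h3 h4
      · obtain ⟨x, hx, hxD, hxx, hxt⟩ := xc
        exact c_D h hD hx hxD hxx hxt hg.1 h3 h6
    exact nog y' hy' (conj_D hD h5) hyF hyA'

end

end Cfsg.Agent.UGT.I34.OnT
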