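import Cfsg.Agent.UGT.I34.OnT3

/-!
# THEOREM I34, part [A], (5.5), second half: order of `T`, elementary abelian subgroups of `T`
-/

set_option autoImplicit false
set_option linter.constructorNameAsVariable false

open Subgroup Cfsg.Agent.StdL34 Cfsg.Agent.SporadicA.FieldFour

namespace Cfsg.Agent.UGT.I34.OnT

universe u

variable {G : Type u} [Group G] {T : Subgroup G} {E : Code → G}

/-- without elements of type `g`: types `1` and `c` only -/
theorem ty_cases (h : TS T E) (ng : ∀ y ∈ T, ¬ HasTy E y (false, true)) {x : G} (hx : x ∈ T)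
    (hxt : HasTy E x (true, true)) {g : G} (hg : g ∈ T) : HasTy E g (false, false) ∨ HasTy E g (true, true) := by
  obtain ⟨⟨τ1, τ2⟩, hτ⟩ := h.ty hg
  cases τ1 <;> cases τ2
  · exact Or.inl hτ
  · exact absurd hτ (ng g hg)
  · exact absurd (hτ.mul h hxt) (ng _ (T.mul_mem hg hx))
  · exact Or.inr hτ

theorem relIndex_P (h : TS T E) (ng : ∀ y ∈ T, ¬ HasTy E y (false, true)) {x : G} (hx : x ∈ T)
    (hxt : HasTy E x (true, true)) : (P h).relIndex T = 2 := by
  rw [relIndex_eq_two_iff]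
  refine ⟨x, hx, fun b hb => ?_⟩
  rw [mem_P_iff h (T.mul_mem hb hx), mem_P_iff h hb]
  rcases ty_cases h ng hx hxt hb with hτ | hτ
  · refine Or.inr ⟨hτ, fun h2 => ?_⟩
    have := (hτ.mul h hxt).uniq h h2
    exact absurd this (by decide)
  · refine Or.inl ⟨?_, fun h2 => ?_⟩
    · exact hτ.mul h hxt
    · have := hτ.uniq h h2
      exact absurd this (by decide)

theorem card_T (h : TS T E) (ng : ∀ y ∈ T, ¬ HasTy E y (false, true)) {x : G} (hx : x ∈ T)
    (hxt : HasTy E x (true, true)) : Nat.card T = 512 := by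
  have h1 := relIndex_mul_relIndex ⊥ (P h) T bot_le (P_le h)
  rw [relIndex_bot_left, relIndex_bot_left, card_P, relIndex_P h ng hx hxt] at h1
  exact h1.symm

/-- an elementary abelian subgroup of `P` has order at most 8 -/
theorem no16_P (h : TS T E) (B : Subgroup G) (hB : B ≤ P h) (hBe : ∀ x ∈ B, x * x = 1) : Nat.card B ≤ 8 := by
  have hBc : ∀ x ∈ B, ∀ y ∈ B, x * y = y * x := by
    intro x hx y hy
    have e1 := hBe _ (B.mul_mem hx hy)
    have e2 := hBe _ hx
    have e3 := hBe _ hy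
    have i1 : x⁻¹ = x := inv_eq_of_mul_eq_one_left e2
    have i2 : y⁻¹ = y := inv_eq_of_mul_eq_one_left e3
    have i3 : (x * y)⁻¹ = x * y := inv_eq_of_mul_eq_one_left e1
    rw [← i3, mul_inv_rev, i1, i2]
  have sq : ∀ p, E p ∈ B → cmul true p p = cone := by
    intro p hp
    have := hBe _ hp
    rw [h.mul] at this
    exact h.eq_one this
  -- the count
  have key : ∀ s : Finset Code, (∀ p, E p ∈ B → p ∈ s) → s.card ≤ 8 → Nat.card B ≤ 8 := by
    intro s hs hs8
    have h1 : (B : Set G) ⊆ E '' (s : Set Code) := by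
      intro x hx
      obtain ⟨p, rfl⟩ := hB hx
      exact ⟨p, Finset.mem_coe.2 (hs p hx), rfl⟩
    have h2 : (E '' (s : Set Code)).Finite := (s.finite_toSet).image E
    calc Nat.card B = (B : Set G).ncard := rfl
      _ ≤ (E '' (s : Set Code)).ncard := Set.ncard_le_ncard h1 h2
      _ ≤ (s : Set Code).ncard := Set.ncard_image_le s.finite_toSet
      _ = s.card := Set.ncard_coe_finset s
      _ ≤ 8 := hs8
  by_cases h0 : ∃ p, E p ∈ B ∧ ¬ (p.a = 0 ∧ p.b = 0)
  swap
  · push Not at h0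
    refine key _ (fun p hp => ?_) card_zero
    rw [Finset.mem_filter]
    exact ⟨Finset.mem_univ _, sq p hp, h0 p hp⟩
  obtain ⟨p, hp, hp0⟩ := h0
  by_cases h1 : ∃ q, E q ∈ B ∧ ¬ (q.a = 0 ∧ q.b = 0) ∧ ¬ (q.a = p.a ∧ q.b = p.b)
  · obtain ⟨q, hq, hq0, hqp⟩ := h1
    refine key _ (fun r hr => ?_) (card_two p (sq p hp) hp0 q (sq q hq) (h.comm (hBc _ hq _ hp)) hq0 hqp)
    rw [Finset.mem_filter]
    exact ⟨Finset.mem_univ _, sq r hr, h.comm (hBc _ hr _ hp), h.comm (hBc _ hr _ hq)⟩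
  · refine key _ (fun r hr => ?_) (card_one p (sq p hp) hp0)
    rw [Finset.mem_filter]
    refine ⟨Finset.mem_univ _, sq r hr, h.comm (hBc _ hr _ hp), ?_⟩
    by_cases h2 : r.a = 0 ∧ r.b = 0
    · exact Or.inl h2
    · exact Or.inr (by_contra fun h3 => h1 ⟨r, hr, h2, h3⟩)

/-- an elementary abelian subgroup with a pure element of type `c` has order at most 8 -/
theorem no16_c (h : TS T E) (ng : ∀ y ∈ T, ¬ HasTy E y (false, true)) {x : G} (hx : x ∈ T)
    (hxt : Pure E x (true, true)) (B : Subgroup G) (hB : B ≤ T) (hBe : ∀ x ∈ B, x * x = 1) (hxB : x ∈ B) :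
    Nat.card B ≤ 8 := by
  have hBc : ∀ x ∈ B, ∀ y ∈ B, x * y = y * x := by
    intro x hx y hy
    have e1 := hBe _ (B.mul_mem hx hy)
    have e2 := hBe _ hx
    have e3 := hBe _ hy
    have i1 : x⁻¹ = x := inv_eq_of_mul_eq_one_left e2
    have i2 : y⁻¹ = y := inv_eq_of_mul_eq_one_left e3
    have i3 : (x * y)⁻¹ = x * y := inv_eq_of_mul_eq_one_left e1
    rw [← i3, mul_inv_rev, i1, i2]
  have hP : ∀ p, E p ∈ B → p ∈ cfix := by
    intro p hp
    refine mem_cfix p ?_ ?_
    · apply h.inj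
      rw [← hxt p, hBc _ hxB _ hp]; group
    · have := hBe _ hp
      rw [h.mul] at this
      exact h.eq_one this
  have h1 : (B : Set G) ⊆ (E '' (cfix : Set Code)) ∪ ((fun p => E p * x) '' (cfix : Set Code)) := by
    intro b hb
    rcases ty_cases h ng hx (HasTy.pure h hxt) (hB hb) with ht | ht
    · obtain ⟨p, rfl⟩ := ht.inner h (hB hb)
      exact Or.inl ⟨p, Finset.mem_coe.2 (hP p hb), rfl⟩
    · have h2 : HasTy E (b * x⁻¹) (false, false) := ht.mul h ((HasTy.pure h hxt).inv h)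
      obtain ⟨p, hp⟩ := h2.inner h (T.mul_mem (hB hb) (T.inv_mem hx))
      have h3 : E p ∈ B := hp ▸ B.mul_mem hb (B.inv_mem hxB)
      refine Or.inr ⟨p, Finset.mem_coe.2 (hP p h3), ?_⟩
      show E p * x = b
      rw [← hp]; group
  calc Nat.card B = (B : Set G).ncard := rfl
    _ ≤ _ := Set.ncard_le_ncard h1 (((cfix.finite_toSet).image _).union ((cfix.finite_toSet).image _))
    _ ≤ _ := Set.ncard_union_le _ _
    _ ≤ (cfix : Set Code).ncard + (cfix : Set Code).ncard :=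
      Nat.add_le_add (Set.ncard_image_le cfix.finite_toSet) (Set.ncard_image_le cfix.finite_toSet)
    _ = 8 := by rw [Set.ncard_coe_finset, card_cfix]

/-- **no elementary abelian subgroup of order 16** -/
theorem no16 (h : TS T E) (ng : ∀ y ∈ T, ¬ HasTy E y (false, true)) {x : G} (hx : x ∈ T)
    (hxt : HasTy E x (true, true)) (B : Subgroup G) (hB : B ≤ T) (hBe : ∀ x ∈ B, x * x = 1) : Nat.card B ≤ 8 := by
  by_cases hBP : B ≤ P h
  · exact no16_P h B hBP hBe
  obtain ⟨b, hb, hbP⟩ := SetLike.not_le_iff_exists.1 hBP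
  rcases ty_cases h ng hx hxt (hB hb) with ht | ht
  · exact absurd (ht.inner h (hB hb)) hbP
  obtain ⟨r, hr⟩ := exists_pure h (hB hb) (hBe b hb) (by decide) ht
  have hB2 : Nat.card (B.map (MulAut.conj (E r)).toMonoidHom : Subgroup G) = Nat.card B :=
    Nat.card_congr (B.equivMapOfInjective _ (MulAut.conj (E r)).injective).toEquiv.symm
  rw [← hB2]
  refine no16_c h ng (x := E r * b * (E r)⁻¹) ?_ hr _ ?_ ?_ ⟨b, hb, rfl⟩
  · exact T.mul_mem (T.mul_mem (h.mem r) (hB hb)) (T.inv_mem (h.mem r))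
  · rintro _ ⟨c, hc, rfl⟩
    exact T.mul_mem (T.mul_mem (h.mem r) (hB hc)) (T.inv_mem (h.mem r))
  · rintro _ ⟨c, hc, rfl⟩
    show E r * c * (E r)⁻¹ * (E r * c * (E r)⁻¹) = 1
    have e : E r * c * (E r)⁻¹ * (E r * c * (E r)⁻¹) = E r * (c * c) * (E r)⁻¹ := by group
    rw [e, hBe c hc]; group

end Cfsg.Agent.UGT.I34.OnT
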