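import Cfsg.Agent.UGT.I34.SideOf
import Cfsg.Agent.Intrinsic.TypeF
import Cfsg.Agent.SignalizersComponents.IntrinsicLift
import Cfsg.Agent.SignalizersComponents.IntrinsicDiag

/-!
# THEOREM I34, part [A]: (5.2), (5.3)

`W1.fixes_or`: `u ∈ D`, `x ≠ u` an involution of `C(u)` fixing `L u`, `t ≠ u` an involution of `L u` commuting with
`x`: `x` or `x u` fixes `L t`. Consequences: exactly one of `x`, `x u` is big.
-/

set_option autoImplicit false

open Cfsg Subgroup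
open Cfsg.Agent.SignalizersComponents Cfsg.Agent.Lib
open Cfsg.Agent.SignalizersComponents.IntrinsicBasic
open Cfsg.Agent.SignalizersComponents.PLayerAut
open Cfsg.Agent.Intrinsic
open Cfsg.Agent.Intrinsic.Basic hiding IsPair PQS Target IsPair.sq IsPair.ne_one IsPair.cj
open Cfsg.Agent.Intrinsic.Cen hiding pair_comm pair_mem_cen exists_pump pump_unique
open Cfsg.Agent.Intrinsic.Quot hiding Big isPair_quot small_or_big
open Cfsg.Agent.McLLyComp.Act hiding mk_eq_one_iff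
open Cfsg.Agent.UGT.I34.Pair Cfsg.Agent.UGT.I34.KF Cfsg.Agent.UGT.I34.Loc Cfsg.Agent.UGT.I34.WOne
open Cfsg.Agent.UGT.I34.SideOf
open scoped commutatorElement

namespace Cfsg.Agent.UGT.I34.Two

universe v

section general

theorem card_centralizer {A B : Type*} [Group A] [Group B] (e : A ≃* B) (a : A) :
    Nat.card (centralizer ({a} : Set A)) = Nat.card (centralizer ({e a} : Set B)) := by
  refine Nat.card_congr ⟨fun x => ⟨e x, ?_⟩, fun y => ⟨e.symm y, ?_⟩, fun x => Subtype.ext (e.symm_apply_apply _),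
    fun y => Subtype.ext (e.apply_symm_apply _)⟩
  · rw [mem_centralizer_singleton_iff, ← map_mul, ← map_mul, mem_centralizer_singleton_iff.mp x.2]
  · rw [mem_centralizer_singleton_iff]
    apply e.injective
    rw [map_mul, map_mul, e.apply_symm_apply, mem_centralizer_singleton_iff.mp y.2]

/-- a homomorphism from a perfect group to a 2-group is trivial -/
theorem eq_one_of_perfect {A B : Type*} [Group A] [Group B] [Finite B] (hA : commutator A = ⊤) (f : A →* B)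
    (hf : IsPGroup 2 ↥f.range) : ∀ a, f a = 1 := by
  have h2 : Fact (Nat.Prime 2) := ⟨Nat.prime_two⟩
  have hnil : Group.IsNilpotent ↥f.range := hf.isNilpotent
  have hs : commutator ↥f.range = ⊤ := by
    have h3 := congrArg (Subgroup.map f.rangeRestrict) hA
    rw [commutator_def, map_commutator, map_top_of_surjective _ f.rangeRestrict_surjective] at h3
    rw [commutator_def]
    exact h3
  intro a
  by_contra hne
  have hnt : Nontrivial ↥f.range := ⟨⟨⟨f a, a, rfl⟩, 1, fun h => hne (congrArg Subtype.val h)⟩⟩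
  have h4 := Group.IsSolvable.commutator_lt_top_of_nontrivial ↥f.range
  exact h4.ne hs

variable {G : Type v} [Group G] [Finite G]

/-- elements of the 2-layer are inner on 2-components -/
theorem inner_of_L2 {H M : Subgroup G} (hM : IsComp H M) {a : G} (ha : a ∈ L2 H) :
    ∃ k, act M ⟨a, hM.L2_le_normalizer ha⟩ = MulAut.conj k := by
  obtain ⟨P, hP⟩ : ∃ P : Subgroup G, P = ((MulAut.conj : (↥M ⧸ oddCore ↥M) →* MulAut (↥M ⧸ oddCore ↥M)).range.comap
    (act M)).map (normalizer (M : Set G)).subtype := ⟨_, rfl⟩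
  have hmem : ∀ {a : G}, a ∈ P ↔ ∃ (ha : a ∈ normalizer (M : Set G)) (k : _), act M ⟨a, ha⟩ = MulAut.conj k := by
    intro a
    rw [hP]
    constructor
    · rintro ⟨⟨a, ha⟩, ⟨k, hk⟩, rfl⟩
      exact ⟨ha, k, hk.symm⟩
    · rintro ⟨ha, k, hk⟩
      exact ⟨⟨a, ha⟩, ⟨k, hk.symm⟩, rfl⟩
  have h1 : M ⊔ cenMod H M ≤ P := by
    rw [sup_le_iff]
    constructor
    · intro m hm
      exact hmem.mpr ⟨le_normalizer hm, _, act_of_mem hm⟩
    · intro c hc
      have hf := (hM.fixes_iff (cenMod_le _ _ hc)).mpr hc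
      exact hmem.mpr ⟨hf.1, 1, by rw [map_one]; exact (act_eq_one_iff hf.1).mpr hf⟩
  obtain ⟨_, h2⟩ := hmem.mp (h1 (hM.L2_le_sup ha))
  exact h2

/-- Lifting of a simple normal subgroup of the centralizer of an involution `x` in `X / O(X)`. -/
theorem exists_lift {X : Subgroup G} {x : G} (hxN : x ∈ normalizer (X : Set G)) (hxx : x * x = 1)
    {E : Subgroup (↥X ⧸ oddCore ↥X)} (hE : E ≤ fx (act X ⟨x, hxN⟩))
    (hn : ∀ g ∈ fx (act X ⟨x, hxN⟩), ∀ k ∈ E, g * k * g⁻¹ ∈ E) (hs : IsSimpleGroup ↥E)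
    (h2 : 2 ∣ Nat.card E) (hna : ∃ a ∈ E, ∃ b ∈ E, a * b ≠ b * a) :
    ∃ J : Subgroup G, IsComp (X ⊓ centralizer ({x} : Set G)) J ∧ qs X J = E ∧
      ∀ g ∈ X ⊓ centralizer ({x} : Set G), g ∈ normalizer (J : Set G) := by
  obtain ⟨Q, hQ⟩ : ∃ Q, Q = fx (act X ⟨x, hxN⟩) := ⟨_, rfl⟩
  rw [← hQ] at hE hn
  have hmQ : ∀ (m : G) (hm : m ∈ X), m * x = x * m → (QuotientGroup.mk ⟨m, hm⟩ : ↥X ⧸ oddCore ↥X) ∈ Q := by
    intro m hm hmx
    rw [hQ, mem_fx, act_mk hxN hm]
    congr 1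
    apply Subtype.ext
    change x * m * x⁻¹ = m
    rw [← hmx, mul_inv_cancel_right]
  let f : ↥(X ⊓ centralizer ({x} : Set G)) →* ↥Q :=
    { toFun := fun m => ⟨QuotientGroup.mk ⟨m, m.2.1⟩, hmQ m m.2.1 (mem_centralizer_singleton_iff.mp m.2.2)⟩
      map_one' := rfl
      map_mul' := fun _ _ => rfl }
  have hf : Function.Surjective f := by
    rintro ⟨y, hy⟩
    obtain ⟨⟨m, hm⟩, rfl⟩ := QuotientGroup.mk_surjective y
    rw [hQ, mem_fx, act_mk hxN hm] at hy
    have h3 : m⁻¹ * (x * m * x⁻¹) ∈ core X := (mk_eq_mk_iff' hm (conj_mem hxN hm)).mp hy.symm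
    obtain ⟨o, ho, h4⟩ := Lifting.exists_commute (odd_card_core X) (n := 1)
      (by rw [pow_one, pow_two, hxx]) (normalizer_le_normalizer_core X hxN) h3
    have hmo : m * o ∈ X := X.mul_mem hm (core_le _ ho)
    refine ⟨⟨m * o, hmo, mem_centralizer_singleton_iff.mpr h4.symm⟩, Subtype.ext ?_⟩
    change (QuotientGroup.mk ⟨m * o, hmo⟩ : ↥X ⧸ oddCore ↥X) = QuotientGroup.mk ⟨m, hm⟩
    symm
    rw [mk_eq_mk_iff', inv_mul_cancel_left]
    exact ho
  have hker : Odd (Nat.card f.ker) := by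
    have h1 : f.ker.map (X ⊓ centralizer ({x} : Set G)).subtype ≤ core X := by
      rintro _ ⟨m, hm, rfl⟩
      have h3 : (QuotientGroup.mk ⟨(m : G), m.2.1⟩ : ↥X ⧸ oddCore ↥X) = 1 := congrArg Subtype.val hm
      exact (mk_eq_one_iff m.2.1).mp h3
    have h2 := Subgroup.card_dvd_of_le h1
    rw [card_map_of_injective (X ⊓ centralizer ({x} : Set G)).subtype_injective] at h2
    exact Odd.of_dvd_nat (odd_card_core X) h2
  have hnorm : (E.subgroupOf Q).Normal := ⟨fun k hk g => hn g g.2 k hk⟩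
  have hcomp : IsComponent (E.subgroupOf Q) := by
    refine ⟨hnorm.isSubnormal, Components.isQuasisimple_of_mulEquiv (subgroupOfEquivOfLe hE).symm ?_⟩
    refine IntrinsicDiag.quasisimple_of_simple hs ?_
    obtain ⟨a, ha, b, hb, hab⟩ := hna
    intro hc
    exact hab (congrArg Subtype.val (hc.is_comm.comm (⟨a, ha⟩ : ↥E) ⟨b, hb⟩))
  have h2' : 2 ∣ Nat.card (E.subgroupOf Q) := by
    rw [Nat.card_congr (subgroupOfEquivOfLe hE).toEquiv]
    exact h2
  obtain ⟨h3, h4⟩ := IntrinsicLift.lift_component f hf hker hcomp h2'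
  refine ⟨_, isComp_of_subtype h3, ?_, ?_⟩
  · ext y
    constructor
    · rintro ⟨m, hm, rfl⟩
      obtain ⟨m', hm', hmm⟩ := hm
      have h5 : f m' ∈ E.subgroupOf Q := by
        rw [← h4]
        exact ⟨m', hm', rfl⟩
      have h6 : m = ⟨(m' : G), m'.2.1⟩ := Subtype.ext hmm.symm
      rw [h6]
      exact h5
    · intro hy
      have h5 : (⟨y, hE hy⟩ : ↥Q) ∈ E.subgroupOf Q := hy
      rw [← h4] at h5
      obtain ⟨m, hm, hmx⟩ := h5
      exact ⟨⟨(m : G), m.2.1⟩, ⟨m, hm, rfl⟩, congrArg Subtype.val hmx⟩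
  · intro g hg
    have h5 : (⟨g, hg⟩ : ↥(X ⊓ centralizer ({x} : Set G))) ∈
        normalizer (PComponents.pElem 2 ((E.subgroupOf Q).comap f) : Set _) :=
      PComponents.normalizer_le_normalizer_pElem _ (by
        have h6 : ((E.subgroupOf Q).comap f).Normal := hnorm.comap f
        rw [Subgroup.normalizer_eq_top]
        trivial)
    rw [mem_normalizer_iff] at h5 ⊢
    intro y
    constructor
    · rintro ⟨m, hm, rfl⟩
      exact ⟨_, (h5 m).mp hm, rfl⟩
    · rintro ⟨m, hm, hmy⟩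
      refine ⟨⟨g, hg⟩⁻¹ * m * ⟨g, hg⟩, (h5 _).mpr ?_, ?_⟩
      · rw [show (⟨g, hg⟩ : ↥(X ⊓ centralizer ({x} : Set G))) * (⟨g, hg⟩⁻¹ * m * ⟨g, hg⟩) * ⟨g, hg⟩⁻¹ = m by group]
        exact hm
      · change g⁻¹ * (m : G) * g = y
        have h7 : (m : G) = g * y * g⁻¹ := hmy
        rw [h7]; group

end general

section core

variable {G : Type v} [Group G] [Finite G]

/-- the core of `J` if `J` covers a simple group of even order -/
theorem core_le_of_simple {X J : Subgroup G} (hJX : J ≤ X) (hs : IsSimpleGroup ↥(qs X J))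
    (h2 : 2 ∣ Nat.card (qs X J)) : core J ≤ core X := by
  have h4 : oddCore ↥(qs X J) = ⊥ := by
    rcases hs.eq_bot_or_eq_top_of_normal (oddCore ↥(qs X J)) (Lib.Cores.pPrimeCore_normal 2) with h | h
    · exact h
    · exfalso
      have h5 := Lib.Cores.pPrimeCore_coprime (G := ↥(qs X J)) 2
      have h6 : Nat.card (pPrimeCore 2 ↥(qs X J)) = Nat.card (qs X J) := by
        have h7 : pPrimeCore 2 ↥(qs X J) = ⊤ := h
        rw [h7]
        exact Subgroup.card_top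
      rw [h6] at h5
      exact absurd (Nat.dvd_gcd h2 dvd_rfl) (by rw [h5]; norm_num)
  obtain ⟨e, he⟩ := exists_qs_equiv hJX
  intro j hj
  have hjJ := Basic.core_le J hj
  have h1 := he j hjJ
  rw [(mk_eq_one_iff hjJ).mpr hj, map_one] at h1
  have h2 := (QuotientGroup.eq_one_iff _).mp h1.symm
  rw [h4, mem_bot] at h2
  exact (mk_eq_one_iff (hJX hjJ)).mp (congrArg Subtype.val h2)

/-- A perfect subgroup `J` normalising `M`, inducing inner automorphisms on `M / O(M)` and commuting with `t ∈ M`,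
where `C(t)` in `M / O(M)` is a 2-group, fixes `M`. -/
theorem fixes_of_perfect {J M : Subgroup G} {t : G} (hJ : ⁅J, J⁆ = J) (hJM : J ≤ normalizer (M : Set G)) (ht : t ∈ M)
    (hinn : ∀ j (hj : j ∈ J), ∃ k, act M ⟨j, hJM hj⟩ = MulAut.conj k) (hJt : ∀ j ∈ J, j * t = t * j)
    (h2 : IsPGroup 2 ↥(centralizer ({(QuotientGroup.mk ⟨t, ht⟩ : ↥M ⧸ oddCore ↥M)} :
      Set (↥M ⧸ oddCore ↥M)))) : ∀ j ∈ J, Fixes j M := by
  have hperf : commutator ↥J = ⊤ := by
    apply Subgroup.map_injective J.subtype_injective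
    rw [commutator_def, map_commutator, ← MonoidHom.range_eq_map, range_subtype, hJ]
  let f : ↥J →* MulAut (↥M ⧸ oddCore ↥M) := (act M).comp (inclusion hJM)
  have hf : IsPGroup 2 ↥f.range := by
    have h3 := h2.map (MulAut.conj : (↥M ⧸ oddCore ↥M) →* MulAut (↥M ⧸ oddCore ↥M))
    refine h3.to_le ?_
    rintro _ ⟨⟨j, hj⟩, rfl⟩
    obtain ⟨k, hk⟩ := hinn j hj
    refine ⟨k, ?_, hk.symm⟩
    have h4 : act M ⟨j, hJM hj⟩ (QuotientGroup.mk ⟨t, ht⟩) = QuotientGroup.mk ⟨t, ht⟩ := by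
      rw [act_mk (hJM hj) ht]
      congr 1
      apply Subtype.ext
      change j * t * j⁻¹ = t
      rw [hJt j hj, mul_inv_cancel_right]
    rw [hk, MulAut.conj_apply, mul_inv_eq_iff_eq_mul] at h4
    exact mem_centralizer_singleton_iff.mpr h4
  intro j hj
  rw [← act_eq_one_iff (hJM hj)]
  exact eq_one_of_perfect hperf f hf ⟨j, hj⟩

end core

section W1

variable {G : Type v} [Group G] [Finite G] {κ : Kind.{v}} {τ : Bool} {D : Set G} {L : G → Subgroup G}
  {u t x : G}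

/-- in the small case the centralizer of `t` in the pump-up (modulo the core) is a 2-group -/
theorem two_of_small (h : W1 κ τ D L) (hu : u ∈ D) (hxx : x * x = 1) (hx : x * u = u * x)
    (hf : Fixes x (L u)) (hs : IsSmall (L u) x) (ht : t ∈ L u) (htt : t * t = 1) (ht1 : t ≠ 1)
    (htu : t ≠ u) (hxt : x * t = t * x) (htM : t ∈ pump x (L u)) :
    IsPGroup 2 ↥(centralizer ({(QuotientGroup.mk ⟨t, htM⟩ : ↥(pump x (L u)) ⧸ oddCore ↥(pump x (L u)))} :
      Set (↥(pump x (L u)) ⧸ oddCore ↥(pump x (L u))))) := by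
  have h2 : Fact (Nat.Prime 2) := ⟨Nat.prime_two⟩
  have htc : t ∈ cen (L u) x := mem_cen_of_sq ht hxt.symm htt
  obtain ⟨e1, he1⟩ := exists_quotEquiv
    (isComp_cen (h.comp hu) (mem_centralizer_singleton_iff.mpr hx) hxx hf).2
  obtain ⟨e2, he2⟩ := exists_quotEquiv (show cen (L u) x ⊔ core (pump x (L u)) = pump x (L u) from hs)
  refine IsPGroup.of_card (n := 7) ?_
  have h3 := card_centralizer e2 (QuotientGroup.mk ⟨t, htc⟩)
  have h4 := card_centralizer e1 (QuotientGroup.mk ⟨t, htc⟩)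
  rw [he1 t htc ht, (h.facts hu).card_C (h.ninv hu ht htt ht1 htu)] at h4
  rw [he2 t htc htM, h4] at h3
  rw [← h3]
  norm_num

/-- the outer case of (5.2) does not occur for a small `x` -/
theorem not_outer (h : W1 κ τ D L) (hu : u ∈ D) (hxx : x * x = 1) (hx : x * u = u * x)
    (hf : Fixes x (L u)) (hs : IsSmall (L u) x) (ht : t ∈ L u) (htt : t * t = 1) (ht1 : t ≠ 1)
    (htu : t ≠ u) (hxt : x * t = t * x) (hxN : x ∈ normalizer (L t : Set G)) (huLt : u ∈ L t)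
    {E : Subgroup (↥(L t) ⧸ oddCore ↥(L t))} (hE : E ≤ fx (act (L t) ⟨x, hxN⟩))
    (hn : ∀ g ∈ fx (act (L t) ⟨x, hxN⟩), ∀ k ∈ E, g * k * g⁻¹ ∈ E) (hsi : IsSimpleGroup ↥E)
    (h2 : 2 ∣ Nat.card E) (hna : ∃ a ∈ E, ∃ b ∈ E, a * b ≠ b * a)
    (hnt : ∃ k ∈ E, (QuotientGroup.mk ⟨u, huLt⟩ : ↥(L t) ⧸ oddCore ↥(L t)) * k ≠ k * QuotientGroup.mk ⟨u, huLt⟩) :
    False := by
  have htD := h.inv_mem hu ht htt ht1
  obtain ⟨J, hJ, hqs, hnorm⟩ := exists_lift hxN hxx hE hn hsi h2 hna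
  have hJX : J ≤ L t := hJ.le.trans inf_le_left
  have hLC : L t ⊓ centralizer ({x} : Set G) ≤ centralizer ({x} : Set G) ⊓ centralizer ({t} : Set G) :=
    le_inf inf_le_right (inf_le_left.trans (h.comp htD).le)
  have hJ2 : IsComp (centralizer ({x} : Set G) ⊓ centralizer ({t} : Set G)) J :=
    hJ.extend hLC (TypeF.subnormal_inf (h.comp htD) inf_le_right inf_le_left)
  have htx : t ∈ centralizer ({x} : Set G) := mem_centralizer_singleton_iff.mpr hxt.symm
  have hJL := isComp_le_L2 htx htt hJ2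
  have hM := pump_comp (h.pair hu) hxx hx hf
  have htM := mem_pump_of_mem (h.pair hu) hxx hx hf ht hxt.symm (k := 1) (by rw [pow_one, pow_two, htt])
  have huM := mem_pump (h.pair hu) hxx hx hf
  have hJM : J ≤ normalizer (pump x (L u) : Set G) := hJL.trans hM.L2_le_normalizer
  have hfix := fixes_of_perfect hJ.perfect hJM htM (fun j hj => inner_of_L2 hM (hJL hj))
    (fun j hj => mem_centralizer_singleton_iff.mp (hJ2.le hj).2)
    (two_of_small h hu hxx hx hf hs ht htt ht1 htu hxt htM)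
  have huN : u ∈ normalizer (J : Set G) :=
    hnorm u ⟨huLt, mem_centralizer_singleton_iff.mpr hx.symm⟩
  have hcore : core J ≤ core (L t) := by
    refine core_le_of_simple hJX ?_ ?_
    · rw [hqs]; exact hsi
    · rw [hqs]; exact h2
  have key : ∀ j ∈ J, j⁻¹ * (u * j * u⁻¹) ∈ core (L t) := by
    intro j hj
    apply hcore
    refine inf_core_le hJM ⟨J.mul_mem (J.inv_mem hj) ((mem_normalizer_iff.mp huN j).mp hj), ?_⟩
    have h3 := (fixes_iff_conj.mp (hfix j⁻¹ (J.inv_mem hj))).2 u⁻¹ (inv_mem huM)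
    rw [inv_inv, inv_inv] at h3
    have h4 := inv_mem h3
    rw [show (u * (j⁻¹ * u⁻¹ * j))⁻¹ = j⁻¹ * (u * j * u⁻¹) by group] at h4
    exact h4
  obtain ⟨k, hk, hne⟩ := hnt
  apply hne
  rw [← hqs] at hk
  obtain ⟨⟨j, hjX⟩, hj, rfl⟩ := hk
  exact ((mk_comm_iff hjX huLt).mpr (key j hj)).symm

/-- **(5.2)** -/
theorem fixes_or (h : W1 κ τ D L) (hu : u ∈ D) (hxx : x * x = 1) (hx1 : x ≠ 1)
    (hx : x * u = u * x) (hf : Fixes x (L u)) (ht : t ∈ L u) (htt : t * t = 1) (ht1 : t ≠ 1)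
    (htu : t ≠ u) (hxt : x * t = t * x) : Fixes x (L t) ∨ Fixes (x * u) (L t) := by
  have htD := h.inv_mem hu ht htt ht1
  have huLt := h.mem_of_mem hu ht htt ht1
  rcases h.small_or_big hu hxx hx1 hx hf with hs | hb
  swap
  · exact Or.inl (h.fixes_of_isBig hu hxx hx1 hx hf ht htt ht1 hxt hb)
  have hV : IsPGroup 2 ↥(zpowers x) := by
    rintro ⟨_, k, rfl⟩
    refine ⟨1, ?_⟩
    apply Subtype.ext
    change (x ^ k) ^ 2 ^ 1 = 1
    rw [pow_one, ← zpow_natCast, ← zpow_mul, mul_comm, zpow_mul, zpow_natCast, pow_two, hxx, one_zpow]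
  obtain ⟨R, c, hxR⟩ := Cfg.exists_cfg h hu ht htt ht1 htu hV (zpowers_le.mpr
    ⟨mem_centralizer_singleton_iff.mpr hx, mem_centralizer_singleton_iff.mpr hxt⟩)
  have hxR : x ∈ R := hxR (mem_zpowers x)
  have c' := c.symm h
  have hA : (c.side h).ρ ⟨x, hxR⟩ = 1 := (c.side_ρ_eq_one_iff h hxR).mpr hf
  rcases Side.fix_two (c.side h) (c'.side h) (c.cen h) (h.facts hu) (h.facts htD) hA
    (Subtype.ext hxx) with h1 | h1 | h1
  · exact Or.inl ((c'.side_ρ_eq_one_iff h hxR).mp h1)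
  · exact Or.inr ((c'.side_ρ_eq_one_iff h (R.mul_mem hxR (c.uR h))).mp h1)
  · exfalso
    have htriv : ∀ y ∈ Y (c'.side h).t, ∃ c ∈ center (↥(L t) ⧸ oddCore ↥(L t)),
        (c'.side h).ρ ⟨x, hxR⟩ y = y * c := fun y hy =>
      Side.triv_Y (c.side h) (c'.side h) (c.cen h) (h.facts hu) (h.facts htD) hA hy
    obtain ⟨E, hE, hn, hsi, h2, hna, hnt⟩ := (h.facts htD).gtype (c'.side h).ht ((c'.side h).ρ ⟨x, hxR⟩)
      (by
        rw [← map_mul]
        have : (⟨x, hxR⟩ : ↥R) * ⟨x, hxR⟩ = 1 := Subtype.ext hxx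
        rw [this, map_one])
      ((c'.side h).ρ_t (c'.cen h) ⟨x, hxR⟩) htriv h1
    exact not_outer h hu hxx hx hf hs ht htt ht1 htu hxt (c'.norm h hxR) huLt hE hn hsi h2 hna hnt

end W1

end Cfsg.Agent.UGT.I34.Two
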