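import Cfsg.Agent.UGT.I34.KindA
import Cfsg.Agent.UGT.I34.NZSup
import Cfsg.Agent.UGT.I34.LiftInv
import Cfsg.Agent.UGT.I34.WOneC.ExY
import Cfsg.Agent.UGT.I34.WOneC.Final
import Cfsg.Agent.UGT.I34.OnSupEnd
import Cfsg.Agent.UGT.I34.ONEnd

/-!
# THEOREM I34, part [A]: the kind `4₁`

`simpleCase_true`: a simple group with a pair of kind `4₁` is an `ONRec` group.
-/

set_option autoImplicit false

open Cfsg Subgroup
open Cfsg.Agent.SignalizersComponents Cfsg.Agent.Lib
open Cfsg.Agent.SignalizersComponents.IntrinsicBasic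
open Cfsg.Agent.Intrinsic
open Cfsg.Agent.Intrinsic.Basic hiding IsPair PQS Target IsPair.sq IsPair.ne_one IsPair.cj
open Cfsg.Agent.UGT.Cov (FourKind)
open Cfsg.Agent.UGT.I34.Pair Cfsg.Agent.UGT.I34.Red Cfsg.Agent.UGT.I34.WOne Cfsg.Agent.UGT.I34.KindA

namespace Cfsg.Agent.UGT.I34.OneMain

universe u

/-- a group with a pair of kind `4₁` and a Sylow 2-subgroup of order `2 ^ 9` has no strongly embedded subgroup -/
theorem no_se (hB : ONRec.BenderSimple.{u}) {X : Type u} [Group X] [Finite X] [IsSimpleGroup X] {z : X}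
    {L : Subgroup X} (hp : IsPair (kd.{u} true TON) z L) {S : Sylow 2 X}
    (hS : Nat.card (S : Subgroup X) = 2 ^ 9) (H : Subgroup X) : ¬ IsStronglyEmbedded H := by
  intro hH
  have h2 : Fact (Nat.Prime 2) := ⟨Nat.prime_two⟩
  have hc := WOneC.Final.card_fourKind (fourKind' hp.kind)
  have hd : 80640 ∣ Nat.card X := by
    rw [← hc]
    exact (Subgroup.card_quotient_dvd_card _).trans (Subgroup.card_subgroup_dvd_card L)
  refine ONRec.false_of_list (hB X ?_ H hH) (m := (S : Subgroup X).index)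
    (by rw [← hS]; exact (Subgroup.card_mul_index _).symm) ?_ (dvd_trans (by norm_num) hd) (dvd_trans (by norm_num) hd)
  · by_contra hcon
    push Not at hcon
    have h1 : ⁅L, L⁆ = L := hp.comp.perfect
    have h3 : ⁅L, L⁆ = ⊥ := by
      rw [Subgroup.commutator_eq_bot_iff_le_centralizer]
      exact fun a _ => mem_centralizer_iff.mpr fun b _ => hcon b a
    exact hp.ne_one (mem_bot.mp (h3 ▸ h1.symm ▸ hp.mem))
  · have h3 := S.not_dvd_index
    rcases Nat.even_or_odd (S : Subgroup X).index with h4 | h4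
    · exact absurd h4.two_dvd h3
    · exact h4

/-- **The kind `4₁`.** -/
theorem simpleCase_true (h1173 : P1173.{u}) (hB : ONRec.BenderSimple.{u})
    (hFT : ∀ (G : Type u) [Group G] [Finite G], Functor.OddSol G)
    (hAs : ∀ (G : Type u) [Group G] [Finite G] [IsSimpleGroup G], WOneA.Asch G) :
    SimpleCase (kd.{u} true TON) := by
  intro X _ _ _ hN z L hp
  obtain ⟨Lf, h, rfl, he, -⟩ := WSupply.exists_world_eps kf kg facts hN oneComp tgt hp (h1173 X)
  have hz : z ∈ WSupply.cls z := ⟨1, by group⟩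
  have hE : WOneC.ExY.HEps (WSupply.cls z) Lf := he
  have hY : WOneC.Cc.ExY (WSupply.cls z) Lf := WOneC.ExY.exY h kg hE
  have hcc := WOneC.ExY.ccMul h (WOneC.Final.fxOr h) (LiftInv.liftInv fun h => fourKind' h) hE
  have hTO : ∀ (X : Type u) [Group X] [Finite X] (z : X) (L : Subgroup X), (kd.{u} true TON).T X z L →
      ONRec.ONRec X z L := fun _ _ _ _ _ h => h.2
  by_cases hnz : NZSup.NZ (WSupply.cls z) Lf
  · have hb := NZSup.noBig h hY hcc hnz (WOneC.Final.syl fun h => fourKind' h) hTO hB (h1173 X)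
    obtain ⟨S, F, A, hS, hO⟩ := OnSupEnd.exists_onLoc' h hb he
      (fun u hu => by
        obtain ⟨-, A, π, b, -, h1⟩ := (h.pair hu).kind
        exact ⟨A, h1⟩) hz
    rcases ONEnd.onrec_of_loc hO (orderOf_eq_prime (by rw [pow_two, h.sq hz]) (h.ne_one hz)) (h.comp hz) with
      ⟨H, hH⟩ | h1
    · exact absurd hH (no_se hB hp hO.cardT H)
    · exact ⟨inferInstance, h1⟩
  · exfalso
    unfold NZSup.NZ at hnz
    push Not at hnz
    obtain ⟨u, hu, s, hs, hus, hf, hne⟩ := hnz
    exact WOneC.Final.false_of_zero (fun h => fourKind' h) (fun X _ _ z L h _ => hTO X z L h) hB (hFT X) (hAs X) h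
      hY hcc hu hs hne hus hf

end Cfsg.Agent.UGT.I34.OneMain
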