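import Cfsg.Agent.Intrinsic.TypesDef
import Cfsg.Agent.Intrinsic.RedQuot

/-!
# THEOREM I34: pairs, conjugate pairs, the pump-up of a pair; generic over a kind

A `Kind` is an isomorphism invariant property `P` of groups (the possible `X / O(X)`), all groups with `P` of the
same order, together with the configurations `T X z L` that remain (`He`, `O'N`).

* `IsPair κ u X`: `u` an involution, `X` a 2-component of `C(u)`, `u ∈ X`, `κ.P (X / O(X))`.
* `PQS κ N`: the induction hypothesis.
* `exists_pump`, `pump_unique`: the pump-up `M` of `cen X v` in `C(v)`.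
* `small_or_big`: `M = J O(M)` or the target situation in `M / O(M)`.
* `Om z L u X`: the pairs conjugate to `(z, L)` (from `Intrinsic.TypesDef`); `typeZero_symm` is (3.A).
-/

set_option autoImplicit false

open Cfsg Subgroup
open Cfsg.Agent.SignalizersComponents Cfsg.Agent.Lib
open Cfsg.Agent.SignalizersComponents.IntrinsicBasic
open Cfsg.Agent.SignalizersComponents.PLayerAut
open Cfsg.Agent.Intrinsic.Basic hiding IsPair PQS Target
open Cfsg.Agent.Intrinsic.Cen hiding pair_comm pair_mem_cen exists_pump pump_unique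
open Cfsg.Agent.Intrinsic.Quot hiding Big
open Cfsg.Agent.Intrinsic.TypesDef (Om exists_om sup_of_card)
open scoped commutatorElement

namespace Cfsg.Agent.UGT.I34.Pair

universe u

/-- A kind of pairs: `P` is the type of `X / O(X)`, `T` the list of exceptional configurations. -/
structure Kind : Type (u + 1) where
  /-- the type of `X / O(X)` -/
  P : ∀ (K : Type u) [Group K], Prop
  congr : ∀ {A B : Type u} [Group A] [Group B], (A ≃* B) → P A → P B
  card_eq : ∀ {A B : Type u} [Group A] [Group B], P A → P B → Nat.card A = Nat.card B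
  /-- the exceptional configurations -/
  T : ∀ (X : Type u) [Group X], X → Subgroup X → Prop

/-- `(u, X)` is a pair of kind `κ`: `u` is an involution, `X` a 2-component of `C(u)` containing `u` and `X / O(X)` is
of kind `κ`. -/
structure IsPair (κ : Kind.{u}) {G : Type u} [Group G] (u : G) (X : Subgroup G) : Prop where
  inv : orderOf u = 2
  mem : u ∈ X
  comp : IsComp (centralizer ({u} : Set G)) X
  kind : κ.P (↥X ⧸ oddCore ↥X)

/-- Induction hypothesis: quasisimple core-free groups of order `< N`. -/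
def PQS (κ : Kind.{u}) (N : ℕ) : Prop :=
  ∀ (X : Type u) [Group X] [Finite X], Nat.card X < N → IsQuasisimple X → oddCore X = ⊥ →
    ∀ (z : X) (L : Subgroup X), IsPair κ z L → z ∈ center X ∨ κ.T X z L

variable {κ : Kind.{u}} {G : Type u} [Group G]

/-! ### basic facts on pairs -/

section basic

variable {u : G} {X : Subgroup G}

theorem IsPair.sq (h : IsPair κ u X) : u * u = 1 := by
  rw [← pow_two, ← h.inv, pow_orderOf_eq_one]

theorem IsPair.ne_one (h : IsPair κ u X) : u ≠ 1 := by
  rintro rfl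
  have := h.inv
  simp at this

theorem IsPair.cj (h : IsPair κ u X) (g : G) : IsPair κ (g * u * g⁻¹) (cj g X) := by
  refine ⟨?_, conj_mem_cj h.mem, ?_, κ.congr (cjQuot g X) h.kind⟩
  · have := h.inv
    have e : orderOf (MulAut.conj g u) = orderOf u := orderOf_injective (MulAut.conj g).toMonoidHom
      (MulAut.conj g).injective u
    rw [← this, ← e]
    rfl
  · rw [← cj_centralizer]
    exact h.comp.cj g

theorem pair_comm (h : IsPair κ u X) {x : G} (hx : x ∈ X) : x * u = u * x :=
  mem_centralizer_singleton_iff.mp (h.comp.le hx)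

theorem pair_mem_cen (h : IsPair κ u X) {v : G} (hv : v * u = u * v) : u ∈ cen X v :=
  mem_cen_of_sq h.mem hv.symm h.sq

theorem Om.pair' {z : G} {L : Subgroup G} (h : Om z L u X) (hp : IsPair κ z L) : IsPair κ u X := by
  obtain ⟨g, rfl, rfl⟩ := h
  exact hp.cj g

end basic

variable [Finite G]

theorem kind_of_sup {J X : Subgroup G} (hs : J ⊔ core X = X) :
    κ.P (↥J ⧸ oddCore ↥J) ↔ κ.P (↥X ⧸ oddCore ↥X) := by
  obtain ⟨e, -⟩ := exists_quotEquiv hs
  exact ⟨κ.congr e, κ.congr e.symm⟩

theorem kind_cen {H X : Subgroup G} {v : G} (hX : IsComp H X) (hv : v ∈ H) (hvv : v * v = 1)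
    (hf : Fixes v X) :
    κ.P (↥(cen X v) ⧸ oddCore ↥(cen X v)) ↔ κ.P (↥X ⧸ oddCore ↥X) :=
  kind_of_sup (isComp_cen hX hv hvv hf).2

/-- The pump-up of a pair: `v` commutes with `u` and fixes `X`; then `cen X v` lies in a unique
2-component of `C(v)`, and this contains `u`. -/
theorem exists_pump {u : G} {X : Subgroup G} (h : IsPair κ u X) {v : G} (hvv : v * v = 1)
    (hv : v * u = u * v) (hf : Fixes v X) :
    ∃ M, IsComp (centralizer ({v} : Set G)) M ∧ cen X v ≤ M ∧ u ∈ M := by
  have hvC : v ∈ centralizer ({u} : Set G) := mem_centralizer_singleton_iff.mpr hv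
  have h1 := (isComp_cen h.comp hvC hvv hf).1
  rw [inf_comm] at h1
  obtain ⟨M, hM, hle⟩ := exists_pumpup h.sq (pair_mem_cen h hv) h1
  exact ⟨M, hM, hle, hle (pair_mem_cen h hv)⟩

theorem pump_unique {u : G} {X : Subgroup G} (h : IsPair κ u X) {v : G} (hvv : v * v = 1)
    (hv : v * u = u * v) (hf : Fixes v X) {M₁ M₂ : Subgroup G}
    (h₁ : IsComp (centralizer ({v} : Set G)) M₁) (h₂ : IsComp (centralizer ({v} : Set G)) M₂)
    (hle₁ : cen X v ≤ M₁) (hle₂ : cen X v ≤ M₂) : M₁ = M₂ :=
  (isComp_cen h.comp (mem_centralizer_singleton_iff.mpr hv) hvv hf).1.unique h₁ h₂ hle₁ hle₂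

/-! ### the image of a pair in `M / O(M)` -/

/-- the target situation in `M / O(M)` -/
def Big (κ : Kind.{u}) (u : G) (J M : Subgroup G) : Prop :=
  ∃ hu : u ∈ M, κ.T (↥M ⧸ oddCore ↥M) (QuotientGroup.mk ⟨u, hu⟩) (qs M J)

/-- The image of a pair in `M / O(M)`. -/
theorem isPair_quot {u : G} {M J : Subgroup G} (hu : u * u = 1) (hu1 : u ≠ 1)
    (huJ : u ∈ J) (huM : u ∈ M) (hJ : IsComp (M ⊓ centralizer ({u} : Set G)) J)
    (hk : κ.P (↥J ⧸ oddCore ↥J)) :
    IsPair κ (QuotientGroup.mk ⟨u, huM⟩ : ↥M ⧸ oddCore ↥M) (qs M J) := by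
  have hJM : J ≤ M := hJ.le.trans inf_le_left
  refine ⟨?_, ?_, ?_, ?_⟩
  · rw [orderOf_eq_iff two_pos]
    constructor
    · rw [pow_two]
      change (QuotientGroup.mk ⟨u * u, M.mul_mem huM huM⟩ : ↥M ⧸ oddCore ↥M) = 1
      rw [mk_eq_one_iff, hu]
      exact one_mem _
    · intro k hk hk0 h
      have : k = 1 := by omega
      rw [this, pow_one, mk_eq_one_iff] at h
      exact hu1 (eq_one_of_mem_core_sq h hu)
  · exact (mem_qs huM).mpr ⟨u, ⟨huJ, huM⟩, by simp⟩
  · exact IsComp.of_tc (Cfsg.Agent.Intrinsic.PumpUp.tc_image huM hu hJ.tc)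
  · obtain ⟨e, -⟩ := exists_qs_equiv hJM
    exact κ.congr e hk

/-- If the image of `u` is central in `M / O(M)`, then `M = J O(M)`. -/
theorem small_of_center {H M J : Subgroup G} {u : G} (huM : u ∈ M) (hJM : J ≤ M)
    (hM : IsComp H M)
    (h : (QuotientGroup.mk ⟨u, huM⟩ : ↥M ⧸ oddCore ↥M) ∈ center (↥M ⧸ oddCore ↥M))
    (h2 : IsComp (centralizer ({(QuotientGroup.mk ⟨u, huM⟩ : ↥M ⧸ oddCore ↥M)} : Set _)) (qs M J)) :
    Small J M := by
  have h1 : centralizer ({(QuotientGroup.mk ⟨u, huM⟩ : ↥M ⧸ oddCore ↥M)} : Set _) = ⊤ := by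
    rw [eq_top_iff]
    intro x _
    rw [mem_centralizer_singleton_iff]
    exact mem_center_iff.mp h x
  rw [h1] at h2
  have h3 : IsComp (⊤ : Subgroup (↥M ⧸ oddCore ↥M)) ⊤ := by
    have : Fact (Nat.Prime 2) := ⟨Nat.prime_two⟩
    have hq := quasisimple_quot hM
    have heven : 2 ∣ Nat.card (↥M ⧸ oddCore ↥M) := h2.even.trans (card_subgroup_dvd_card _)
    rw [isComp_iff]
    refine ⟨le_rfl, ?_, ?_, ?_⟩
    · rw [subgroupOf_self]; exact Subgroup.IsSubnormal.top
    · obtain ⟨e, -⟩ := exists_equiv_of_surjective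
        (topEquiv (G := ↥M ⧸ oddCore ↥M)).symm.toMonoidHom (topEquiv.symm.surjective) (by
          rw [(MonoidHom.ker_eq_bot_iff _).mpr (topEquiv.symm.injective)]; simp)
      have h4 : IsQuasisimple ((↥M ⧸ oddCore ↥M) ⧸ oddCore (↥M ⧸ oddCore ↥M)) := by
        have h5 : oddCore (↥M ⧸ oddCore ↥M) = ⊥ := oddCore_quot M
        exact PCompQuot.quasisimple_congr ((QuotientGroup.quotientMulEquivOfEq h5).trans
          QuotientGroup.quotientBot).symm hq
      exact PCompQuot.quasisimple_congr e h4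
    · exact PComponents.quasisimple_pElem_top hq heven
  have h4 := h2.eq_of_le h3 le_top
  refine Cfsg.Agent.Intrinsic.Cen.sup_of_exists hJM fun x hx => ?_
  have h5 : (QuotientGroup.mk ⟨x, hx⟩ : ↥M ⧸ oddCore ↥M) ∈ qs M J := by rw [h4]; trivial
  obtain ⟨j, hj, hc⟩ := (mem_qs hx).mp h5
  exact ⟨j, hj.1, hc⟩

/-- **T8.** Small or big. -/
theorem small_or_big {N : ℕ} (hN : PQS κ N) {H M J : Subgroup G} {u : G} (hu : orderOf u = 2)
    (huJ : u ∈ J) (hJ : IsComp (H ⊓ centralizer ({u} : Set G)) J) (hk : κ.P (↥J ⧸ oddCore ↥J))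
    (hM : IsComp H M) (hJM : J ≤ M) (hcard : Nat.card M < N) : Small J M ∨ Big κ u J M := by
  have huM : u ∈ M := hJM huJ
  have hu2 : u * u = 1 := by rw [← pow_two, ← hu, pow_orderOf_eq_one]
  have hu1 : u ≠ 1 := by rintro rfl; simp at hu
  have hJ' := isComp_inf hJ hM hJM
  have hp := isPair_quot hu2 hu1 huJ huM hJ' hk
  rcases hN _ ((card_quot_le M).trans_lt hcard) (quasisimple_quot hM) (oddCore_quot M) _ _ hp
    with h | h
  · exact Or.inl (small_of_center huM hJM hM h hp.comp)
  · exact Or.inr ⟨huM, h⟩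

/-- A small pump-up of a pair is a pair again: if `u`, `v` commute, `v` fixes `X` and the pump-up `M` of `cen X v`
is small, then `M / O(M)` is of kind `κ`. -/
theorem kind_of_small {J M : Subgroup G} (hs : Small J M) (hk : κ.P (↥J ⧸ oddCore ↥J)) :
    κ.P (↥M ⧸ oddCore ↥M) := (kind_of_sup hs).mp hk

/-- the pair over `v` given by a small pump-up, if `v` lies in `M` -/
theorem IsPair.of_small {v : G} {J M : Subgroup G} (hv : orderOf v = 2) (hs : Small J M)
    (hk : κ.P (↥J ⧸ oddCore ↥J)) (hM : IsComp (centralizer ({v} : Set G)) M) (hvM : v ∈ M) :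
    IsPair κ v M := ⟨hv, hvM, hM, kind_of_small hs hk⟩

/-! ### (3.A) -/

section typeZero

variable {z : G} {L : Subgroup G} {u v : G} {X X' : Subgroup G}

/-- **(3.A)** -/
theorem typeZero_symm (hp : IsPair κ z L) (hX : Om z L u X) (hX' : Om z L v X')
    (huv : u * v = v * u) (hf : Fixes v X) : Fixes u X' := by
  have h1 := Om.pair' hX hp
  have h2 := Om.pair' hX' hp
  obtain ⟨M, hM, hle, huM⟩ := exists_pump h1 h2.sq huv.symm hf
  by_cases hMX : X' = M
  · subst hMX
    have hvC : v ∈ centralizer ({u} : Set G) := mem_centralizer_singleton_iff.mpr huv.symm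
    have hcov := (kind_cen (κ := κ) h1.comp hvC h2.sq hf).mpr h1.kind
    have hs := sup_of_card hle (κ.card_eq hcov h2.kind)
    have hsm : Small (cen X v) X' := hs
    exact hsm.fixes (pair_mem_cen h1 huv.symm) fun x hx =>
      mem_centralizer_singleton_iff.mpr (pair_comm h1 (cen_le X v hx))
  · exact h2.comp.fixes_of_mem hM hMX huM

theorem typeZero_iff (hp : IsPair κ z L) (hX : Om z L u X) (hX' : Om z L v X')
    (huv : u * v = v * u) : Fixes v X ↔ Fixes u X' :=
  ⟨typeZero_symm hp hX hX' huv, typeZero_symm hp hX' hX huv.symm⟩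

/-- (3.A) for arbitrary pairs of the same kind (not necessarily conjugate) -/
theorem typeZero_symm' (h1 : IsPair κ u X) (h2 : IsPair κ v X') (huv : u * v = v * u)
    (hf : Fixes v X) : Fixes u X' := by
  obtain ⟨M, hM, hle, huM⟩ := exists_pump h1 h2.sq huv.symm hf
  by_cases hMX : X' = M
  · subst hMX
    have hvC : v ∈ centralizer ({u} : Set G) := mem_centralizer_singleton_iff.mpr huv.symm
    have hcov := (kind_cen (κ := κ) h1.comp hvC h2.sq hf).mpr h1.kind
    have hs := sup_of_card hle (κ.card_eq hcov h2.kind)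
    have hsm : Small (cen X v) X' := hs
    exact hsm.fixes (pair_mem_cen h1 huv.symm) fun x hx =>
      mem_centralizer_singleton_iff.mpr (pair_comm h1 (cen_le X v hx))
  · exact h2.comp.fixes_of_mem hM hMX huM

/-- For commuting `u`, `v` the relation "type (0)" does not depend on the choice of `X` and `X'`. -/
theorem typeZero_indep (h1 : IsPair κ u X) {X₁ : Subgroup G} (h1' : IsPair κ u X₁)
    (h2 : IsPair κ v X') (huv : u * v = v * u) : Fixes v X ↔ Fixes v X₁ := by
  constructor
  · intro h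
    exact typeZero_symm' h2 h1' huv.symm (typeZero_symm' h1 h2 huv h)
  · intro h
    exact typeZero_symm' h2 h1 huv.symm (typeZero_symm' h1' h2 huv h)

end typeZero

end Cfsg.Agent.UGT.I34.Pair
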