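import Cfsg.Agent.UGT.I34.TypeTF

/-!
# Section 3 of I34: (EPS)

A conjugate `v` acting on `X / O(X)` as an outer automorphism does not centralize the centre of `X / O(X)`.
-/

set_option autoImplicit false

open Cfsg Subgroup
open Cfsg.Agent.SignalizersComponents Cfsg.Agent.Lib
open Cfsg.Agent.SignalizersComponents.IntrinsicBasic
open Cfsg.Agent.Intrinsic
open Cfsg.Agent.Intrinsic.Basic hiding IsPair PQS Target
open Cfsg.Agent.Intrinsic.Cen hiding pair_comm pair_mem_cen exists_pump pump_unique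
open Cfsg.Agent.Intrinsic.TypesDef (Om exists_om sup_of_card)
open Cfsg.Agent.McLLyComp.Act
open Cfsg.Agent.UGT.I34.Pair Cfsg.Agent.UGT.I34.KAut Cfsg.Agent.UGT.I34.FixLift
open scoped commutatorElement

namespace Cfsg.Agent.UGT.I34.TypeEps

universe u

variable {κ : Kind.{u}} {G : Type u} [Group G] {z u v : G} {L X X' : Subgroup G}

theorem mk_mem_center (hu : IsPair κ u X) :
    (QuotientGroup.mk ⟨u, hu.mem⟩ : ↥X ⧸ oddCore ↥X) ∈ center (↥X ⧸ oddCore ↥X) := by
  rw [mem_center_iff]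
  intro y
  obtain ⟨⟨y, hy⟩, rfl⟩ := QuotientGroup.mk_surjective y
  rw [← QuotientGroup.mk_mul, ← QuotientGroup.mk_mul]
  congr 1
  exact Subtype.ext (pair_comm hu hy)

theorem mk_sq (hu : IsPair κ u X) :
    (QuotientGroup.mk ⟨u, hu.mem⟩ : ↥X ⧸ oddCore ↥X) * QuotientGroup.mk ⟨u, hu.mem⟩ = 1 := by
  rw [← QuotientGroup.mk_mul]
  have : (⟨u, hu.mem⟩ : ↥X) * ⟨u, hu.mem⟩ = 1 := Subtype.ext hu.sq
  rw [this]
  rfl

variable [Finite G]

theorem mk_ne_one (hu : IsPair κ u X) : (QuotientGroup.mk ⟨u, hu.mem⟩ : ↥X ⧸ oddCore ↥X) ≠ 1 := by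
  intro h
  exact hu.ne_one (eq_one_of_mem_core_sq ((mk_eq_one_iff hu.mem).mp h) hu.sq)

/-- a square root of `u` in `X`, central modulo `O(X)` and commuting with `v` -/
theorem exists_root (F : KF κ) (hu : IsPair κ u X) (hvv : v * v = 1) (hn : v ∈ normalizer (X : Set G))
    (hcen : ∀ i ∈ center (↥X ⧸ oddCore ↥X), act X ⟨v, hn⟩ i = i) :
    ∃ i ∈ X, i * v = v * i ∧ i * i = u ∧ ∀ k ∈ X, k⁻¹ * (i * k * i⁻¹) ∈ core X := by
  obtain ⟨i, hi, hii⟩ := F.four hu.kind _ (mk_mem_center hu) (mk_sq hu) (mk_ne_one hu)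
  obtain ⟨i, hiX, hiv, hi4, rfl⟩ := exists_lift_two hn (n := 1) (by rw [pow_one, pow_two, hvv])
    (hcen i hi) (m := 2) (by rw [TypeTF.pow_four, hii, mk_sq hu])
  refine ⟨i, hiX, hiv, ?_, ?_⟩
  · refine Lifting.eq_of_commute (odd_card_core X) (n := 1) (m := 1) ?_ ?_ (pair_comm hu (mul_mem hiX hiX)) ?_
    · rw [pow_one, pow_two, ← TypeTF.pow_four, hi4]
    · rw [pow_one, pow_two, hu.sq]
    · exact (mk_eq_iff (mul_mem hiX hiX) hu.mem).mp hii
  · intro k hk
    have h1 := mem_center_iff.mp hi (QuotientGroup.mk ⟨k, hk⟩)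
    rw [← mk_eq_iff hk (mul_mem (mul_mem hiX hk) (inv_mem hiX))]
    have h2 : (QuotientGroup.mk ⟨i * k * i⁻¹, mul_mem (mul_mem hiX hk) (inv_mem hiX)⟩ : ↥X ⧸ oddCore ↥X) =
        QuotientGroup.mk ⟨i, hiX⟩ * QuotientGroup.mk ⟨k, hk⟩ * (QuotientGroup.mk ⟨i, hiX⟩)⁻¹ := rfl
    rw [h2, ← h1, mul_inv_cancel_right]

/-- **(EPS)** -/
theorem typeEps (F : KF κ) (hN : PQS κ (Nat.card G)) (hT : OneComp κ)
    (hC : ∀ x : G, orderOf x = 2 → centralizer ({x} : Set G) ≠ ⊤) (hp : IsPair κ z L)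
    (hX : Om z L u X) (hX' : Om z L v X') (huv : u * v = v * u) (ho : IsOut v X) :
    ¬ ∀ i ∈ center (↥X ⧸ oddCore ↥X), act X ⟨v, ho.1⟩ i = i := by
  intro hcen
  have hu := Om.pair' hX hp
  have hv' := Om.pair' hX' hp
  obtain ⟨J, hJ⟩ := F.eps hu.kind _ (ho.out hv'.sq) hcen
  obtain ⟨i, hiX, hiv, hii, hik⟩ := exists_root F hu hv'.sq ho.1 hcen
  have hv2 : v ^ 2 ^ 1 = 1 := by rw [pow_one, pow_two, hv'.sq]
  have hu2 : u ^ 2 ^ 1 = 1 := by rw [pow_one, pow_two, hu.sq]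
  have huC : u ∈ centralizer ({v} : Set G) := mem_centralizer_singleton_iff.mpr huv
  have hiC : i ∈ centralizer ({v} : Set G) := mem_centralizer_singleton_iff.mpr hiv
  obtain ⟨C, hCc, -, -, hC4, -, -⟩ := exists_comp ho.1 hv2 hJ.le hJ.comp hJ.even
  obtain ⟨M, hM⟩ : ∃ M, M = centralizer ({u} : Set G) ⊓ centralizer ({v} : Set G) := ⟨_, rfl⟩
  have hMu : M ≤ centralizer ({u} : Set G) := hM ▸ inf_le_left
  have hMv : M ≤ centralizer ({v} : Set G) := hM ▸ inf_le_right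
  have hSM : X ⊓ centralizer ({v} : Set G) ≤ M := by
    rw [hM]; exact inf_le_inf_right _ hu.comp.le
  have hCM : IsComp M C := hCc.extend hSM (TypeF.subnormal_inf hu.comp hMu hMv)
  -- `i` normalizes `C`
  have hfi : cj i C = C := by
    apply mem_normalizer_iff_cj.mp
    refine ((hCc.fixes_iff (a := i) ⟨hiX, hiC⟩).mpr ?_).1
    rw [mem_cenMod hCc.le]
    refine ⟨⟨hiX, hiC⟩, fun k hk => ?_⟩
    have hkX := hCc.le hk
    have hco : core X ⊓ centralizer ({v} : Set G) ≤ core (X ⊓ centralizer ({v} : Set G)) := by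
      refine le_core (inf_le_inf_right _ (core_le X)) ?_
        (Odd.of_dvd_nat (odd_card_core X) (card_dvd_of_le inf_le_left))
      intro x hx
      rw [mem_normalizer_iff_cj, cj_inf, cj_eq_self_of_mem hx.2,
        mem_normalizer_iff_cj.mp (le_normalizer_core X hx.1)]
    refine hco ⟨hik k hkX.1, ?_⟩
    exact (centralizer ({v} : Set G)).mul_mem ((centralizer ({v} : Set G)).inv_mem hkX.2)
      ((centralizer ({v} : Set G)).mul_mem ((centralizer ({v} : Set G)).mul_mem hiC hkX.2)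
        ((centralizer ({v} : Set G)).inv_mem hiC))
  -- `u` is outer on all members of `Ω_v`
  have hout : ∀ Y, Om z L v Y → IsOut u Y := by
    intro Y hY
    have h1 : u ∈ normalizer (Y : Set G) := by
      by_contra h
      exact TypeTF.typeTF F hN hT hC hp hY hX huv.symm (fun h' => h (mem_normalizer_iff_cj.mpr h'))
        (mem_normalizer_iff_cj.mp ho.1)
    have h2 : ¬ Fixes u Y := fun hf => ho.not_fixes (typeZero_symm hp hY hX huv.symm hf)
    rcases isInn_or_isOut h1 with h3 | h3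
    · obtain ⟨-, -, h4, -⟩ := TypeI.typeI F hp hY hX huv.symm h3 h2
      rcases h4 with h4 | ⟨-, h4⟩
      · exact absurd h4 ho.not_inn
      · exact absurd hCc.le (not_le_of_solvable h4.1 h4.2 hCM)
    · exact h3
  have hmove : ∀ Y, Om z L v Y → cj i Y ≠ Y := by
    intro Y hY h
    have hiY : i ∈ normalizer (Y : Set G) := mem_normalizer_iff_cj.mpr h
    have h1 := hout Y hY
    refine F.nsq (Om.pair' hY hp).kind _ (h1.out hu.sq) (act Y ⟨i, hiY⟩) ?_
    rw [← map_mul]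
    congr 1
    exact Subtype.ext hii
  -- the members of `C` fix all members of `Ω_v`
  have hfix : ∀ Y, Om z L v Y → ∀ a ∈ C, Fixes a Y := by
    intro Y hY
    have hvY := Om.pair' hY hp
    have hCv : IsComp (centralizer ({v} : Set G) ⊓ centralizer ({u} : Set G)) C := by
      rw [inf_comm, ← hM]; exact hCM
    have hCL := isComp_le_L2 huC hu.sq hCv
    have hCN : C ≤ normalizer (Y : Set G) := hCL.trans hvY.comp.L2_le_normalizer
    obtain ⟨hun, huo⟩ := hout Y hY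
    obtain ⟨A, hA⟩ : ∃ A, A = (C.subgroupOf (normalizer (Y : Set G))).map (act Y) := ⟨_, rfl⟩
    have hAI : A ≤ Inn (↥Y ⧸ oddCore ↥Y) := by
      rw [hA]
      rintro _ ⟨⟨a, haN⟩, ha, rfl⟩
      have ha' : a ∈ C := ha
      obtain ⟨k, hk, hc⟩ := IntrinsicBalance.sup_form hvY.comp.tc (hvY.comp.L2_le_sup (hCL ha'))
      have hf : Fixes (k⁻¹ * a) Y := (hvY.comp.fixes_iff ((mem_cenMod hvY.comp.le).mp hc).1).mpr hc
      exact (isInn_iff.mpr ⟨k, hk, hf⟩).2
    have hAp : ⁅A, A⁆ = A := by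
      rw [hA, ← map_commutator]
      congr 1
      apply map_injective (normalizer (Y : Set G)).subtype_injective
      rw [map_commutator, subgroupOf_map_subtype, inf_of_le_left hCN, hCM.perfect]
    have hAc : ∀ a ∈ A, a * act Y ⟨u, hun⟩ = act Y ⟨u, hun⟩ * a := by
      rw [hA]
      rintro _ ⟨⟨a, haN⟩, ha, rfl⟩
      have ha' : a ∈ C := ha
      rw [← map_mul, ← map_mul]
      congr 1
      exact Subtype.ext (pair_comm hu (hCc.le ha').1)
    have hA1 : A = ⊥ := by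
      rcases F.out hvY.kind _ (IsOut.out (X := Y) (a := u) ⟨hun, huo⟩ hu.sq) with hsd | ⟨J', hJ'⟩
      · exact hsd.cent A hAI hAp hAc
      · refine hJ'.cent A hAI hAp hAc ?_
        obtain ⟨C', hCc', -, hC3', -, -, hC6'⟩ := exists_comp hun hu2 hJ'.le hJ'.comp hJ'.even
        have hSM' : Y ⊓ centralizer ({u} : Set G) ≤ M := by
          rw [hM, inf_comm]; exact inf_le_inf_left _ hvY.comp.le
        have hCM' : IsComp M C' := hCc'.extend hSM' (TypeF.subnormal_inf hvY.comp hMv hMu)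
        have hne : C' ≠ C := by
          rintro rfl
          have h1 : C' ≤ Y := hCc'.le.trans inf_le_left
          have h2 : C' ≤ cj i Y := hfi ▸ cj_mono h1
          exact hmove Y hY (hCM'.unique hvY.comp (Diag.isComp_cj_of_mem hvY.comp hiC) h1 h2).symm
        rw [hA]
        rintro _ ⟨⟨a, haN⟩, ha, rfl⟩ j hj
        have ha' : a ∈ C := ha
        obtain ⟨j, hjC, hjY, rfl⟩ := hC3' j hj
        have h1 := (hCM'.fixes_of_mem hCM hne ha').2 j hjC
        have h2 := hC6' hJ'.core h1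
        rw [act_mk haN hjY, eq_comm, mk_eq_iff]
        have h3 := conj_mem_core (x := j⁻¹) (le_normalizer (inv_mem hjY)) h2
        have h4 : j⁻¹ * ⁅a, j⁆ * j⁻¹⁻¹ = j⁻¹ * (a * j * a⁻¹) := by
          rw [commutatorElement_def]; group
        rwa [h4] at h3
    intro a ha
    rw [← act_eq_one_iff (hCN ha)]
    have h1 : act Y ⟨a, hCN ha⟩ ∈ A := by rw [hA]; exact ⟨⟨a, hCN ha⟩, ha, rfl⟩
    rw [hA1, mem_bot] at h1
    exact h1
  -- the end
  obtain ⟨s, hsJ, p, hs1, hss, hps, h4⟩ := hJ.elt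
  obtain ⟨s, hs, hsv, hs2, rfl⟩ := exists_lift_two ho.1 hv2 (hJ.le hsJ) (m := 1) (by
    rw [pow_one, pow_two, hss])
  have hsC : s ∈ C := hC4 s hs hsv hsJ 1 hs2
  have hX'' : Om z L v (cj i X') := hX'.cj_of_comm hiv
  refine TypeTF.false_of_elt hN hT hC hv' (Om.pair' hX'' hp) (Ne.symm (hmove X' hX')) ?_ ?_ hs hsv
    (hfix X' hX' s hsC) (hfix _ hX'' s hsC) ho.1 hps h4
  · rw [← hs2, pow_one, pow_two]
  · rintro rfl
    exact hs1 rfl

end Cfsg.Agent.UGT.I34.TypeEps
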