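import Cfsg.Agent.UGT.I34.Coll
import Cfsg.Agent.Intrinsic.TypeF

/-!
# Section 3 of I34: (TI)

`(u, v, X)` of type I (`v` acts on `X / O(X)` as a noncentral involution of `X / O(X)`): for `X' ∈ Ω_v` the element `u`
normalizes `X'`, acts nontrivially on `X' / O(X')` and is of type I or `c`; it is of type I if `C_X(v)` normalizes
`X'` (for example if `|Ω_v| = 1`).
-/

set_option autoImplicit false

open Cfsg Subgroup
open Cfsg.Agent.SignalizersComponents Cfsg.Agent.Lib
open Cfsg.Agent.SignalizersComponents.IntrinsicBasic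
open Cfsg.Agent.Intrinsic
open Cfsg.Agent.Intrinsic.Basic hiding IsPair PQS Target
open Cfsg.Agent.Intrinsic.Cen hiding pair_comm pair_mem_cen exists_pump pump_unique
open Cfsg.Agent.Intrinsic.TypesDef (Om exists_om sup_of_card)
open Cfsg.Agent.McLLyComp.Act
open Cfsg.Agent.UGT.I34.Pair Cfsg.Agent.UGT.I34.KAut Cfsg.Agent.UGT.I34.FixLift
open scoped commutatorElement

namespace Cfsg.Agent.UGT.I34.TypeI

universe u

section general

variable {G : Type*} [Group G]

/-- an element of a commutator group acts as an element of the commutator group of `Aut` -/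
theorem act_mem_commutator {S X : Subgroup G} (hS : S ≤ normalizer (X : Set G)) {a : G}
    (ha : a ∈ ⁅S, S⁆) (haX : a ∈ normalizer (X : Set G)) :
    act X ⟨a, haX⟩ ∈ commutator (MulAut (↥X ⧸ oddCore ↥X)) := by
  have h1 : a ∈ ⁅normalizer (X : Set G), normalizer (X : Set G)⁆ := commutator_mono hS hS ha
  have h2 : ⁅normalizer (X : Set G), normalizer (X : Set G)⁆ =
      (⁅(⊤ : Subgroup ↥(normalizer (X : Set G))), (⊤ : Subgroup ↥(normalizer (X : Set G)))⁆).map
        (normalizer (X : Set G)).subtype := by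
    rw [map_commutator, ← MonoidHom.range_eq_map, range_subtype]
  rw [h2] at h1
  obtain ⟨n, hn, hna⟩ := h1
  have h3 : n = ⟨a, haX⟩ := Subtype.ext hna
  rw [← h3]
  have h4 : (⁅(⊤ : Subgroup ↥(normalizer (X : Set G))), (⊤ : Subgroup ↥(normalizer (X : Set G)))⁆).map
      (act X) ≤ commutator (MulAut (↥X ⧸ oddCore ↥X)) := by
    rw [map_commutator, commutator_def]
    exact commutator_mono le_top le_top
  exact h4 ⟨n, hn, rfl⟩

/-- elements permuting `{T, T'}` have commutators normalizing `T` -/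
theorem comm_mem_normalizer {T T' : Subgroup G} {a b : G}
    (ha : (cj a T = T ∧ cj a T' = T') ∨ (cj a T = T' ∧ cj a T' = T))
    (hb : (cj b T = T ∧ cj b T' = T') ∨ (cj b T = T' ∧ cj b T' = T)) :
    ⁅a, b⁆ ∈ normalizer (T : Set G) := by
  have hinv : ∀ (x : G) (A B : Subgroup G), cj x A = B → cj x⁻¹ B = A := by
    rintro x A _ rfl
    rw [cj_inv_cj]
  rw [mem_normalizer_iff_cj, commutatorElement_def, cj_mul, cj_mul, cj_mul]
  rcases ha with ⟨a1, a2⟩ | ⟨a1, a2⟩ <;> rcases hb with ⟨b1, b2⟩ | ⟨b1, b2⟩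
  · rw [hinv b T T b1, hinv a T T a1, b1, a1]
  · rw [hinv b T' T b2, hinv a T' T' a2, b2, a1]
  · rw [hinv b T T b1, hinv a T' T a2, b2, a2]
  · rw [hinv b T' T b2, hinv a T T' a1, b1, a2]

end general

variable {κ : Kind.{u}} {G : Type u} [Group G] [Finite G] {z u v : G} {L X X' : Subgroup G}

/-- type I: the central involution lies in the commutator group of `C_X(v)` -/
theorem mem_comm_of_inn (F : KF κ) (hu : IsPair κ u X) (hvv : v * v = 1) (hi : IsInn v X) (hnf : ¬ Fixes v X) :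
    Group.IsSolvable ↥(fixed (act X ⟨v, hi.1⟩)) ∧
      u ∈ ⁅X ⊓ centralizer ({v} : Set G), X ⊓ centralizer ({v} : Set G)⁆ := by
  have h1 : act X ⟨v, hi.1⟩ * act X ⟨v, hi.1⟩ = 1 := by
    rw [← map_mul]
    have : (⟨v, hi.1⟩ : ↥(normalizer (X : Set G))) * ⟨v, hi.1⟩ = 1 := Subtype.ext hvv
    rw [this, map_one]
  have h2 : act X ⟨v, hi.1⟩ ≠ 1 := fun h => hnf ((act_eq_one_iff hi.1).mp h)
  obtain ⟨h3, h4⟩ := F.inn hu.kind _ hi.2 h1 h2
  refine ⟨h3, ?_⟩
  have hcen : (QuotientGroup.mk ⟨u, hu.mem⟩ : ↥X ⧸ oddCore ↥X) ∈ center (↥X ⧸ oddCore ↥X) := by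
    rw [mem_center_iff]
    intro y
    obtain ⟨⟨y, hy⟩, rfl⟩ := QuotientGroup.mk_surjective y
    rw [← QuotientGroup.mk_mul, ← QuotientGroup.mk_mul]
    congr 1
    exact Subtype.ext (pair_comm hu hy)
  have hsq : (QuotientGroup.mk ⟨u, hu.mem⟩ : ↥X ⧸ oddCore ↥X) * QuotientGroup.mk ⟨u, hu.mem⟩ = 1 := by
    rw [← QuotientGroup.mk_mul]
    have : (⟨u, hu.mem⟩ : ↥X) * ⟨u, hu.mem⟩ = 1 := Subtype.ext hu.sq
    rw [this]
    rfl
  have h5 := h4 _ hcen hsq
  let g : ↥(X ⊓ centralizer ({v} : Set G)) →* (↥X ⧸ oddCore ↥X) :=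
    (fixed (act X ⟨v, hi.1⟩)).subtype.comp (fmap hi.1)
  have hg : g.range = fixed (act X ⟨v, hi.1⟩) := by
    rw [MonoidHom.range_comp, MonoidHom.range_eq_top.mpr
      (fmap_surjective hi.1 (n := 1) (by rw [pow_one, pow_two, hvv])), ← MonoidHom.range_eq_map,
      range_subtype]
  have h6 : (⁅(⊤ : Subgroup ↥(X ⊓ centralizer ({v} : Set G))), (⊤ : Subgroup ↥(X ⊓ centralizer ({v} : Set G)))⁆).map
      g = ⁅fixed (act X ⟨v, hi.1⟩), fixed (act X ⟨v, hi.1⟩)⁆ := by
    rw [map_commutator, ← MonoidHom.range_eq_map, hg]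
  rw [← h6] at h5
  obtain ⟨w, hw, hwu⟩ := h5
  have h7 : (w : G) ∈ ⁅X ⊓ centralizer ({v} : Set G), X ⊓ centralizer ({v} : Set G)⁆ := by
    have h8 : (⁅(⊤ : Subgroup ↥(X ⊓ centralizer ({v} : Set G))), (⊤ : Subgroup ↥(X ⊓ centralizer ({v} : Set G)))⁆).map
        (X ⊓ centralizer ({v} : Set G)).subtype =
        ⁅X ⊓ centralizer ({v} : Set G), X ⊓ centralizer ({v} : Set G)⁆ := by
      rw [map_commutator, ← MonoidHom.range_eq_map, range_subtype]
    rw [← h8]
    exact ⟨w, hw, rfl⟩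
  have h8 : u⁻¹ * (w : G) ∈ core X := (mk_eq_iff hu.mem w.2.1).mp hwu.symm
  obtain ⟨c, hc⟩ : ∃ c, c = u⁻¹ * (w : G) := ⟨_, rfl⟩
  rw [← hc] at h8
  have hw2 : (w : G) = u * c := by rw [hc]; group
  have huc : Commute u c := (pair_comm hu (core_le X h8)).symm
  have h9 : (w : G) ^ Nat.card (core X) = u := by
    obtain ⟨m, hm⟩ := odd_card_core X
    have h10 : c ^ Nat.card (core X) = 1 := by
      have := pow_card_eq_one' (x := (⟨c, h8⟩ : ↥(core X)))
      exact congrArg Subtype.val this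
    rw [hw2, huc.mul_pow, h10, mul_one, hm, pow_succ, pow_mul, pow_two, hu.sq, one_pow, one_mul]
  rw [← h9]
  exact pow_mem h7 _

/-- **(TI)** -/
theorem typeI (F : KF κ) (hp : IsPair κ z L) (hX : Om z L u X) (hX' : Om z L v X')
    (huv : u * v = v * u) (hi : IsInn v X) (hnf : ¬ Fixes v X) :
    u ∈ normalizer (X' : Set G) ∧ ¬ Fixes u X' ∧ (IsInn u X' ∨ (IsOut u X' ∧ IsSol u X')) ∧
      (X ⊓ centralizer ({v} : Set G) ≤ normalizer (X' : Set G) → IsInn u X') := by
  have hu := Om.pair' hX hp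
  have hv' := Om.pair' hX' hp
  obtain ⟨hs, huS⟩ := mem_comm_of_inn F hu hv'.sq hi hnf
  obtain ⟨M, hM⟩ : ∃ M, M = centralizer ({u} : Set G) ⊓ centralizer ({v} : Set G) := ⟨_, rfl⟩
  have hMu : M ≤ centralizer ({u} : Set G) := hM ▸ inf_le_left
  have hMv : M ≤ centralizer ({v} : Set G) := hM ▸ inf_le_right
  have hsub : ((X ⊓ centralizer ({v} : Set G)).subgroupOf M).IsSubnormal :=
    TypeF.subnormal_inf hu.comp hMu hMv
  have hSM : X ⊓ centralizer ({v} : Set G) ≤ M := by
    rw [hM]; exact inf_le_inf_right _ hu.comp.le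
  have hfix : ∀ E, IsComp M E → ∀ a ∈ X ⊓ centralizer ({v} : Set G), Fixes a E := fun E hE a ha =>
    hE.fixes_of_subnormal hSM hsub (not_le_of_solvable hi.1 hs hE) ha
  have huC : u ∈ centralizer ({v} : Set G) := mem_centralizer_singleton_iff.mpr huv
  have hn : u ∈ normalizer (X' : Set G) := by
    by_contra hcon
    have hux : cj u X' ≠ X' := fun h => hcon (mem_normalizer_iff_cj.mpr h)
    obtain ⟨hE, -⟩ := Diag.exists_diag hv'.comp huC hu.sq hux
    rw [inf_comm, ← hM] at hE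
    have huu : cj u (cj u X') = X' := by rw [← cj_mul, hu.sq, cj_one]
    have key : ∀ a ∈ X ⊓ centralizer ({v} : Set G),
        (cj a X' = X' ∧ cj a (cj u X') = cj u X') ∨ (cj a X' = cj u X' ∧ cj a (cj u X') = X') := by
      intro a ha
      have hau : a * u = u * a := pair_comm hu ha.1
      have hcc : cj a (cj u X') = cj u (cj a X') := by rw [← cj_mul, hau, cj_mul]
      rw [hcc]
      by_cases h1 : cj a X' = X'
      · left; exact ⟨h1, by rw [h1]⟩
      by_cases h2 : cj a X' = cj u X'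
      · right; exact ⟨h2, by rw [h2, huu]⟩
      exfalso
      have hLc : IsComp (centralizer ({v} : Set G)) (cj a X') := Diag.isComp_cj_of_mem hv'.comp ha.2
      have hLv : cj u (cj a X') ≠ cj a X' := by
        rw [← hcc]
        intro h3
        exact hux (cj_injective a h3)
      refine Diag.diag_ne hv'.comp huC hu.sq hux hLc hLv h1 h2 ?_
      have h3 := mem_normalizer_iff_cj.mp (hfix _ hE a ha).1
      rw [Diag.cj_diag, cj_eq_self_of_mem ha.2, hau, mul_inv_cancel_right] at h3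
      exact h3
    have h4 : ⁅X ⊓ centralizer ({v} : Set G), X ⊓ centralizer ({v} : Set G)⁆ ≤ normalizer (X' : Set G) := by
      rw [commutator_le]
      intro a ha b hb
      exact comm_mem_normalizer (key a ha) (key b hb)
    exact hcon (h4 huS)
  have hnf' : ¬ Fixes u X' := fun hf => hnf (typeZero_symm hp hX' hX huv.symm hf)
  have hlast : X ⊓ centralizer ({v} : Set G) ≤ normalizer (X' : Set G) → IsInn u X' := by
    intro hS
    rcases isInn_or_isOut hn with h | h
    · exact h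
    · exact absurd (act_mem_commutator hS huS hn) (F.ncomm hv'.kind _ (h.out hu.sq))
  refine ⟨hn, hnf', ?_, hlast⟩
  rcases isInn_or_isOut hn with h | h
  · exact Or.inl h
  rcases F.out hv'.kind _ (h.out hu.sq) with hsd | ⟨J, hJ⟩
  · exact Or.inr ⟨h, hn, hsd.solv⟩
  left
  apply hlast
  obtain ⟨C, hC, -⟩ := exists_comp hn (n := 1) (by rw [pow_one, pow_two, hu.sq]) hJ.le hJ.comp hJ.even
  have hXu : X' ⊓ centralizer ({u} : Set G) ≤ M := by
    rw [hM, inf_comm]; exact inf_le_inf_left _ hv'.comp.le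
  have hCM : IsComp M C := hC.extend hXu (TypeF.subnormal_inf hv'.comp hMv hMu)
  intro a ha
  have h1 := mem_normalizer_iff_cj.mp (hfix _ hCM a ha).1
  have hCX : C ≤ X' := hC.le.trans inf_le_left
  have h2 : X' = cj a X' := hC.unique hv'.comp (Diag.isComp_cj_of_mem hv'.comp ha.2) hCX
    (h1 ▸ cj_mono hCX)
  exact mem_normalizer_iff_cj.mpr h2.symm

end Cfsg.Agent.UGT.I34.TypeI
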