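import Cfsg.Agent.UGT.I34.TypeI

/-!
# Section 3 of I34: (3F)

If `v` moves some member of `Ω_u` then `u` moves all members of `Ω_v`.
-/

set_option autoImplicit false

open Cfsg Subgroup
open Cfsg.Agent.SignalizersComponents Cfsg.Agent.Lib
open Cfsg.Agent.SignalizersComponents.IntrinsicBasic
open Cfsg.Agent.Intrinsic
open Cfsg.Agent.Intrinsic.Basic hiding IsPair PQS Target
open Cfsg.Agent.Intrinsic.Cen hiding pair_comm pair_mem_cen exists_pump pump_unique
open Cfsg.Agent.Intrinsic.TypesDef (Om exists_om sup_of_card)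
open Cfsg.Agent.McLLyComp.Act
open Cfsg.Agent.UGT.I34.Pair Cfsg.Agent.UGT.I34.KAut Cfsg.Agent.UGT.I34.FixLift
open scoped commutatorElement

namespace Cfsg.Agent.UGT.I34.TypeTF

universe u

section general

variable {G : Type*} [Group G] [Finite G]

omit [Finite G] in
theorem pow_four (q : G) : q ^ 2 ^ 2 = q * q * (q * q) := by
  change q ^ 4 = _
  simp only [pow_succ, pow_zero, one_mul, mul_assoc]

/-- an element of `X ⊓ C(v)` normalizing the diagonal of `{K, K^v}` permutes `{K, K^v}` -/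
theorem diag_perm {X K : Subgroup G} {v a : G} (hK : IsComp X K) (hvX : v ∈ X) (hv : v * v = 1)
    (hne : cj v K ≠ K) (ha : a ∈ X) (hav : a * v = v * a)
    (haE : cj a (Diag.diag X K v) = Diag.diag X K v) :
    (cj a K = K ∧ cj a (cj v K) = cj v K) ∨ (cj a K = cj v K ∧ cj a (cj v K) = K) := by
  have huu : cj v (cj v K) = K := by rw [← cj_mul, hv, cj_one]
  have hcc : cj a (cj v K) = cj v (cj a K) := by rw [← cj_mul, hav, cj_mul]
  rw [hcc]
  by_cases h1 : cj a K = K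
  · left; exact ⟨h1, by rw [h1]⟩
  by_cases h2 : cj a K = cj v K
  · right; exact ⟨h2, by rw [h2, huu]⟩
  exfalso
  have hLc : IsComp X (cj a K) := Diag.isComp_cj_of_mem hK ha
  have hLv : cj v (cj a K) ≠ cj a K := by
    rw [← hcc]
    intro h3
    exact hne (cj_injective a h3)
  refine Diag.diag_ne hK hvX hv hne hLc hLv h1 h2 ?_
  rw [Diag.cj_diag, cj_eq_self_of_mem ha, hav, mul_inv_cancel_right] at haE
  exact haE

/-- `s` fixing the diagonal and normalizing `K`, `K^v` fixes `K` and `K^v` -/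
theorem fixes_both {X K : Subgroup G} {v s : G} (hK : IsComp X K) (hvX : v ∈ X) (hv : v * v = 1)
    (hne : cj v K ≠ K) (hs : s ∈ X) (hsv : s * v = v * s) (hE : Fixes s (Diag.diag X K v))
    (h1 : cj s K = K) (h2 : cj s (cj v K) = cj v K) : Fixes s K ∧ Fixes s (cj v K) := by
  obtain ⟨-, -, -, hcore, -⟩ := Diag.exists_diag hK hvX hv hne
  have h3 : Fixes s K := by
    refine Diag.fixes_of_comm_diag hK hvX hv hne hs (mem_normalizer_iff_cj.mpr h1)
      (mem_normalizer_iff_cj.mpr h2) fun m hm => ?_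
    have h4 := hE.2 m hm
    rw [hcore] at h4
    exact h4.2
  refine ⟨h3, ?_⟩
  have h4 := h3.cj v
  have h5 : v * s * v⁻¹ = s := by rw [← hsv, mul_inv_cancel_right]
  rwa [h5] at h4

end general

variable {κ : Kind.{u}} {G : Type u} [Group G] [Finite G] {z u v : G} {L X X' : Subgroup G}

omit [Finite G] in
/-- conjugate pairs have isomorphic quotients -/
theorem exists_equiv (hX : Om z L u X) (hX' : Om z L v X') :
    Nonempty ((↥X ⧸ oddCore ↥X) ≃* (↥X' ⧸ oddCore ↥X')) := by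
  obtain ⟨g, rfl, rfl⟩ := hX
  obtain ⟨h, rfl, rfl⟩ := hX'
  exact ⟨(cjQuot g L).symm.trans (cjQuot h L)⟩

/-- an element with solvable or trivial action on the fixed points ... : the end of (3F) and (EPS) -/
theorem false_of_elt (hN : PQS κ (Nat.card G)) (hT : OneComp κ)
    (hC : ∀ x : G, orderOf x = 2 → centralizer ({x} : Set G) ≠ ⊤) {Y₁ Y₂ Y : Subgroup G} {w s : G}
    (h₁ : IsPair κ w Y₁) (h₂ : IsPair κ w Y₂) (hne : Y₁ ≠ Y₂) (hs : s * s = 1) (hs1 : s ≠ 1)
    (hsY : s ∈ Y) (hsw : s * w = w * s) (f₁ : Fixes s Y₁) (f₂ : Fixes s Y₂)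
    (hw : w ∈ normalizer (Y : Set G)) {p : ↥Y ⧸ oddCore ↥Y}
    (hps : p * QuotientGroup.mk ⟨s, hsY⟩ = QuotientGroup.mk ⟨s, hsY⟩ * p)
    (h4 : 4 ∣ orderOf (act Y ⟨w, hw⟩ p * p⁻¹)) : False := by
  have hC' : centralizer ({s} : Set G) ≠ ⊤ := hC s (orderOf_eq_prime (by rw [pow_two, hs]) hs1)
  have hpf : p ∈ fixed (act Y ⟨s, le_normalizer hsY⟩) := by
    rw [mem_fixed, act_of_mem hsY, MulAut.conj_apply, ← hps, mul_inv_cancel_right]
  obtain ⟨p, hp, hps', rfl⟩ := exists_lift (le_normalizer hsY) (n := 1) (by rw [pow_one, pow_two, hs]) hpf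
  exact Coll.not_four (odd_card_core (centralizer ({s} : Set G))) hw hp
    (Coll.coll hN hT h₁ h₂ hne hs hsw f₁ f₂ hC' hps') h4

/-- **(3F)** -/
theorem typeTF (F : KF κ) (hN : PQS κ (Nat.card G)) (hT : OneComp κ)
    (hC : ∀ x : G, orderOf x = 2 → centralizer ({x} : Set G) ≠ ⊤) (hp : IsPair κ z L)
    (hX : Om z L u X) (hX' : Om z L v X') (huv : u * v = v * u) (hmove : cj v X ≠ X) :
    cj u X' ≠ X' := by
  intro h
  have hu := Om.pair' hX hp
  have hv' := Om.pair' hX' hp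
  have hun : u ∈ normalizer (X' : Set G) := mem_normalizer_iff_cj.mpr h
  have hnf' : ¬ Fixes u X' := fun hf =>
    hmove (mem_normalizer_iff_cj.mp (typeZero_symm hp hX' hX huv.symm hf).1)
  rcases isInn_or_isOut hun with hi | ho
  · exact hmove (mem_normalizer_iff_cj.mp (TypeI.typeI F hp hX' hX huv.symm hi hnf').1)
  have huC : u ∈ centralizer ({v} : Set G) := mem_centralizer_singleton_iff.mpr huv
  have hvC : v ∈ centralizer ({u} : Set G) := mem_centralizer_singleton_iff.mpr huv.symm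
  have hu2 : u ^ 2 ^ 1 = 1 := by rw [pow_one, pow_two, hu.sq]
  obtain ⟨M, hM⟩ : ∃ M, M = centralizer ({u} : Set G) ⊓ centralizer ({v} : Set G) := ⟨_, rfl⟩
  have hMu : M ≤ centralizer ({u} : Set G) := hM ▸ inf_le_left
  have hMv : M ≤ centralizer ({v} : Set G) := hM ▸ inf_le_right
  obtain ⟨hE, -, -, -, f, hf, hker, -⟩ := Diag.exists_diag hu.comp hvC hv'.sq hmove
  rw [← hM] at hE
  have hsub : ((X' ⊓ centralizer ({u} : Set G)).subgroupOf M).IsSubnormal :=
    TypeF.subnormal_inf hv'.comp hMv hMu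
  have hSM : X' ⊓ centralizer ({u} : Set G) ≤ M := by
    rw [hM, inf_comm]; exact inf_le_inf_left _ hv'.comp.le
  have hpair2 : IsPair κ u (cj v X) := Om.pair' (hX.cj_of_comm huv.symm) hp
  -- the end: from `s`
  have fin : ∀ s (hsX : s ∈ X'), s * u = u * s → s * s = 1 → s ≠ 1 →
      Fixes s (Diag.diag (centralizer ({u} : Set G)) X v) → cj s X = X → cj s (cj v X) = cj v X →
      ∀ p : ↥X' ⧸ oddCore ↥X', p * QuotientGroup.mk ⟨s, hsX⟩ = QuotientGroup.mk ⟨s, hsX⟩ * p →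
      ¬ 4 ∣ orderOf (act X' ⟨u, hun⟩ p * p⁻¹) := by
    intro s hsX hsu hss hs1 hsE h1 h2 p hps h4
    obtain ⟨f1, f2⟩ := fixes_both hu.comp hvC hv'.sq hmove (mem_centralizer_singleton_iff.mpr hsu)
      (pair_comm hv' hsX) hsE h1 h2
    exact false_of_elt hN hT hC hu hpair2 (Ne.symm hmove) hss hs1 hsX hsu f1 f2 hun hps h4
  have perm : ∀ a ∈ M, Fixes a (Diag.diag (centralizer ({u} : Set G)) X v) →
      (cj a X = X ∧ cj a (cj v X) = cj v X) ∨ (cj a X = cj v X ∧ cj a (cj v X) = X) := fun a ha hf =>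
    diag_perm hu.comp hvC hv'.sq hmove (hMu ha) (mem_centralizer_singleton_iff.mp (hMv ha))
      (mem_normalizer_iff_cj.mp hf.1)
  rcases F.out hv'.kind _ (ho.out hu.sq) with hsd | ⟨J, hJ⟩
  · obtain ⟨q, p, hq1, hq2, hq3, hpq, h4⟩ := hsd.elt
    obtain ⟨q, hq, hqu, hq4, rfl⟩ := exists_lift_two hun hu2 hq1 (m := 2) (by rw [pow_four, hq3])
    have hqS : q ∈ X' ⊓ centralizer ({u} : Set G) := ⟨hq, mem_centralizer_singleton_iff.mpr hqu⟩
    have hfE : ∀ a ∈ X' ⊓ centralizer ({u} : Set G),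
        Fixes a (Diag.diag (centralizer ({u} : Set G)) X v) := fun a ha =>
      hE.fixes_of_subnormal hSM hsub (not_le_of_solvable hun hsd.solv hE) ha
    have hss : q * q ∈ X' ⊓ centralizer ({u} : Set G) := mul_mem hqS hqS
    have h1 := perm q (hSM hqS) (hfE q hqS)
    have h2 : cj (q * q) X = X ∧ cj (q * q) (cj v X) = cj v X := by
      rw [cj_mul, cj_mul]
      rcases h1 with ⟨a1, a2⟩ | ⟨a1, a2⟩
      · rw [a1, a2]; exact ⟨a1, a2⟩
      · rw [a1, a2]; exact ⟨rfl, a1⟩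
    refine fin (q * q) hss.1 (mem_centralizer_singleton_iff.mp hss.2) ?_ ?_ (hfE _ hss) h2.1 h2.2 p ?_ h4
    · rw [← pow_four, hq4]
    · intro h3
      apply hq2
      rw [← QuotientGroup.mk_mul]
      have : (⟨q, hq⟩ : ↥X') * ⟨q, hq⟩ = 1 := Subtype.ext h3
      rw [this]
      rfl
    · exact hpq
  · obtain ⟨C, hCc, -, -, hC4, hcard, -⟩ := exists_comp hun hu2 hJ.le hJ.comp hJ.even
    have hCM : IsComp M C := hCc.extend hSM hsub
    have hne : Diag.diag (centralizer ({u} : Set G)) X v ≠ C := by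
      intro heq
      obtain ⟨e⟩ := exists_equiv hX hX'
      have h1 := f.ker.card_mul_index
      have h2 : f.ker.index = Nat.card (↥(Diag.diag (centralizer ({u} : Set G)) X v) ⧸
          oddCore ↥(Diag.diag (centralizer ({u} : Set G)) X v)) := by
        rw [Subgroup.index_ker, MonoidHom.range_eq_top.mpr hf]
        exact Nat.card_congr Subgroup.topEquiv.toEquiv
      have h3 : Nat.card f.ker ≤ Nat.card ↥(center (↥X ⧸ oddCore ↥X)) := Subgroup.card_le_of_le hker
      have h5 : Nat.card ↥(center (↥X ⧸ oddCore ↥X)) = Nat.card ↥(center (↥X' ⧸ oddCore ↥X')) :=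
        Nat.card_congr (Subgroup.centerCongr e).toEquiv
      have h6 : Nat.card (↥X ⧸ oddCore ↥X) = Nat.card (↥X' ⧸ oddCore ↥X') := Nat.card_congr e.toEquiv
      have h7 := hJ.card
      have h9 : Nat.card (↥(Diag.diag (centralizer ({u} : Set G)) X v) ⧸
          oddCore ↥(Diag.diag (centralizer ({u} : Set G)) X v)) = Nat.card (↥C ⧸ oddCore ↥C) := by
        rw [heq]
      rw [← h6, ← h1, h2, h9, ← h5] at h7
      have h8 : Nat.card ↥f.ker * Nat.card (↥C ⧸ oddCore ↥C) ≤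
          Nat.card ↥(center (↥X ⧸ oddCore ↥X)) * Nat.card J := Nat.mul_le_mul h3 hcard
      omega
    have hfE : ∀ a ∈ C, Fixes a (Diag.diag (centralizer ({u} : Set G)) X v) := fun a ha =>
      hE.fixes_of_mem hCM hne ha
    obtain ⟨s, hsJ, p, hs1, hss, hps, h4⟩ := hJ.elt
    obtain ⟨s, hs, hsu, hs2, rfl⟩ := exists_lift_two hun hu2 (hJ.le hsJ) (m := 1) (by
      rw [pow_one, pow_two, hss])
    have hsC : s ∈ C := hC4 s hs hsu hsJ 1 hs2
    have hN1 : C ≤ normalizer (X : Set G) := by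
      rw [← hCM.perfect, commutator_le]
      intro a ha b hb
      exact TypeI.comm_mem_normalizer (perm a (hCM.le ha) (hfE a ha)) (perm b (hCM.le hb) (hfE b hb))
    have hN2 : C ≤ normalizer (cj v X : Set G) := by
      rw [← hCM.perfect, commutator_le]
      intro a ha b hb
      refine TypeI.comm_mem_normalizer (T' := X) ?_ ?_
      · rcases perm a (hCM.le ha) (hfE a ha) with ⟨a1, a2⟩ | ⟨a1, a2⟩
        · exact Or.inl ⟨a2, a1⟩
        · exact Or.inr ⟨a2, a1⟩
      · rcases perm b (hCM.le hb) (hfE b hb) with ⟨a1, a2⟩ | ⟨a1, a2⟩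
        · exact Or.inl ⟨a2, a1⟩
        · exact Or.inr ⟨a2, a1⟩
    refine fin s hs hsu ?_ ?_ (hfE s hsC) (mem_normalizer_iff_cj.mp (hN1 hsC))
      (mem_normalizer_iff_cj.mp (hN2 hsC)) p hps h4
    · rw [← hs2, pow_one, pow_two]
    · rintro rfl
      exact hs1 rfl

end Cfsg.Agent.UGT.I34.TypeTF
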